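import Mathlib

/-!
# Abstract filtered colimits of (henselian) local rings with local transition maps

`Hyp φ` packages the three properties of a filtered colimit of rings `φ i : G i →+* A`
with local transition maps that are needed to transfer "local", "henselian local" and
"separably closed residue field" to the colimit.  Universe polymorphic.
-/

namespace Groth.Agent.Lib.helper3.HensColim

universe u v w

open Polynomial IsLocalRing

variable {ι : Type v} {G : ι → Type u} [∀ i, CommRing (G i)] {A : Type w} [CommRing A]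

/-- Abstract hypotheses: `A` is a "filtered colimit with local transition maps" of the `G i`. -/
structure Hyp (φ : ∀ i, G i →+* A) : Prop where
  dir : ∀ i j, ∃ k, ∃ (α : G i →+* G k) (β : G j →+* G k), IsLocalHom α ∧ IsLocalHom β ∧
      (∀ x, φ k (α x) = φ i x) ∧ (∀ x, φ k (β x) = φ j x)
  ker : ∀ i x, φ i x = 0 →
      ∃ k, ∃ (α : G i →+* G k), IsLocalHom α ∧ (∀ x, φ k (α x) = φ i x) ∧ α x = 0
  surj : ∀ z : A, ∃ i x, φ i x = z

variable {φ : ∀ i, G i →+* A}

theorem Hyp.isUnit_of_map (h : Hyp φ) {i : ι} {y : G i} (hy : IsUnit (φ i y)) : IsUnit y := by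
  obtain ⟨z, hz⟩ := hy.exists_right_inv
  obtain ⟨j, w, rfl⟩ := h.surj z
  obtain ⟨k, α, β, hα, hβ, hαφ, hβφ⟩ := h.dir i j
  have h0 : φ k (α y * β w - 1) = 0 := by
    rw [map_sub, map_mul, hαφ, hβφ, hz, map_one, sub_self]
  obtain ⟨n, γ, hγ, -, hγ0⟩ := h.ker k _ h0
  rw [map_sub, map_mul, map_one, sub_eq_zero] at hγ0
  have h1 : IsUnit (γ (α y)) := IsUnit.of_mul_eq_one _ hγ0
  exact hα.map_nonunit _ (hγ.map_nonunit _ h1)

theorem Hyp.isLocalHom (h : Hyp φ) (i : ι) : IsLocalHom (φ i) :=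
  ⟨fun _ hy => h.isUnit_of_map hy⟩

theorem Hyp.exists_pair (h : Hyp φ) (z z' : A) : ∃ i x x', φ i x = z ∧ φ i x' = z' := by
  obtain ⟨i, x, rfl⟩ := h.surj z
  obtain ⟨j, x', rfl⟩ := h.surj z'
  obtain ⟨k, α, β, -, -, hαφ, hβφ⟩ := h.dir i j
  exact ⟨k, α x, β x', hαφ x, hβφ x'⟩

theorem Hyp.exists_poly (h : Hyp φ) (q : A[X]) : ∃ i p, Polynomial.map (φ i) p = q := by
  induction q using Polynomial.induction_on' with
  | add p q hp hq =>
    obtain ⟨i, p', rfl⟩ := hp
    obtain ⟨j, q', rfl⟩ := hq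
    obtain ⟨k, α, β, -, -, hαφ, hβφ⟩ := h.dir i j
    refine ⟨k, p'.map α + q'.map β, ?_⟩
    rw [Polynomial.map_add, Polynomial.map_map, Polynomial.map_map]
    congr 2
    · exact RingHom.ext hαφ
    · exact RingHom.ext hβφ
  | monomial n a =>
    obtain ⟨i, x, rfl⟩ := h.surj a
    exact ⟨i, monomial n x, by simp⟩

theorem Hyp.nontrivial (h : Hyp φ) [∀ i, Nontrivial (G i)] : Nontrivial A := by
  refine ⟨0, 1, fun h01 => ?_⟩
  obtain ⟨i, -, -⟩ := h.surj 0
  have : φ i 1 = 0 := by rw [map_one, h01]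
  obtain ⟨k, α, -, -, hα⟩ := h.ker i 1 this
  rw [map_one] at hα
  exact one_ne_zero hα

theorem Hyp.isLocalRing (h : Hyp φ) [∀ i, IsLocalRing (G i)] : IsLocalRing A := by
  have := h.nontrivial
  refine IsLocalRing.of_nonunits_add fun a b ha hb => ?_
  obtain ⟨i, x, x', rfl, rfl⟩ := h.exists_pair a b
  have hx : x ∈ nonunits (G i) := fun hu => ha (hu.map _)
  have hx' : x' ∈ nonunits (G i) := fun hu => hb (hu.map _)
  have := IsLocalRing.nonunits_add hx hx'
  intro hu
  rw [← map_add] at hu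
  exact this (h.isUnit_of_map hu)

theorem Hyp.henselian (h : Hyp φ) [∀ i, HenselianLocalRing (G i)] : HenselianLocalRing A := by
  have := h.isLocalRing
  refine ⟨fun p hp a₀ h₁ h₂ => ?_⟩
  obtain ⟨i₁, q0, hq0⟩ := h.exists_poly p
  obtain ⟨i₂, b0, hb0⟩ := h.surj a₀
  obtain ⟨m, α, β, -, -, hαφ, hβφ⟩ := h.dir i₁ i₂
  have hq1 : (q0.map α).map (φ m) = p := by
    rw [Polynomial.map_map, ← hq0]
    congr 1
    exact RingHom.ext hαφ
  obtain ⟨q, hq, -, hqm⟩ := Polynomial.lifts_and_natDegree_eq_and_monic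
    ((Polynomial.mem_lifts p).mpr ⟨_, hq1⟩) hp
  set b := β b0 with hb
  have hbm : φ m b = a₀ := by rw [hb, hβφ, hb0]
  have e₁ : q.eval b ∈ maximalIdeal (G m) := by
    rw [mem_maximalIdeal, mem_nonunits_iff]
    intro hu
    have := hu.map (φ m)
    rw [← Polynomial.eval_map_apply, hq, hbm] at this
    exact (mem_nonunits_iff.mp ((mem_maximalIdeal _).mp h₁)) this
  have e₂ : IsUnit (q.derivative.eval b) := by
    apply h.isUnit_of_map (i := m)
    rw [← Polynomial.eval_map_apply, ← Polynomial.derivative_map, hq, hbm]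
    exact h₂
  obtain ⟨r, hr, hrb⟩ := HenselianLocalRing.is_henselian q hqm b e₁ e₂
  refine ⟨φ m r, ?_, ?_⟩
  · rw [Polynomial.IsRoot.def] at hr ⊢
    rw [← hq, Polynomial.eval_map_apply, hr, map_zero]
  · rw [← hbm, ← map_sub, mem_maximalIdeal, mem_nonunits_iff]
    intro hu
    exact (mem_nonunits_iff.mp ((mem_maximalIdeal _).mp hrb)) (h.isUnit_of_map hu)

theorem Hyp.isSepClosed (h : Hyp φ) [∀ i, IsLocalRing (G i)] [IsLocalRing A]
    [∀ i, IsSepClosed (ResidueField (G i))] : IsSepClosed (ResidueField A) := by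
  refine IsSepClosed.of_exists_root _ fun p hpm hpi hps => ?_
  obtain ⟨P, hP, -, hPm⟩ := Polynomial.lifts_and_natDegree_eq_and_monic
    ((Polynomial.mem_lifts p).mpr
      (Polynomial.map_surjective _ (residue_surjective (R := A)) p)) hpm
  obtain ⟨i, Q0, hQ0⟩ := h.exists_poly P
  obtain ⟨Q, hQ, -, hQm⟩ := Polynomial.lifts_and_natDegree_eq_and_monic
    ((Polynomial.mem_lifts P).mpr ⟨_, hQ0⟩) hPm
  have : IsLocalHom (φ i) := h.isLocalHom i
  set qb : (ResidueField (G i))[X] := Q.map (residue (G i)) with hqb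
  have hmap : qb.map (ResidueField.map (φ i)) = p := by
    rw [hqb, Polynomial.map_map, ResidueField.map_comp_residue, ← Polynomial.map_map, hQ, hP]
  have hsep : qb.Separable := by
    rw [← Polynomial.separable_map (ResidueField.map (φ i)), hmap]
    exact hps
  have hdeg : qb.degree ≠ 0 := by
    have h1 : qb.degree = p.degree := by
      rw [← hmap]
      exact (Polynomial.degree_map qb (ResidueField.map (φ i))).symm
    rw [h1]
    exact (Polynomial.degree_pos_of_irreducible hpi).ne'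
  obtain ⟨x, hx⟩ := IsSepClosed.exists_root qb hdeg hsep
  refine ⟨ResidueField.map (φ i) x, ?_⟩
  rw [← hmap, Polynomial.eval_map_apply, hx, map_zero]

end Groth.Agent.Lib.helper3.HensColim
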