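import Mathlib

/-!
# Lifting étale algebras along `A → A/I`

An étale `A/I`-algebra `C` is `R/IR` for an étale `A`-algebra `R` (via a submersive
presentation of `C` of relative dimension `0`).
-/

universe u

namespace Groth.Agent.Lib.helper3.EtaleLiftQuot

open MvPolynomial

theorem exists_etale_lift (A : Type u) [CommRing A] (I : Ideal A) (E : Type u) [CommRing E]
    [Algebra (A ⧸ I) E] [Algebra.Etale (A ⧸ I) E] [Algebra A E] [IsScalarTower A (A ⧸ I) E] :
    ∃ (R : Type u) (_ : CommRing R) (_ : Algebra A R), Algebra.Etale A R ∧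
      ∃ ψ : R →ₐ[A] E, Function.Surjective ψ ∧ RingHom.ker ψ ≤ I.map (algebraMap A R) := by
  classical
  have hss : Algebra.IsStandardSmoothOfRelativeDimension 0 (A ⧸ I) E :=
    Algebra.Etale.iff_isStandardSmoothOfRelativeDimension_zero.mp inferInstance
  obtain ⟨ι, σ, hσ, hι, P, hP⟩ := hss.out
  cases nonempty_fintype σ
  let π : MvPolynomial ι A →+* MvPolynomial ι (A ⧸ I) := MvPolynomial.map (Ideal.Quotient.mk I)
  have hπ : Function.Surjective π := MvPolynomial.map_surjective _ Ideal.Quotient.mk_surjective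
  choose v hv using fun j : σ => hπ (P.relation j)
  let I₀ : Ideal (MvPolynomial ι A) := Ideal.span (Set.range v)
  let Pre : Algebra.PreSubmersivePresentation A (MvPolynomial ι A ⧸ I₀) ι σ :=
    Algebra.PreSubmersivePresentation.naive (v := v) P.map P.map_inj
  let Δ : MvPolynomial ι A ⧸ I₀ := Pre.jacobian
  have hΔ : IsUnit (algebraMap _ (Localization.Away Δ) Δ) :=
    IsLocalization.Away.algebraMap_isUnit _
  let SP : Algebra.SubmersivePresentation A (Localization.Away Δ) _ _ :=
    { toPreSubmersivePresentation :=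
        .comp (.localizationAway (Localization.Away Δ) Δ) Pre,
      jacobian_isUnit := by
        simpa [Algebra.smul_def, -isUnit_map_iff, hΔ] }
  have hdim : Pre.dimension = 0 := hP
  have hss' : Algebra.IsStandardSmoothOfRelativeDimension 0 A (Localization.Away Δ) :=
    ⟨_, _, _, inferInstance, SP, by
      simp only [Algebra.PreSubmersivePresentation.dimension_comp_eq_dimension_add_dimension, SP]
      rw [hdim]
      simp [Algebra.Presentation.dimension]⟩
  have hetale : Algebra.Etale A (Localization.Away Δ) := inferInstance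
  -- the map to `C`
  have hae : ∀ p : MvPolynomial ι A, aeval (R := A) P.val p = aeval (R := A ⧸ I) P.val (π p) := by
    intro p
    exact (MvPolynomial.aeval_map_algebraMap (A := A ⧸ I) P.val p).symm
  have hvan : ∀ p ∈ I₀, aeval (R := A) P.val p = 0 := by
    have : I₀ ≤ RingHom.ker (aeval (R := A) P.val : MvPolynomial ι A →ₐ[A] E).toRingHom := by
      rw [Ideal.span_le]
      rintro _ ⟨j, rfl⟩
      rw [SetLike.mem_coe, RingHom.mem_ker]
      change aeval (R := A) P.val (v j) = 0
      rw [hae, hv]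
      exact P.aeval_val_relation j
    exact fun p hp => this hp
  let ψ₀ : (MvPolynomial ι A ⧸ I₀) →ₐ[A] E := Ideal.Quotient.liftₐ I₀ (aeval P.val) hvan
  have hψ₀mk : ∀ p, ψ₀ (Ideal.Quotient.mk I₀ p) = aeval (R := A) P.val p := fun p => rfl
  have hΔmk : Δ = Ideal.Quotient.mk I₀ (Pre.jacobiMatrix.det) := by
    change Pre.jacobian = _
    rw [Pre.jacobian_eq_jacobiMatrix_det]
    rfl
  have hψ₀Δ : ψ₀ Δ = P.jacobian := by
    have hM : π.mapMatrix Pre.jacobiMatrix = P.jacobiMatrix := by
      apply Matrix.ext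
      intro i j
      rw [RingHom.mapMatrix_apply, Matrix.map_apply, P.jacobiMatrix_apply]
      have := Algebra.PreSubmersivePresentation.jacobiMatrix_naive (v := v) P.map
        P.map_inj (Function.surjInv Ideal.Quotient.mk_surjective)
        (by apply Function.surjInv_eq) i j
      rw [show Pre.jacobiMatrix i j = (pderiv (P.map i)) (v j) from this]
      change MvPolynomial.map (Ideal.Quotient.mk I) (pderiv (P.map i) (v j)) = _
      rw [← MvPolynomial.pderiv_map]
      congr 1
      exact hv j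
    rw [hΔmk, hψ₀mk, hae, RingHom.map_det, hM, P.jacobian_eq_jacobiMatrix_det,
      P.algebraMap_apply]
  have hunit : IsUnit (ψ₀ Δ) := by rw [hψ₀Δ]; exact P.jacobian_isUnit
  let ψ : Localization.Away Δ →ₐ[A] E := IsLocalization.Away.liftAlgHom (f := ψ₀) Δ hunit
  have hψalg : ∀ s, ψ (algebraMap _ _ s) = ψ₀ s := by
    intro s
    simp [ψ, IsLocalization.Away.liftAlgHom]
  refine ⟨Localization.Away Δ, inferInstance, inferInstance, hetale, ψ, ?_, ?_⟩
  · intro c
    obtain ⟨q, hq⟩ := P.algebraMap_surjective c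
    obtain ⟨p, rfl⟩ := hπ q
    refine ⟨algebraMap _ _ (Ideal.Quotient.mk I₀ p), ?_⟩
    rw [hψalg, hψ₀mk, hae, ← P.algebraMap_apply]
    exact hq
  · intro r hr
    rw [RingHom.mem_ker] at hr
    obtain ⟨s, ⟨_, n, rfl⟩, rfl⟩ := IsLocalization.exists_mk'_eq (Submonoid.powers Δ) r
    have h1 : ψ₀ s = 0 := by
      have h2 := IsLocalization.mk'_spec (Localization.Away Δ) s
        (⟨Δ ^ n, n, rfl⟩ : Submonoid.powers Δ)
      have h3 := congrArg ψ h2
      rw [map_mul, hr, zero_mul, hψalg] at h3
      exact h3.symm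
    obtain ⟨p, rfl⟩ := Ideal.Quotient.mk_surjective s
    rw [hψ₀mk, hae] at h1
    have h2 : π p ∈ P.ker := by
      rw [P.ker_eq_ker_aeval_val, RingHom.mem_ker]
      exact h1
    rw [← P.span_range_relation_eq_ker] at h2
    have h3 : Ideal.span (Set.range P.relation) = Ideal.map π I₀ := by
      rw [Ideal.map_span]
      congr 1
      ext x
      constructor
      · rintro ⟨j, rfl⟩; exact ⟨v j, ⟨j, rfl⟩, hv j⟩
      · rintro ⟨_, ⟨j, rfl⟩, rfl⟩; exact ⟨j, (hv j).symm⟩
    rw [h3, Ideal.mem_map_iff_of_surjective π hπ] at h2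
    obtain ⟨p', hp', hpp⟩ := h2
    have h4 : p - p' ∈ Ideal.map (C : A →+* MvPolynomial ι A) I := by
      have : p - p' ∈ RingHom.ker π := by rw [RingHom.mem_ker, map_sub, hpp, sub_self]
      rw [MvPolynomial.ker_map, Ideal.mk_ker] at this
      exact this
    have h5 : Ideal.Quotient.mk I₀ p ∈ I.map (algebraMap A (MvPolynomial ι A ⧸ I₀)) := by
      have h6 : Ideal.Quotient.mk I₀ p = Ideal.Quotient.mk I₀ (p - p') := by
        rw [map_sub, Ideal.Quotient.eq_zero_iff_mem.mpr hp', sub_zero]
      rw [h6]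
      have h7 := Ideal.mem_map_of_mem (Ideal.Quotient.mk I₀) h4
      rw [Ideal.map_map] at h7
      exact h7
    rw [IsLocalization.mk'_eq_mul_mk'_one]
    refine Ideal.mul_mem_right _ _ ?_
    have h8 := Ideal.mem_map_of_mem (algebraMap (MvPolynomial ι A ⧸ I₀) (Localization.Away Δ)) h5
    rw [Ideal.map_map, ← IsScalarTower.algebraMap_eq] at h8
    exact h8

end Groth.Agent.Lib.helper3.EtaleLiftQuot
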