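import Mathlib

/-!
# Maps of flat modules that are isomorphisms modulo `I` (helper3)

For `φ : F → N` with `N` flat, `N = φ F + I N` and `φ x ∈ I N → x ∈ I F`:
* `mem_pow_smul_of_map_mem`: `φ x ∈ I^n N → x ∈ I^n F`;
* `exists_sub_mem_pow`: `N = φ F + I^n N`;
* `map_bijective`: `AdicCompletion.map I φ` is bijective.
-/

set_option autoImplicit false
universe u

open TensorProduct

namespace Groth.Agent.Lib.helper3.AdicIso

variable {R : Type*} [CommRing R]

/-- for a surjection `f : D → M` onto a flat module, `ker f ∩ J D = J ker f`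
(same statement as helper26's `mem_smul_top_ker_of_flat`). -/
theorem mem_smul_top_ker_of_flat {D M : Type*} [AddCommGroup D] [Module R D] [AddCommGroup M]
    [Module R M] [Module.Flat R M] (f : D →ₗ[R] M) (hf : Function.Surjective f) (J : Ideal R)
    (x : LinearMap.ker f) (hx : (x : D) ∈ (J • ⊤ : Submodule R D)) :
    x ∈ (J • ⊤ : Submodule R (LinearMap.ker f)) := by
  have hinj := LinearMap.lTensor_injective_of_exact_of_flat f hf (LinearMap.ker f).subtype
    (LinearMap.ker f).subtype_injective (LinearMap.exact_subtype_ker_map f) (R ⧸ J)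
  have h1 : ((1 : R ⧸ J) ⊗ₜ[R] (x : D)) = 0 := by
    apply (TensorProduct.quotTensorEquivQuotSMul D J).injective
    rw [map_zero, TensorProduct.quotTensorEquivQuotSMul_mk_one_tmul]
    exact (Submodule.Quotient.mk_eq_zero _).mpr hx
  have h2 : ((1 : R ⧸ J) ⊗ₜ[R] x) = 0 := by
    apply hinj
    rw [map_zero, LinearMap.lTensor_tmul]
    exact h1
  have h3 := congrArg (TensorProduct.quotTensorEquivQuotSMul (LinearMap.ker f) J) h2
  rw [map_zero, TensorProduct.quotTensorEquivQuotSMul_mk_one_tmul] at h3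
  exact (Submodule.Quotient.mk_eq_zero _).mp h3

variable (I : Ideal R) {F N : Type*} [AddCommGroup F] [Module R F] [AddCommGroup N] [Module R N]
  (φ : F →ₗ[R] N)

/-- key step: `x ∈ J F`, `φ x ∈ (J I) N` implies `x ∈ (J I) F`. -/
theorem mem_mul_smul_of_map_mem [Module.Flat R N]
    (hs : ∀ y : N, ∃ x : F, y - φ x ∈ (I • ⊤ : Submodule R N))
    (hi : ∀ x : F, φ x ∈ (I • ⊤ : Submodule R N) → x ∈ (I • ⊤ : Submodule R F))
    (J : Ideal R) (x : F) (hx : x ∈ (J • ⊤ : Submodule R F))
    (hφx : φ x ∈ ((J * I) • ⊤ : Submodule R N)) : x ∈ ((J * I) • ⊤ : Submodule R F) := by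
  let IN : Submodule R N := I • ⊤
  let g : F × IN →ₗ[R] N := φ.coprod IN.subtype
  have hg : ∀ p : F × IN, g p = φ p.1 + (p.2 : N) := fun p => by
    simp [g, LinearMap.coprod_apply]
  have hgs : Function.Surjective g := by
    intro y
    obtain ⟨x₀, hx₀⟩ := hs y
    refine ⟨(x₀, ⟨y - φ x₀, hx₀⟩), ?_⟩
    rw [hg]
    simp
  have hle : J * I ≤ I := Ideal.mul_le_right
  have hle' : ((J * I) • ⊤ : Submodule R N) ≤ I • ⊤ := Submodule.smul_mono_left hle
  have hφx' : φ x ∈ IN := hle' hφx
  have hneg : -φ x ∈ IN := IN.neg_mem hφx'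
  let z : LinearMap.ker g := ⟨(x, ⟨-φ x, hneg⟩), by
    rw [LinearMap.mem_ker, hg]
    simp⟩
  have hz : (z : F × IN) ∈ (J • ⊤ : Submodule R (F × IN)) := by
    have h1 : (x, (0 : IN)) ∈ (J • ⊤ : Submodule R (F × IN)) := by
      have := Submodule.smul_top_le_comap_smul_top J (LinearMap.inl R F IN) hx
      exact this
    have h2 : ((0 : F), (⟨-φ x, hneg⟩ : IN)) ∈ (J • ⊤ : Submodule R (F × IN)) := by
      have h3 : (⟨-φ x, hneg⟩ : IN) ∈ (J • ⊤ : Submodule R IN) := by
        rw [Submodule.mem_smul_top_iff]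
        change -φ x ∈ J • (I • ⊤ : Submodule R N)
        rw [← Submodule.mul_smul]
        exact Submodule.neg_mem _ hφx
      exact Submodule.smul_top_le_comap_smul_top J (LinearMap.inr R F IN) h3
    have : (z : F × IN) = (x, (0 : IN)) + ((0 : F), (⟨-φ x, hneg⟩ : IN)) := by
      simp [z]
    rw [this]
    exact Submodule.add_mem _ h1 h2
  have hz' := mem_smul_top_ker_of_flat g hgs J z hz
  -- project to `F`
  let π : LinearMap.ker g →ₗ[R] F := (LinearMap.fst R F IN).comp (LinearMap.ker g).subtype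
  have hπ : ∀ w : LinearMap.ker g, π w ∈ (I • ⊤ : Submodule R F) := by
    intro w
    apply hi
    have hw : g w.1 = 0 := w.2
    rw [hg] at hw
    have : φ (π w) = -(w.1.2 : N) := eq_neg_of_add_eq_zero_left hw
    rw [this]
    exact Submodule.neg_mem _ w.1.2.2
  have hfin : π z ∈ ((J * I) • ⊤ : Submodule R F) := by
    rw [Submodule.mul_smul]
    refine Submodule.smul_induction_on (p := fun w => π w ∈ (J • (I • ⊤ : Submodule R F)))
      hz' ?_ ?_
    · intro a ha w _
      rw [map_smul]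
      exact Submodule.smul_mem_smul ha (hπ w)
    · intro w₁ w₂ h₁ h₂
      rw [map_add]
      exact Submodule.add_mem _ h₁ h₂
  exact hfin

/-- `φ x ∈ I^(n+1) N → x ∈ I^(n+1) F`. -/
theorem mem_pow_smul_of_map_mem [Module.Flat R N]
    (hs : ∀ y : N, ∃ x : F, y - φ x ∈ (I • ⊤ : Submodule R N))
    (hi : ∀ x : F, φ x ∈ (I • ⊤ : Submodule R N) → x ∈ (I • ⊤ : Submodule R F))
    (n : ℕ) (x : F) (hφx : φ x ∈ (I ^ n • ⊤ : Submodule R N)) :
    x ∈ (I ^ n • ⊤ : Submodule R F) := by
  induction n with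
  | zero => rw [pow_zero, Ideal.one_eq_top, Submodule.top_smul]; trivial
  | succ n ih =>
    have h1 : φ x ∈ (I ^ n • ⊤ : Submodule R N) :=
      Submodule.smul_mono_left (Ideal.pow_le_pow_right (Nat.le_succ n)) hφx
    have h2 := ih h1
    rw [pow_succ] at hφx ⊢
    exact mem_mul_smul_of_map_mem I φ hs hi (I ^ n) x h2 hφx

/-- `N = φ F + I^n N`. -/
theorem exists_sub_mem_pow
    (hs : ∀ y : N, ∃ x : F, y - φ x ∈ (I • ⊤ : Submodule R N)) (n : ℕ) (y : N) :
    ∃ x : F, y - φ x ∈ (I ^ n • ⊤ : Submodule R N) := by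
  induction n generalizing y with
  | zero => exact ⟨0, by rw [pow_zero, Ideal.one_eq_top, Submodule.top_smul]; trivial⟩
  | succ n ih =>
    obtain ⟨x₀, hx₀⟩ := ih y
    -- every element of `I^n N` is in `φ F + I^(n+1) N`
    have key : ∀ w ∈ (I ^ n • ⊤ : Submodule R N),
        ∃ x : F, w - φ x ∈ (I ^ (n + 1) • ⊤ : Submodule R N) := by
      intro w hw
      refine Submodule.smul_induction_on (p := fun w => ∃ x : F, w - φ x ∈
        (I ^ (n + 1) • ⊤ : Submodule R N)) hw ?_ ?_
      · intro a ha v _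
        obtain ⟨x₁, hx₁⟩ := hs v
        refine ⟨a • x₁, ?_⟩
        rw [map_smul, ← smul_sub, pow_succ, Submodule.mul_smul]
        exact Submodule.smul_mem_smul ha hx₁
      · rintro w₁ w₂ ⟨x₁, h₁⟩ ⟨x₂, h₂⟩
        refine ⟨x₁ + x₂, ?_⟩
        have : w₁ + w₂ - φ (x₁ + x₂) = (w₁ - φ x₁) + (w₂ - φ x₂) := by
          rw [map_add]; abel
        rw [this]
        exact Submodule.add_mem _ h₁ h₂
    obtain ⟨x₁, hx₁⟩ := key _ hx₀
    refine ⟨x₀ + x₁, ?_⟩
    have : y - φ (x₀ + x₁) = y - φ x₀ - φ x₁ := by rw [map_add]; abel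
    rw [this]
    exact hx₁

/-- `AdicCompletion.map I φ` is bijective. -/
theorem map_bijective [Module.Flat R N]
    (hs : ∀ y : N, ∃ x : F, y - φ x ∈ (I • ⊤ : Submodule R N))
    (hi : ∀ x : F, φ x ∈ (I • ⊤ : Submodule R N) → x ∈ (I • ⊤ : Submodule R F)) :
    Function.Bijective (AdicCompletion.map I φ) := by
  constructor
  · rw [injective_iff_map_eq_zero]
    intro x hx
    obtain ⟨a, rfl⟩ := AdicCompletion.mk_surjective I F x
    rw [AdicCompletion.map_mk] at hx
    apply AdicCompletion.ext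
    intro n
    rw [AdicCompletion.mk_apply_coe, AdicCompletion.val_zero_apply, Submodule.mkQ_apply,
      Submodule.Quotient.mk_eq_zero]
    apply mem_pow_smul_of_map_mem I φ hs hi n
    have h1 := congrArg (fun y => y.val n) hx
    simp only [AdicCompletion.mk_apply_coe, AdicCompletion.val_zero_apply, Submodule.mkQ_apply,
      Submodule.Quotient.mk_eq_zero] at h1
    exact h1
  · intro y
    obtain ⟨b, rfl⟩ := AdicCompletion.mk_surjective I N y
    choose a ha using fun n => exists_sub_mem_pow I φ hs n (b n)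
    have hcauchy : ∀ n, a n ≡ a (n + 1) [SMOD (I ^ n • ⊤ : Submodule R F)] := by
      intro n
      rw [SModEq.sub_mem]
      apply mem_pow_smul_of_map_mem I φ hs hi n
      rw [map_sub]
      have h1 := ha n
      have h2 : b (n + 1) - φ (a (n + 1)) ∈ (I ^ n • ⊤ : Submodule R N) :=
        Submodule.smul_mono_left (Ideal.pow_le_pow_right (Nat.le_succ n)) (ha (n + 1))
      have h3 : b n - b (n + 1) ∈ (I ^ n • ⊤ : Submodule R N) := by
        have := b.property (Nat.le_succ n)
        rwa [SModEq.sub_mem] at this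
      have h4 : φ (a n) - φ (a (n + 1)) =
          -(b n - φ (a n)) + (b n - b (n + 1)) + (b (n + 1) - φ (a (n + 1))) := by abel
      rw [h4]
      exact Submodule.add_mem _ (Submodule.add_mem _ (Submodule.neg_mem _ h1) h3) h2
    refine ⟨AdicCompletion.mk I F (AdicCompletion.AdicCauchySequence.mk I F a hcauchy), ?_⟩
    rw [AdicCompletion.map_mk]
    apply AdicCompletion.ext
    intro n
    simp only [AdicCompletion.mk_apply_coe, Submodule.mkQ_apply]
    rw [Submodule.Quotient.eq]
    have h1 := ha n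
    have h5 : (AdicCompletion.AdicCauchySequence.map I φ
        (AdicCompletion.AdicCauchySequence.mk I F a hcauchy)) n - b n = -(b n - φ (a n)) := by
      change φ (a n) - b n = _
      abel
    rw [h5]
    exact Submodule.neg_mem _ h1

end Groth.Agent.Lib.helper3.AdicIso
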