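import Mathlib
import Groth.Prelude.Def_EtGlue
import Groth.Agent.S2056
import Groth.Agent.S2004

/-!
# Beauville–Laszlo helper lemmas (helper3)

For `R → R'` with `R/f^n ≅ R'/f^n` (`EtGlue.QuotPowBijective`), without flatness:
* `retraction`: a module killed by an ideal `I` with `R/I ≅ R'/IR'` is a retract of `R' ⊗ Q`.
* `eq_zero_of_tmul_eq_zero`: `Q → R' ⊗ Q` is injective on `f`-power torsion modules.
* `exists_smul_of_tmul`: `1 ⊗ m ∈ f^k (R' ⊗ M)` implies `m ∈ f^k M`.
* `torsion_surj`: for a glueing pair the `f`-power torsion of `R' ⊗ M` comes from that of `M`.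
* `middle_exact`: middle exactness of the glueing sequence.
-/

set_option autoImplicit false
universe u

open TensorProduct

namespace Groth.Agent.Lib.helper3.BL

variable {R R' : Type u} [CommRing R] [CommRing R'] [Algebra R R']

/-- the `R`-linear map `R' → R/I` obtained from `R/I ≅ R'/IR'`. -/
noncomputable def sigma (I : Ideal R)
    (hq : Function.Bijective (Ideal.quotientMap (I.map (algebraMap R R')) (algebraMap R R')
      Ideal.le_comap_map)) : R' →ₗ[R] R ⧸ I where
  toFun x := (RingEquiv.ofBijective _ hq).symm (Ideal.Quotient.mk _ x)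
  map_add' x y := by simp
  map_smul' r x := by
    simp only [RingHom.id_apply, Algebra.smul_def, map_mul]
    congr 1
    rw [RingEquiv.symm_apply_eq]
    simp

theorem sigma_one (I : Ideal R)
    (hq : Function.Bijective (Ideal.quotientMap (I.map (algebraMap R R')) (algebraMap R R')
      Ideal.le_comap_map)) : sigma I hq 1 = 1 := by
  simp [sigma]

/-- a retraction of `Q → R' ⊗ Q` when `I` kills `Q` and `R/I ≅ R'/IR'`. -/
theorem retraction (I : Ideal R)
    (hq : Function.Bijective (Ideal.quotientMap (I.map (algebraMap R R')) (algebraMap R R')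
      Ideal.le_comap_map))
    (Q : Type u) [AddCommGroup Q] [Module R Q] (hQ : ∀ a ∈ I, ∀ q : Q, a • q = 0) :
    ∃ ρ : R' ⊗[R] Q →ₗ[R] Q, ∀ q, ρ ((1 : R') ⊗ₜ[R] q) = q := by
  have hle : I ≤ LinearMap.ker (LinearMap.lsmul R Q) := by
    intro a ha
    rw [LinearMap.mem_ker]
    ext q
    simpa using hQ a ha q
  let act : R ⧸ I →ₗ[R] Module.End R Q := Submodule.liftQ I (LinearMap.lsmul R Q) hle
  refine ⟨TensorProduct.lift (act ∘ₗ sigma I hq), fun q => ?_⟩
  rw [TensorProduct.lift.tmul, LinearMap.comp_apply, sigma_one]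
  have h1 : (1 : R ⧸ I) = I.mkQ (1 : R) := rfl
  rw [h1]
  simp only [act]
  rw [Submodule.mkQ_apply, Submodule.liftQ_apply, LinearMap.lsmul_apply, one_smul]

theorem eq_zero_of_tmul_eq_zero_of_smul (f : R) (hq : EtGlue.QuotPowBijective R R' f)
    (Q : Type u) [AddCommGroup Q] [Module R Q] (n : ℕ) (hn : 0 < n) (hQ : ∀ q : Q, f ^ n • q = 0)
    (q : Q) (h : (1 : R') ⊗ₜ[R] q = 0) : q = 0 := by
  obtain ⟨ρ, hρ⟩ := retraction (Ideal.span {f ^ n}) (hq n hn) Q (by
    intro a ha q
    obtain ⟨c, rfl⟩ := Ideal.mem_span_singleton'.mp ha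
    rw [mul_smul, hQ, smul_zero])
  rw [← hρ q, h, map_zero]

/-- `Q → R' ⊗ Q` is injective for `f`-power torsion `Q`. -/
theorem eq_zero_of_tmul_eq_zero (f : R) (hq : EtGlue.QuotPowBijective R R' f)
    (Q : Type u) [AddCommGroup Q] [Module R Q] (hQ : ∀ q : Q, ∃ n : ℕ, f ^ n • q = 0)
    (q : Q) (h : (1 : R') ⊗ₜ[R] q = 0) : q = 0 := by
  let Q₀ : Submodule R Q := Submodule.span R {q}
  have hqQ₀ : q ∈ Q₀ := Submodule.mem_span_singleton_self q
  obtain ⟨Q', hQ'fg, hle, h0⟩ := Groth.Agent.S2056.exists_fg_lTensor_eq_zero (N := R')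
    (Submodule.fg_span_singleton q) ((1 : R') ⊗ₜ[R] (⟨q, hqQ₀⟩ : Q₀)) (by
      rw [LinearMap.lTensor_tmul]
      exact h)
  rw [LinearMap.lTensor_tmul] at h0
  -- `Q'` is killed by a power of `f`
  have hkill : ∃ n : ℕ, 0 < n ∧ ∀ x : Q', f ^ n • x = 0 := by
    obtain ⟨t, ht⟩ := hQ'fg
    have h1 : ∀ y ∈ t, ∃ n : ℕ, f ^ n • y = 0 := fun y _ => hQ y
    choose! e he using h1
    refine ⟨t.sup e + 1, Nat.succ_pos _, ?_⟩
    rintro ⟨x, hx⟩
    apply Subtype.ext
    rw [← ht] at hx
    simp only [Submodule.coe_smul, Submodule.coe_zero]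
    refine Submodule.span_induction ?_ ?_ ?_ ?_ hx
    · intro y hy
      have hle' : e y ≤ t.sup e + 1 := (Finset.le_sup hy).trans (Nat.le_succ _)
      obtain ⟨d, hd⟩ := Nat.exists_eq_add_of_le hle'
      rw [hd, pow_add, mul_comm, mul_smul, he y hy, smul_zero]
    · exact smul_zero _
    · intro x y _ _ hx hy
      rw [smul_add, hx, hy, add_zero]
    · intro a x _ hx
      rw [smul_comm, hx, smul_zero]
  obtain ⟨n, hn, hk⟩ := hkill
  have := eq_zero_of_tmul_eq_zero_of_smul f hq Q' n hn hk _ h0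
  have h2 := congrArg (fun z : Q' => (z : Q)) this
  simpa using h2

/-- if `1 ⊗ m = f^k • x` then `m ∈ f^k M`. -/
theorem exists_smul_of_tmul (f : R) (hq : EtGlue.QuotPowBijective R R' f)
    (M : Type u) [AddCommGroup M] [Module R M] (k : ℕ) (m : M) (x : R' ⊗[R] M)
    (h : (1 : R') ⊗ₜ[R] m = f ^ k • x) : ∃ m₁ : M, m = f ^ k • m₁ := by
  rcases Nat.eq_zero_or_pos k with rfl | hk
  · exact ⟨m, by simp⟩
  let P : Submodule R M := LinearMap.range (LinearMap.lsmul R M (f ^ k))
  have hkill : ∀ q : M ⧸ P, f ^ k • q = 0 := by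
    intro q
    obtain ⟨m', rfl⟩ := Submodule.Quotient.mk_surjective P q
    rw [← Submodule.Quotient.mk_smul, Submodule.Quotient.mk_eq_zero]
    exact ⟨m', rfl⟩
  have hkill' : ∀ z : R' ⊗[R] (M ⧸ P), f ^ k • z = 0 := by
    intro z
    induction z using TensorProduct.induction_on with
    | zero => exact smul_zero _
    | tmul r q => rw [TensorProduct.smul_tmul', TensorProduct.smul_tmul, hkill, tmul_zero]
    | add a b ha hb => rw [smul_add, ha, hb, add_zero]
  have h0 : (1 : R') ⊗ₜ[R] (P.mkQ m) = 0 := by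
    have := congrArg (P.mkQ.lTensor R') h
    rw [LinearMap.lTensor_tmul, map_smul, hkill'] at this
    exact this
  have := eq_zero_of_tmul_eq_zero_of_smul f hq (M ⧸ P) k hk hkill _ h0
  rw [Submodule.mkQ_apply, Submodule.Quotient.mk_eq_zero] at this
  obtain ⟨m₁, hm₁⟩ := this
  exact ⟨m₁, hm₁.symm⟩

/-- `awayMap` as an `R`-linear map. -/
noncomputable def awayLin (f : R) :
    Localization.Away f →ₗ[R] Localization.Away (algebraMap R R' f) where
  toFun y := Localization.awayMap (algebraMap R R') f y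
  map_add' x y := map_add _ x y
  map_smul' r y := by
    simp only [RingHom.id_apply, Algebra.smul_def, map_mul, Groth.Agent.S2004.awayMap_alg]
    rw [IsScalarTower.algebraMap_apply R R' (Localization.Away (algebraMap R R' f))]

/-- the first map of the glueing sequence. -/
noncomputable def seqA (f : R) : R →ₗ[R] R' × Localization.Away f :=
  (Algebra.linearMap R R').prod (Algebra.linearMap R (Localization.Away f))

/-- the second map of the glueing sequence. -/
noncomputable def seqB (f : R) : R' × Localization.Away f →ₗ[R] Localization.Away (algebraMap R R' f) :=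
  ((IsScalarTower.toAlgHom R R' (Localization.Away (algebraMap R R' f))).toLinearMap).coprod
    (-(awayLin (R' := R') f))

theorem seq_exact (f : R) (hRR : EtGlue.IsGlueingPair R R' f) :
    Function.Exact (seqA (R' := R') f) (seqB f) := by
  intro p
  obtain ⟨x, y⟩ := p
  constructor
  · intro h
    have h' : algebraMap R' (Localization.Away (algebraMap R R' f)) x =
        Localization.awayMap (algebraMap R R') f y := by
      simp only [seqB, LinearMap.coprod_apply, LinearMap.neg_apply] at h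
      rw [← sub_eq_add_neg, sub_eq_zero] at h
      exact h
    obtain ⟨r, hr1, hr2⟩ := hRR.2.2.1 x y h'
    exact ⟨r, by simp [seqA, hr1, hr2]⟩
  · rintro ⟨r, hr⟩
    simp only [seqA, LinearMap.prod_apply, Prod.mk.injEq] at hr
    obtain ⟨rfl, rfl⟩ := hr
    simp only [seqB, LinearMap.coprod_apply, LinearMap.neg_apply]
    rw [← sub_eq_add_neg, sub_eq_zero]
    exact (Groth.Agent.S2004.awayMap_alg f r).symm

theorem seq_surj (f : R) (hRR : EtGlue.IsGlueingPair R R' f) :
    Function.Surjective (seqB (R' := R') f) := by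
  intro z
  obtain ⟨x, y, h⟩ := hRR.2.2.2 z
  refine ⟨(x, y), ?_⟩
  simp only [seqB, LinearMap.coprod_apply, LinearMap.neg_apply]
  rw [← sub_eq_add_neg]
  exact h

/-- for a glueing pair, `f`-power torsion of `R' ⊗ M` lifts to `f`-power torsion of `M`. -/
theorem torsion_surj (f : R) (hRR : EtGlue.IsGlueingPair R R' f)
    (M : Type u) [AddCommGroup M] [Module R M] (x : R' ⊗[R] M) (hx : ∃ n : ℕ, f ^ n • x = 0) :
    ∃ m : M, (∃ n : ℕ, f ^ n • m = 0) ∧ (1 : R') ⊗ₜ[R] m = x := by
  obtain ⟨k, hk⟩ := hx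
  have hex := rTensor_exact M (seq_exact f hRR) (seq_surj f hRR)
  let B := Localization.Away (algebraMap R R' f)
  let ιB : R' →ₗ[R] B := (IsScalarTower.toAlgHom R R' B).toLinearMap
  let u := (LinearMap.inl R R' (Localization.Away f)).rTensor M x
  have hbu : (seqB f).rTensor M u = ιB.rTensor M x := by
    simp only [u]
    rw [← LinearMap.comp_apply, ← LinearMap.rTensor_comp]
    congr 2
    ext r
    simp [seqB, ιB]
    rfl
  -- the image in `B ⊗ M` vanishes
  have hzero : ιB.rTensor M x = 0 := by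
    have h1 : f ^ k • (ιB.rTensor M x) = 0 := by rw [← map_smul, hk, map_zero]
    have hu : IsUnit (algebraMap R B (f ^ k)) := by
      rw [IsScalarTower.algebraMap_apply R R' B, map_pow, map_pow]
      exact (IsLocalization.Away.algebraMap_isUnit (algebraMap R R' f)).pow k
    obtain ⟨v, hv⟩ := hu
    have h2 : (algebraMap R B (f ^ k)) • (ιB.rTensor M x) = 0 := by
      rw [algebraMap_smul]
      exact h1
    rw [← hv] at h2
    have := congrArg (fun z => (↑v⁻¹ : B) • z) h2
    simpa [smul_smul] using this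
  obtain ⟨w, hw⟩ := (hex u).mp (hbu.trans hzero)
  have hw1 : w = (1 : R) ⊗ₜ[R] (TensorProduct.lid R M w) := by
    rw [← TensorProduct.lid_symm_apply, LinearEquiv.symm_apply_apply]
  refine ⟨TensorProduct.lid R M w, ?_, ?_⟩
  · have h1 := congrArg ((LinearMap.snd R R' (Localization.Away f)).rTensor M) hw
    rw [← LinearMap.comp_apply, ← LinearMap.rTensor_comp] at h1
    simp only [u] at h1
    rw [← LinearMap.comp_apply (LinearMap.rTensor M (LinearMap.snd R R' (Localization.Away f))),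
      ← LinearMap.rTensor_comp, LinearMap.snd_comp_inl, LinearMap.rTensor_zero,
      LinearMap.zero_apply, hw1, LinearMap.rTensor_tmul] at h1
    have h2 : TensorProduct.mk R (Localization.Away f) M 1 (TensorProduct.lid R M w) = 0 := by
      rw [TensorProduct.mk_apply, ← h1]
      simp [seqA]
    obtain ⟨⟨_, n, rfl⟩, hs⟩ := (IsLocalizedModule.eq_zero_iff (Submonoid.powers f)
      (TensorProduct.mk R (Localization.Away f) M 1)).mp h2
    exact ⟨n, hs⟩
  · have h1 := congrArg ((LinearMap.fst R R' (Localization.Away f)).rTensor M) hw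
    rw [← LinearMap.comp_apply, ← LinearMap.rTensor_comp] at h1
    simp only [u] at h1
    rw [← LinearMap.comp_apply (LinearMap.rTensor M (LinearMap.fst R R' (Localization.Away f))),
      ← LinearMap.rTensor_comp, LinearMap.fst_comp_inl, LinearMap.rTensor_id,
      LinearMap.id_apply, hw1, LinearMap.rTensor_tmul] at h1
    rw [← h1]
    simp [seqA]

theorem mk_eq_zero_of_torsion (f : R) (M : Type u) [AddCommGroup M] [Module R M] (m : M)
    (h : ∃ n : ℕ, f ^ n • m = 0) : LocalizedModule.mkLinearMap (Submonoid.powers f) M m = 0 := by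
  obtain ⟨n, hn⟩ := h
  exact (IsLocalizedModule.eq_zero_iff (Submonoid.powers f)
    (LocalizedModule.mkLinearMap (Submonoid.powers f) M)).mpr ⟨⟨f ^ n, n, rfl⟩, hn⟩

theorem torsion_of_mk_eq_zero (f : R) (M : Type u) [AddCommGroup M] [Module R M] (m : M)
    (h : LocalizedModule.mkLinearMap (Submonoid.powers f) M m = 0) : ∃ n : ℕ, f ^ n • m = 0 := by
  obtain ⟨⟨_, n, rfl⟩, hs⟩ := (IsLocalizedModule.eq_zero_iff (Submonoid.powers f)
    (LocalizedModule.mkLinearMap (Submonoid.powers f) M)).mp h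
  exact ⟨n, hs⟩

/-- middle exactness of the glueing sequence, from torsion surjectivity. -/
theorem middle_exact (f : R) (hq : EtGlue.QuotPowBijective R R' f)
    (M : Type u) [AddCommGroup M] [Module R M]
    (hts : ∀ x : R' ⊗[R] M, (∃ n : ℕ, f ^ n • x = 0) →
      ∃ m : M, (∃ n : ℕ, f ^ n • m = 0) ∧ (1 : R') ⊗ₜ[R] m = x)
    (x : R' ⊗[R] M) (y : LocalizedModule (Submonoid.powers f) M)
    (h : EtGlue.locOfTensor R R' f M x = EtGlue.tensorOfLoc R R' f M y) :
    ∃ m : M, (1 : R') ⊗ₜ[R] m = x ∧ LocalizedModule.mkLinearMap (Submonoid.powers f) M m = y := by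
  obtain ⟨⟨m₀, ⟨_, k, rfl⟩⟩, hy⟩ := IsLocalizedModule.surj (Submonoid.powers f)
    (LocalizedModule.mkLinearMap (Submonoid.powers f) M) y
  have hy' : f ^ k • y = LocalizedModule.mkLinearMap (Submonoid.powers f) M m₀ := hy
  have h1 : EtGlue.locOfTensor R R' f M (f ^ k • x - (1 : R') ⊗ₜ[R] m₀) = 0 := by
    rw [map_sub, map_smul, h, ← map_smul, hy', sub_eq_zero]
    simp only [EtGlue.tensorOfLoc, EtGlue.locOfTensor]
    rw [IsLocalizedModule.map_apply]
    rfl
  obtain ⟨t, htt, ht2⟩ := hts _ (torsion_of_mk_eq_zero f _ _ h1)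
  obtain ⟨m₂, hm₂⟩ := exists_smul_of_tmul f hq M k (m₀ + t) x (by
    rw [tmul_add, ht2]; abel)
  have h3 : f ^ k • (x - (1 : R') ⊗ₜ[R] m₂) = 0 := by
    rw [smul_sub, ← tmul_smul, ← hm₂, tmul_add, ht2]; abel
  obtain ⟨t₂, htt₂, ht₂'⟩ := hts _ ⟨k, h3⟩
  refine ⟨m₂ + t₂, by rw [tmul_add, ht₂']; abel, ?_⟩
  have h4 : f ^ k • LocalizedModule.mkLinearMap (Submonoid.powers f) M (m₂ + t₂) = f ^ k • y := by
    rw [hy', ← map_smul, smul_add, ← hm₂, map_add, map_add, map_smul,
      mk_eq_zero_of_torsion f M t htt, mk_eq_zero_of_torsion f M t₂ htt₂, smul_zero, add_zero,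
      add_zero]
  exact (IsLocalizedModule.smul_inj (LocalizedModule.mkLinearMap (Submonoid.powers f) M)
    (⟨f ^ k, k, rfl⟩ : Submonoid.powers f) _ _).mp h4

/-- for a glueing pair, the glueing sequence of any module is exact in the middle. -/
theorem middle_exact_of_glueingPair (f : R) (hRR : EtGlue.IsGlueingPair R R' f)
    (M : Type u) [AddCommGroup M] [Module R M]
    (x : R' ⊗[R] M) (y : LocalizedModule (Submonoid.powers f) M)
    (h : EtGlue.locOfTensor R R' f M x = EtGlue.tensorOfLoc R R' f M y) :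
    ∃ m : M, (1 : R') ⊗ₜ[R] m = x ∧ LocalizedModule.mkLinearMap (Submonoid.powers f) M m = y :=
  middle_exact f hRR.1 M (torsion_surj f hRR M) x y h

/-- glueability criterion: injectivity on torsion plus torsion surjectivity. -/
theorem isGlueable_of_torsion (f : R) (hq : EtGlue.QuotPowBijective R R' f)
    (M : Type u) [AddCommGroup M] [Module R M]
    (hinj : ∀ m : M, (∃ n : ℕ, f ^ n • m = 0) → (1 : R') ⊗ₜ[R] m = 0 → m = 0)
    (hts : ∀ x : R' ⊗[R] M, (∃ n : ℕ, f ^ n • x = 0) →
      ∃ m : M, (∃ n : ℕ, f ^ n • m = 0) ∧ (1 : R') ⊗ₜ[R] m = x) :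
    EtGlue.IsGlueable R R' f M := by
  refine ⟨?_, middle_exact f hq M hts⟩
  intro m m' hmm
  simp only [Prod.mk.injEq] at hmm
  obtain ⟨h1, h2⟩ := hmm
  have h3 : (1 : R') ⊗ₜ[R] (m - m') = 0 := by rw [tmul_sub, h1, sub_self]
  have h4 : LocalizedModule.mkLinearMap (Submonoid.powers f) M (m - m') = 0 := by
    rw [map_sub, h2, sub_self]
  exact sub_eq_zero.mp (hinj _ (torsion_of_mk_eq_zero f M _ h4) h3)

theorem torsion_of_isGlueable (f : R)
    (M : Type u) [AddCommGroup M] [Module R M] (hM : EtGlue.IsGlueable R R' f M) :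
    (∀ m : M, (∃ n : ℕ, f ^ n • m = 0) → (1 : R') ⊗ₜ[R] m = 0 → m = 0) ∧
    (∀ x : R' ⊗[R] M, (∃ n : ℕ, f ^ n • x = 0) →
      ∃ m : M, (∃ n : ℕ, f ^ n • m = 0) ∧ (1 : R') ⊗ₜ[R] m = x) := by
  constructor
  · intro m hm h0
    apply hM.1
    simp only [Prod.mk.injEq]
    exact ⟨by rw [h0, tmul_zero], by rw [mk_eq_zero_of_torsion f M m hm, map_zero]⟩
  · intro x hx
    have h1 : EtGlue.locOfTensor R R' f M x = EtGlue.tensorOfLoc R R' f M 0 := by
      rw [map_zero]
      exact mk_eq_zero_of_torsion f _ x hx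
    obtain ⟨m, hm1, hm2⟩ := hM.2 x 0 h1
    exact ⟨m, torsion_of_mk_eq_zero f M m hm2, hm1⟩

end Groth.Agent.Lib.helper3.BL
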