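import Mathlib
import Groth.Prelude.Def_EtMil

/-!
# Modules over a fibre product of rings (Milnor squares), part 1 (helper3)

`B' = B ×_A A'` with `A' → A` surjective.  For glueing data `(N, M', φ)` the glued module
`G = N ×_φ M'` satisfies `B ⊗_{B'} G ≅ N` and `A' ⊗_{B'} G ≅ M'`.
-/

set_option autoImplicit false
set_option linter.unusedSectionVars false
universe u

open TensorProduct

namespace Groth.Agent.Lib.helper3.Milnor

theorem exists_one_tmul {A' A : Type u} [CommRing A'] [CommRing A] [Algebra A' A]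
    (hs : Function.Surjective (algebraMap A' A)) (K : Type u) [AddCommGroup K] [Module A' K]
    (e : A ⊗[A'] K) : ∃ k : K, e = (1 : A) ⊗ₜ[A'] k := by
  induction e using TensorProduct.induction_on with
  | zero => exact ⟨0, by rw [tmul_zero]⟩
  | tmul a k =>
    obtain ⟨a', rfl⟩ := hs a
    refine ⟨a' • k, ?_⟩
    rw [TensorProduct.tmul_smul, TensorProduct.smul_tmul', Algebra.smul_def, mul_one]
  | add x y hx hy =>
    obtain ⟨k₁, rfl⟩ := hx
    obtain ⟨k₂, rfl⟩ := hy
    exact ⟨k₁ + k₂, by rw [tmul_add]⟩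

/-- the kernel of `M → A ⊗ M` for a surjection `A' → A` with kernel `I` is `I M`. -/
theorem mem_smul_top_of_one_tmul_eq_zero {A' A : Type u} [CommRing A'] [CommRing A] [Algebra A' A]
    (hs : Function.Surjective (algebraMap A' A)) (M : Type u) [AddCommGroup M] [Module A' M]
    (m : M) (h : (1 : A) ⊗ₜ[A'] m = 0) :
    m ∈ (RingHom.ker (algebraMap A' A)) • (⊤ : Submodule A' M) := by
  set I : Ideal A' := RingHom.ker (algebraMap A' A) with hI
  have hex : Function.Exact (I.subtype) (Algebra.linearMap A' A) := by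
    rw [LinearMap.exact_iff]
    ext x
    simp [hI, RingHom.mem_ker]
  have hex' := rTensor_exact M hex hs
  have h1 : (Algebra.linearMap A' A).rTensor M ((1 : A') ⊗ₜ[A'] m) = 0 := by
    rw [LinearMap.rTensor_tmul, Algebra.linearMap_apply, map_one, h]
  obtain ⟨z, hz⟩ := (hex' _).mp h1
  have h2 : m = TensorProduct.lid A' M ((I.subtype.rTensor M) z) := by
    rw [hz, TensorProduct.lid_tmul, one_smul]
  rw [h2]
  clear hz h2 h1
  induction z using TensorProduct.induction_on with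
  | zero => simp
  | tmul i x =>
    rw [LinearMap.rTensor_tmul, TensorProduct.lid_tmul]
    exact Submodule.smul_mem_smul i.2 Submodule.mem_top
  | add z₁ z₂ h₁ h₂ =>
    rw [map_add, map_add]
    exact Submodule.add_mem _ h₁ h₂

theorem one_tmul_eq_zero_of_mem_smul_top {A' A : Type u} [CommRing A'] [CommRing A] [Algebra A' A]
    (M : Type u) [AddCommGroup M] [Module A' M]
    (m : M) (h : m ∈ (RingHom.ker (algebraMap A' A)) • (⊤ : Submodule A' M)) :
    (1 : A) ⊗ₜ[A'] m = 0 := by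
  refine Submodule.smul_induction_on (p := fun m => (1 : A) ⊗ₜ[A'] m = 0) h ?_ ?_
  · intro i hi x _
    rw [← TensorProduct.smul_tmul, Algebra.smul_def, mul_one, (RingHom.mem_ker).mp hi, zero_tmul]
  · intro x y hx hy
    rw [tmul_add, hx, hy, add_zero]

variable {B' B A' A : Type u} [CommRing B'] [CommRing B] [CommRing A'] [CommRing A]
  [Algebra B' B] [Algebra B' A'] [Algebra B A] [Algebra A' A] [Algebra B' A]
  [IsScalarTower B' B A] [IsScalarTower B' A' A]

/-- `B' → B` is surjective. -/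
theorem surjective_B (hsq : EtMil.IsFibreSquare B' B A' A) :
    Function.Surjective (algebraMap B' B) := by
  intro b
  obtain ⟨a', ha'⟩ := hsq.1 (algebraMap B A b)
  obtain ⟨b', ⟨hb1, _⟩, -⟩ := hsq.2 b a' ha'.symm
  exact ⟨b', hb1⟩

/-- elements of `ker (A' → A)` lift to `ker (B' → B)`. -/
theorem exists_of_mem_ker (hsq : EtMil.IsFibreSquare B' B A' A) (i : A')
    (hi : algebraMap A' A i = 0) :
    ∃ j : B', algebraMap B' B j = 0 ∧ algebraMap B' A' j = i := by
  obtain ⟨b', ⟨h1, h2⟩, -⟩ := hsq.2 0 i (by rw [map_zero, hi])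
  exact ⟨b', h1, h2⟩

theorem eq_zero_of_map_eq_zero (hsq : EtMil.IsFibreSquare B' B A' A) (b' : B')
    (h1 : algebraMap B' B b' = 0) (h2 : algebraMap B' A' b' = 0) : b' = 0 := by
  obtain ⟨c, -, hc⟩ := hsq.2 0 0 (by simp)
  rw [hc b' ⟨h1, h2⟩, hc 0 ⟨map_zero _, map_zero _⟩]

section glue

variable {N M' : Type u} [AddCommGroup N] [Module B N] [Module B' N] [IsScalarTower B' B N]
  [AddCommGroup M'] [Module A' M'] [Module B' M'] [IsScalarTower B' A' M']
  (φ : A ⊗[B] N ≃ₗ[A] A ⊗[A'] M')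

theorem mem_glue_iff (x : N × M') :
    x ∈ EtMil.glue B' φ ↔ φ ((1 : A) ⊗ₜ[B] x.1) = (1 : A) ⊗ₜ[A'] x.2 := Iff.rfl

theorem glueFst_surjective (hsq : EtMil.IsFibreSquare B' B A' A) :
    Function.Surjective (EtMil.glueFst B' φ) := by
  intro n
  obtain ⟨m', hm'⟩ := exists_one_tmul hsq.1 M' (φ ((1 : A) ⊗ₜ[B] n))
  exact ⟨⟨(n, m'), hm'⟩, rfl⟩

/-- `(0, m')` is in the glued module for `m' ∈ I M'`. -/
theorem zero_mem_glue (m' : M')
    (h : m' ∈ (RingHom.ker (algebraMap A' A)) • (⊤ : Submodule A' M')) :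
    ((0 : N), m') ∈ EtMil.glue B' φ := by
  rw [mem_glue_iff]
  simp only [tmul_zero, map_zero]
  exact (one_tmul_eq_zero_of_mem_smul_top M' m' h).symm

/-- Lemma B: every `φ t` is `1 ⊗ y` with `y` in the `A'`-span of the second projection. -/
theorem exists_span_of_phi (hsq : EtMil.IsFibreSquare B' B A' A) (t : A ⊗[B] N) :
    ∃ y ∈ Submodule.span A' (Set.range (EtMil.glueSnd B' φ)), φ t = (1 : A) ⊗ₜ[A'] y := by
  induction t using TensorProduct.induction_on with
  | zero => exact ⟨0, Submodule.zero_mem _, by simp⟩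
  | tmul a n =>
    obtain ⟨a', rfl⟩ := hsq.1 a
    obtain ⟨g, rfl⟩ := glueFst_surjective φ hsq n
    refine ⟨a' • (EtMil.glueSnd B' φ g), Submodule.smul_mem _ _ (Submodule.subset_span ⟨g, rfl⟩), ?_⟩
    have h1 : (algebraMap A' A a') ⊗ₜ[B] (EtMil.glueFst B' φ g) =
        (algebraMap A' A a') • ((1 : A) ⊗ₜ[B] (EtMil.glueFst B' φ g)) := by
      rw [TensorProduct.smul_tmul', smul_eq_mul, mul_one]
    have hg : φ ((1 : A) ⊗ₜ[B] (EtMil.glueFst B' φ g)) = (1 : A) ⊗ₜ[A'] (EtMil.glueSnd B' φ g) := g.2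
    rw [h1, map_smul, hg, TensorProduct.smul_tmul', smul_eq_mul, mul_one, TensorProduct.tmul_smul,
      TensorProduct.smul_tmul', Algebra.smul_def, mul_one]
  | add t₁ t₂ h₁ h₂ =>
    obtain ⟨y₁, hy₁, e₁⟩ := h₁
    obtain ⟨y₂, hy₂, e₂⟩ := h₂
    exact ⟨y₁ + y₂, Submodule.add_mem _ hy₁ hy₂, by rw [map_add, e₁, e₂, tmul_add]⟩

/-- the second projection generates `M'` over `A'`. -/
theorem span_glueSnd (hsq : EtMil.IsFibreSquare B' B A' A) :
    Submodule.span A' (Set.range (EtMil.glueSnd B' φ)) = ⊤ := by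
  rw [eq_top_iff]
  intro m' _
  obtain ⟨y, hy, e⟩ := exists_span_of_phi φ hsq (φ.symm ((1 : A) ⊗ₜ[A'] m'))
  rw [LinearEquiv.apply_symm_apply] at e
  have h0 : (1 : A) ⊗ₜ[A'] (m' - y) = 0 := by rw [tmul_sub, e, sub_self]
  have h1 := mem_smul_top_of_one_tmul_eq_zero hsq.1 M' (m' - y) h0
  have h2 : m' - y ∈ Submodule.span A' (Set.range (EtMil.glueSnd B' φ)) :=
    Submodule.subset_span ⟨⟨((0 : N), m' - y), zero_mem_glue φ _ h1⟩, rfl⟩
  have : m' = (m' - y) + y := by abel
  rw [this]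
  exact Submodule.add_mem _ h2 hy

/-- elements of the glued module with vanishing first component lie in `J • G`. -/
theorem mem_smul_top_of_fst_eq_zero (hsq : EtMil.IsFibreSquare B' B A' A)
    (g : EtMil.glue B' φ) (hg : EtMil.glueFst B' φ g = 0) :
    g ∈ (RingHom.ker (algebraMap B' B)) • (⊤ : Submodule B' (EtMil.glue B' φ)) := by
  obtain ⟨⟨n, m'⟩, hmem⟩ := g
  have hn : n = 0 := hg
  subst hn
  have h1 : (1 : A) ⊗ₜ[A'] m' = 0 := by
    have := (mem_glue_iff φ _).mp hmem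
    simpa using this.symm
  have h2 := mem_smul_top_of_one_tmul_eq_zero hsq.1 M' m' h1
  -- key: for `y` in the span and `i ∈ I`, `(0, i • y) ∈ J • G`
  have key : ∀ y ∈ Submodule.span A' (Set.range (EtMil.glueSnd B' φ)),
      ∀ i : A', algebraMap A' A i = 0 → ∃ h : ((0 : N), i • y) ∈ EtMil.glue B' φ,
        (⟨((0 : N), i • y), h⟩ : EtMil.glue B' φ) ∈
          (RingHom.ker (algebraMap B' B)) • (⊤ : Submodule B' (EtMil.glue B' φ)) := by
    intro y hy
    refine Submodule.span_induction (p := fun y _ => ∀ i : A', algebraMap A' A i = 0 →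
      ∃ h : ((0 : N), i • y) ∈ EtMil.glue B' φ,
        (⟨((0 : N), i • y), h⟩ : EtMil.glue B' φ) ∈
          (RingHom.ker (algebraMap B' B)) • (⊤ : Submodule B' (EtMil.glue B' φ))) ?_ ?_ ?_ ?_ hy
    · rintro _ ⟨g, rfl⟩ i hi
      obtain ⟨j, hj1, hj2⟩ := exists_of_mem_ker hsq i hi
      have heq : ((0 : N), i • EtMil.glueSnd B' φ g) = ((j • g : EtMil.glue B' φ) : N × M') := by
        have e1 : (j • (g : N × M')).1 = 0 := by
          rw [Prod.smul_fst, ← IsScalarTower.algebraMap_smul B j, hj1, zero_smul]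
        have e2 : (j • (g : N × M')).2 = i • EtMil.glueSnd B' φ g := by
          rw [Prod.smul_snd, ← IsScalarTower.algebraMap_smul A' j, hj2]
          rfl
        exact Prod.ext e1.symm e2.symm
      refine ⟨heq ▸ (j • g).2, ?_⟩
      have : (⟨((0 : N), i • EtMil.glueSnd B' φ g), heq ▸ (j • g).2⟩ : EtMil.glue B' φ) = j • g :=
        Subtype.ext heq
      rw [this]
      exact Submodule.smul_mem_smul (RingHom.mem_ker.mpr hj1) Submodule.mem_top
    · intro i _
      refine ⟨by rw [smul_zero]; exact Submodule.zero_mem _, ?_⟩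
      have : (⟨((0 : N), i • (0 : M')), by rw [smul_zero]; exact Submodule.zero_mem _⟩ :
          EtMil.glue B' φ) = 0 := Subtype.ext (by simp)
      rw [this]
      exact Submodule.zero_mem _
    · intro x y _ _ hx hy i hi
      obtain ⟨h1, h1'⟩ := hx i hi
      obtain ⟨h2, h2'⟩ := hy i hi
      have heq : ((0 : N), i • (x + y)) = ((0 : N), i • x) + ((0 : N), i • y) := by
        simp [smul_add]
      refine ⟨heq ▸ Submodule.add_mem _ h1 h2, ?_⟩
      have : (⟨((0 : N), i • (x + y)), heq ▸ Submodule.add_mem _ h1 h2⟩ : EtMil.glue B' φ) =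
          ⟨_, h1⟩ + ⟨_, h2⟩ := Subtype.ext heq
      rw [this]
      exact Submodule.add_mem _ h1' h2'
    · intro a x _ hx i hi
      have hia : algebraMap A' A (i * a) = 0 := by rw [map_mul, hi, zero_mul]
      obtain ⟨h1, h1'⟩ := hx (i * a) hia
      have heq : ((0 : N), i • a • x) = ((0 : N), (i * a) • x) := by rw [mul_smul]
      refine ⟨heq ▸ h1, ?_⟩
      have : (⟨((0 : N), i • a • x), heq ▸ h1⟩ : EtMil.glue B' φ) = ⟨_, h1⟩ := Subtype.ext heq
      rw [this]
      exact h1'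
  -- now induct on `m' ∈ I • ⊤`
  have main : ∀ m' ∈ (RingHom.ker (algebraMap A' A)) • (⊤ : Submodule A' M'),
      ∃ h : ((0 : N), m') ∈ EtMil.glue B' φ, (⟨((0 : N), m'), h⟩ : EtMil.glue B' φ) ∈
          (RingHom.ker (algebraMap B' B)) • (⊤ : Submodule B' (EtMil.glue B' φ)) := by
    intro m' hm'
    refine Submodule.smul_induction_on (p := fun m' => ∃ h : ((0 : N), m') ∈ EtMil.glue B' φ,
      (⟨((0 : N), m'), h⟩ : EtMil.glue B' φ) ∈
          (RingHom.ker (algebraMap B' B)) • (⊤ : Submodule B' (EtMil.glue B' φ))) hm' ?_ ?_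
    · intro i hi x _
      have hx : x ∈ Submodule.span A' (Set.range (EtMil.glueSnd B' φ)) := by
        rw [span_glueSnd φ hsq]; exact Submodule.mem_top
      exact key x hx i (RingHom.mem_ker.mp hi)
    · rintro x y ⟨h1, h1'⟩ ⟨h2, h2'⟩
      have heq : ((0 : N), x + y) = ((0 : N), x) + ((0 : N), y) := by simp
      refine ⟨heq ▸ Submodule.add_mem _ h1 h2, ?_⟩
      have : (⟨((0 : N), x + y), heq ▸ Submodule.add_mem _ h1 h2⟩ : EtMil.glue B' φ) =
          ⟨_, h1⟩ + ⟨_, h2⟩ := Subtype.ext heq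
      rw [this]
      exact Submodule.add_mem _ h1' h2'
  obtain ⟨_, h'⟩ := main m' h2
  exact h'

/-- in `B ⊗ G`, elements `1 ⊗ g` with `g ∈ J • G` vanish. -/
theorem one_tmul_eq_zero_of_mem_smul_top' {L : Type u} [AddCommGroup L] [Module B' L] (l : L)
    (h : l ∈ (RingHom.ker (algebraMap B' B)) • (⊤ : Submodule B' L)) :
    (1 : B) ⊗ₜ[B'] l = 0 :=
  one_tmul_eq_zero_of_mem_smul_top (A' := B') (A := B) L l h

/-- Claim 1: `B ⊗_{B'} G ≅ N`. -/
theorem liftFst_bijective (hsq : EtMil.IsFibreSquare B' B A' A) :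
    Function.Bijective (LinearMap.liftBaseChange B (EtMil.glueFst B' φ)) := by
  constructor
  · rw [injective_iff_map_eq_zero]
    intro x hx
    obtain ⟨g, rfl⟩ := exists_one_tmul (surjective_B hsq) _ x
    rw [LinearMap.liftBaseChange_tmul, one_smul] at hx
    exact one_tmul_eq_zero_of_mem_smul_top' g (mem_smul_top_of_fst_eq_zero φ hsq g hx)
  · intro n
    obtain ⟨g, rfl⟩ := glueFst_surjective φ hsq n
    exact ⟨(1 : B) ⊗ₜ[B'] g, by rw [LinearMap.liftBaseChange_tmul, one_smul]⟩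

/-- Claim 2, surjectivity. -/
theorem liftSnd_surjective (hsq : EtMil.IsFibreSquare B' B A' A) :
    Function.Surjective (LinearMap.liftBaseChange A' (EtMil.glueSnd B' φ)) := by
  intro m'
  have hm' : m' ∈ Submodule.span A' (Set.range (EtMil.glueSnd B' φ)) := by
    rw [span_glueSnd φ hsq]; exact Submodule.mem_top
  refine Submodule.span_induction (p := fun m' _ => ∃ x,
    LinearMap.liftBaseChange A' (EtMil.glueSnd B' φ) x = m') ?_ ?_ ?_ ?_ hm'
  · rintro _ ⟨g, rfl⟩
    exact ⟨(1 : A') ⊗ₜ[B'] g, by rw [LinearMap.liftBaseChange_tmul, one_smul]⟩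
  · exact ⟨0, map_zero _⟩
  · rintro x y _ _ ⟨x', rfl⟩ ⟨y', rfl⟩
    exact ⟨x' + y', map_add _ _ _⟩
  · rintro a x _ ⟨x', rfl⟩
    exact ⟨a • x', map_smul _ _ _⟩

/-- the comparison `A ⊗_{B'} G ≅ A ⊗_{A'} M'` (through `φ`). -/
noncomputable def psi (hsq : EtMil.IsFibreSquare B' B A' A) :
    A ⊗[B'] (EtMil.glue B' φ) ≃ₗ[A] A ⊗[A'] M' :=
  (TensorProduct.AlgebraTensorModule.cancelBaseChange B' B A A (EtMil.glue B' φ)).symm ≪≫ₗ
    ((LinearEquiv.ofBijective _ (liftFst_bijective φ hsq)).baseChange B A _ _) ≪≫ₗ φ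

theorem psi_tmul (hsq : EtMil.IsFibreSquare B' B A' A) (a : A) (g : EtMil.glue B' φ) :
    psi φ hsq (a ⊗ₜ[B'] g) = a ⊗ₜ[A'] (EtMil.glueSnd B' φ g) := by
  have hg : φ ((1 : A) ⊗ₜ[B] (EtMil.glueFst B' φ g)) = (1 : A) ⊗ₜ[A'] (EtMil.glueSnd B' φ g) := g.2
  have h1 : a ⊗ₜ[B] (EtMil.glueFst B' φ g) = a • ((1 : A) ⊗ₜ[B] (EtMil.glueFst B' φ g)) := by
    rw [TensorProduct.smul_tmul', smul_eq_mul, mul_one]
  simp only [psi, LinearEquiv.trans_apply,
    TensorProduct.AlgebraTensorModule.cancelBaseChange_symm_tmul, LinearEquiv.baseChange_tmul,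
    LinearEquiv.ofBijective_apply, LinearMap.liftBaseChange_tmul, one_smul]
  rw [h1, map_smul, hg, TensorProduct.smul_tmul', smul_eq_mul, mul_one]

/-- Claim 2: `A' ⊗_{B'} G ≅ M'`. -/
theorem liftSnd_bijective (hsq : EtMil.IsFibreSquare B' B A' A) :
    Function.Bijective (LinearMap.liftBaseChange A' (EtMil.glueSnd B' φ)) := by
  refine ⟨?_, liftSnd_surjective φ hsq⟩
  rw [injective_iff_map_eq_zero]
  intro x hx
  -- Step a: the image of `x` in `A ⊗ G` vanishes
  let κ : A' ⊗[B'] (EtMil.glue B' φ) →ₗ[B'] A ⊗[B'] (EtMil.glue B' φ) :=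
    (IsScalarTower.toAlgHom B' A' A).toLinearMap.rTensor _
  have hκ : ∀ x : A' ⊗[B'] (EtMil.glue B' φ), psi φ hsq (κ x) =
      (1 : A) ⊗ₜ[A'] (LinearMap.liftBaseChange A' (EtMil.glueSnd B' φ) x) := by
    intro x
    induction x using TensorProduct.induction_on with
    | zero => simp
    | tmul a g =>
      simp only [κ, LinearMap.rTensor_tmul, AlgHom.toLinearMap_apply, IsScalarTower.coe_toAlgHom',
        psi_tmul, LinearMap.liftBaseChange_tmul]
      rw [TensorProduct.tmul_smul, TensorProduct.smul_tmul', Algebra.smul_def, mul_one]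
    | add x y hx hy => simp only [map_add, hx, hy, tmul_add]
  have h1 : κ x = 0 := by
    apply (psi φ hsq).injective
    rw [hκ, hx, tmul_zero, map_zero]
  -- Step b: exactness
  let I : Submodule B' A' := (RingHom.ker (algebraMap A' A)).restrictScalars B'
  have hex : Function.Exact I.subtype (IsScalarTower.toAlgHom B' A' A).toLinearMap := by
    rw [LinearMap.exact_iff]
    ext y
    simp [I, RingHom.mem_ker]
  have hsurj : Function.Surjective (IsScalarTower.toAlgHom B' A' A).toLinearMap := hsq.1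
  obtain ⟨z, rfl⟩ := (rTensor_exact (EtMil.glue B' φ) hex hsurj x).mp h1
  -- Step c
  have hz : ∀ z : I ⊗[B'] (EtMil.glue B' φ), ∃ g₀ : EtMil.glue B' φ,
      EtMil.glueFst B' φ g₀ = 0 ∧ (I.subtype.rTensor _) z = (1 : A') ⊗ₜ[B'] g₀ := by
    intro z
    induction z using TensorProduct.induction_on with
    | zero => exact ⟨0, map_zero _, by simp⟩
    | tmul i g =>
      obtain ⟨i, hi⟩ := i
      obtain ⟨j, hj1, hj2⟩ := exists_of_mem_ker hsq i (RingHom.mem_ker.mp hi)
      refine ⟨j • g, ?_, ?_⟩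
      · rw [map_smul, ← IsScalarTower.algebraMap_smul B j, hj1, zero_smul]
      · rw [LinearMap.rTensor_tmul, Submodule.subtype_apply, TensorProduct.tmul_smul,
          TensorProduct.smul_tmul', Algebra.smul_def, mul_one, hj2]
    | add z₁ z₂ h₁ h₂ =>
      obtain ⟨g₁, e₁, e₁'⟩ := h₁
      obtain ⟨g₂, e₂, e₂'⟩ := h₂
      exact ⟨g₁ + g₂, by rw [map_add, e₁, e₂, add_zero], by rw [map_add, e₁', e₂', tmul_add]⟩
  obtain ⟨g₀, hg1, hg2⟩ := hz z
  rw [hg2] at hx ⊢
  rw [LinearMap.liftBaseChange_tmul, one_smul] at hx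
  have : g₀ = 0 := by
    apply Subtype.ext
    exact Prod.ext hg1 hx
  rw [this, tmul_zero]

end glue

end Groth.Agent.Lib.helper3.Milnor
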