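import Mathlib
import Groth.Prelude.Def_EtGlue
import Groth.Agent.Lib.helper3.BL
import Groth.Agent.Lib.helper10.Pure

/-!
# Descent of flatness along a glueing pair (helper3)

For a glueing pair `(R → R', f)` and an `R`-module `M` with `R' ⊗ M` flat over `R'` and `M_f` flat:
`M` is flat. Part 1: module-theoretic statements on a presentation `0 → K → F → M → 0`.
-/

set_option autoImplicit false
universe u

open TensorProduct

namespace Groth.Agent.Lib.helper3.BLFlat

variable {R : Type u} [CommRing R] (f : R)

/-- elements killed by localization of the second factor are `f`-power torsion. -/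
theorem torsion_of_lTensor_eq_zero {C M M₁ : Type u} [AddCommGroup C] [Module R C]
    [AddCommGroup M] [Module R M] [AddCommGroup M₁] [Module R M₁] (p₂ : M →ₗ[R] M₁)
    [IsLocalizedModule (Submonoid.powers f) p₂] (ξ : TensorProduct R C M)
    (h : p₂.lTensor C ξ = 0) : ∃ n : ℕ, f ^ n • ξ = 0 := by
  have inst : IsLocalizedModule (Submonoid.powers f)
      (TensorProduct.AlgebraTensorModule.rTensor R C p₂) :=
    IsLocalizedModule.rTensor (R := R) (A := R) (N := C) (Submonoid.powers f) p₂
  have h1 : (TensorProduct.AlgebraTensorModule.rTensor R C p₂) (TensorProduct.comm R C M ξ) = 0 := by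
    have : (TensorProduct.AlgebraTensorModule.rTensor R C p₂) (TensorProduct.comm R C M ξ) =
        p₂.rTensor C (TensorProduct.comm R C M ξ) := rfl
    rw [this, LinearMap.rTensor_comm, h, map_zero]
  obtain ⟨⟨_, n, rfl⟩, hs⟩ := (IsLocalizedModule.eq_zero_iff (Submonoid.powers f)
    (TensorProduct.AlgebraTensorModule.rTensor R C p₂)).mp h1
  refine ⟨n, ?_⟩
  have hs' : f ^ n • (TensorProduct.comm R C M ξ) = 0 := hs
  rw [← map_smul] at hs'
  exact (TensorProduct.comm R C M).injective (hs'.trans (map_zero _).symm)

section presentation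

variable {K F M : Type u} [AddCommGroup K] [Module R K] [AddCommGroup F] [Module R F]
  [AddCommGroup M] [Module R M] (j : K →ₗ[R] F) (p : F →ₗ[R] M)

/-- (†) if `M_f` is `R`-flat, the kernel of `C ⊗ K → C ⊗ F` is `f`-power torsion. -/
theorem ker_torsion (hj : Function.Injective j) (hex : Function.Exact j p)
    (hp : Function.Surjective p)
    [Module.Flat R (LocalizedModule (Submonoid.powers f) M)]
    (C : Type u) [AddCommGroup C] [Module R C] (c : C ⊗[R] K) (hc : j.lTensor C c = 0) :
    ∃ n : ℕ, f ^ n • c = 0 := by
  let S := Submonoid.powers f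
  let jf := IsLocalizedModule.map S (LocalizedModule.mkLinearMap S K)
    (LocalizedModule.mkLinearMap S F) j
  let pf := IsLocalizedModule.map S (LocalizedModule.mkLinearMap S F)
    (LocalizedModule.mkLinearMap S M) p
  have hjf : Function.Injective jf := IsLocalizedModule.map_injective S _ _ j hj
  have hpf : Function.Surjective pf := IsLocalizedModule.map_surjective S _ _ p hp
  have hexf : Function.Exact jf pf := IsLocalizedModule.map_exact S _ _ _ j p hex
  have hinj : Function.Injective (jf.lTensor C) :=
    Groth.Agent.Lib.helper10.lTensor_injective_of_flat_quotient jf pf hjf hexf hpf C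
  have hsq : jf ∘ₗ LocalizedModule.mkLinearMap S K = LocalizedModule.mkLinearMap S F ∘ₗ j :=
    IsLocalizedModule.map_comp S _ _ j
  apply torsion_of_lTensor_eq_zero f (LocalizedModule.mkLinearMap S K) c
  apply hinj
  rw [map_zero, ← LinearMap.comp_apply, ← LinearMap.lTensor_comp, hsq, LinearMap.lTensor_comp,
    LinearMap.comp_apply, hc, map_zero]

/-- (W4) if `f` acts bijectively on `X`, then `X ⊗ K → X ⊗ F` is injective. -/
theorem lTensor_injective_of_bijective (hj : Function.Injective j) (hex : Function.Exact j p)
    (hp : Function.Surjective p)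
    [Module.Flat R (LocalizedModule (Submonoid.powers f) M)]
    (X : Type u) [AddCommGroup X] [Module R X] (hX : Function.Bijective (fun x : X => f • x)) :
    Function.Injective (j.lTensor X) := by
  rw [injective_iff_map_eq_zero]
  intro c hc
  obtain ⟨n, hn⟩ := ker_torsion f j p hj hex hp X c hc
  have hXn : Function.Bijective (fun x : X => f ^ n • x) := by
    have := hX.iterate n
    rwa [smul_iterate] at this
  let e : X ≃ₗ[R] X := LinearEquiv.ofBijective (LinearMap.lsmul R X (f ^ n)) hXn
  have h1 : (e.toLinearMap.rTensor K) c = f ^ n • c := by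
    have : e.toLinearMap = f ^ n • LinearMap.id := by
      ext x; rfl
    rw [this, LinearMap.rTensor_smul, LinearMap.rTensor_id]
    rfl
  have h2 : Function.Injective (e.toLinearMap.rTensor K) :=
    (LinearEquiv.rTensor K e).injective
  apply h2
  rw [h1, hn, map_zero]

end presentation

section glueing

variable {R' : Type u} [CommRing R'] [Algebra R R']

/-- free modules are "glueable on torsion": a torsion element of `α →₀ R` dying in `R' ⊗ -` is zero. -/
theorem finsupp_eq_zero_of_torsion (hRR : EtGlue.IsGlueingPair R R' f) (α : Type u)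
    (x : α →₀ R) (hx : ∃ n : ℕ, f ^ n • x = 0) (h : (1 : R') ⊗ₜ[R] x = 0) : x = 0 := by
  obtain ⟨n, hn⟩ := hx
  ext a
  rw [Finsupp.zero_apply]
  have h1 : algebraMap R R' (x a) = 0 := by
    have h2 := congrArg ((Finsupp.lapply a : (α →₀ R) →ₗ[R] R).lTensor R') h
    rw [LinearMap.lTensor_tmul, map_zero] at h2
    have h3 := congrArg (TensorProduct.rid R R') h2
    rw [TensorProduct.rid_tmul, map_zero, Finsupp.lapply_apply, Algebra.smul_def, mul_one] at h3
    exact h3
  have h4 : algebraMap R (Localization.Away f) (x a) = 0 := by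
    rw [IsLocalization.map_eq_zero_iff (Submonoid.powers f)]
    refine ⟨⟨f ^ n, n, rfl⟩, ?_⟩
    have := congrArg (fun y : α →₀ R => y a) hn
    simpa using this
  apply hRR.2.1
  simp only [h1, h4, map_zero]

variable {K F M : Type u} [AddCommGroup K] [Module R K] [AddCommGroup F] [Module R F]
  [AddCommGroup M] [Module R M] (j : K →ₗ[R] F) (p : F →ₗ[R] M)

/-- (W1) `Tor_1(R', M) = 0`: `R' ⊗ K → R' ⊗ F` is injective. -/
theorem lTensor_injective_base (hRR : EtGlue.IsGlueingPair R R' f)
    (hj : Function.Injective j) (hex : Function.Exact j p) (hp : Function.Surjective p)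
    [Module.Flat R (LocalizedModule (Submonoid.powers f) M)]
    (hF : ∀ x : F, (∃ n : ℕ, f ^ n • x = 0) → (1 : R') ⊗ₜ[R] x = 0 → x = 0) :
    Function.Injective (j.lTensor R') := by
  rw [injective_iff_map_eq_zero]
  intro c hc
  have htors := ker_torsion f j p hj hex hp R' c hc
  obtain ⟨k, ⟨n, hk⟩, rfl⟩ := Groth.Agent.Lib.helper3.BL.torsion_surj f hRR K c htors
  rw [LinearMap.lTensor_tmul] at hc
  have hjk : j k = 0 := hF (j k) ⟨n, by rw [← map_smul, hk, map_zero]⟩ hc
  have : k = 0 := hj (hjk.trans (map_zero j).symm)
  rw [this, tmul_zero]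

/-- (W2) the base-changed presentation is universally injective over `R'`. -/
theorem baseChange_lTensor_injective (hinj : Function.Injective (j.lTensor R'))
    (hex : Function.Exact j p) (hp : Function.Surjective p)
    [Module.Flat R' (R' ⊗[R] M)]
    (Q' : Type u) [AddCommGroup Q'] [Module R' Q'] :
    Function.Injective ((j.baseChange R').lTensor Q') := by
  have hinj' : Function.Injective (j.baseChange R') := hinj
  have hex' : Function.Exact (j.baseChange R') (p.baseChange R') := lTensor_exact R' hex hp
  have hp' : Function.Surjective (p.baseChange R') := LinearMap.lTensor_surjective R' hp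
  exact Groth.Agent.Lib.helper10.lTensor_injective_of_flat_quotient (R := R')
    (j.baseChange R') (p.baseChange R') hinj' hex' hp' Q'

/-- tensor products with a torsion module are torsion. -/
theorem tensor_torsion {Q : Type u} [AddCommGroup Q] [Module R Q]
    (hQ : ∀ q : Q, ∃ n : ℕ, f ^ n • q = 0) (N : Type u) [AddCommGroup N] [Module R N]
    (x : Q ⊗[R] N) : ∃ n : ℕ, f ^ n • x = 0 := by
  induction x using TensorProduct.induction_on with
  | zero => exact ⟨0, smul_zero _⟩
  | tmul q k =>
    obtain ⟨n, hn⟩ := hQ q
    exact ⟨n, by rw [TensorProduct.smul_tmul', hn, zero_tmul]⟩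
  | add x y hx hy =>
    obtain ⟨n, hn⟩ := hx
    obtain ⟨m, hm⟩ := hy
    refine ⟨n + m, ?_⟩
    rw [smul_add, pow_add, mul_smul, mul_smul, hm, smul_zero, add_zero, smul_comm, hn, smul_zero]

/-- (W3) `Tor_1(Q, M) = 0` for `f`-power torsion `Q`: `Q ⊗ K → Q ⊗ F` is injective. -/
theorem lTensor_injective_of_torsion (hRR : EtGlue.IsGlueingPair R R' f)
    (hinj : Function.Injective (j.lTensor R'))
    (hex : Function.Exact j p) (hp : Function.Surjective p)
    [Module.Flat R' (R' ⊗[R] M)]
    (Q : Type u) [AddCommGroup Q] [Module R Q] (hQ : ∀ q : Q, ∃ n : ℕ, f ^ n • q = 0) :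
    Function.Injective (j.lTensor Q) := by
  rw [injective_iff_map_eq_zero]
  intro c hc
  apply Groth.Agent.Lib.helper3.BL.eq_zero_of_tmul_eq_zero f hRR.1 (Q ⊗[R] K)
    (tensor_torsion f hQ K) c
  have hW2 := baseChange_lTensor_injective j p hinj hex hp (R' ⊗[R] Q)
  have hnat : ∀ z : R' ⊗[R] (Q ⊗[R] K),
      ((j.baseChange R').lTensor (R' ⊗[R] Q))
        (TensorProduct.AlgebraTensorModule.distribBaseChange R R' Q K z) =
      TensorProduct.AlgebraTensorModule.distribBaseChange R R' Q F
        ((j.lTensor Q).lTensor R' z) := by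
    intro z
    induction z using TensorProduct.induction_on with
    | zero => simp only [map_zero]
    | tmul a w =>
      induction w using TensorProduct.induction_on with
      | zero => simp only [tmul_zero, map_zero]
      | tmul q k => rfl
      | add w₁ w₂ h₁ h₂ => simp only [tmul_add, map_add, h₁, h₂]
    | add z₁ z₂ h₁ h₂ => simp only [map_add, h₁, h₂]
  apply (TensorProduct.AlgebraTensorModule.distribBaseChange R R' Q K).injective
  apply hW2
  rw [hnat, LinearMap.lTensor_tmul, hc, tmul_zero, map_zero, map_zero, map_zero]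

end glueing

end Groth.Agent.Lib.helper3.BLFlat
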