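import Mathlib
import Groth.Prelude.Def_EtGlue
import Groth.Agent.Lib.helper3.BLFlat
import Groth.Agent.Lib.helper21.TorLib

/-!
# Descent of flatness along a glueing pair, part 2 (helper3)

`Hyp R' f M`: `R' ⊗ M` is `R'`-flat and `M_f` is `R`-flat. For a glueing pair this is inherited by the
kernel of the canonical free presentation, and implies `Tor_1(C, M) = 0` for all `C`, hence flatness.
-/

set_option autoImplicit false
universe u

open TensorProduct CategoryTheory CategoryTheory.Limits Groth.Agent.H21.TorLib

namespace Groth.Agent.Lib.helper3.BLFlat

/-- the kernel term of a short exact sequence with flat middle and right terms is flat. -/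
theorem flat_of_exact_flat {R : Type u} [CommRing R] {K F M : Type u} [AddCommGroup K] [Module R K]
    [AddCommGroup F] [Module R F] [AddCommGroup M] [Module R M] [Module.Flat R F] [Module.Flat R M]
    (j : K →ₗ[R] F) (p : F →ₗ[R] M) (hj : Function.Injective j) (hex : Function.Exact j p)
    (hp : Function.Surjective p) : Module.Flat R K := by
  have h1 : ∀ (J : Ideal R), J.FG → Function.Injective (j.lTensor J) := by
    intro J _
    exact Groth.Agent.Lib.helper10.lTensor_injective_of_flat_quotient j p hj hex hp J
  exact Groth.Agent.Lib.helper10.flat_left_of_lTensor_injective j h1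

variable {R : Type u} [CommRing R] (R' : Type u) [CommRing R'] [Algebra R R'] (f : R)

/-- the flatness hypotheses on the two charts. -/
structure Hyp (M : Type u) [AddCommGroup M] [Module R M] : Prop where
  base : Module.Flat R' (R' ⊗[R] M)
  loc : Module.Flat R (LocalizedModule (Submonoid.powers f) M)

variable (M : Type u) [AddCommGroup M] [Module R M]

/-- canonical free presentation -/
noncomputable def Pm : (M →₀ R) →ₗ[R] M := Finsupp.linearCombination R id

theorem Pm_surj : Function.Surjective (Pm (R := R) M) := Finsupp.linearCombination_id_surjective R M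

theorem exists_pres : ∃ (K : Type u) (_ : AddCommGroup K) (_ : Module R K)
    (j : K →ₗ[R] (M →₀ R)), Function.Injective j ∧ Function.Exact j (Pm (R := R) M) :=
  ⟨↥(LinearMap.ker (Pm (R := R) M)), inferInstance, inferInstance,
    (LinearMap.ker (Pm (R := R) M)).subtype, Submodule.injective_subtype _,
    LinearMap.exact_subtype_ker_map _⟩

variable {R' f M}
variable {K : Type u} [AddCommGroup K] [Module R K] (j : K →ₗ[R] (M →₀ R))

theorem base_injective (hRR : EtGlue.IsGlueingPair R R' f) (h : Hyp R' f M)
    (hj : Function.Injective j) (hex : Function.Exact j (Pm (R := R) M)) :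
    Function.Injective (j.lTensor R') := by
  have := h.loc
  exact lTensor_injective_base f j (Pm M) hRR hj hex (Pm_surj M)
    (fun x hx hx' => finsupp_eq_zero_of_torsion f hRR M x hx hx')

theorem hyp_ker (hRR : EtGlue.IsGlueingPair R R' f) (h : Hyp R' f M)
    (hj : Function.Injective j) (hex : Function.Exact j (Pm (R := R) M)) :
    Hyp R' f K := by
  have hloc := h.loc
  have hbase := h.base
  constructor
  · have hflatF : Module.Flat R' (R' ⊗[R] (M →₀ R)) := inferInstance
    refine Groth.Agent.Lib.helper10.flat_left_of_lTensor_injective (R := R')
      (j.baseChange R') ?_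
    intro J _
    exact baseChange_lTensor_injective j (Pm M) (base_injective j hRR h hj hex)
      hex (Pm_surj M) J
  · let jf := IsLocalizedModule.map (Submonoid.powers f) (LocalizedModule.mkLinearMap (Submonoid.powers f) K)
      (LocalizedModule.mkLinearMap (Submonoid.powers f) (M →₀ R)) j
    let pf := IsLocalizedModule.map (Submonoid.powers f) (LocalizedModule.mkLinearMap (Submonoid.powers f) (M →₀ R))
      (LocalizedModule.mkLinearMap (Submonoid.powers f) M) (Pm (R := R) M)
    have hjf : Function.Injective jf := IsLocalizedModule.map_injective (Submonoid.powers f) _ _ _ hj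
    have hpf : Function.Surjective pf := IsLocalizedModule.map_surjective (Submonoid.powers f) _ _ _ (Pm_surj M)
    have hexf : Function.Exact jf pf := IsLocalizedModule.map_exact (Submonoid.powers f) _ _ _ _ _ hex
    have hflatF : Module.Flat R (LocalizedModule (Submonoid.powers f) (M →₀ R)) :=
      Module.Flat.trans R (Localization (Submonoid.powers f)) (LocalizedModule (Submonoid.powers f) (M →₀ R))
    exact flat_of_exact_flat (R := R) (K := LocalizedModule (Submonoid.powers f) K)
      (F := LocalizedModule (Submonoid.powers f) (M →₀ R))
      (M := LocalizedModule (Submonoid.powers f) M) jf pf hjf hexf hpf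

end Groth.Agent.Lib.helper3.BLFlat
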