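import Mathlib
import Groth.Prelude.Def_EtGlue
import Groth.Agent.Lib.helper3.BLFlat2

/-!
# Descent of flatness along a glueing pair, part 3 (helper3): Tor dévissage
-/

set_option autoImplicit false
universe u

open TensorProduct CategoryTheory CategoryTheory.Limits Groth.Agent.H21.TorLib

namespace Groth.Agent.Lib.helper3.BLFlat

variable {R : Type u} [CommRing R] {R' : Type u} [CommRing R'] [Algebra R R'] {f : R}

section tor

variable {M : Type u} [AddCommGroup M] [Module R M]
  {K : Type u} [AddCommGroup K] [Module R K] (j : K →ₗ[R] (M →₀ R))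

/-- `Tor_1(C, M) = 0` iff `C ⊗ K → C ⊗ F` injective. -/
theorem isZero_T1_iff (hj : Function.Injective j) (hex : Function.Exact j (Pm (R := R) M))
    (C : Type u) [AddCommGroup C] [Module R C] :
    IsZero (T 1 (ModuleCat.of R C) (ModuleCat.of R M)) ↔ Function.Injective (j.lTensor C) := by
  have hS := linSES_shortExact j (Pm (R := R) M) hj hex (Pm_surj M)
  have hflat : Module.Flat R (ModuleCat.of R (M →₀ R)) := inferInstanceAs (Module.Flat R (M →₀ R))
  exact isZero_iff_injective_lTensor (ModuleCat.of R C) _ hS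
    (isZero_of_flat_right (ModuleCat.of R C) (ModuleCat.of R (M →₀ R)) 0)

/-- dimension shifting along the presentation. -/
theorem isZero_T2_of_T1 (hj : Function.Injective j) (hex : Function.Exact j (Pm (R := R) M))
    (C : Type u) [AddCommGroup C] [Module R C]
    (h : IsZero (T 1 (ModuleCat.of R C) (ModuleCat.of R K))) :
    IsZero (T 2 (ModuleCat.of R C) (ModuleCat.of R M)) := by
  have hS := linSES_shortExact j (Pm (R := R) M) hj hex (Pm_surj M)
  have hflat : Module.Flat R (ModuleCat.of R (M →₀ R)) := inferInstanceAs (Module.Flat R (M →₀ R))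
  obtain ⟨e⟩ := nonempty_iso_shift₂ (ModuleCat.of R C) _ hS 0
    (isZero_of_flat_right (ModuleCat.of R C) (ModuleCat.of R (M →₀ R)) 0)
    (isZero_of_flat_right (ModuleCat.of R C) (ModuleCat.of R (M →₀ R)) 1)
  exact IsZero.of_iso h e

end tor

variable (M : Type u) [AddCommGroup M] [Module R M]

/-- (a) `Tor_1(Q, M) = 0` for torsion `Q`. -/
theorem isZero_T1_torsion (hRR : EtGlue.IsGlueingPair R R' f) (h : Hyp R' f M)
    (Q : Type u) [AddCommGroup Q] [Module R Q] (hQ : ∀ q : Q, ∃ n : ℕ, f ^ n • q = 0) :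
    IsZero (T 1 (ModuleCat.of R Q) (ModuleCat.of R M)) := by
  obtain ⟨K, _, _, j, hj, hex⟩ := exists_pres (R := R) M
  rw [isZero_T1_iff j hj hex Q]
  have := h.base
  exact lTensor_injective_of_torsion f j (Pm M) hRR (base_injective j hRR h hj hex) hex
    (Pm_surj M) Q hQ

/-- (b) `Tor_2(Q, M) = 0` for torsion `Q`. -/
theorem isZero_T2_torsion (hRR : EtGlue.IsGlueingPair R R' f) (h : Hyp R' f M)
    (Q : Type u) [AddCommGroup Q] [Module R Q] (hQ : ∀ q : Q, ∃ n : ℕ, f ^ n • q = 0) :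
    IsZero (T 2 (ModuleCat.of R Q) (ModuleCat.of R M)) := by
  obtain ⟨K, _, _, j, hj, hex⟩ := exists_pres (R := R) M
  exact isZero_T2_of_T1 j hj hex Q (isZero_T1_torsion K hRR (hyp_ker j hRR h hj hex) Q hQ)

/-- (c) `Tor_1(X, M) = 0` if `f` acts bijectively on `X`. -/
theorem isZero_T1_bijective (h : Hyp R' f M)
    (X : Type u) [AddCommGroup X] [Module R X] (hX : Function.Bijective (fun x : X => f • x)) :
    IsZero (T 1 (ModuleCat.of R X) (ModuleCat.of R M)) := by
  obtain ⟨K, _, _, j, hj, hex⟩ := exists_pres (R := R) M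
  rw [isZero_T1_iff j hj hex X]
  have := h.loc
  exact lTensor_injective_of_bijective f j (Pm M) hj hex (Pm_surj M) X hX

/-- the `f`-power torsion submodule. -/
def torsionSub (f : R) (C : Type u) [AddCommGroup C] [Module R C] : Submodule R C where
  carrier := {c | ∃ n : ℕ, f ^ n • c = 0}
  add_mem' := by
    rintro x y ⟨n, hn⟩ ⟨m, hm⟩
    refine ⟨n + m, ?_⟩
    rw [smul_add, pow_add, mul_smul, mul_smul, hm, smul_zero, add_zero, smul_comm, hn, smul_zero]
  zero_mem' := ⟨0, smul_zero _⟩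
  smul_mem' := by
    rintro r x ⟨n, hn⟩
    exact ⟨n, by rw [smul_comm, hn, smul_zero]⟩

theorem mem_torsionSub {f : R} {C : Type u} [AddCommGroup C] [Module R C] (c : C) :
    c ∈ torsionSub f C ↔ ∃ n : ℕ, f ^ n • c = 0 := Iff.rfl

/-- (d) `Tor_1(C, M) = 0` for all `C`. -/
theorem isZero_T1 (hRR : EtGlue.IsGlueingPair R R' f) (h : Hyp R' f M)
    (C : Type u) [AddCommGroup C] [Module R C] :
    IsZero (T 1 (ModuleCat.of R C) (ModuleCat.of R M)) := by
  let Sc := torsionSub f C
  have hE₁ := quotSES_shortExact Sc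
  -- torsion part
  have h1 : IsZero (T 1 (ModuleCat.of R Sc) (ModuleCat.of R M)) := by
    apply isZero_T1_torsion M hRR h Sc
    rintro ⟨c, n, hn⟩
    exact ⟨n, Subtype.ext hn⟩
  -- torsion-free quotient
  have htf : ∀ (x : C ⧸ Sc) (n : ℕ), f ^ n • x = 0 → x = 0 := by
    intro x n hx
    obtain ⟨c, rfl⟩ := Sc.mkQ_surjective x
    rw [← map_smul, Submodule.mkQ_apply, Submodule.Quotient.mk_eq_zero] at hx
    obtain ⟨m, hm⟩ := hx
    rw [Submodule.mkQ_apply, Submodule.Quotient.mk_eq_zero]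
    exact ⟨m + n, by rw [pow_add, mul_smul, hm]⟩
  let S := Submonoid.powers f
  let ι : (C ⧸ Sc) →ₗ[R] LocalizedModule S (C ⧸ Sc) := LocalizedModule.mkLinearMap S (C ⧸ Sc)
  have hι : Function.Injective ι := by
    rw [injective_iff_map_eq_zero]
    intro x hx
    obtain ⟨⟨_, n, rfl⟩, hs⟩ := (IsLocalizedModule.eq_zero_iff S ι).mp hx
    exact htf x n hs
  have hE₂ := linSES_shortExact ι (LinearMap.range ι).mkQ hι (LinearMap.exact_map_mkQ_range ι)
    (Submodule.mkQ_surjective _)
  have h2' : IsZero (T 1 (ModuleCat.of R (LocalizedModule S (C ⧸ Sc))) (ModuleCat.of R M)) := by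
    apply isZero_T1_bijective M h
    have hu := IsLocalizedModule.map_units ι (⟨f, 1, pow_one f⟩ : S)
    rw [Module.End.isUnit_iff] at hu
    exact hu
  have h3' : IsZero (T 2 (ModuleCat.of R (LocalizedModule S (C ⧸ Sc) ⧸ LinearMap.range ι))
      (ModuleCat.of R M)) := by
    apply isZero_T2_torsion M hRR h
    intro q
    obtain ⟨x, rfl⟩ := Submodule.mkQ_surjective _ q
    obtain ⟨⟨y, ⟨_, n, rfl⟩⟩, hy⟩ := IsLocalizedModule.surj S ι x
    refine ⟨n, ?_⟩
    rw [← map_smul, Submodule.mkQ_apply, Submodule.Quotient.mk_eq_zero]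
    exact ⟨y, hy.symm⟩
  have h3 : IsZero (T 1 (ModuleCat.of R (C ⧸ Sc)) (ModuleCat.of R M)) :=
    isZero_left₁ _ hE₂ (ModuleCat.of R M) 1 h3' h2'
  exact isZero_mid₁ _ hE₁ (ModuleCat.of R M) 1 h1 h3

/-- (e) flatness. -/
theorem flat_of_hyp (hRR : EtGlue.IsGlueingPair R R' f) (h : Hyp R' f M) : Module.Flat R M := by
  rw [Module.Flat.iff_rTensor_injective']
  intro I
  have hE := quotSES_shortExact I
  exact injective_rTensor_of_isZero _ hE (ModuleCat.of R M) (isZero_T1 M hRR h (R ⧸ I))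

end Groth.Agent.Lib.helper3.BLFlat
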