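import Mathlib
import Groth.Prelude.Def_EtMil
import Groth.Agent.Lib.helper3.Milnor
import Groth.Agent.Lib.helper3.BLFlat3
import Groth.Agent.Lib.helper22.Milnor
import Groth.Agent.S6916

/-!
# Descent of flatness for Milnor squares (helper3)

`B' = B ×_A A'`, `A' → A` surjective.  If `B ⊗ M` is `B`-flat and `A' ⊗ M` is `A'`-flat then the
`B'`-module `M` is flat.  Tor dévissage.
-/

set_option autoImplicit false
set_option linter.unusedSectionVars false
universe u

open TensorProduct CategoryTheory CategoryTheory.Limits Groth.Agent.H21.TorLib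
open Groth.Agent.Lib.helper3.BLFlat (Pm Pm_surj exists_pres isZero_T1_iff isZero_T2_of_T1
  flat_of_exact_flat)

namespace Groth.Agent.Lib.helper3.MilnorFlat

section general

variable {R : Type u} [CommRing R] {K F M : Type u} [AddCommGroup K] [Module R K]
  [AddCommGroup F] [Module R F] [AddCommGroup M] [Module R M] (j : K →ₗ[R] F) (p : F →ₗ[R] M)

/-- (W) if `Tor_1^R(S, M) = 0` and `S ⊗ M` is `S`-flat then `Tor_1^R(Q, M) = 0` for `S`-modules `Q`
(in terms of a presentation of `M`). -/
theorem lTensor_injective_of_algebra (S : Type u) [CommRing S] [Algebra R S]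
    (hinj : Function.Injective (j.lTensor S)) (hex : Function.Exact j p)
    (hp : Function.Surjective p) [Module.Flat S (S ⊗[R] M)]
    (Q : Type u) [AddCommGroup Q] [Module R Q] [Module S Q] [IsScalarTower R S Q] :
    Function.Injective (j.lTensor Q) := by
  have hinj' : Function.Injective (j.baseChange S) := hinj
  have hex' : Function.Exact (j.baseChange S) (p.baseChange S) := lTensor_exact S hex hp
  have hp' : Function.Surjective (p.baseChange S) := LinearMap.lTensor_surjective S hp
  have hW2 := Groth.Agent.Lib.helper10.lTensor_injective_of_flat_quotient (R := S)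
    (j.baseChange S) (p.baseChange S) hinj' hex' hp' Q
  have hnat : ∀ z : Q ⊗[S] (S ⊗[R] K),
      (j.lTensor Q) (TensorProduct.AlgebraTensorModule.cancelBaseChange R S S Q K z) =
      TensorProduct.AlgebraTensorModule.cancelBaseChange R S S Q F
        (((j.baseChange S).lTensor Q) z) := by
    intro z
    induction z using TensorProduct.induction_on with
    | zero => simp only [map_zero]
    | tmul q w =>
      induction w using TensorProduct.induction_on with
      | zero => simp only [tmul_zero, map_zero]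
      | tmul s k => rfl
      | add w₁ w₂ h₁ h₂ => simp only [tmul_add, map_add, h₁, h₂]
    | add z₁ z₂ h₁ h₂ => simp only [map_add, h₁, h₂]
  rw [injective_iff_map_eq_zero]
  intro c hc
  obtain ⟨z, rfl⟩ := (TensorProduct.AlgebraTensorModule.cancelBaseChange R S S Q K).surjective c
  rw [hnat] at hc
  have h1 : ((j.baseChange S).lTensor Q) z = 0 :=
    (TensorProduct.AlgebraTensorModule.cancelBaseChange R S S Q F).injective
      (hc.trans (map_zero _).symm)
  have h2 : z = 0 := hW2 (h1.trans (map_zero _).symm)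
  rw [h2, map_zero]

/-- a module killed by the kernel of a surjection `R → S` is an `S`-module. -/
theorem exists_module_of_killed {S : Type u} [CommRing S] [Algebra R S]
    (hs : Function.Surjective (algebraMap R S)) (Q : Type u) [AddCommGroup Q] [Module R Q]
    (hQ : ∀ r : R, algebraMap R S r = 0 → ∀ q : Q, r • q = 0) :
    ∃ (_ : Module S Q), IsScalarTower R S Q := by
  let _ : SMul S Q := ⟨fun s q => (Function.surjInv hs s) • q⟩
  have hsmul : ∀ (c : R) (x : Q), (algebraMap R S c) • x = c • x := by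
    intro c x
    change (Function.surjInv hs (algebraMap R S c)) • x = c • x
    rw [← sub_eq_zero, ← sub_smul]
    apply hQ
    rw [map_sub, Function.surjInv_eq hs, sub_self]
  let inst : Module S Q := Function.Surjective.moduleLeft (algebraMap R S) hs hsmul
  refine ⟨inst, ⟨fun r s q => ?_⟩⟩
  obtain ⟨s', rfl⟩ := hs s
  rw [Algebra.smul_def, ← map_mul, hsmul, hsmul, mul_smul]

/-- Tor of a retract vanishes if Tor of the ambient object does. -/
theorem isZero_T_of_retract (n : ℕ) {X Y : ModuleCat.{u} R} (i : X ⟶ Y) (r : Y ⟶ X)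
    (h : i ≫ r = 𝟙 X) (N : ModuleCat.{u} R) (hY : IsZero (T n Y N)) : IsZero (T n X N) := by
  rw [IsZero.iff_id_eq_zero]
  have h1 : T₁ n i N ≫ T₁ n r N = 𝟙 _ := by
    simp only [T₁]
    rw [← NatTrans.comp_app, ← Functor.map_comp, h, CategoryTheory.Functor.map_id]
    rfl
  rw [← h1, hY.eq_of_tgt (T₁ n i N) 0, zero_comp]

end general

section milnor

variable {B' B A' A : Type u} [CommRing B'] [CommRing B] [CommRing A'] [CommRing A]
  [Algebra B' B] [Algebra B' A'] [Algebra B A] [Algebra A' A] [Algebra B' A]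
  [IsScalarTower B' B A] [IsScalarTower B' A' A]

variable (B' B A') in
/-- the flatness hypotheses on the two base changes. -/
structure MHyp (M : Type u) [AddCommGroup M] [Module B' M] : Prop where
  hB : Module.Flat B (B ⊗[B'] M)
  hA' : Module.Flat A' (A' ⊗[B'] M)

variable {M : Type u} [AddCommGroup M] [Module B' M]

/-- the `B'`-linear bijection `ker (B' → B) → ker (A' → A)`. -/
noncomputable def sigma : (RingHom.ker (algebraMap B' B)) →ₗ[B']
    (RingHom.ker (algebraMap A' A)) where
  toFun x := ⟨algebraMap B' A' x.1, by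
    rw [RingHom.mem_ker, ← IsScalarTower.algebraMap_apply, IsScalarTower.algebraMap_apply B' B A,
      (RingHom.mem_ker).mp x.2, map_zero]⟩
  map_add' x y := by
    apply Subtype.ext
    simp
  map_smul' c x := by
    apply Subtype.ext
    simp [Algebra.smul_def]

theorem sigma_bijective (hsq : EtMil.IsFibreSquare B' B A' A) :
    Function.Bijective (sigma (B' := B') (B := B) (A' := A') (A := A)) := by
  constructor
  · rw [injective_iff_map_eq_zero]
    intro x hx
    apply Subtype.ext
    have h2 : algebraMap B' A' x.1 = 0 := congrArg Subtype.val hx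
    exact Milnor.eq_zero_of_map_eq_zero hsq x.1 ((RingHom.mem_ker).mp x.2) h2
  · rintro ⟨i, hi⟩
    obtain ⟨j, hj1, hj2⟩ := Milnor.exists_of_mem_ker hsq i ((RingHom.mem_ker).mp hi)
    exact ⟨⟨j, (RingHom.mem_ker).mpr hj1⟩, Subtype.ext hj2⟩

/-- (L1) `Tor_1(B, M) = 0`. -/
theorem isZero_T1_B (hsq : EtMil.IsFibreSquare B' B A' A) (h : MHyp B' B A' M) :
    IsZero (T 1 (ModuleCat.of B' B) (ModuleCat.of B' M)) := by
  set J : Ideal B' := RingHom.ker (algebraMap B' B) with hJ
  set I : Ideal A' := RingHom.ker (algebraMap A' A) with hI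
  have hexJ : Function.Exact J.subtype (Algebra.linearMap B' B) := by
    rw [LinearMap.exact_iff]
    ext x
    simp [hJ, RingHom.mem_ker]
  have hE := linSES_shortExact J.subtype (Algebra.linearMap B' B) (Submodule.injective_subtype _)
    hexJ (Milnor.surjective_B hsq)
  have hflat : Module.Flat B' (ModuleCat.of B' B') := inferInstanceAs (Module.Flat B' B')
  refine (isZero_iff_injective_rTensor _ hE (ModuleCat.of B' M)
    (isZero_of_flat_left (ModuleCat.of B' B') (ModuleCat.of B' M) 0)).mpr ?_
  change Function.Injective (J.subtype.rTensor M)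
  have hA' := h.hA'
  have hfl : Function.Injective (I.subtype.rTensor (A' ⊗[B'] M)) :=
    (Module.Flat.iff_rTensor_injective' (R := A') (M := A' ⊗[B'] M)).mp hA' I
  have hσ : Function.Injective ((sigma (B' := B') (B := B) (A' := A') (A := A)).rTensor M) :=
    (LinearEquiv.rTensor M (LinearEquiv.ofBijective sigma (sigma_bijective hsq))).injective
  have hcomm : ∀ z : J ⊗[B'] M,
      TensorProduct.lid A' (A' ⊗[B'] M) ((I.subtype.rTensor (A' ⊗[B'] M))
        ((TensorProduct.AlgebraTensorModule.cancelBaseChange B' A' A' I M).symm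
          ((sigma.rTensor M) z))) =
      (TensorProduct.mk B' A' M 1) (TensorProduct.lid B' M ((J.subtype.rTensor M) z)) := by
    intro z
    induction z using TensorProduct.induction_on with
    | zero => simp only [map_zero]
    | tmul x m =>
      simp only [LinearMap.rTensor_tmul, TensorProduct.AlgebraTensorModule.cancelBaseChange_symm_tmul,
        Submodule.subtype_apply, TensorProduct.lid_tmul, TensorProduct.mk_apply]
      rw [TensorProduct.tmul_smul, TensorProduct.smul_tmul', TensorProduct.smul_tmul']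
      simp [sigma, Algebra.smul_def]
    | add z₁ z₂ h₁ h₂ => simp only [map_add, h₁, h₂]
  rw [injective_iff_map_eq_zero]
  intro z hz
  have h1 := hcomm z
  rw [hz, map_zero, map_zero] at h1
  have h2 := (TensorProduct.lid A' (A' ⊗[B'] M)).injective (h1.trans (map_zero _).symm)
  have h3 := hfl (h2.trans (map_zero _).symm)
  have h4 := (TensorProduct.AlgebraTensorModule.cancelBaseChange B' A' A' I M).symm.injective
    (h3.trans (map_zero _).symm)
  exact hσ (h4.trans (map_zero _).symm)

variable (M)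

/-- (L2) `Tor_1(Q, M) = 0` for `B`-modules `Q`. -/
theorem isZero_T1_of_B_module (hsq : EtMil.IsFibreSquare B' B A' A) (h : MHyp B' B A' M)
    (Q : Type u) [AddCommGroup Q] [Module B' Q] [Module B Q] [IsScalarTower B' B Q] :
    IsZero (T 1 (ModuleCat.of B' Q) (ModuleCat.of B' M)) := by
  obtain ⟨K, _, _, j, hj, hex⟩ := exists_pres (R := B') M
  rw [isZero_T1_iff j hj hex Q]
  have hB := h.hB
  exact lTensor_injective_of_algebra j (Pm M) B
    ((isZero_T1_iff j hj hex B).mp (isZero_T1_B hsq h)) hex (Pm_surj M) Q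

/-- the Mayer–Vietoris sequence `0 → B' → B × A' → A → 0`. -/
noncomputable def mvF : B' →ₗ[B'] B × A' :=
  (Algebra.linearMap B' B).prod (Algebra.linearMap B' A')

noncomputable def mvG : B × A' →ₗ[B'] A :=
  (IsScalarTower.toAlgHom B' B A).toLinearMap.coprod (-(IsScalarTower.toAlgHom B' A' A).toLinearMap)

theorem mv_shortExact (hsq : EtMil.IsFibreSquare B' B A' A) :
    ∃ h : (mvG (B' := B') (B := B) (A' := A') (A := A)) ∘ₗ mvF = 0,
      (linSES (mvF (B' := B') (B := B) (A' := A')) (mvG (B' := B') (B := B) (A' := A') (A := A)) h).ShortExact := by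
  have hinj : Function.Injective (mvF (B' := B') (B := B) (A' := A')) := by
    rw [injective_iff_map_eq_zero]
    intro x hx
    have h1 : algebraMap B' B x = 0 := congrArg Prod.fst hx
    have h2 : algebraMap B' A' x = 0 := congrArg Prod.snd hx
    exact Milnor.eq_zero_of_map_eq_zero hsq x h1 h2
  have hex : Function.Exact (mvF (B' := B') (B := B) (A' := A'))
      (mvG (B' := B') (B := B) (A' := A') (A := A)) := by
    rintro ⟨b, a'⟩
    constructor
    · intro hx
      have h1 : algebraMap B A b = algebraMap A' A a' := by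
        have : algebraMap B A b - algebraMap A' A a' = 0 := by
          simpa [mvG, sub_eq_add_neg] using hx
        exact sub_eq_zero.mp this
      obtain ⟨b', ⟨e1, e2⟩, -⟩ := hsq.2 b a' h1
      exact ⟨b', Prod.ext e1 e2⟩
    · rintro ⟨b', hb'⟩
      rw [← hb']
      simp [mvG, mvF]
  have hsurj : Function.Surjective (mvG (B' := B') (B := B) (A' := A') (A := A)) := by
    intro a
    obtain ⟨a', rfl⟩ := hsq.1 a
    exact ⟨(0, -a'), by simp [mvG]⟩
  exact ⟨hex.linearMap_comp_eq_zero, linSES_shortExact _ _ hinj hex hsurj⟩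

/-- (L3) `Tor_1(A', M) = 0`. -/
theorem isZero_T1_A' (hsq : EtMil.IsFibreSquare B' B A' A) (h : MHyp B' B A' M) :
    IsZero (T 1 (ModuleCat.of B' A') (ModuleCat.of B' M)) := by
  obtain ⟨h0, hE⟩ := mv_shortExact (B' := B') (B := B) (A' := A') (A := A) hsq
  have hflat : Module.Flat B' (ModuleCat.of B' B') := inferInstanceAs (Module.Flat B' B')
  have h1 : IsZero (T 1 (ModuleCat.of B' B') (ModuleCat.of B' M)) :=
    isZero_of_flat_left (ModuleCat.of B' B') (ModuleCat.of B' M) 0
  have h3 : IsZero (T 1 (ModuleCat.of B' A) (ModuleCat.of B' M)) :=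
    isZero_T1_of_B_module M hsq h A
  have h2 : IsZero (T 1 (ModuleCat.of B' (B × A')) (ModuleCat.of B' M)) :=
    isZero_mid₁ _ hE (ModuleCat.of B' M) 1 h1 h3
  refine isZero_T_of_retract 1 (ModuleCat.ofHom (LinearMap.inr B' B A'))
    (ModuleCat.ofHom (LinearMap.snd B' B A')) ?_ (ModuleCat.of B' M) h2
  rw [← ModuleCat.ofHom_comp]
  rfl

/-- (L4) `Tor_1(Q, M) = 0` for `A'`-modules `Q`. -/
theorem isZero_T1_of_A'_module (hsq : EtMil.IsFibreSquare B' B A' A) (h : MHyp B' B A' M)
    (Q : Type u) [AddCommGroup Q] [Module B' Q] [Module A' Q] [IsScalarTower B' A' Q] :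
    IsZero (T 1 (ModuleCat.of B' Q) (ModuleCat.of B' M)) := by
  obtain ⟨K, _, _, j, hj, hex⟩ := exists_pres (R := B') M
  rw [isZero_T1_iff j hj hex Q]
  have hA' := h.hA'
  exact lTensor_injective_of_algebra j (Pm M) A'
    ((isZero_T1_iff j hj hex A').mp (isZero_T1_A' M hsq h)) hex (Pm_surj M) Q

variable {M}

/-- (L5) the kernel of the canonical presentation inherits the hypotheses. -/
theorem hyp_ker (hsq : EtMil.IsFibreSquare B' B A' A) (h : MHyp B' B A' M)
    {K : Type u} [AddCommGroup K] [Module B' K] (j : K →ₗ[B'] (M →₀ B'))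
    (hj : Function.Injective j) (hex : Function.Exact j (Pm (R := B') M)) :
    MHyp B' B A' K := by
  have hB := h.hB
  have hA' := h.hA'
  constructor
  · have hinj : Function.Injective (j.baseChange B) :=
      (isZero_T1_iff j hj hex B).mp (isZero_T1_B hsq h)
    exact flat_of_exact_flat (R := B) (j.baseChange B) ((Pm (R := B') M).baseChange B) hinj
      (lTensor_exact B hex (Pm_surj M)) (LinearMap.lTensor_surjective B (Pm_surj M))
  · have hinj : Function.Injective (j.baseChange A') :=
      (isZero_T1_iff j hj hex A').mp (isZero_T1_A' M hsq h)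
    exact flat_of_exact_flat (R := A') (j.baseChange A') ((Pm (R := B') M).baseChange A') hinj
      (lTensor_exact A' hex (Pm_surj M)) (LinearMap.lTensor_surjective A' (Pm_surj M))

variable (M)

/-- (L6) `Tor_2(Q, M) = 0` for `B`-modules `Q`. -/
theorem isZero_T2_of_B_module (hsq : EtMil.IsFibreSquare B' B A' A) (h : MHyp B' B A' M)
    (Q : Type u) [AddCommGroup Q] [Module B' Q] [Module B Q] [IsScalarTower B' B Q] :
    IsZero (T 2 (ModuleCat.of B' Q) (ModuleCat.of B' M)) := by
  obtain ⟨K, _, _, j, hj, hex⟩ := exists_pres (R := B') M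
  exact isZero_T2_of_T1 j hj hex Q (isZero_T1_of_B_module K hsq (hyp_ker hsq h j hj hex) Q)

/-- the canonical map `C → (B ⊗ C) × (A' ⊗ C)`. -/
noncomputable def unitU (C : Type u) [AddCommGroup C] [Module B' C] :
    C →ₗ[B'] (B ⊗[B'] C) × (A' ⊗[B'] C) :=
  (TensorProduct.mk B' B C 1).prod (TensorProduct.mk B' A' C 1)

/-- the difference map `(B ⊗ C) × (A' ⊗ C) → A ⊗ C`. -/
noncomputable def unitV (C : Type u) [AddCommGroup C] [Module B' C] :
    (B ⊗[B'] C) × (A' ⊗[B'] C) →ₗ[B'] A ⊗[B'] C :=
  ((IsScalarTower.toAlgHom B' B A).toLinearMap.rTensor C).coprod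
    (-((IsScalarTower.toAlgHom B' A' A).toLinearMap.rTensor C))

theorem unit_exact (hsq : EtMil.IsFibreSquare B' B A' A) (C : Type u) [AddCommGroup C]
    [Module B' C] :
    Function.Exact (unitU (B' := B') (B := B) (A' := A') C)
      (unitV (B' := B') (B := B) (A' := A') (A := A) C) := by
  rintro ⟨x, y⟩
  constructor
  · intro hxy
    have h1 : (IsScalarTower.toAlgHom B' B A).toLinearMap.rTensor C x =
        (IsScalarTower.toAlgHom B' A' A).toLinearMap.rTensor C y := by
      have : (IsScalarTower.toAlgHom B' B A).toLinearMap.rTensor C x -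
          (IsScalarTower.toAlgHom B' A' A).toLinearMap.rTensor C y = 0 := by
        simpa [unitV, sub_eq_add_neg] using hxy
      exact sub_eq_zero.mp this
    obtain ⟨l, e1, e2⟩ := Groth.Agent.S6916.result B' B A' A hsq C x y h1
    exact ⟨l, Prod.ext e1 e2⟩
  · rintro ⟨c, hc⟩
    rw [← hc]
    simp [unitU, unitV]

theorem unitV_surjective (hsq : EtMil.IsFibreSquare B' B A' A) (C : Type u) [AddCommGroup C]
    [Module B' C] : Function.Surjective (unitV (B' := B') (B := B) (A' := A') (A := A) C) := by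
  intro z
  have hs : Function.Surjective ((IsScalarTower.toAlgHom B' A' A).toLinearMap.rTensor C) :=
    LinearMap.rTensor_surjective C hsq.1
  obtain ⟨y, rfl⟩ := hs z
  exact ⟨(0, -y), by simp [unitV]⟩

theorem ker_unitU_killed (hsq : EtMil.IsFibreSquare B' B A' A) (C : Type u) [AddCommGroup C]
    [Module B' C] (r : B') (hr : algebraMap B' B r = 0)
    (q : LinearMap.ker (unitU (B' := B') (B := B) (A' := A') C)) : r • q = 0 := by
  obtain ⟨c, hc⟩ := q
  apply Subtype.ext
  have h2 : (1 : A') ⊗ₜ[B'] c = 0 := congrArg Prod.snd (LinearMap.mem_ker.mp hc)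
  exact Groth.Agent.Lib.helper22.Milnor.smul_eq_zero_of_tmul_eq_zero hsq c h2 r hr

/-- (L7) `Tor_1(C, M) = 0` for all `C`. -/
theorem isZero_T1 (hsq : EtMil.IsFibreSquare B' B A' A) (h : MHyp B' B A' M)
    (C : Type u) [AddCommGroup C] [Module B' C] :
    IsZero (T 1 (ModuleCat.of B' C) (ModuleCat.of B' M)) := by
  obtain ⟨u, hu⟩ : ∃ u : C →ₗ[B'] (B ⊗[B'] C) × (A' ⊗[B'] C),
    u = unitU (B' := B') (B := B) (A' := A') C := ⟨_, rfl⟩
  obtain ⟨v, hv⟩ : ∃ v : (B ⊗[B'] C) × (A' ⊗[B'] C) →ₗ[B'] A ⊗[B'] C,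
    v = unitV (B' := B') (B := B) (A' := A') (A := A) C := ⟨_, rfl⟩
  have hexuv : Function.Exact u v := by rw [hu, hv]; exact unit_exact hsq C
  have hvs : Function.Surjective v := by rw [hv]; exact unitV_surjective hsq C
  have hkill : ∀ r : B', algebraMap B' B r = 0 → ∀ q : LinearMap.ker u, r • q = 0 := by
    rw [hu]; exact ker_unitU_killed hsq C
  clear hu hv
  -- `0 → ker u → C → range u → 0`
  have hex₁ : Function.Exact (LinearMap.ker u).subtype u.rangeRestrict :=
    LinearMap.exact_iff.mpr (by rw [LinearMap.ker_rangeRestrict, Submodule.range_subtype])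
  have hE₁ := linSES_shortExact (R := B') (X := LinearMap.ker u) (Y := C) (Z := LinearMap.range u)
    (LinearMap.ker u).subtype u.rangeRestrict
    (Submodule.injective_subtype _) hex₁ (LinearMap.surjective_rangeRestrict u)
  -- `0 → range u → (B ⊗ C) × (A' ⊗ C) → A ⊗ C → 0`
  have hex₂ : Function.Exact (LinearMap.range u).subtype v :=
    LinearMap.exact_iff.mpr (by
      rw [Submodule.range_subtype]
      exact ((LinearMap.exact_iff).mp hexuv))
  have hE₂ := linSES_shortExact (R := B') (X := LinearMap.range u)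
    (Y := (B ⊗[B'] C) × (A' ⊗[B'] C)) (Z := A ⊗[B'] C) (LinearMap.range u).subtype v
    (Submodule.injective_subtype _) hex₂ hvs
  -- `0 → B ⊗ C → (B ⊗ C) × (A' ⊗ C) → A' ⊗ C → 0`
  have hex₃ : Function.Exact (LinearMap.inl B' (B ⊗[B'] C) (A' ⊗[B'] C))
      (LinearMap.snd B' (B ⊗[B'] C) (A' ⊗[B'] C)) := by
    rintro ⟨x, y⟩
    constructor
    · intro hy
      exact ⟨x, Prod.ext rfl (Eq.symm hy)⟩
    · rintro ⟨x', hx'⟩
      rw [← hx']
      rfl
  have hE₃ := linSES_shortExact (LinearMap.inl B' (B ⊗[B'] C) (A' ⊗[B'] C))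
    (LinearMap.snd B' (B ⊗[B'] C) (A' ⊗[B'] C))
    (LinearMap.inl_injective (R := B') (M := B ⊗[B'] C) (M₂ := A' ⊗[B'] C)) hex₃
    (LinearMap.snd_surjective (R := B') (M := B ⊗[B'] C) (M₂ := A' ⊗[B'] C))
  -- the kernel of `u` is a `B`-module
  obtain ⟨instB, instT⟩ := exists_module_of_killed (R := B') (S := B) (Milnor.surjective_B hsq)
    (LinearMap.ker u) hkill
  have h0 : IsZero (T 1 (ModuleCat.of B' (LinearMap.ker u)) (ModuleCat.of B' M)) :=
    isZero_T1_of_B_module M hsq h (LinearMap.ker u)
  have hB : IsZero (T 1 (ModuleCat.of B' (B ⊗[B'] C)) (ModuleCat.of B' M)) :=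
    isZero_T1_of_B_module M hsq h (B ⊗[B'] C)
  have hA' : IsZero (T 1 (ModuleCat.of B' (A' ⊗[B'] C)) (ModuleCat.of B' M)) :=
    isZero_T1_of_A'_module M hsq h (A' ⊗[B'] C)
  have hprod : IsZero (T 1 (ModuleCat.of B' ((B ⊗[B'] C) × (A' ⊗[B'] C))) (ModuleCat.of B' M)) :=
    isZero_mid₁ _ hE₃ (ModuleCat.of B' M) 1 hB hA'
  have hA2 : IsZero (T 2 (ModuleCat.of B' (A ⊗[B'] C)) (ModuleCat.of B' M)) :=
    isZero_T2_of_B_module M hsq h (A ⊗[B'] C)
  have h1 : IsZero (T 1 (ModuleCat.of B' (LinearMap.range u)) (ModuleCat.of B' M)) :=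
    isZero_left₁ _ hE₂ (ModuleCat.of B' M) 1 hA2 hprod
  exact isZero_mid₁ _ hE₁ (ModuleCat.of B' M) 1 h0 h1

/-- (L8) flatness descends along a Milnor square. -/
theorem flat_of_hyp (hsq : EtMil.IsFibreSquare B' B A' A) (h : MHyp B' B A' M) :
    Module.Flat B' M := by
  rw [Module.Flat.iff_rTensor_injective']
  intro I
  have hE := quotSES_shortExact I
  exact injective_rTensor_of_isZero _ hE (ModuleCat.of B' M) (isZero_T1 M hsq h (B' ⧸ I))

end milnor

end Groth.Agent.Lib.helper3.MilnorFlat
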