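import Mathlib
import Groth.Prelude.Def_EtMil
import Groth.Agent.Lib.helper10.Pure
import Groth.Agent.S14949

/-!
# Relative Milnor squares: finite presentation (helper3)

`B' = B ×_A A'` a fibre square, `D'` a `B'`-algebra, `D = B ⊗ D'`, `C' = A' ⊗ D'`.
* `sup_eq_top_of_surjective` : submodules of a `B'`-module that become everything after `B ⊗ -`
  resp. `A' ⊗ -` span the module.
* `exists_fg_lTensor_surjective` : for a `B'`-flat `D'`-module `G` with f.p. base change, the kernel
  of a presentation `D'^n → G` contains a f.g. submodule which is everything after base change.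
* `finitePresentation_of_baseChange` : such a `G` is finitely presented over `D'`.
-/

set_option autoImplicit false
universe u
open TensorProduct

namespace Groth.Agent.Lib.helper3.MilnorRel

section Zp
variable {B' B A' A : Type u} [CommRing B'] [CommRing B] [CommRing A'] [CommRing A]
  [Algebra B' B] [Algebra B' A'] [Algebra B A] [Algebra A' A] [Algebra B' A]
  [IsScalarTower B' B A] [IsScalarTower B' A' A]

/-- Lemma Z': two submodules whose base changes to `B` resp. `A'` are surjective span everything. -/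
theorem sup_eq_top_of_surjective (hsq : EtMil.IsFibreSquare B' B A' A)
    {K : Type u} [AddCommGroup K] [Module B' K] (X₁ X₂ : Submodule B' K)
    (h1 : Function.Surjective (X₁.subtype.lTensor B))
    (h2 : Function.Surjective (X₂.subtype.lTensor A')) : X₁ ⊔ X₂ = ⊤ := by
  have key : ∀ (E : Type u) [CommRing E] [Algebra B' E] (X : Submodule B' K),
      X ≤ X₁ ⊔ X₂ → Function.Surjective (X.subtype.lTensor E) →
      Subsingleton (E ⊗[B'] (K ⧸ (X₁ ⊔ X₂))) := by
    intro E _ _ X hX hs
    refine ⟨fun a b => ?_⟩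
    have hz : ∀ t : E ⊗[B'] (K ⧸ (X₁ ⊔ X₂)), t = 0 := by
      intro t
      obtain ⟨t', rfl⟩ := LinearMap.lTensor_surjective E (Submodule.mkQ_surjective (X₁ ⊔ X₂)) t
      obtain ⟨s, rfl⟩ := hs t'
      rw [← LinearMap.comp_apply, ← LinearMap.lTensor_comp]
      have : (X₁ ⊔ X₂).mkQ ∘ₗ X.subtype = 0 := by
        ext x
        simp only [LinearMap.comp_apply, Submodule.subtype_apply, Submodule.mkQ_apply,
          LinearMap.zero_apply, Submodule.Quotient.mk_eq_zero]
        exact hX x.2
      rw [this, LinearMap.lTensor_zero, LinearMap.zero_apply]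
    rw [hz a, hz b]
  haveI := key B X₁ le_sup_left h1
  haveI := key A' X₂ le_sup_right h2
  have := Groth.Agent.S14949.result B' B A' A hsq (K ⧸ (X₁ ⊔ X₂))
  exact (Submodule.Quotient.subsingleton_iff).1 this
end Zp

section side
variable {B' E D' DE : Type u} [CommRing B'] [CommRing E] [CommRing D'] [CommRing DE]
  [Algebra B' E] [Algebra B' D'] [Algebra E DE] [Algebra D' DE] [Algebra B' DE]
  [IsScalarTower B' E DE] [IsScalarTower B' D' DE] [Algebra.IsPushout B' E D' DE]

/-- the comparison `E ⊗_{B'} D'^n ≃ DE^n`. -/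
noncomputable def theta (n : ℕ) : E ⊗[B'] (Fin n → D') ≃ₗ[E] (Fin n → DE) :=
  (TensorProduct.piRight B' E E (fun _ : Fin n => D')) ≪≫ₗ
    LinearEquiv.piCongrRight (fun _ => (Algebra.IsPushout.equiv B' E D' DE).toLinearEquiv)

theorem theta_tmul (n : ℕ) (e : E) (d : Fin n → D') (i : Fin n) :
    theta (B' := B') (DE := DE) n (e ⊗ₜ[B'] d) i = algebraMap E DE e * algebraMap D' DE (d i) := by
  simp only [theta, LinearEquiv.trans_apply, TensorProduct.piRight_apply,
    TensorProduct.piRightHom_tmul, LinearEquiv.piCongrRight_apply, AlgEquiv.toLinearEquiv_apply,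
    Algebra.IsPushout.equiv_tmul]

end side

section side2

/-- Lemma S. -/
theorem exists_fg_lTensor_surjective
    {B' E D' : Type u} (DE : Type u) [CommRing B'] [CommRing E] [CommRing D'] [CommRing DE]
    [Algebra B' E] [Algebra B' D'] [Algebra E DE] [Algebra D' DE] [Algebra B' DE]
    [IsScalarTower B' E DE] [IsScalarTower B' D' DE] [Algebra.IsPushout B' E D' DE]
    {G : Type u} [AddCommGroup G] [Module D' G] [Module B' G] [IsScalarTower B' D' G]
    [Module.Flat B' G]
    {ME : Type u} [AddCommGroup ME] [Module DE ME] [Module D' ME] [IsScalarTower D' DE ME]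
    [Module E ME] [IsScalarTower E DE ME] [Module B' ME] [IsScalarTower B' E ME]
    [IsScalarTower B' D' ME] [Module.FinitePresentation DE ME]
    (γ : G →ₗ[D'] ME) (hγ : IsBaseChange E (γ.restrictScalars B'))
    {n : ℕ} (π : (Fin n → D') →ₗ[D'] G) (hπ : Function.Surjective π) :
    ∃ X : Submodule D' (LinearMap.ker π), X.FG ∧
      Function.Surjective ((X.restrictScalars B').subtype.lTensor E) := by
  classical
  -- notation
  let K := LinearMap.ker π
  let j : K →ₗ[B'] (Fin n → D') := K.subtype.restrictScalars B'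
  let π' : (Fin n → D') →ₗ[B'] G := π.restrictScalars B'
  let v : Fin n → ME := fun i => γ (π (Pi.single i 1))
  let pE : (Fin n → DE) →ₗ[DE] ME := Fintype.linearCombination DE v
  let θ : E ⊗[B'] (Fin n → D') ≃ₗ[E] (Fin n → DE) := theta (B' := B') (E := E) (D' := D') (DE := DE) n
  have hθ : ∀ (e : E) (d : Fin n → D') (i : Fin n), θ (e ⊗ₜ[B'] d) i =
      algebraMap E DE e * algebraMap D' DE (d i) := fun e d i => theta_tmul (B' := B') (E := E) (D' := D') (DE := DE) n e d i
  have hpE : ∀ c : Fin n → DE, pE c = ∑ i, c i • v i := fun c =>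
    Fintype.linearCombination_apply DE v c
  -- compatibility
  have hC : ∀ t : E ⊗[B'] (Fin n → D'), pE (θ t) =
      hγ.equiv (π'.lTensor E t) := by
    intro t
    induction t using TensorProduct.induction_on with
    | zero => simp
    | tmul e d =>
      rw [LinearMap.lTensor_tmul, hγ.equiv_tmul, hpE]
      have h1 : ∀ i, θ (e ⊗ₜ[B'] d) i • v i = e • (d i • v i) := by
        intro i
        rw [hθ, mul_smul, algebraMap_smul, algebraMap_smul]
      simp only [h1]
      rw [← Finset.smul_sum]
      congr 1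
      show _ = γ (π d)
      have h2 : d = ∑ i, d i • (Pi.single i (1 : D') : Fin n → D') := by
        ext k
        simp [Finset.sum_apply, Pi.single_apply]
      conv_rhs => rw [h2]
      rw [map_sum, map_sum]
      refine Finset.sum_congr rfl (fun i _ => ?_)
      rw [map_smul, map_smul]
    | add x y hx hy => rw [map_add, map_add, hx, hy, map_add, map_add]
  -- surjectivity of pE
  have hπ' : Function.Surjective π' := hπ
  have hpEs : Function.Surjective pE := by
    intro m
    obtain ⟨t, ht⟩ := hγ.equiv.surjective m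
    obtain ⟨t', rfl⟩ := LinearMap.lTensor_surjective E hπ' t
    exact ⟨θ t', by rw [hC, ht]⟩
  have hKE : (LinearMap.ker pE).FG := Module.FinitePresentation.fg_ker pE hpEs
  -- exactness and injectivity
  have hj : Function.Injective j := Subtype.val_injective
  have hex : Function.Exact j π' := by
    intro x
    constructor
    · intro hx
      exact ⟨⟨x, hx⟩, rfl⟩
    · rintro ⟨y, rfl⟩
      exact y.2
  have hexE : Function.Exact (j.lTensor E) (π'.lTensor E) := lTensor_exact E hex hπ'
  have hjE : Function.Injective (j.lTensor E) :=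
    Groth.Agent.Lib.helper10.lTensor_injective_of_flat_quotient j π' hj hex hπ' E
  -- ρ
  let ρ : E ⊗[B'] K →ₗ[E] (Fin n → DE) :=
    (θ).toLinearMap ∘ₗ
      (TensorProduct.AlgebraTensorModule.lTensor E E j)
  have hρ : ∀ s, ρ s = θ (j.lTensor E s) := fun s => rfl
  have hρinj : Function.Injective ρ := by
    intro a b hab
    rw [hρ, hρ] at hab
    exact hjE ((θ).injective hab)
  have hρker : ∀ s, ρ s ∈ LinearMap.ker pE := by
    intro s
    rw [LinearMap.mem_ker, hρ, hC, hexE.apply_apply_eq_zero, map_zero]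
  have hρsurj : ∀ c ∈ LinearMap.ker pE, ∃ s, ρ s = c := by
    intro c hc
    obtain ⟨t, rfl⟩ := (θ).surjective c
    rw [LinearMap.mem_ker, hC] at hc
    have : π'.lTensor E t = 0 := hγ.equiv.injective (hc.trans (map_zero _).symm)
    obtain ⟨s, rfl⟩ := (hexE t).1 this
    exact ⟨s, rfl⟩
  have hρ1 : ∀ (e : E) (k : K) (i : Fin n), ρ (e ⊗ₜ[B'] k) i =
      algebraMap E DE e * algebraMap D' DE ((k : Fin n → D') i) := by
    intro e k i
    rw [hρ, LinearMap.lTensor_tmul]
    exact hθ e (j k) i
  -- generators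
  let S₀ : Set (Fin n → DE) := Set.range (fun k : K => ρ ((1 : E) ⊗ₜ[B'] k))
  have hspan : Submodule.span DE S₀ = LinearMap.ker pE := by
    apply le_antisymm
    · rw [Submodule.span_le]
      rintro _ ⟨k, rfl⟩
      exact hρker _
    · intro c hc
      obtain ⟨s, rfl⟩ := hρsurj c hc
      induction s using TensorProduct.induction_on with
      | zero => rw [map_zero]; exact zero_mem _
      | tmul e k =>
        have : ρ (e ⊗ₜ[B'] k) = algebraMap E DE e • ρ ((1 : E) ⊗ₜ[B'] k) := by
          ext i
          rw [Pi.smul_apply, hρ1, hρ1, map_one, one_mul, smul_eq_mul]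
        rw [this]
        exact Submodule.smul_mem _ _ (Submodule.subset_span ⟨k, rfl⟩)
      | add x y hx hy =>
        rw [map_add]
        exact add_mem (hx (hρker x)) (hy (hρker y))
  have hfg : (Submodule.span DE S₀).FG := by rw [hspan]; exact hKE
  obtain ⟨T, hTsub, hT⟩ := (Submodule.fg_span_iff_fg_span_finset_subset S₀).1 hfg
  choose kk hkk using fun (t : Fin n → DE) (ht : t ∈ T) => hTsub ht
  let X : Submodule D' K := Submodule.span D' (Set.range (fun t : T => kk t.1 t.2))
  refine ⟨X, Submodule.fg_span (Set.finite_range _), ?_⟩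
  let X₁ : Submodule B' K := X.restrictScalars B'
  let ltX : E ⊗[B'] X₁ →ₗ[E] E ⊗[B'] K := TensorProduct.AlgebraTensorModule.lTensor E E X₁.subtype
  have hltX : ∀ w, ltX w = X₁.subtype.lTensor E w := fun w => rfl
  let W : Submodule E (Fin n → DE) := Submodule.map ρ (LinearMap.range ltX)
  have hWmem : ∀ c, c ∈ W ↔ ∃ w, ρ (ltX w) = c := by
    intro c
    simp only [W, Submodule.mem_map, LinearMap.mem_range]
    constructor
    · rintro ⟨_, ⟨w, rfl⟩, rfl⟩; exact ⟨w, rfl⟩
    · rintro ⟨w, rfl⟩; exact ⟨_, ⟨w, rfl⟩, rfl⟩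
  -- D'-stability
  have hWD : ∀ (d : D') (c : Fin n → DE), c ∈ W → algebraMap D' DE d • c ∈ W := by
    intro d c hc
    obtain ⟨w, rfl⟩ := (hWmem c).1 hc
    induction w using TensorProduct.induction_on with
    | zero => simp
    | tmul e x =>
      have hx : d • (x : K) ∈ X₁ := X.smul_mem d x.2
      refine (hWmem _).2 ⟨e ⊗ₜ[B'] (⟨d • (x : K), hx⟩ : X₁), ?_⟩
      rw [hltX, hltX, LinearMap.lTensor_tmul, LinearMap.lTensor_tmul]
      ext i
      rw [Pi.smul_apply, smul_eq_mul]
      show ρ (e ⊗ₜ[B'] (d • (x : K))) i = _ * ρ (e ⊗ₜ[B'] (x : K)) i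
      rw [hρ1, hρ1]
      have : ((d • (x : K) : K) : Fin n → D') i = d * ((x : K) : Fin n → D') i := rfl
      rw [this, map_mul]
      ring
    | add a b ha hb =>
      rw [map_add, map_add, smul_add]
      exact add_mem (ha ((hWmem _).2 ⟨a, rfl⟩)) (hb ((hWmem _).2 ⟨b, rfl⟩))
  -- DE-stability
  have hWDE : ∀ (c' : DE) (c : Fin n → DE), c ∈ W → c' • c ∈ W := by
    intro c'
    have h : Algebra.IsPushout B' E D' DE := inferInstance
    induction c' using h.out.inductionOn with
    | zero => intro c _; rw [zero_smul]; exact zero_mem _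
    | tmul d => intro c hc; exact hWD d c hc
    | smul e c'' ih =>
      intro c hc
      rw [smul_assoc]
      exact W.smul_mem e (ih c hc)
    | add x y hx hy =>
      intro c hc
      rw [add_smul]
      exact add_mem (hx c hc) (hy c hc)
  have hTW : ∀ t ∈ T, t ∈ W := by
    intro t ht
    have hk : kk t ht ∈ X₁ := Submodule.subset_span ⟨⟨t, ht⟩, rfl⟩
    refine (hWmem _).2 ⟨(1 : E) ⊗ₜ[B'] (⟨kk t ht, hk⟩ : X₁), ?_⟩
    rw [hltX, LinearMap.lTensor_tmul]
    exact hkk t ht
  have hkerW : ∀ c ∈ LinearMap.ker pE, c ∈ W := by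
    intro c hc
    rw [← hspan, hT] at hc
    induction hc using Submodule.span_induction with
    | mem t ht => exact hTW t ht
    | zero => exact zero_mem _
    | add x y _ _ hx hy => exact add_mem hx hy
    | smul a x _ hx => exact hWDE a x hx
  intro s
  obtain ⟨w, hw⟩ := (hWmem _).1 (hkerW _ (hρker s))
  exact ⟨w, hρinj hw⟩

end side2

section main
variable {B' B A' A : Type u} [CommRing B'] [CommRing B] [CommRing A'] [CommRing A]
  [Algebra B' B] [Algebra B' A'] [Algebra B A] [Algebra A' A] [Algebra B' A]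
  [IsScalarTower B' B A] [IsScalarTower B' A' A]

/-- Lemma F: a `B'`-flat `D'`-module whose base changes to `B` and `A'` are finitely presented
over `D = B ⊗ D'` and `C' = A' ⊗ D'` is finitely presented over `D'`. -/
theorem finitePresentation_of_baseChange (hsq : EtMil.IsFibreSquare B' B A' A)
    {D' : Type u} (D C' : Type u) [CommRing D'] [CommRing D] [CommRing C']
    [Algebra B' D'] [Algebra B D] [Algebra D' D] [Algebra B' D]
    [IsScalarTower B' B D] [IsScalarTower B' D' D] [Algebra.IsPushout B' B D' D]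
    [Algebra A' C'] [Algebra D' C'] [Algebra B' C']
    [IsScalarTower B' A' C'] [IsScalarTower B' D' C'] [Algebra.IsPushout B' A' D' C']
    {G : Type u} [AddCommGroup G] [Module D' G] [Module B' G] [IsScalarTower B' D' G]
    [Module.Flat B' G] [Module.Finite D' G]
    {N : Type u} [AddCommGroup N] [Module D N] [Module D' N] [IsScalarTower D' D N]
    [Module B N] [IsScalarTower B D N] [Module B' N] [IsScalarTower B' B N]
    [IsScalarTower B' D' N] [Module.FinitePresentation D N]
    {M' : Type u} [AddCommGroup M'] [Module C' M'] [Module D' M'] [IsScalarTower D' C' M']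
    [Module A' M'] [IsScalarTower A' C' M'] [Module B' M'] [IsScalarTower B' A' M']
    [IsScalarTower B' D' M'] [Module.FinitePresentation C' M']
    (γN : G →ₗ[D'] N) (hγN : IsBaseChange B (γN.restrictScalars B'))
    (γM : G →ₗ[D'] M') (hγM : IsBaseChange A' (γM.restrictScalars B')) :
    Module.FinitePresentation D' G := by
  obtain ⟨n, π, hπ⟩ := Module.Finite.exists_fin' D' G
  obtain ⟨X₁, hX₁, hs₁⟩ := exists_fg_lTensor_surjective (E := B) D γN hγN π hπ
  obtain ⟨X₂, hX₂, hs₂⟩ := exists_fg_lTensor_surjective (E := A') C' γM hγM π hπ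
  have htop := sup_eq_top_of_surjective hsq (X₁.restrictScalars B') (X₂.restrictScalars B') hs₁ hs₂
  have htop' : X₁ ⊔ X₂ = ⊤ := by
    rw [eq_top_iff]
    intro k _
    have hk : k ∈ X₁.restrictScalars B' ⊔ X₂.restrictScalars B' := by rw [htop]; trivial
    obtain ⟨y, hy, z, hz, rfl⟩ := Submodule.mem_sup.1 hk
    exact Submodule.mem_sup.2 ⟨y, hy, z, hz, rfl⟩
  have hfin : Module.Finite D' (LinearMap.ker π) := ⟨by rw [← htop']; exact hX₁.sup hX₂⟩
  have hfg : (LinearMap.ker π).FG := (Module.Finite.iff_fg).1 hfin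
  exact (Module.FinitePresentation.fg_ker_iff π hπ).1 hfg

end main

end Groth.Agent.Lib.helper3.MilnorRel
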