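import Mathlib
import Groth.Prelude.Def_EtMil
import Groth.Agent.Lib.helper3.Milnor
import Groth.Agent.Lib.helper3.MilnorFlat
import Groth.Agent.Lib.helper3.MilnorRel
import Groth.Agent.S6917
/-!
# Algebras over Milnor squares (helper3)

`B' = B ×_A A'`, `D' = D ×_C C'` fibre squares with `C = A ⊗_B D = A ⊗_{A'} C'`.
* `isPushout_fst`, `isPushout_snd` : `D = B ⊗_{B'} D'`, `C' = A' ⊗_{B'} D'`.
* `finiteType_of`, `flat_of`, `finitePresentation_of`, `flat_fp_of`, `smooth_of`, `etale_of`:
  the property holds for `B' → D'` if it holds for `B → D` and `A' → C'`.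
* `formallySmooth_fiber_of_isPushout` : smooth fibres via a base change through which the prime factors.
-/

set_option autoImplicit false
universe u
open TensorProduct

namespace Groth.Agent.Lib.helper3.MilnorAlg

section ctx
variable {B' B A' A : Type u} [CommRing B'] [CommRing B] [CommRing A'] [CommRing A]
    [Algebra B' B] [Algebra B' A'] [Algebra B A] [Algebra A' A] [Algebra B' A] [IsScalarTower B' B A] [IsScalarTower B' A' A]
    {D' D C' C : Type u} [CommRing D'] [CommRing D] [CommRing C'] [CommRing C]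
    [Algebra D' D] [Algebra D' C'] [Algebra D C] [Algebra C' C] [Algebra D' C] [IsScalarTower D' D C] [IsScalarTower D' C' C]
    [Algebra B' D'] [Algebra B D] [Algebra A' C'] [Algebra A C]
    [Algebra B' D] [IsScalarTower B' B D] [IsScalarTower B' D' D]
    [Algebra B' C'] [IsScalarTower B' A' C'] [IsScalarTower B' D' C']
    [Algebra B C] [IsScalarTower B A C] [IsScalarTower B D C]
    [Algebra A' C] [IsScalarTower A' A C] [IsScalarTower A' C' C]
    [Algebra.IsPushout B D A C] [Algebra.IsPushout A' C' A C]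

/-- the canonical glueing isomorphism `A ⊗_B D ≅ C ≅ A ⊗_{A'} C'`. -/
noncomputable def phiCan : A ⊗[B] D ≃ₗ[A] A ⊗[A'] C' :=
  haveI : Algebra.IsPushout B A D C := Algebra.IsPushout.symm inferInstance
  haveI : Algebra.IsPushout A' A C' C := Algebra.IsPushout.symm inferInstance
  (Algebra.IsPushout.equiv B A D C).toLinearEquiv ≪≫ₗ
    (Algebra.IsPushout.equiv A' A C' C).symm.toLinearEquiv

theorem phiCan_iff (d : D) (c' : C') :
    phiCan (B := B) (A' := A') (A := A) (C := C) ((1 : A) ⊗ₜ[B] d) = (1 : A) ⊗ₜ[A'] c' ↔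
      algebraMap D C d = algebraMap C' C c' := by
  haveI : Algebra.IsPushout B A D C := Algebra.IsPushout.symm inferInstance
  haveI : Algebra.IsPushout A' A C' C := Algebra.IsPushout.symm inferInstance
  have h1 : (Algebra.IsPushout.equiv B A D C).toLinearEquiv ((1 : A) ⊗ₜ[B] d) =
      algebraMap D C d := by
    rw [AlgEquiv.toLinearEquiv_apply, Algebra.IsPushout.equiv_tmul, map_one, one_mul]
  have h2 : (Algebra.IsPushout.equiv A' A C' C).toLinearEquiv ((1 : A) ⊗ₜ[A'] c') =
      algebraMap C' C c' := by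
    rw [AlgEquiv.toLinearEquiv_apply, Algebra.IsPushout.equiv_tmul, map_one, one_mul]
  unfold phiCan
  rw [LinearEquiv.trans_apply]
  show (Algebra.IsPushout.equiv A' A C' C).toLinearEquiv.symm _ = _ ↔ _
  rw [LinearEquiv.symm_apply_eq, h1, h2]

theorem comm' (d' : D') : algebraMap D C (algebraMap D' D d') = algebraMap C' C (algebraMap D' C' d') := by
  rw [← IsScalarTower.algebraMap_apply, ← IsScalarTower.algebraMap_apply]

variable (B' B A' A) in
/-- `D'` as the glued module of `(D, C', phiCan)`. -/
noncomputable def toGlue (hsq' : EtMil.IsFibreSquare D' D C' C) :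
    D' ≃ₗ[B'] ↥(EtMil.glue B' (phiCan (B := B) (A' := A') (A := A) (D := D) (C' := C') (C := C))) :=
  LinearEquiv.ofBijective
    { toFun := fun d' => ⟨(algebraMap D' D d', algebraMap D' C' d'),
        (phiCan_iff _ _).2 (comm' d')⟩
      map_add' := fun x y => by
        apply Subtype.ext
        simp only [map_add]
        rfl
      map_smul' := fun b x => by
        apply Subtype.ext
        apply Prod.ext
        · show algebraMap D' D (b • x) = b • algebraMap D' D x
          rw [Algebra.smul_def, map_mul, ← IsScalarTower.algebraMap_apply, Algebra.smul_def]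
        · show algebraMap D' C' (b • x) = b • algebraMap D' C' x
          rw [Algebra.smul_def, map_mul, ← IsScalarTower.algebraMap_apply, Algebra.smul_def] }
    (by
      constructor
      · intro x y hxy
        have h1 : algebraMap D' D x = algebraMap D' D y := congrArg (fun z => z.1.1) hxy
        have h2 : algebraMap D' C' x = algebraMap D' C' y := congrArg (fun z => z.1.2) hxy
        obtain ⟨z, -, hz⟩ := hsq'.2 (algebraMap D' D y) (algebraMap D' C' y) (comm' y)
        rw [hz x ⟨h1, h2⟩, hz y ⟨rfl, rfl⟩]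
      · rintro ⟨⟨d, c'⟩, hmem⟩
        obtain ⟨z, ⟨h1, h2⟩, -⟩ := hsq'.2 d c' ((phiCan_iff d c').1 hmem)
        refine ⟨z, ?_⟩
        apply Subtype.ext
        exact Prod.ext h1 h2)

theorem toGlue_fst (hsq' : EtMil.IsFibreSquare D' D C' C) (d' : D') :
    EtMil.glueFst B' _ (toGlue B' B A' A hsq' d') = algebraMap D' D d' := rfl

theorem toGlue_snd (hsq' : EtMil.IsFibreSquare D' D C' C) (d' : D') :
    EtMil.glueSnd B' _ (toGlue B' B A' A hsq' d') = algebraMap D' C' d' := rfl

theorem isPushout_fst (hsq : EtMil.IsFibreSquare B' B A' A) (hsq' : EtMil.IsFibreSquare D' D C' C) :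
    Algebra.IsPushout B' B D' D := by
  constructor
  refine IsBaseChange.of_equiv (((toGlue B' B A' A hsq').baseChange B' B _ _) ≪≫ₗ
    LinearEquiv.ofBijective _ (Milnor.liftFst_bijective (phiCan (B := B) (A' := A') (A := A) (D := D) (C' := C') (C := C)) hsq)) (fun d' => ?_)
  rw [LinearEquiv.trans_apply, LinearEquiv.baseChange_tmul]
  show LinearMap.liftBaseChange B (EtMil.glueFst B' _) ((1 : B) ⊗ₜ[B'] (toGlue B' B A' A hsq' d')) = _
  rw [LinearMap.liftBaseChange_tmul, one_smul, toGlue_fst]
  rfl

theorem isPushout_snd (hsq : EtMil.IsFibreSquare B' B A' A) (hsq' : EtMil.IsFibreSquare D' D C' C) :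
    Algebra.IsPushout B' A' D' C' := by
  constructor
  refine IsBaseChange.of_equiv (((toGlue B' B A' A hsq').baseChange B' A' _ _) ≪≫ₗ
    LinearEquiv.ofBijective _ (Milnor.liftSnd_bijective (phiCan (B := B) (A' := A') (A := A) (D := D) (C' := C') (C := C)) hsq)) (fun d' => ?_)
  rw [LinearEquiv.trans_apply, LinearEquiv.baseChange_tmul]
  show LinearMap.liftBaseChange A' (EtMil.glueSnd B' _) ((1 : A') ⊗ₜ[B'] (toGlue B' B A' A hsq' d')) = _
  rw [LinearMap.liftBaseChange_tmul, one_smul, toGlue_snd]
  rfl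

/-- every element of `C'` lies in the `A'`-algebra generated by the image of a finite subset of `D'`. -/
theorem exists_finset_mem_adjoin (hsq : EtMil.IsFibreSquare B' B A' A)
    (hsq' : EtMil.IsFibreSquare D' D C' C) (c' : C') :
    ∃ T : Finset D', c' ∈ Algebra.adjoin A' ((algebraMap D' C') '' (T : Set D')) := by
  classical
  have hD : Function.Surjective (algebraMap D' D) := Milnor.surjective_B hsq'
  -- first for elements of `C`
  have key : ∀ c : C, ∃ (T : Finset D') (x : C'),
      x ∈ Algebra.adjoin A' ((algebraMap D' C') '' (T : Set D')) ∧ algebraMap C' C x = c := by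
    intro c
    have h : Algebra.IsPushout B D A C := inferInstance
    induction c using h.out.inductionOn with
    | zero => exact ⟨∅, 0, zero_mem _, map_zero _⟩
    | tmul a =>
      obtain ⟨a', rfl⟩ := hsq.1 a
      refine ⟨∅, algebraMap A' C' a', Subalgebra.algebraMap_mem _ _, ?_⟩
      rw [← IsScalarTower.algebraMap_apply A' C' C, IsScalarTower.algebraMap_apply A' A C]
      rfl
    | smul d c ih =>
      obtain ⟨T, x, hx, rfl⟩ := ih
      obtain ⟨d', rfl⟩ := hD d
      refine ⟨insert d' T, algebraMap D' C' d' * x, ?_, ?_⟩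
      · refine mul_mem (Algebra.subset_adjoin ⟨d', by simp, rfl⟩) ?_
        refine Algebra.adjoin_mono ?_ hx
        apply Set.image_mono
        simp
      · rw [map_mul, ← IsScalarTower.algebraMap_apply D' C' C, IsScalarTower.algebraMap_apply D' D C,
          Algebra.smul_def]
    | add x y hx hy =>
      obtain ⟨T₁, x₁, h₁, rfl⟩ := hx
      obtain ⟨T₂, x₂, h₂, rfl⟩ := hy
      refine ⟨T₁ ∪ T₂, x₁ + x₂, add_mem ?_ ?_, map_add _ _ _⟩
      · exact Algebra.adjoin_mono (Set.image_mono (by simp)) h₁
      · exact Algebra.adjoin_mono (Set.image_mono (by simp)) h₂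
  obtain ⟨T, x, hx, hxc⟩ := key (algebraMap C' C c')
  have hk : algebraMap C' C (c' - x) = 0 := by rw [map_sub, hxc, sub_self]
  obtain ⟨d₀, -, hd₀⟩ := Milnor.exists_of_mem_ker hsq' (c' - x) hk
  refine ⟨insert d₀ T, ?_⟩
  have : c' = algebraMap D' C' d₀ + x := by rw [hd₀]; ring
  rw [this]
  refine add_mem (Algebra.subset_adjoin ⟨d₀, by simp, rfl⟩) ?_
  exact Algebra.adjoin_mono (Set.image_mono (by simp)) hx

theorem finiteType_of (hsq : EtMil.IsFibreSquare B' B A' A)
    (hsq' : EtMil.IsFibreSquare D' D C' C) (h1 : Algebra.FiniteType B D)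
    (h2 : Algebra.FiniteType A' C') : Algebra.FiniteType B' D' := by
  classical
  have hD : Function.Surjective (algebraMap D' D) := Milnor.surjective_B hsq'
  obtain ⟨s, hs⟩ := h1.out
  obtain ⟨y, hy⟩ := h2.out
  choose T hT using exists_finset_mem_adjoin (D' := D') (C' := C') hsq hsq'
  let S : Finset D' := s.image (Function.surjInv hD) ∪ y.biUnion T
  have hS1 : Algebra.adjoin B ((algebraMap D' D) '' (S : Set D')) = ⊤ := by
    rw [eq_top_iff, ← hs]
    apply Algebra.adjoin_mono
    intro d hd
    refine ⟨Function.surjInv hD d, ?_, Function.surjInv_eq hD d⟩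
    simp only [S, Finset.coe_union, Finset.coe_image, Set.mem_union, Set.mem_image]
    exact Or.inl ⟨d, hd, rfl⟩
  have hS2 : Algebra.adjoin A' ((algebraMap D' C') '' (S : Set D')) = ⊤ := by
    rw [eq_top_iff, ← hy]
    apply Algebra.adjoin_le
    intro c' hc'
    refine Algebra.adjoin_mono (Set.image_mono ?_) (hT c')
    intro t ht
    simp only [S, Finset.coe_union, Finset.coe_biUnion, Set.mem_union, Set.mem_iUnion]
    exact Or.inr ⟨c', hc', ht⟩
  refine ⟨⟨S, ?_⟩⟩
  set E' : Subalgebra B' D' := Algebra.adjoin B' (S : Set D') with hE'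
  -- (i)
  have hi : ∀ d : D, ∃ e ∈ E', algebraMap D' D e = d := by
    intro d
    have hd : d ∈ Algebra.adjoin B ((algebraMap D' D) '' (S : Set D')) := by rw [hS1]; trivial
    induction hd using Algebra.adjoin_induction with
    | mem x hx =>
      obtain ⟨σ, hσ, rfl⟩ := hx
      exact ⟨σ, Algebra.subset_adjoin hσ, rfl⟩
    | algebraMap b =>
      obtain ⟨b', rfl⟩ := Milnor.surjective_B hsq b
      refine ⟨algebraMap B' D' b', Subalgebra.algebraMap_mem _ _, ?_⟩
      rw [← IsScalarTower.algebraMap_apply, IsScalarTower.algebraMap_apply B' B D]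
    | add x y _ _ hx hy =>
      obtain ⟨e₁, h₁, rfl⟩ := hx
      obtain ⟨e₂, h₂, rfl⟩ := hy
      exact ⟨e₁ + e₂, add_mem h₁ h₂, map_add _ _ _⟩
    | mul x y _ _ hx hy =>
      obtain ⟨e₁, h₁, rfl⟩ := hx
      obtain ⟨e₂, h₂, rfl⟩ := hy
      exact ⟨e₁ * e₂, mul_mem h₁ h₂, map_mul _ _ _⟩
  -- span
  have hspan : Submodule.span A' ((algebraMap D' C') '' (E' : Set D')) = ⊤ := by
    let M₀ : Submonoid C' := (E'.toSubsemiring.toSubmonoid).map (algebraMap D' C' : D' →* C')
    have hM₀ : (M₀ : Set C') = (algebraMap D' C') '' (E' : Set D') := rfl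
    have h3 : Subalgebra.toSubmodule (Algebra.adjoin A' (M₀ : Set C')) = Submodule.span A' (M₀ : Set C') := by
      rw [Algebra.adjoin_eq_span, Submonoid.closure_eq]
    rw [← hM₀, ← h3, eq_top_iff]
    intro c' _
    have hc' : c' ∈ Algebra.adjoin A' ((algebraMap D' C') '' (S : Set D')) := by rw [hS2]; trivial
    have hmono : Algebra.adjoin A' ((algebraMap D' C') '' (S : Set D')) ≤ Algebra.adjoin A' (M₀ : Set C') := by
      apply Algebra.adjoin_mono
      rw [hM₀]
      exact Set.image_mono Algebra.subset_adjoin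
    exact hmono hc'
  -- (ii)
  have hii : ∀ c' : C', ∀ i : A', algebraMap A' A i = 0 →
      ∃ e ∈ E', algebraMap D' D e = 0 ∧ algebraMap D' C' e = algebraMap A' C' i * c' := by
    intro c'
    have hc' : c' ∈ Submodule.span A' ((algebraMap D' C') '' (E' : Set D')) := by rw [hspan]; trivial
    induction hc' using Submodule.span_induction with
    | mem x hx =>
      obtain ⟨ε, hε, rfl⟩ := hx
      intro i hi0
      obtain ⟨j, hj0, hji⟩ := Milnor.exists_of_mem_ker hsq i hi0
      refine ⟨algebraMap B' D' j * ε, mul_mem (Subalgebra.algebraMap_mem _ _) hε, ?_, ?_⟩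
      · rw [map_mul, ← IsScalarTower.algebraMap_apply, IsScalarTower.algebraMap_apply B' B D, hj0,
          map_zero, zero_mul]
      · rw [map_mul, ← IsScalarTower.algebraMap_apply, IsScalarTower.algebraMap_apply B' A' C', hji]
    | zero =>
      intro i _
      exact ⟨0, zero_mem _, map_zero _, by rw [map_zero, mul_zero]⟩
    | add x y _ _ hx hy =>
      intro i hi0
      obtain ⟨e₁, h₁, h₁0, h₁1⟩ := hx i hi0
      obtain ⟨e₂, h₂, h₂0, h₂1⟩ := hy i hi0
      exact ⟨e₁ + e₂, add_mem h₁ h₂, by rw [map_add, h₁0, h₂0, add_zero], by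
        rw [map_add, h₁1, h₂1, mul_add]⟩
    | smul a x _ hx =>
      intro i hi0
      obtain ⟨e, he, he0, he1⟩ := hx (i * a) (by rw [map_mul, hi0, zero_mul])
      refine ⟨e, he, he0, ?_⟩
      rw [he1, map_mul, Algebra.smul_def, mul_assoc]
  -- (iii)
  rw [eq_top_iff]
  intro d' _
  obtain ⟨e, he, hed⟩ := hi (algebraMap D' D d')
  have hδ0 : algebraMap D' D (d' - e) = 0 := by rw [map_sub, hed, sub_self]
  have hk : algebraMap C' C (algebraMap D' C' (d' - e)) = 0 := by
    rw [← comm' (D := D) (C' := C'), hδ0, map_zero]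
  haveI : Algebra.IsPushout A' A C' C := Algebra.IsPushout.symm inferInstance
  have hten : (1 : A) ⊗ₜ[A'] (algebraMap D' C' (d' - e)) = 0 := by
    apply (Algebra.IsPushout.equiv A' A C' C).injective
    rw [Algebra.IsPushout.equiv_tmul, map_one, one_mul, hk, map_zero]
  have hmem := Milnor.mem_smul_top_of_one_tmul_eq_zero hsq.1 C' _ hten
  have hex : ∀ k ∈ (RingHom.ker (algebraMap A' A)) • (⊤ : Submodule A' C'),
      ∃ e'' ∈ E', algebraMap D' D e'' = 0 ∧ algebraMap D' C' e'' = k := by
    intro k hmem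
    induction hmem using Submodule.smul_induction_on' with
    | smul i hi c' _ =>
      obtain ⟨e'', h'', h0, h1⟩ := hii c' i ((RingHom.mem_ker).1 hi)
      exact ⟨e'', h'', h0, by rw [h1, Algebra.smul_def]⟩
    | add x _ y _ hx hy =>
      obtain ⟨e₁, h₁, h₁0, h₁1⟩ := hx
      obtain ⟨e₂, h₂, h₂0, h₂1⟩ := hy
      exact ⟨e₁ + e₂, add_mem h₁ h₂, by rw [map_add, h₁0, h₂0, add_zero], by
        rw [map_add, h₁1, h₂1]⟩
  obtain ⟨e'', h'', h0, h1⟩ := hex _ hmem
  have : d' - e - e'' = 0 := by
    apply Milnor.eq_zero_of_map_eq_zero hsq'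
    · rw [map_sub, hδ0, h0, sub_self]
    · rw [map_sub, h1, sub_self]
  have hd' : d' = e + e'' := by
    have h : d' = (d' - e - e'') + (e + e'') := by ring
    rw [this, zero_add] at h
    exact h
  rw [hd']
  exact add_mem he h''

theorem flat_of (hsq : EtMil.IsFibreSquare B' B A' A)
    (hsq' : EtMil.IsFibreSquare D' D C' C) (h1 : Module.Flat B D)
    (h2 : Module.Flat A' C') : Module.Flat B' D' := by
  haveI := isPushout_fst (B' := B') (B := B) (A' := A') (A := A) (D' := D') (D := D) (C' := C') (C := C) hsq hsq'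
  haveI := isPushout_snd (B' := B') (B := B) (A' := A') (A := A) (D' := D') (D := D) (C' := C') (C := C) hsq hsq'
  refine MilnorFlat.flat_of_hyp D' hsq ⟨?_, ?_⟩
  · exact Module.Flat.of_linearEquiv (Algebra.IsPushout.equiv B' B D' D).toLinearEquiv
  · exact Module.Flat.of_linearEquiv (Algebra.IsPushout.equiv B' A' D' C').toLinearEquiv

end ctx

section fpmod

/-- a finitely presented algebra which is a quotient of a finitely presented algebra is a finitely
presented module over it. -/
theorem finitePresentation_module_of_surjective {S Q T : Type u} [CommRing S] [CommRing Q]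
    [CommRing T] [Algebra S Q] [Algebra S T] [Algebra.FinitePresentation S Q]
    [Algebra.FinitePresentation S T] (g : Q →ₐ[S] T) (hg : Function.Surjective g) :
    letI : Algebra Q T := g.toRingHom.toAlgebra
    Module.FinitePresentation Q T := by
  letI : Algebra Q T := g.toRingHom.toAlgebra
  have hker := Algebra.FinitePresentation.ker_fG_of_surjective g hg
  refine Module.finitePresentation_of_surjective (Algebra.linearMap Q T) hg ?_
  have : LinearMap.ker (Algebra.linearMap Q T) = RingHom.ker g.toRingHom := by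
    ext x
    simp only [LinearMap.mem_ker, Algebra.linearMap_apply, RingHom.mem_ker]
    rfl
  rw [this]
  exact hker

end fpmod

section fp
variable {B' B A' A : Type u} [CommRing B'] [CommRing B] [CommRing A'] [CommRing A]
    [Algebra B' B] [Algebra B' A'] [Algebra B A] [Algebra A' A] [Algebra B' A] [IsScalarTower B' B A] [IsScalarTower B' A' A]
    {D' D C' C : Type u} [CommRing D'] [CommRing D] [CommRing C'] [CommRing C]
    [Algebra D' D] [Algebra D' C'] [Algebra D C] [Algebra C' C] [Algebra D' C] [IsScalarTower D' D C] [IsScalarTower D' C' C]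
    [Algebra B' D'] [Algebra B D] [Algebra A' C'] [Algebra A C]
    [Algebra B' D] [IsScalarTower B' B D] [IsScalarTower B' D' D]
    [Algebra B' C'] [IsScalarTower B' A' C'] [IsScalarTower B' D' C']
    [Algebra B C] [IsScalarTower B A C] [IsScalarTower B D C]
    [Algebra A' C] [IsScalarTower A' A C] [IsScalarTower A' C' C]
    [Algebra.IsPushout B D A C] [Algebra.IsPushout A' C' A C]

attribute [local instance] Algebra.TensorProduct.rightAlgebra

/-- one side of the finite presentation argument: the data needed for Lemma S. -/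
theorem exists_fg_side {B' E D' DE : Type u} [CommRing B'] [CommRing E] [CommRing D'] [CommRing DE]
    [Algebra B' E] [Algebra B' D'] [Algebra E DE] [Algebra D' DE] [Algebra B' DE]
    [IsScalarTower B' E DE] [IsScalarTower B' D' DE] [Algebra.IsPushout B' E D' DE]
    [Module.Flat B' D'] [Algebra.FinitePresentation E DE]
    {m : ℕ} (f : MvPolynomial (Fin m) B' →ₐ[B'] D') (hf : Function.Surjective f) :
    letI : Algebra (MvPolynomial (Fin m) B') D' := f.toRingHom.toAlgebra
    haveI : IsScalarTower B' (MvPolynomial (Fin m) B') D' :=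
      IsScalarTower.of_algebraMap_eq (fun x => (f.commutes x).symm)
    ∀ {n : ℕ} (π : (Fin n → MvPolynomial (Fin m) B') →ₗ[MvPolynomial (Fin m) B'] D')
      (_ : Function.Surjective π),
      ∃ X : Submodule (MvPolynomial (Fin m) B') (LinearMap.ker π), X.FG ∧
        Function.Surjective ((X.restrictScalars B').subtype.lTensor E) := by
  intro n π hπ
  classical
  let P := MvPolynomial (Fin m) B'
  letI aPD' : Algebra P D' := f.toRingHom.toAlgebra
  haveI tBPD' : IsScalarTower B' P D' :=
    IsScalarTower.of_algebraMap_eq (fun x => (f.commutes x).symm)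
  let u : P →ₐ[B'] DE := (IsScalarTower.toAlgHom B' D' DE).comp f
  let g : E ⊗[B'] P →ₐ[E] DE :=
    Algebra.TensorProduct.lift (Algebra.ofId E DE) u (fun _ _ => Commute.all _ _)
  have hg1 : ∀ (e : E) (x : P), g (e ⊗ₜ[B'] x) = algebraMap E DE e * algebraMap D' DE (f x) := by
    intro e x
    simp only [g, Algebra.TensorProduct.lift_tmul, u]
    rfl
  have hg : Function.Surjective g := by
    intro c
    have h : Algebra.IsPushout B' E D' DE := inferInstance
    induction c using h.out.inductionOn with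
    | zero => exact ⟨0, map_zero _⟩
    | tmul d =>
      obtain ⟨x, rfl⟩ := hf d
      refine ⟨(1 : E) ⊗ₜ[B'] x, ?_⟩
      rw [hg1, map_one, one_mul]
      rfl
    | smul e c ih =>
      obtain ⟨t, rfl⟩ := ih
      exact ⟨e • t, by rw [map_smul]⟩
    | add x y hx hy =>
      obtain ⟨x', rfl⟩ := hx
      obtain ⟨y', rfl⟩ := hy
      exact ⟨x' + y', map_add _ _ _⟩
  letI aDE : Algebra (E ⊗[B'] P) DE := g.toRingHom.toAlgebra
  haveI fpDE : Module.FinitePresentation (E ⊗[B'] P) DE :=
    finitePresentation_module_of_surjective g hg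
  letI aPDE : Algebra P DE := ((algebraMap D' DE).comp (algebraMap P D')).toAlgebra
  haveI t1 : IsScalarTower P (E ⊗[B'] P) DE := IsScalarTower.of_algebraMap_eq (fun x => by
    show algebraMap D' DE (f x) = g ((1 : E) ⊗ₜ[B'] x)
    rw [hg1, map_one, one_mul])
  haveI t2 : IsScalarTower E (E ⊗[B'] P) DE := IsScalarTower.of_algebraMap_eq (fun e => by
    show algebraMap E DE e = g (e ⊗ₜ[B'] (1 : P))
    rw [hg1, map_one, map_one, mul_one])
  haveI t3 : IsScalarTower P D' DE := IsScalarTower.of_algebraMap_eq (fun x => rfl)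
  haveI t4 : IsScalarTower B' P DE := IsScalarTower.of_algebraMap_eq (fun b => by
    show algebraMap B' DE b = algebraMap D' DE (f (algebraMap B' P b))
    rw [f.commutes, ← IsScalarTower.algebraMap_apply])
  let γ : D' →ₗ[P] DE := (IsScalarTower.toAlgHom P D' DE).toLinearMap
  have hγ : IsBaseChange E (γ.restrictScalars B') := by
    have h : Algebra.IsPushout B' E D' DE := inferInstance
    exact h.out
  exact MilnorRel.exists_fg_lTensor_surjective (B' := B') (E := E) (D' := P) (E ⊗[B'] P) γ hγ π hπ

theorem finitePresentation_of (hsq : EtMil.IsFibreSquare B' B A' A)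
    (hsq' : EtMil.IsFibreSquare D' D C' C) (hfl : Module.Flat B' D')
    (hft : Algebra.FiniteType B' D')
    (h1 : Algebra.FinitePresentation B D) (h2 : Algebra.FinitePresentation A' C') :
    Algebra.FinitePresentation B' D' := by
  classical
  haveI hp1 := isPushout_fst (B' := B') (B := B) (A' := A') (A := A) (D' := D') (D := D) (C' := C') (C := C) hsq hsq'
  haveI hp2 := isPushout_snd (B' := B') (B := B) (A' := A') (A := A) (D' := D') (D := D) (C' := C') (C := C) hsq hsq'
  obtain ⟨m, f, hf⟩ := Algebra.FiniteType.iff_quotient_mvPolynomial''.1 hft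
  let P := MvPolynomial (Fin m) B'
  letI aPD' : Algebra P D' := f.toRingHom.toAlgebra
  haveI tBPD' : IsScalarTower B' P D' :=
    IsScalarTower.of_algebraMap_eq (fun x => (f.commutes x).symm)
  -- a presentation of the cyclic module
  let π : (Fin 1 → P) →ₗ[P] D' := (Algebra.linearMap P D') ∘ₗ (LinearMap.proj 0)
  have hπ : Function.Surjective π := by
    intro d
    obtain ⟨x, rfl⟩ := hf d
    exact ⟨fun _ => x, rfl⟩
  obtain ⟨X₁, hX₁, hs₁⟩ := exists_fg_side (E := B) (DE := D) f hf π hπ
  obtain ⟨X₂, hX₂, hs₂⟩ := exists_fg_side (E := A') (DE := C') f hf π hπ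
  have htop := MilnorRel.sup_eq_top_of_surjective hsq (X₁.restrictScalars B')
    (X₂.restrictScalars B') hs₁ hs₂
  have htop' : X₁ ⊔ X₂ = ⊤ := by
    rw [eq_top_iff]
    intro k _
    have hk : k ∈ X₁.restrictScalars B' ⊔ X₂.restrictScalars B' := by rw [htop]; trivial
    obtain ⟨y, hy, z, hz, rfl⟩ := Submodule.mem_sup.1 hk
    exact Submodule.mem_sup.2 ⟨y, hy, z, hz, rfl⟩
  have hfin : Module.Finite P (LinearMap.ker π) := ⟨by rw [← htop']; exact hX₁.sup hX₂⟩
  have hfg : (LinearMap.ker π).FG := (Module.Finite.iff_fg).1 hfin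
  -- transport to the kernel of `f`
  have hker : (RingHom.ker f.toRingHom).FG := by
    have hmap : Submodule.map (LinearMap.proj (R := P) (φ := fun _ : Fin 1 => P) 0) (LinearMap.ker π) =
        RingHom.ker f.toRingHom := by
      ext x
      constructor
      · rintro ⟨v, hv, rfl⟩
        exact hv
      · intro hx
        exact ⟨fun _ => x, hx, rfl⟩
    rw [← hmap]
    exact hfg.map _
  exact ⟨⟨m, f, hf, hker⟩⟩

end fp
/-- smoothness of a fibre can be checked after a base change through which the prime factors. -/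
theorem formallySmooth_fiber_of_isPushout {R R₁ S S₁ : Type u} [CommRing R] [CommRing R₁]
    [CommRing S] [CommRing S₁] [Algebra R R₁] [Algebra R S] [Algebra R₁ S₁] [Algebra S S₁]
    [Algebra R S₁] [IsScalarTower R R₁ S₁] [IsScalarTower R S S₁] [Algebra.IsPushout R R₁ S S₁]
    [Algebra.Smooth R₁ S₁] (p : Ideal R) [p.IsPrime] (p₁ : Ideal R₁) [p₁.IsPrime]
    (hp : p = p₁.comap (algebraMap R R₁)) :
    Algebra.FormallySmooth p.ResidueField (p.Fiber S) := by
  letI akL : Algebra p.ResidueField p₁.ResidueField :=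
    (Ideal.ResidueField.map p p₁ (algebraMap R R₁) hp).toAlgebra
  haveI t2 : IsScalarTower R p.ResidueField p₁.ResidueField :=
    IsScalarTower.of_algebraMap_eq (fun x => by
      show _ = Ideal.ResidueField.map p p₁ (algebraMap R R₁) hp (algebraMap R p.ResidueField x)
      rw [Ideal.ResidueField.map_algebraMap, ← IsScalarTower.algebraMap_apply])
  -- smoothness after extending to `L`
  have s1 : Algebra.Smooth p₁.ResidueField (p₁.ResidueField ⊗[R₁] S₁) := inferInstance
  let e3 : p₁.ResidueField ⊗[R₁] (R₁ ⊗[R] S) ≃ₐ[p₁.ResidueField] p₁.ResidueField ⊗[R₁] S₁ :=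
    Algebra.TensorProduct.congr AlgEquiv.refl (Algebra.IsPushout.equiv R R₁ S S₁)
  have s2 : Algebra.Smooth p₁.ResidueField (p₁.ResidueField ⊗[R₁] (R₁ ⊗[R] S)) :=
    Algebra.Smooth.of_equiv e3.symm
  let e2 : p₁.ResidueField ⊗[R₁] (R₁ ⊗[R] S) ≃ₐ[p₁.ResidueField] p₁.ResidueField ⊗[R] S :=
    Algebra.TensorProduct.cancelBaseChange R R₁ p₁.ResidueField p₁.ResidueField S
  have s3 : Algebra.Smooth p₁.ResidueField (p₁.ResidueField ⊗[R] S) := Algebra.Smooth.of_equiv e2
  let e1 : p₁.ResidueField ⊗[p.ResidueField] (p.ResidueField ⊗[R] S) ≃ₐ[p₁.ResidueField]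
      p₁.ResidueField ⊗[R] S :=
    Algebra.TensorProduct.cancelBaseChange R p.ResidueField p₁.ResidueField p₁.ResidueField S
  haveI s4 : Algebra.Smooth p₁.ResidueField
      (p₁.ResidueField ⊗[p.ResidueField] (p.ResidueField ⊗[R] S)) := Algebra.Smooth.of_equiv e1.symm
  have s5 : Algebra.Smooth p.ResidueField (p.ResidueField ⊗[R] S) :=
    Algebra.Smooth.of_smooth_tensorProduct_of_faithfullyFlat p₁.ResidueField
  exact s5.formallySmooth


section final
variable {B' B A' A : Type u} [CommRing B'] [CommRing B] [CommRing A'] [CommRing A]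
    [Algebra B' B] [Algebra B' A'] [Algebra B A] [Algebra A' A] [Algebra B' A] [IsScalarTower B' B A] [IsScalarTower B' A' A]
    {D' D C' C : Type u} [CommRing D'] [CommRing D] [CommRing C'] [CommRing C]
    [Algebra D' D] [Algebra D' C'] [Algebra D C] [Algebra C' C] [Algebra D' C] [IsScalarTower D' D C] [IsScalarTower D' C' C]
    [Algebra B' D'] [Algebra B D] [Algebra A' C'] [Algebra A C]
    [Algebra B' D] [IsScalarTower B' B D] [IsScalarTower B' D' D]
    [Algebra B' C'] [IsScalarTower B' A' C'] [IsScalarTower B' D' C']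
    [Algebra B C] [IsScalarTower B A C] [IsScalarTower B D C]
    [Algebra A' C] [IsScalarTower A' A C] [IsScalarTower A' C' C]
    [Algebra.IsPushout B D A C] [Algebra.IsPushout A' C' A C]

theorem flat_fp_of (hsq : EtMil.IsFibreSquare B' B A' A)
    (hsq' : EtMil.IsFibreSquare D' D C' C) (h1 : Module.Flat B D)
    (h1' : Algebra.FinitePresentation B D) (h2 : Module.Flat A' C')
    (h2' : Algebra.FinitePresentation A' C') :
    Module.Flat B' D' ∧ Algebra.FinitePresentation B' D' := by
  have hfl : Module.Flat B' D' := flat_of hsq hsq' h1 h2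
  have hft : Algebra.FiniteType B' D' := finiteType_of hsq hsq' inferInstance inferInstance
  exact ⟨hfl, finitePresentation_of hsq hsq' hfl hft h1' h2'⟩

theorem smooth_of (hsq : EtMil.IsFibreSquare B' B A' A)
    (hsq' : EtMil.IsFibreSquare D' D C' C) (h1 : Algebra.Smooth B D)
    (h2 : Algebra.Smooth A' C') : Algebra.Smooth B' D' := by
  haveI hp1 := isPushout_fst (B' := B') (B := B) (A' := A') (A := A) (D' := D') (D := D) (C' := C') (C := C) hsq hsq'
  haveI hp2 := isPushout_snd (B' := B') (B := B) (A' := A') (A := A) (D' := D') (D := D) (C' := C') (C := C) hsq hsq'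
  obtain ⟨hfl, hfp⟩ := flat_fp_of hsq hsq' (inferInstance : Module.Flat B D) inferInstance
    (inferInstance : Module.Flat A' C') inferInstance
  refine Algebra.Smooth.of_formallySmooth_fiber (fun p _ => ?_)
  rcases Groth.Agent.S6917.range_or hsq ⟨p, ‹_›⟩ with ⟨y, hy⟩ | ⟨z, hz⟩
  · exact formallySmooth_fiber_of_isPushout (R₁ := B) (S₁ := D) p y.asIdeal
      (congrArg PrimeSpectrum.asIdeal hy.symm)
  · exact formallySmooth_fiber_of_isPushout (R₁ := A') (S₁ := C') p z.asIdeal
      (congrArg PrimeSpectrum.asIdeal hz.symm)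

theorem etale_of (hsq : EtMil.IsFibreSquare B' B A' A)
    (hsq' : EtMil.IsFibreSquare D' D C' C) (h1 : Algebra.Etale B D)
    (h2 : Algebra.Etale A' C') : Algebra.Etale B' D' := by
  haveI hp1 := isPushout_fst (B' := B') (B := B) (A' := A') (A := A) (D' := D') (D := D) (C' := C') (C := C) hsq hsq'
  haveI hp2 := isPushout_snd (B' := B') (B := B) (A' := A') (A := A) (D' := D') (D := D) (C' := C') (C := C) hsq hsq'
  haveI s1 : Algebra.Smooth B D := inferInstance
  haveI s2 : Algebra.Smooth A' C' := inferInstance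
  obtain ⟨hfl, hfp⟩ := flat_fp_of hsq hsq' (inferInstance : Module.Flat B D) inferInstance
    (inferInstance : Module.Flat A' C') inferInstance
  haveI : Algebra.FormallyUnramified B' D' := by
    constructor
    haveI u1 : Subsingleton (D ⊗[D'] Ω[D'⁄B']) :=
      (KaehlerDifferential.tensorKaehlerEquiv B' B D' D).subsingleton
    haveI u2 : Subsingleton (C' ⊗[D'] Ω[D'⁄B']) :=
      (KaehlerDifferential.tensorKaehlerEquiv B' A' D' C').subsingleton
    exact Groth.Agent.S14949.result D' D C' C hsq' (Ω[D'⁄B'])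
  exact Algebra.Etale.of_formallyUnramified_of_flat

end final

end Groth.Agent.Lib.helper3.MilnorAlg
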