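import Mathlib
import Groth.Prelude.Def_EtGlue
import Groth.Agent.Lib.helper3.BL
import Groth.Agent.Lib.helper3.MilnorAlg
import Groth.Agent.S2002
import Groth.Agent.S2004
import Groth.Agent.S10722

/-!
# Beauville–Laszlo glueing for algebras (helper3)

For a glueing pair `(R → R', f)` and a glueable `R`-algebra `A`, the pair `(A → R' ⊗ A, f)` is again a
glueing pair; flatness, finite presentation and étaleness of `A → B` can be checked on the two charts.
-/

set_option autoImplicit false
set_option linter.style.haveILetI false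
universe u
open TensorProduct

namespace Groth.Agent.Lib.helper3.BLAlg


section Abstract
variable {A A' : Type u} [CommRing A] [CommRing A'] [Algebra A A'] (fA : A)

/-- BL analogue of the Milnor-square vanishing lemma: a module dying on both charts vanishes. -/
theorem subsingleton_of_tensor (hq : EtGlue.QuotPowBijective A A' fA)
    (Q : Type u) [AddCommGroup Q] [Module A Q] [Subsingleton (A' ⊗[A] Q)]
    [Subsingleton (Localization.Away fA ⊗[A] Q)] : Subsingleton Q := by
  have htors : ∀ q : Q, ∃ n : ℕ, fA ^ n • q = 0 := by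
    intro q
    have h0 : TensorProduct.mk A (Localization.Away fA) Q 1 q = 0 := Subsingleton.elim _ _
    rw [IsLocalizedModule.eq_zero_iff (Submonoid.powers fA)] at h0
    obtain ⟨⟨c, n, rfl⟩, hc⟩ := h0
    exact ⟨n, hc⟩
  refine ⟨fun a b => ?_⟩
  have hz : ∀ q : Q, q = 0 := fun q =>
    BL.eq_zero_of_tmul_eq_zero fA hq Q htors q (Subsingleton.elim _ _)
  rw [hz a, hz b]

theorem sup_eq_top_of_surjective (hq : EtGlue.QuotPowBijective A A' fA)
    {K : Type u} [AddCommGroup K] [Module A K] (X₁ X₂ : Submodule A K)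
    (h1 : Function.Surjective (X₁.subtype.lTensor A'))
    (h2 : Function.Surjective (X₂.subtype.lTensor (Localization.Away fA))) : X₁ ⊔ X₂ = ⊤ := by
  have key : ∀ (E : Type u) [CommRing E] [Algebra A E] (X : Submodule A K),
      X ≤ X₁ ⊔ X₂ → Function.Surjective (X.subtype.lTensor E) →
      Subsingleton (E ⊗[A] (K ⧸ (X₁ ⊔ X₂))) := by
    intro E _ _ X hX hs
    refine ⟨fun a b => ?_⟩
    have hz : ∀ t : E ⊗[A] (K ⧸ (X₁ ⊔ X₂)), t = 0 := by
      intro t
      obtain ⟨t', rfl⟩ := LinearMap.lTensor_surjective E (Submodule.mkQ_surjective (X₁ ⊔ X₂)) t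
      obtain ⟨s, rfl⟩ := hs t'
      rw [← LinearMap.comp_apply, ← LinearMap.lTensor_comp]
      have : (X₁ ⊔ X₂).mkQ ∘ₗ X.subtype = 0 := by
        ext x
        simp only [LinearMap.comp_apply, Submodule.subtype_apply, Submodule.mkQ_apply,
          LinearMap.zero_apply, Submodule.Quotient.mk_eq_zero]
        exact hX x.2
      rw [this, LinearMap.lTensor_zero, LinearMap.zero_apply]
    rw [hz a, hz b]
  haveI := key A' X₁ le_sup_left h1
  haveI := key (Localization.Away fA) X₂ le_sup_right h2
  have := subsingleton_of_tensor fA hq (K ⧸ (X₁ ⊔ X₂))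
  exact (Submodule.Quotient.subsingleton_iff).1 this

variable (B B'' Bf : Type u) [CommRing B] [Algebra A B] [CommRing B''] [Algebra A B'']
  [Algebra A' B''] [Algebra B B''] [IsScalarTower A A' B''] [IsScalarTower A B B'']
  [CommRing Bf] [Algebra A Bf] [Algebra (Localization.Away fA) Bf] [Algebra B Bf]
  [IsScalarTower A (Localization.Away fA) Bf] [IsScalarTower A B Bf]

theorem flat_iff_abs (hAA' : EtGlue.IsGlueingPair A A' fA)
    [hp1 : Algebra.IsPushout A A' B B''] [hp2 : Algebra.IsPushout A (Localization.Away fA) B Bf] :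
    Module.Flat A B ↔ Module.Flat A' B'' ∧ Module.Flat (Localization.Away fA) Bf := by
  constructor
  · intro h
    exact ⟨Module.Flat.isBaseChange A A' B B'' hp1.out, Module.Flat.isBaseChange A _ B Bf hp2.out⟩
  · rintro ⟨h1, h2⟩
    rw [Groth.Agent.S2002.result A A' fA hAA' B]
    constructor
    · exact Module.Flat.of_linearEquiv (Algebra.IsPushout.equiv A A' B B'').toLinearEquiv
    · have e1 : LocalizedModule (Submonoid.powers fA) B ≃ₗ[Localization.Away fA]
          Localization.Away fA ⊗[A] B := LocalizedModule.equivTensorProduct (Submonoid.powers fA) B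
      have e2 : Localization.Away fA ⊗[A] B ≃ₗ[Localization.Away fA] Bf :=
        (Algebra.IsPushout.equiv A (Localization.Away fA) B Bf).toLinearEquiv
      exact Module.Flat.of_linearEquiv (e1 ≪≫ₗ e2)

theorem finitePresentation_of_abs (hAA' : EtGlue.IsGlueingPair A A' fA)
    [hp1 : Algebra.IsPushout A A' B B''] [hp2 : Algebra.IsPushout A (Localization.Away fA) B Bf]
    (hfl : Module.Flat A B) (hft : Algebra.FiniteType A B)
    (h1 : Algebra.FinitePresentation A' B'')
    (h2 : Algebra.FinitePresentation (Localization.Away fA) Bf) :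
    Algebra.FinitePresentation A B := by
  classical
  obtain ⟨m, g, hg⟩ := Algebra.FiniteType.iff_quotient_mvPolynomial''.1 hft
  let P := MvPolynomial (Fin m) A
  letI aPB : Algebra P B := g.toRingHom.toAlgebra
  haveI tAPB : IsScalarTower A P B :=
    IsScalarTower.of_algebraMap_eq (fun x => (g.commutes x).symm)
  let π : (Fin 1 → P) →ₗ[P] B := (Algebra.linearMap P B) ∘ₗ (LinearMap.proj 0)
  have hπ : Function.Surjective π := by
    intro d
    obtain ⟨x, rfl⟩ := hg d
    exact ⟨fun _ => x, rfl⟩
  obtain ⟨X₁, hX₁, hs₁⟩ := MilnorAlg.exists_fg_side (E := A') (DE := B'') g hg π hπ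
  obtain ⟨X₂, hX₂, hs₂⟩ := MilnorAlg.exists_fg_side (E := Localization.Away fA) (DE := Bf) g hg π hπ
  have htop := sup_eq_top_of_surjective fA hAA'.1 (X₁.restrictScalars A)
    (X₂.restrictScalars A) hs₁ hs₂
  have htop' : X₁ ⊔ X₂ = ⊤ := by
    rw [eq_top_iff]
    intro k _
    have hk : k ∈ X₁.restrictScalars A ⊔ X₂.restrictScalars A := by rw [htop]; trivial
    obtain ⟨y, hy, z, hz, rfl⟩ := Submodule.mem_sup.1 hk
    exact Submodule.mem_sup.2 ⟨y, hy, z, hz, rfl⟩
  have hfin : Module.Finite P (LinearMap.ker π) := ⟨by rw [← htop']; exact hX₁.sup hX₂⟩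
  have hfg : (LinearMap.ker π).FG := (Module.Finite.iff_fg).1 hfin
  have hker : (RingHom.ker g.toRingHom).FG := by
    have hmap : Submodule.map (LinearMap.proj (R := P) (φ := fun _ : Fin 1 => P) 0) (LinearMap.ker π) =
        RingHom.ker g.toRingHom := by
      ext x
      constructor
      · rintro ⟨v, hv, rfl⟩
        exact hv
      · intro hx
        exact ⟨fun _ => x, hx, rfl⟩
    rw [← hmap]
    exact hfg.map _
  exact ⟨⟨m, g, hg, hker⟩⟩

theorem formallyUnramified_of_abs (hAA' : EtGlue.IsGlueingPair A A' fA)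
    [hp1 : Algebra.IsPushout A A' B B''] [hp2 : Algebra.IsPushout A (Localization.Away fA) B Bf]
    (h1 : Algebra.FormallyUnramified A' B'')
    (h2 : Algebra.FormallyUnramified (Localization.Away fA) Bf) :
    Algebra.FormallyUnramified A B := by
  constructor
  haveI u1 : Subsingleton (A' ⊗[A] Ω[B⁄A]) :=
    (KaehlerDifferential.tensorKaehlerEquivBase A A' B B'').subsingleton
  haveI u2 : Subsingleton (Localization.Away fA ⊗[A] Ω[B⁄A]) :=
    (KaehlerDifferential.tensorKaehlerEquivBase A (Localization.Away fA) B Bf).subsingleton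
  exact subsingleton_of_tensor fA hAA'.1 (Ω[B⁄A])

end Abstract


section Concrete


attribute [local instance] Algebra.TensorProduct.rightAlgebra

variable (R : Type u) [CommRing R] (R' : Type u) [CommRing R'] [Algebra R R'] (f : R)
variable (A : Type u) [CommRing A] [Algebra R A]

theorem smul_eq_mul' (n : ℕ) (x : R' ⊗[R] A) :
    f ^ n • x = algebraMap A (R' ⊗[R] A) (algebraMap R A f) ^ n * x := by
  rw [← map_pow, ← map_pow, Algebra.TensorProduct.right_algebraMap_apply]
  induction x using TensorProduct.induction_on with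
  | zero => rw [smul_zero, mul_zero]
  | tmul r a =>
    rw [Algebra.TensorProduct.tmul_mul_tmul, one_mul, ← Algebra.smul_def, TensorProduct.tmul_smul]
  | add x y hx hy => rw [smul_add, mul_add, hx, hy]

theorem quotPowBijective_baseChange (hq : EtGlue.QuotPowBijective R R' f) :
    EtGlue.QuotPowBijective A (R' ⊗[R] A) (algebraMap R A f) := by
  intro n hn
  constructor
  · rw [injective_iff_map_eq_zero]
    intro a ha
    obtain ⟨a, rfl⟩ := Ideal.Quotient.mk_surjective a
    rw [Ideal.quotientMap_mk, Ideal.Quotient.eq_zero_iff_mem, Ideal.map_span, Set.image_singleton,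
      Ideal.mem_span_singleton'] at ha
    obtain ⟨x, hx⟩ := ha
    rw [Ideal.Quotient.eq_zero_iff_mem, Ideal.mem_span_singleton']
    have h1 : (1 : R') ⊗ₜ[R] a = f ^ n • x := by
      rw [smul_eq_mul', ← Algebra.TensorProduct.right_algebraMap_apply, ← hx, mul_comm, map_pow]
    obtain ⟨a₁, ha₁⟩ := BL.exists_smul_of_tmul f hq A n a x h1
    refine ⟨a₁, ?_⟩
    rw [ha₁, Algebra.smul_def, map_pow, mul_comm]
  · intro y
    obtain ⟨y, rfl⟩ := Ideal.Quotient.mk_surjective y
    suffices h : ∃ a : A, ∃ z : R' ⊗[R] A, y = (1 : R') ⊗ₜ[R] a + f ^ n • z by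
      obtain ⟨a, z, rfl⟩ := h
      refine ⟨Ideal.Quotient.mk _ a, ?_⟩
      rw [Ideal.quotientMap_mk, Ideal.Quotient.eq, Algebra.TensorProduct.right_algebraMap_apply,
        sub_add_cancel_left, Ideal.map_span, Set.image_singleton, neg_mem_iff, smul_eq_mul',
        Ideal.mem_span_singleton', map_pow]
      exact ⟨z, mul_comm _ _⟩
    induction y using TensorProduct.induction_on with
    | zero => exact ⟨0, 0, by simp⟩
    | tmul r' a =>
      obtain ⟨r, hr⟩ := (hq n hn).2 (Ideal.Quotient.mk _ r')
      obtain ⟨r, rfl⟩ := Ideal.Quotient.mk_surjective r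
      rw [Ideal.quotientMap_mk, Ideal.Quotient.eq, Ideal.map_span, Set.image_singleton,
        Ideal.mem_span_singleton'] at hr
      obtain ⟨s', hs'⟩ := hr
      refine ⟨r • a, (-s') ⊗ₜ[R] a, ?_⟩
      have h2 : r' = algebraMap R R' r - s' * algebraMap R R' (f ^ n) := by rw [hs']; ring
      have h3 : (1 : R') ⊗ₜ[R] (r • a) + f ^ n • ((-s') ⊗ₜ[R] a) =
          (r • (1 : R') + f ^ n • (-s')) ⊗ₜ[R] a := by
        rw [TensorProduct.add_tmul, ← TensorProduct.smul_tmul, TensorProduct.smul_tmul']
      rw [h3, h2, Algebra.smul_def, Algebra.smul_def, map_pow]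
      congr 1
      ring
    | add x y hx hy =>
      obtain ⟨a, z, rfl⟩ := hx
      obtain ⟨b, w, rfl⟩ := hy
      refine ⟨a + b, z + w, ?_⟩
      rw [TensorProduct.tmul_add, smul_add]
      abel

theorem isGlueingPair_baseChange (hRR' : EtGlue.IsGlueingPair R R' f)
    (hA : EtGlue.IsGlueable R R' f A) :
    EtGlue.IsGlueingPair A (R' ⊗[R] A) (algebraMap R A f) := by
  rw [Groth.Agent.S2004.result A (R' ⊗[R] A) (algebraMap R A f)
    (quotPowBijective_baseChange R R' f A hRR'.1)]
  obtain ⟨h1, h2⟩ := BL.torsion_of_isGlueable (R' := R') f A hA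
  constructor
  · rintro x ⟨n, hn⟩ hx
    apply h1 x ⟨n, ?_⟩
    · rw [← Algebra.TensorProduct.right_algebraMap_apply]; exact hx
    · rw [Algebra.smul_def, map_pow]; exact hn
  · rintro x' ⟨n, hn⟩
    obtain ⟨m, ⟨k, hk⟩, hm⟩ := h2 x' ⟨n, by rw [smul_eq_mul']; exact hn⟩
    refine ⟨m, ⟨k, ?_⟩, ?_⟩
    · rw [← map_pow, ← Algebra.smul_def]; exact hk
    · rw [Algebra.TensorProduct.right_algebraMap_apply]; exact hm





theorem setup (B : Type u) [CommRing B] [Algebra R B] (φ : A →ₐ[R] B) :
    letI : Algebra A B := φ.toRingHom.toAlgebra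
    letI : Algebra (R' ⊗[R] A) (R' ⊗[R] B) :=
      (Algebra.TensorProduct.map (AlgHom.id R R') φ).toRingHom.toAlgebra
    letI : Algebra (Localization.Away (algebraMap R A f))
        (Localization.Away (φ.toRingHom (algebraMap R A f))) :=
      (Localization.awayMap φ.toRingHom (algebraMap R A f)).toAlgebra
    ∃ (_ : Algebra A (R' ⊗[R] B)) (_ : IsScalarTower A (R' ⊗[R] A) (R' ⊗[R] B))
      (_ : IsScalarTower A B (R' ⊗[R] B))
      (_ : IsScalarTower A (Localization.Away (algebraMap R A f))
        (Localization.Away (φ.toRingHom (algebraMap R A f)))),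
      Algebra.IsPushout A (R' ⊗[R] A) B (R' ⊗[R] B) ∧
      Algebra.IsPushout A (Localization.Away (algebraMap R A f)) B
        (Localization.Away (φ.toRingHom (algebraMap R A f))) := by
  letI aAB : Algebra A B := φ.toRingHom.toAlgebra
  letI a1 : Algebra (R' ⊗[R] A) (R' ⊗[R] B) :=
    (Algebra.TensorProduct.map (AlgHom.id R R') φ).toRingHom.toAlgebra
  letI a2 : Algebra (Localization.Away (algebraMap R A f))
      (Localization.Away (φ.toRingHom (algebraMap R A f))) :=
    (Localization.awayMap φ.toRingHom (algebraMap R A f)).toAlgebra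
  haveI tRAB : IsScalarTower R A B := IsScalarTower.of_algebraMap_eq (fun x => (φ.commutes x).symm)
  letI a3 : Algebra A (R' ⊗[R] B) := ((algebraMap B (R' ⊗[R] B)).comp (algebraMap A B)).toAlgebra
  haveI t1 : IsScalarTower A B (R' ⊗[R] B) := IsScalarTower.of_algebraMap_eq (fun x => rfl)
  haveI t2 : IsScalarTower A (R' ⊗[R] A) (R' ⊗[R] B) := IsScalarTower.of_algebraMap_eq (fun x => by
    show (1 : R') ⊗ₜ[R] (φ x) = (Algebra.TensorProduct.map (AlgHom.id R R') φ) ((1 : R') ⊗ₜ[R] x)
    rw [Algebra.TensorProduct.map_tmul]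
    rfl)
  haveI t4 : IsScalarTower A (Localization.Away (algebraMap R A f))
      (Localization.Away (φ.toRingHom (algebraMap R A f))) :=
    IsScalarTower.of_algebraMap_eq (fun x => by
      show algebraMap A (Localization.Away (φ.toRingHom (algebraMap R A f))) x =
        Localization.awayMap φ.toRingHom (algebraMap R A f) (algebraMap A _ x)
      rw [Localization.awayMap, IsLocalization.Away.map, IsLocalization.map_eq,
        IsScalarTower.algebraMap_apply A B (Localization.Away (φ.toRingHom (algebraMap R A f)))]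
      rfl)
  refine ⟨a3, t2, t1, t4, ?_, ?_⟩
  · -- tensor pushout
    haveI t5 : IsScalarTower R (R' ⊗[R] A) (R' ⊗[R] B) := IsScalarTower.of_algebraMap_eq (fun x => by
      show algebraMap R (R' ⊗[R] B) x = (Algebra.TensorProduct.map (AlgHom.id R R') φ) (algebraMap R (R' ⊗[R] A) x)
      rw [AlgHom.commutes])
    haveI t6 : IsScalarTower R' (R' ⊗[R] A) (R' ⊗[R] B) := IsScalarTower.of_algebraMap_eq (fun x => by
      show algebraMap R' (R' ⊗[R] B) x = (Algebra.TensorProduct.map (AlgHom.id R R') φ) (algebraMap R' (R' ⊗[R] A) x)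
      rw [Algebra.TensorProduct.algebraMap_apply, Algebra.TensorProduct.algebraMap_apply,
        Algebra.TensorProduct.map_tmul, map_one]
      rfl)
    have hp0 : Algebra.IsPushout R A R' (R' ⊗[R] A) := TensorProduct.isPushout'
    have hp1 : Algebra.IsPushout R B R' (R' ⊗[R] B) := TensorProduct.isPushout'
    have := (Algebra.IsPushout.comp_iff R A R' (S' := R' ⊗[R] A) (T := B) (T' := R' ⊗[R] B)).1 hp1
    exact this.symm
  · -- localization pushout
    haveI : IsLocalization (Algebra.algebraMapSubmonoid B (Submonoid.powers (algebraMap R A f)))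
        (Localization.Away (φ.toRingHom (algebraMap R A f))) := by
      have : Algebra.algebraMapSubmonoid B (Submonoid.powers (algebraMap R A f)) =
          Submonoid.powers (φ.toRingHom (algebraMap R A f)) := by
        rw [Algebra.algebraMapSubmonoid, Submonoid.map_powers]
        rfl
      rw [this]
      infer_instance
    have := Algebra.isPushout_of_isLocalization (Submonoid.powers (algebraMap R A f))
      (Localization.Away (algebraMap R A f)) B (Localization.Away (φ.toRingHom (algebraMap R A f)))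
    exact this.symm



variable {R R' f A} in
theorem flat_iff (hRR' : EtGlue.IsGlueingPair R R' f) (hA : EtGlue.IsGlueable R R' f A)
    (B : Type u) [CommRing B] [Algebra R B] (φ : A →ₐ[R] B) :
    φ.toRingHom.Flat ↔ (Localization.awayMap φ.toRingHom (algebraMap R A f)).Flat ∧
      (Algebra.TensorProduct.map (AlgHom.id R R') φ).toRingHom.Flat := by
  have hAA' := isGlueingPair_baseChange R R' f A hRR' hA
  obtain ⟨a3, t2, t1, t4, hp1, hp2⟩ := setup R R' f A B φ
  letI aAB : Algebra A B := φ.toRingHom.toAlgebra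
  letI a1 : Algebra (R' ⊗[R] A) (R' ⊗[R] B) :=
    (Algebra.TensorProduct.map (AlgHom.id R R') φ).toRingHom.toAlgebra
  letI a2 : Algebra (Localization.Away (algebraMap R A f))
      (Localization.Away (φ.toRingHom (algebraMap R A f))) :=
    (Localization.awayMap φ.toRingHom (algebraMap R A f)).toAlgebra
  have := flat_iff_abs (algebraMap R A f) B (R' ⊗[R] B)
    (Localization.Away (φ.toRingHom (algebraMap R A f))) hAA'
  exact this.trans and_comm

variable {R R' f A} in
theorem flat_fp_iff (hRR' : EtGlue.IsGlueingPair R R' f) (hA : EtGlue.IsGlueable R R' f A)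
    (B : Type u) [CommRing B] [Algebra R B] (hB : EtGlue.IsGlueable R R' f B) (φ : A →ₐ[R] B) :
    (φ.toRingHom.Flat ∧ φ.toRingHom.FinitePresentation) ↔
      ((Localization.awayMap φ.toRingHom (algebraMap R A f)).Flat ∧
        (Localization.awayMap φ.toRingHom (algebraMap R A f)).FinitePresentation) ∧
      ((Algebra.TensorProduct.map (AlgHom.id R R') φ).toRingHom.Flat ∧
        (Algebra.TensorProduct.map (AlgHom.id R R') φ).toRingHom.FinitePresentation) := by
  have hAA' := isGlueingPair_baseChange R R' f A hRR' hA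
  have hflat := flat_iff hRR' hA B φ
  have hft := Groth.Agent.S10722.result R R' f hRR' A B hA hB φ
  obtain ⟨a3, t2, t1, t4, hp1, hp2⟩ := setup R R' f A B φ
  letI aAB : Algebra A B := φ.toRingHom.toAlgebra
  letI a1 : Algebra (R' ⊗[R] A) (R' ⊗[R] B) :=
    (Algebra.TensorProduct.map (AlgHom.id R R') φ).toRingHom.toAlgebra
  letI a2 : Algebra (Localization.Away (algebraMap R A f))
      (Localization.Away (φ.toRingHom (algebraMap R A f))) :=
    (Localization.awayMap φ.toRingHom (algebraMap R A f)).toAlgebra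
  constructor
  · rintro ⟨h1, h2⟩
    have h2' : Algebra.FinitePresentation A B := h2
    obtain ⟨h3, h4⟩ := hflat.1 h1
    refine ⟨⟨h3, ?_⟩, ⟨h4, ?_⟩⟩
    · exact Algebra.FinitePresentation.equiv
        (Algebra.IsPushout.equiv A (Localization.Away (algebraMap R A f)) B
          (Localization.Away (φ.toRingHom (algebraMap R A f))))
    · exact Algebra.FinitePresentation.equiv (Algebra.IsPushout.equiv A (R' ⊗[R] A) B (R' ⊗[R] B))
  · rintro ⟨⟨h3, h3'⟩, ⟨h4, h4'⟩⟩
    have h1 : φ.toRingHom.Flat := hflat.2 ⟨h3, h4⟩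
    refine ⟨h1, ?_⟩
    have h5 : φ.toRingHom.FiniteType :=
      hft.2 ⟨RingHom.FiniteType.of_finitePresentation h3',
        RingHom.FiniteType.of_finitePresentation h4'⟩
    exact finitePresentation_of_abs (algebraMap R A f) B (R' ⊗[R] B)
      (Localization.Away (φ.toRingHom (algebraMap R A f))) hAA' h1 h5 h4' h3'

variable {R R' f A} in
theorem etale_iff (hRR' : EtGlue.IsGlueingPair R R' f) (hA : EtGlue.IsGlueable R R' f A)
    (B : Type u) [CommRing B] [Algebra R B] (hB : EtGlue.IsGlueable R R' f B) (φ : A →ₐ[R] B) :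
    φ.toRingHom.Etale ↔ (Localization.awayMap φ.toRingHom (algebraMap R A f)).Etale ∧
      (Algebra.TensorProduct.map (AlgHom.id R R') φ).toRingHom.Etale := by
  have hAA' := isGlueingPair_baseChange R R' f A hRR' hA
  have hffp := flat_fp_iff hRR' hA B hB φ
  obtain ⟨a3, t2, t1, t4, hp1, hp2⟩ := setup R R' f A B φ
  letI aAB : Algebra A B := φ.toRingHom.toAlgebra
  letI a1 : Algebra (R' ⊗[R] A) (R' ⊗[R] B) :=
    (Algebra.TensorProduct.map (AlgHom.id R R') φ).toRingHom.toAlgebra
  letI a2 : Algebra (Localization.Away (algebraMap R A f))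
      (Localization.Away (φ.toRingHom (algebraMap R A f))) :=
    (Localization.awayMap φ.toRingHom (algebraMap R A f)).toAlgebra
  constructor
  · intro h
    have h' : Algebra.Etale A B := h
    constructor
    · exact Algebra.Etale.of_equiv
        (Algebra.IsPushout.equiv A (Localization.Away (algebraMap R A f)) B
          (Localization.Away (φ.toRingHom (algebraMap R A f))))
    · exact Algebra.Etale.of_equiv (Algebra.IsPushout.equiv A (R' ⊗[R] A) B (R' ⊗[R] B))
  · rintro ⟨h3, h4⟩
    have h3' : Algebra.Etale (Localization.Away (algebraMap R A f))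
      (Localization.Away (φ.toRingHom (algebraMap R A f))) := h3
    have h4' : Algebra.Etale (R' ⊗[R] A) (R' ⊗[R] B) := h4
    have s3 : Algebra.Smooth (Localization.Away (algebraMap R A f))
      (Localization.Away (φ.toRingHom (algebraMap R A f))) := inferInstance
    have s4 : Algebra.Smooth (R' ⊗[R] A) (R' ⊗[R] B) := inferInstance
    obtain ⟨hfl, hfp⟩ := hffp.2 ⟨⟨(inferInstance : Module.Flat (Localization.Away (algebraMap R A f))
      (Localization.Away (φ.toRingHom (algebraMap R A f)))), (inferInstance : Algebra.FinitePresentation (Localization.Away (algebraMap R A f))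
      (Localization.Away (φ.toRingHom (algebraMap R A f))))⟩,
      ⟨(inferInstance : Module.Flat (R' ⊗[R] A) (R' ⊗[R] B)), (inferInstance : Algebra.FinitePresentation (R' ⊗[R] A) (R' ⊗[R] B))⟩⟩
    have hfl' : Module.Flat A B := hfl
    have hfp' : Algebra.FinitePresentation A B := hfp
    have hun : Algebra.FormallyUnramified A B :=
      formallyUnramified_of_abs (algebraMap R A f) B (R' ⊗[R] B)
        (Localization.Away (φ.toRingHom (algebraMap R A f))) hAA' inferInstance inferInstance
    exact (Algebra.Etale.of_formallyUnramified_of_flat : Algebra.Etale A B)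

end Concrete

end Groth.Agent.Lib.helper3.BLAlg
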