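import Mathlib
import Groth.Prelude.Def_EtGlue
import Groth.Agent.Lib.helper3.BL

/-!
# Beauville–Laszlo glueing, abstract pullback form (helper3)

`IsPB g α p₁ p₂`: the `R`-module `M` with `p₁ : M → M'`, `p₂ : M → M₁` is the pullback of
`M' → L ≅ R' ⊗ M₁ ← M₁`, where `g : M' → L` is a localization at the powers of `f`.
For a glueing pair and `f` bijective on `M₁`: `p₂` is a localization at `f`,
`R' ⊗ M → M'` is bijective, and `M` is glueable.
-/

set_option autoImplicit false
universe u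

open TensorProduct

namespace Groth.Agent.Lib.helper3.BLGlue

variable {R R' : Type u} [CommRing R] [CommRing R'] [Algebra R R'] (f : R)
  {M' : Type u} [AddCommGroup M'] [Module R' M'] [Module R M'] [IsScalarTower R R' M']
  {L : Type u} [AddCommGroup L] [Module R' L]
  (g : M' →ₗ[R'] L)
  {M₁ : Type u} [AddCommGroup M₁] [Module R M₁]
  (α : L ≃ₗ[R'] TensorProduct R R' M₁)
  {M : Type u} [AddCommGroup M] [Module R M] (p₁ : M →ₗ[R] M') (p₂ : M →ₗ[R] M₁)

/-- `M` is the pullback of `M' → L ≅ R' ⊗ M₁ ← M₁`. -/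
structure IsPB : Prop where
  spec : ∀ m : M, α (g (p₁ m)) = (1 : R') ⊗ₜ[R] (p₂ m)
  ext : ∀ m m' : M, p₁ m = p₁ m' → p₂ m = p₂ m' → m = m'
  exists_mk : ∀ (x : M') (y : M₁), α (g x) = (1 : R') ⊗ₜ[R] y → ∃ m : M, p₁ m = x ∧ p₂ m = y

theorem alg_smul_one_tmul (r : R) (y : M₁) :
    (algebraMap R R' r) • ((1 : R') ⊗ₜ[R] y) = (1 : R') ⊗ₜ[R] (r • y) := by
  rw [TensorProduct.smul_tmul', algebraMap_smul, TensorProduct.smul_tmul]

variable {g α p₁ p₂}
variable (hpb : IsPB g α p₁ p₂)
include hpb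

theorem pow_bij (hf : Function.Bijective fun x : M₁ => f • x) (n : ℕ) :
    Function.Bijective fun x : M₁ => f ^ n • x := by
  have := hf.iterate n
  rwa [smul_iterate] at this

/-- (F1) every element of `M₁` times a power of `f` comes from the glued module. -/
theorem exists_p₂ [IsLocalizedModule (Submonoid.powers (algebraMap R R' f)) g] (y : M₁) :
    ∃ (n : ℕ) (m : M), p₂ m = f ^ (n + 1) • y := by
  obtain ⟨⟨x, ⟨_, n, rfl⟩⟩, hx⟩ := IsLocalizedModule.surj
    (Submonoid.powers (algebraMap R R' f)) g (α.symm ((1 : R') ⊗ₜ[R] y))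
  have hx' : (algebraMap R R' f) ^ n • α.symm ((1 : R') ⊗ₜ[R] y) = g x := hx
  have h1 : α (g x) = (1 : R') ⊗ₜ[R] (f ^ n • y) := by
    rw [← hx', map_smul, LinearEquiv.apply_symm_apply, ← map_pow, alg_smul_one_tmul]
  obtain ⟨m, hm1, hm2⟩ := hpb.exists_mk x (f ^ n • y) h1
  refine ⟨n, f • m, ?_⟩
  rw [map_smul, hm2, smul_smul, ← pow_succ']

/-- (F2) torsion elements have zero second component -/
theorem p₂_eq_zero_of_torsion (hf : Function.Bijective fun x : M₁ => f • x)
    (m : M) (h : ∃ n : ℕ, f ^ n • m = 0) : p₂ m = 0 := by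
  obtain ⟨n, hn⟩ := h
  have h1 : f ^ n • p₂ m = 0 := by rw [← map_smul, hn, map_zero]
  exact (pow_bij f hpb hf n).1 (h1.trans (smul_zero _).symm)

theorem torsion_of_p₂_eq_zero [IsLocalizedModule (Submonoid.powers (algebraMap R R' f)) g]
    (m : M) (h : p₂ m = 0) : ∃ n : ℕ, f ^ n • m = 0 := by
  have h1 : α (g (p₁ m)) = 0 := by rw [hpb.spec m, h, tmul_zero]
  have h2 : g (p₁ m) = 0 := by
    have := congrArg α.symm h1
    rwa [LinearEquiv.symm_apply_apply, map_zero] at this
  obtain ⟨⟨_, n, rfl⟩, hs⟩ := (IsLocalizedModule.eq_zero_iff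
    (Submonoid.powers (algebraMap R R' f)) g).mp h2
  refine ⟨n, ?_⟩
  apply hpb.ext
  · rw [map_smul, map_zero]
    have hs' : (algebraMap R R' f) ^ n • p₁ m = 0 := hs
    rw [← map_pow, algebraMap_smul] at hs'
    exact hs'
  · rw [map_smul, map_zero, h, smul_zero]

/-- (1) the second projection is a localization. -/
theorem isLoc_p₂ [IsLocalizedModule (Submonoid.powers (algebraMap R R' f)) g]
    (hf : Function.Bijective fun x : M₁ => f • x) :
    IsLocalizedModule (Submonoid.powers f) p₂ where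
  map_units := by
    rintro ⟨_, n, rfl⟩
    rw [Module.End.isUnit_iff]
    exact pow_bij f hpb hf n
  surj := by
    intro y
    obtain ⟨n, m, hm⟩ := exists_p₂ f hpb y
    exact ⟨(m, ⟨f ^ (n + 1), n + 1, rfl⟩), hm.symm⟩
  exists_of_eq := by
    intro m m' h
    have h0 : p₂ (m - m') = 0 := by rw [map_sub, h, sub_self]
    obtain ⟨n, hn⟩ := torsion_of_p₂_eq_zero f hpb _ h0
    refine ⟨⟨f ^ n, n, rfl⟩, ?_⟩
    rw [smul_sub, sub_eq_zero] at hn
    exact hn

/-- (F3) -/
theorem alpha_phi (ξ : TensorProduct R R' M) :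
    α (g (p₁.liftBaseChange R' ξ)) = p₂.lTensor R' ξ := by
  induction ξ using TensorProduct.induction_on with
  | zero => simp only [map_zero]
  | tmul r m =>
    rw [LinearMap.liftBaseChange_tmul, map_smul, map_smul, hpb.spec m,
      LinearMap.lTensor_tmul, TensorProduct.smul_tmul', smul_eq_mul, mul_one]
  | add a b ha hb => simp only [map_add, ha, hb]

/-- decomposition used for surjectivity -/
theorem decomp [IsLocalizedModule (Submonoid.powers (algebraMap R R' f)) g]
    (hq : EtGlue.QuotPowBijective R R' f) (w : TensorProduct R R' M₁) :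
    ∃ (ξ : TensorProduct R R' M) (y₀ : M₁),
      w = (1 : R') ⊗ₜ[R] y₀ + p₂.lTensor R' ξ := by
  induction w using TensorProduct.induction_on with
  | zero => exact ⟨0, 0, by simp⟩
  | tmul r y =>
    obtain ⟨n, m, hm⟩ := exists_p₂ f hpb y
    obtain ⟨a, b, hab⟩ := Groth.Agent.S2004.q1 f hq (n + 1) (Nat.succ_pos n) r
    refine ⟨b ⊗ₜ[R] m, a • y, ?_⟩
    rw [LinearMap.lTensor_tmul, hm, hab, add_tmul, ← map_pow]
    congr 1
    · rw [← alg_smul_one_tmul, TensorProduct.smul_tmul', smul_eq_mul, mul_one]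
    · rw [← Algebra.smul_def, TensorProduct.smul_tmul]
  | add w₁ w₂ h₁ h₂ =>
    obtain ⟨ξ₁, y₁, e₁⟩ := h₁
    obtain ⟨ξ₂, y₂, e₂⟩ := h₂
    refine ⟨ξ₁ + ξ₂, y₁ + y₂, ?_⟩
    rw [e₁, e₂, tmul_add, map_add]
    abel

theorem phi_surjective [IsLocalizedModule (Submonoid.powers (algebraMap R R' f)) g]
    (hq : EtGlue.QuotPowBijective R R' f) :
    Function.Surjective (p₁.liftBaseChange R') := by
  intro x
  obtain ⟨ξ, y₀, hw⟩ := decomp f hpb hq (α (g x))
  have h1 : α (g (x - p₁.liftBaseChange R' ξ)) = (1 : R') ⊗ₜ[R] y₀ := by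
    rw [map_sub, map_sub, alpha_phi hpb, hw]
    abel
  obtain ⟨m, hm1, hm2⟩ := hpb.exists_mk _ y₀ h1
  refine ⟨(1 : R') ⊗ₜ[R] m + ξ, ?_⟩
  rw [map_add, LinearMap.liftBaseChange_tmul, one_smul, hm1]
  abel

omit hpb in
theorem torsion_of_lTensor_eq_zero {M : Type u} [AddCommGroup M] [Module R M] (p₂ : M →ₗ[R] M₁)
    [IsLocalizedModule (Submonoid.powers f) p₂] (ξ : TensorProduct R R' M)
    (h : p₂.lTensor R' ξ = 0) : ∃ n : ℕ, f ^ n • ξ = 0 := by
  have inst : IsLocalizedModule (Submonoid.powers f)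
      (TensorProduct.AlgebraTensorModule.rTensor R R' p₂) :=
    IsLocalizedModule.rTensor (R := R) (A := R) (N := R') (Submonoid.powers f) p₂
  have h1 : (TensorProduct.AlgebraTensorModule.rTensor R R' p₂) (TensorProduct.comm R R' M ξ) = 0 := by
    have : (TensorProduct.AlgebraTensorModule.rTensor R R' p₂) (TensorProduct.comm R R' M ξ) =
        p₂.rTensor R' (TensorProduct.comm R R' M ξ) := rfl
    rw [this, LinearMap.rTensor_comm, h, map_zero]
  obtain ⟨⟨_, n, rfl⟩, hs⟩ := (IsLocalizedModule.eq_zero_iff (Submonoid.powers f)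
    (TensorProduct.AlgebraTensorModule.rTensor R R' p₂)).mp h1
  refine ⟨n, ?_⟩
  have hs' : f ^ n • (TensorProduct.comm R R' M ξ) = 0 := hs
  rw [← map_smul] at hs'
  exact (TensorProduct.comm R R' M).injective (hs'.trans (map_zero _).symm)

theorem phi_injective [IsLocalizedModule (Submonoid.powers (algebraMap R R' f)) g]
    (hf : Function.Bijective fun x : M₁ => f • x) (hRR : EtGlue.IsGlueingPair R R' f) :
    Function.Injective (p₁.liftBaseChange R') := by
  rw [injective_iff_map_eq_zero]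
  intro ξ hξ
  have h1 : p₂.lTensor R' ξ = 0 := by rw [← alpha_phi hpb, hξ, map_zero, map_zero]
  have := isLoc_p₂ f hpb hf
  obtain ⟨m, hm, rfl⟩ := Groth.Agent.Lib.helper3.BL.torsion_surj f hRR _ ξ
    (torsion_of_lTensor_eq_zero f p₂ ξ h1)
  rw [LinearMap.liftBaseChange_tmul, one_smul] at hξ
  have : m = 0 := by
    apply hpb.ext
    · rw [hξ, map_zero]
    · rw [p₂_eq_zero_of_torsion f hpb hf m hm, map_zero]
  rw [this, tmul_zero]

theorem glueable [IsLocalizedModule (Submonoid.powers (algebraMap R R' f)) g]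
    (hf : Function.Bijective fun x : M₁ => f • x) (hRR : EtGlue.IsGlueingPair R R' f) :
    EtGlue.IsGlueable R R' f M := by
  refine Groth.Agent.Lib.helper3.BL.isGlueable_of_torsion f hRR.1 _ ?_
    (Groth.Agent.Lib.helper3.BL.torsion_surj f hRR _)
  intro m hm h0
  apply hpb.ext
  · have := congrArg (p₁.liftBaseChange R') h0
    rw [LinearMap.liftBaseChange_tmul, one_smul, map_zero] at this
    rw [this, map_zero]
  · rw [p₂_eq_zero_of_torsion f hpb hf m hm, map_zero]

end Groth.Agent.Lib.helper3.BLGlue
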