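import Mathlib

open CategoryTheory CategoryTheory.Limits MonoidalCategory

universe u v w

namespace Groth.Agent.Lib.helper3.Tor1

section modules

variable {R : Type u} [CommRing R]

/-- generic: if `a, c` exact with `c` surjective then `a, i ∘ c` exact iff `i` injective. -/
theorem exact_comp_iff_injective {A B C K : Type*} [AddCommGroup A] [AddCommGroup B]
    [AddCommGroup C] [AddCommGroup K] [Module R A] [Module R B] [Module R C] [Module R K]
    (a : A →ₗ[R] B) (c : B →ₗ[R] K) (i : K →ₗ[R] C) (hac : Function.Exact a c)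
    (hc : Function.Surjective c) : Function.Exact a (i ∘ₗ c) ↔ Function.Injective i := by
  constructor
  · intro h
    rw [injective_iff_map_eq_zero]
    intro x hx
    obtain ⟨y, rfl⟩ := hc x
    obtain ⟨z, rfl⟩ := (h y).mp hx
    exact (hac (a z)).mpr ⟨z, rfl⟩
  · intro hi y
    rw [LinearMap.comp_apply, ← hac y]
    constructor
    · intro h
      exact hi (by rw [h, map_zero])
    · intro h
      rw [h, map_zero]

/-- Comparison of presentations: the "Tor₁ = 0" condition transfers along maps of presentations
in both directions. -/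
theorem lTensor_ker_injective_of {M : Type*} [AddCommGroup M] [Module R M]
    {P P₂ N : Type*} [AddCommGroup P] [Module R P] [AddCommGroup P₂] [Module R P₂]
    [AddCommGroup N] [Module R N]
    (p : P →ₗ[R] N) (p₂ : P₂ →ₗ[R] N) (ψ : P →ₗ[R] P₂) (χ : P₂ →ₗ[R] P)
    (hψ : p₂ ∘ₗ ψ = p) (hχ : p ∘ₗ χ = p₂)
    (h₂ : Function.Injective (LinearMap.lTensor M (LinearMap.ker p₂).subtype)) :
    Function.Injective (LinearMap.lTensor M (LinearMap.ker p).subtype) := by
  have hψK : ∀ x ∈ LinearMap.ker p, ψ x ∈ LinearMap.ker p₂ := by
    intro x hx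
    rw [LinearMap.mem_ker] at hx ⊢
    rw [← LinearMap.comp_apply, hψ, hx]
  have hχK : ∀ x ∈ LinearMap.ker p₂, χ x ∈ LinearMap.ker p := by
    intro x hx
    rw [LinearMap.mem_ker] at hx ⊢
    rw [← LinearMap.comp_apply, hχ, hx]
  let ψK : LinearMap.ker p →ₗ[R] LinearMap.ker p₂ := ψ.restrict hψK
  let χK : LinearMap.ker p₂ →ₗ[R] LinearMap.ker p := χ.restrict hχK
  -- the homotopy
  have hh : ∀ x : P, x - χ (ψ x) ∈ LinearMap.ker p := by
    intro x
    rw [LinearMap.mem_ker, map_sub, ← LinearMap.comp_apply, hχ, ← LinearMap.comp_apply, hψ,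
      sub_self]
  let h' : P →ₗ[R] LinearMap.ker p :=
    (LinearMap.id - χ ∘ₗ ψ).codRestrict (LinearMap.ker p) hh
  have hid : (LinearMap.id : LinearMap.ker p →ₗ[R] LinearMap.ker p) =
      χK ∘ₗ ψK + h' ∘ₗ (LinearMap.ker p).subtype := by
    ext x
    simp [χK, ψK, h']
  rw [injective_iff_map_eq_zero]
  intro t ht
  have h1 : LinearMap.lTensor M ψK t = 0 := by
    apply h₂
    rw [map_zero, ← LinearMap.comp_apply, ← LinearMap.lTensor_comp]
    have : (LinearMap.ker p₂).subtype ∘ₗ ψK = ψ ∘ₗ (LinearMap.ker p).subtype := by
      ext x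
      rfl
    rw [this, LinearMap.lTensor_comp, LinearMap.comp_apply, ht, map_zero]
  have h2 : t = LinearMap.lTensor M (LinearMap.id : LinearMap.ker p →ₗ[R] LinearMap.ker p) t := by
    simp
  rw [h2, hid, LinearMap.lTensor_add, LinearMap.add_apply, LinearMap.lTensor_comp,
    LinearMap.lTensor_comp, LinearMap.comp_apply, LinearMap.comp_apply, h1, ht, map_zero,
    map_zero, add_zero]

theorem lTensor_ker_injective_iff {M : Type*} [AddCommGroup M] [Module R M]
    {P P₂ N : Type*} [AddCommGroup P] [Module R P] [AddCommGroup P₂] [Module R P₂]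
    [AddCommGroup N] [Module R N] [Module.Projective R P] [Module.Projective R P₂]
    (p : P →ₗ[R] N) (p₂ : P₂ →ₗ[R] N) (hp : Function.Surjective p)
    (hp₂ : Function.Surjective p₂) :
    Function.Injective (LinearMap.lTensor M (LinearMap.ker p).subtype) ↔
      Function.Injective (LinearMap.lTensor M (LinearMap.ker p₂).subtype) := by
  obtain ⟨ψ, hψ⟩ := Module.projective_lifting_property p₂ p hp₂
  obtain ⟨χ, hχ⟩ := Module.projective_lifting_property p p₂ hp
  exact ⟨lTensor_ker_injective_of p₂ p χ ψ hχ hψ, lTensor_ker_injective_of p p₂ ψ χ hψ hχ⟩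

/-- for an injective `i : K → P` with `Exact i p`, injectivity of `M ⊗ i` is the same as for the
kernel inclusion. -/
theorem lTensor_injective_iff_ker {M : Type*} [AddCommGroup M] [Module R M]
    {K P N : Type*} [AddCommGroup K] [Module R K] [AddCommGroup P] [Module R P]
    [AddCommGroup N] [Module R N] (i : K →ₗ[R] P) (p : P →ₗ[R] N)
    (hi : Function.Injective i) (hip : Function.Exact i p) :
    Function.Injective (LinearMap.lTensor M i) ↔
      Function.Injective (LinearMap.lTensor M (LinearMap.ker p).subtype) := by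
  have hrange : LinearMap.range i = LinearMap.ker p := (LinearMap.exact_iff.mp hip).symm
  let e : K ≃ₗ[R] LinearMap.ker p :=
    (LinearEquiv.ofInjective i hi).trans (LinearEquiv.ofEq _ _ hrange)
  have hcomp : i = (LinearMap.ker p).subtype ∘ₗ e.toLinearMap := by
    ext x
    rfl
  rw [hcomp, LinearMap.lTensor_comp]
  have he : Function.Bijective (LinearMap.lTensor M e.toLinearMap) :=
    (LinearEquiv.lTensor M e).bijective
  constructor
  · intro h x y hxy
    obtain ⟨x', rfl⟩ := he.2 x
    obtain ⟨y', rfl⟩ := he.2 y
    congr 1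
    exact h hxy
  · intro h
    exact h.comp he.1

end modules

section cat

variable {R : Type u} [CommRing R]

/-- `Tor_1(M,N)` vanishes iff the tensored resolution is exact in degree one. -/
theorem isZero_tor_one_iff_exact (M N : ModuleCat.{u} R) (P : ProjectiveResolution N) :
    IsZero (((Tor (ModuleCat.{u} R) 1).obj M).obj N) ↔
      Function.Exact (LinearMap.lTensor M (P.complex.d 2 1).hom)
        (LinearMap.lTensor M (P.complex.d 1 0).hom) := by
  have e := P.isoLeftDerivedObj ((tensoringLeft (ModuleCat.{u} R)).obj M) 1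
  have h1 : IsZero (((Tor (ModuleCat.{u} R) 1).obj M).obj N) ↔
      IsZero ((HomologicalComplex.homologyFunctor _ _ 1).obj
        ((((tensoringLeft (ModuleCat.{u} R)).obj M).mapHomologicalComplex _).obj P.complex)) :=
    ⟨fun h => h.of_iso e.symm, fun h => h.of_iso e⟩
  rw [h1]
  change IsZero (HomologicalComplex.homology _ 1) ↔ _
  rw [← HomologicalComplex.exactAt_iff_isZero_homology,
    HomologicalComplex.exactAt_iff' _ 2 1 0 (by simp) (by simp),
    ShortComplex.moduleCat_exact_iff_range_eq_ker, LinearMap.exact_iff]
  constructor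
  · intro h; exact h.symm
  · intro h; exact h.symm

theorem isZero_tor_one_iff_resolution (M N : ModuleCat.{u} R) (P : ProjectiveResolution N) :
    IsZero (((Tor (ModuleCat.{u} R) 1).obj M).obj N) ↔
      Function.Injective (LinearMap.lTensor M (LinearMap.ker (P.π.f 0).hom).subtype) := by
  rw [isZero_tor_one_iff_exact M N P]
  have hK : ∀ x, (P.complex.d 1 0).hom x ∈ LinearMap.ker (P.π.f 0).hom := by
    intro x
    rw [LinearMap.mem_ker]
    exact ConcreteCategory.congr_hom P.complex_d_comp_π_f_zero x
  let c : P.complex.X 1 →ₗ[R] LinearMap.ker (P.π.f 0).hom :=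
    (P.complex.d 1 0).hom.codRestrict _ hK
  have hcomp : (P.complex.d 1 0).hom = (LinearMap.ker (P.π.f 0).hom).subtype ∘ₗ c := by
    ext x
    rfl
  have hc : Function.Surjective c := by
    rintro ⟨y, hy⟩
    have := (ShortComplex.moduleCat_exact_iff _).mp P.exact₀ y (LinearMap.mem_ker.mp hy)
    obtain ⟨x, hx⟩ := this
    exact ⟨x, Subtype.ext hx⟩
  have hac : Function.Exact (P.complex.d 2 1).hom c := by
    intro y
    have h1 := (ShortComplex.moduleCat_exact_iff_range_eq_ker _).mp (P.exact_succ 0)
    constructor
    · intro hy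
      have : y ∈ LinearMap.ker (P.complex.d 1 0).hom := by
        rw [LinearMap.mem_ker, hcomp, LinearMap.comp_apply, hy, map_zero]
      rw [← h1] at this
      exact this
    · rintro ⟨x, rfl⟩
      apply Subtype.ext
      exact ConcreteCategory.congr_hom (P.complex.d_comp_d 2 1 0) x
  rw [hcomp, LinearMap.lTensor_comp]
  exact exact_comp_iff_injective _ _ _ (lTensor_exact M hac hc) (LinearMap.lTensor_surjective M hc)

/-- **Bridging lemma.** For any presentation `p : P ↠ N` with `P` projective,
`Tor₁(M, N) = 0` iff `M ⊗ ker p → M ⊗ P` is injective. -/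
theorem isZero_tor_one_iff (M N : Type u) [AddCommGroup M] [Module R M] [AddCommGroup N]
    [Module R N] {P : Type u} [AddCommGroup P] [Module R P] [Module.Projective R P]
    (p : P →ₗ[R] N) (hp : Function.Surjective p) :
    IsZero (((Tor (ModuleCat.{u} R) 1).obj (ModuleCat.of R M)).obj (ModuleCat.of R N)) ↔
      Function.Injective (LinearMap.lTensor M (LinearMap.ker p).subtype) := by
  let Q := ProjectiveResolution.of (ModuleCat.of R N)
  rw [isZero_tor_one_iff_resolution _ _ Q]
  have hproj : Module.Projective R (Q.complex.X 0) := by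
    rw [IsProjective.iff_projective]
    exact Q.projective 0
  have hsurj : Function.Surjective (Q.π.f 0).hom :=
    (ModuleCat.epi_iff_surjective _).mp inferInstance
  exact lTensor_ker_injective_iff (M := M) (Q.π.f 0).hom p hsurj hp

/-- Version with an explicit short exact sequence `0 → K → P → N → 0`. -/
theorem isZero_tor_one_iff_of_exact (M N : Type u) [AddCommGroup M] [Module R M] [AddCommGroup N]
    [Module R N] {K P : Type u} [AddCommGroup K] [Module R K] [AddCommGroup P] [Module R P]
    [Module.Projective R P] (i : K →ₗ[R] P) (p : P →ₗ[R] N) (hi : Function.Injective i)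
    (hip : Function.Exact i p) (hp : Function.Surjective p) :
    IsZero (((Tor (ModuleCat.{u} R) 1).obj (ModuleCat.of R M)).obj (ModuleCat.of R N)) ↔
      Function.Injective (LinearMap.lTensor M i) := by
  rw [isZero_tor_one_iff M N p hp, lTensor_injective_iff_ker i p hi hip]

theorem subsingleton_tor_one_iff_of_exact (M N : Type u) [AddCommGroup M] [Module R M]
    [AddCommGroup N] [Module R N] {K P : Type u} [AddCommGroup K] [Module R K] [AddCommGroup P]
    [Module R P] [Module.Projective R P] (i : K →ₗ[R] P) (p : P →ₗ[R] N)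
    (hi : Function.Injective i) (hip : Function.Exact i p) (hp : Function.Surjective p) :
    Subsingleton (((Tor (ModuleCat.{u} R) 1).obj (ModuleCat.of R M)).obj (ModuleCat.of R N)) ↔
      Function.Injective (LinearMap.lTensor M i) := by
  rw [← ModuleCat.isZero_iff_subsingleton, isZero_tor_one_iff_of_exact M N i p hi hip hp]

end cat

end Groth.Agent.Lib.helper3.Tor1

namespace Groth.Agent.Lib.helper3.Tor1

section extension

variable {R : Type u} [CommRing R]

/-- Extension-closedness in the non-resolved variable: if `X ⊗ K → X ⊗ P` is injective for the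
two ends of a short exact sequence `0 → X' → X → X'' → 0` (and `P` is flat), then also for the
middle term. -/
theorem lTensor_injective_of_exact {K P : Type*} [AddCommGroup K] [Module R K] [AddCommGroup P]
    [Module R P] [Module.Flat R P] (i : K →ₗ[R] P) {X' X X'' : Type*} [AddCommGroup X']
    [Module R X'] [AddCommGroup X] [Module R X] [AddCommGroup X''] [Module R X'']
    (a : X' →ₗ[R] X) (b : X →ₗ[R] X'') (ha : Function.Injective a) (hab : Function.Exact a b)
    (hb : Function.Surjective b) (h' : Function.Injective (LinearMap.lTensor X' i))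
    (h'' : Function.Injective (LinearMap.lTensor X'' i)) :
    Function.Injective (LinearMap.lTensor X i) := by
  rw [injective_iff_map_eq_zero]
  intro x hx
  have h1 : LinearMap.rTensor K b x = 0 := by
    apply h''
    rw [map_zero, ← LinearMap.comp_apply, LinearMap.lTensor_comp_rTensor,
      ← LinearMap.rTensor_comp_lTensor, LinearMap.comp_apply, hx, map_zero]
  obtain ⟨y, rfl⟩ := (rTensor_exact K hab hb x).mp h1
  have h2 : LinearMap.lTensor X' i y = 0 := by
    have hinj : Function.Injective (LinearMap.rTensor P a) :=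
      Module.Flat.rTensor_preserves_injective_linearMap a ha
    apply hinj
    rw [map_zero, ← LinearMap.comp_apply, LinearMap.rTensor_comp_lTensor,
      ← LinearMap.lTensor_comp_rTensor, LinearMap.comp_apply, hx]
  rw [h' (by rw [h2, map_zero] : LinearMap.lTensor X' i y = LinearMap.lTensor X' i 0), map_zero]

end extension

end Groth.Agent.Lib.helper3.Tor1
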