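import Mathlib
import Groth.Agent.Lib.helper3.BL
import Groth.Agent.Lib.helper3.Tor1

set_option autoImplicit false
universe u

open TensorProduct

namespace Groth.Agent.Lib.helper3.BLTor

section general

variable {R : Type u} [CommRing R]

/-- If `P / i(K)` is `f`-power torsion then the kernel of `A ⊗ K → A ⊗ P` is `f`-power torsion. -/
theorem torsion_of_lTensor_eq_zero (f : R) {A K P : Type u} [AddCommGroup A] [Module R A]
    [AddCommGroup K] [Module R K] [AddCommGroup P] [Module R P] (i : K →ₗ[R] P)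
    (hi : Function.Injective i) (hT : ∀ y : P, ∃ n : ℕ, ∃ k : K, i k = f ^ n • y)
    (x : A ⊗[R] K) (hx : LinearMap.lTensor A i x = 0) : ∃ n : ℕ, f ^ n • x = 0 := by
  let S := Submonoid.powers f
  let lA := LocalizedModule.mkLinearMap S A
  let lK := LocalizedModule.mkLinearMap S K
  let lP := LocalizedModule.mkLinearMap S P
  let iS : LocalizedModule S K →ₗ[R] LocalizedModule S P := IsLocalizedModule.map S lK lP i
  have hiS_inj : Function.Injective iS := IsLocalizedModule.map_injective S lK lP i hi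
  have hiS_surj : Function.Surjective iS := by
    intro z
    obtain ⟨⟨y, s⟩, rfl⟩ := IsLocalizedModule.mk'_surjective S lP z
    obtain ⟨n, k, hk⟩ := hT y
    refine ⟨IsLocalizedModule.mk' lK k (⟨f ^ n, n, rfl⟩ * s), ?_⟩
    simp only [iS, Function.uncurry_apply_pair, IsLocalizedModule.map_mk', hk]
    rw [IsLocalizedModule.mk'_eq_mk'_iff]
    refine ⟨1, ?_⟩
    simp only [one_smul, Submonoid.smul_def, mul_smul]
    rw [smul_comm]
  let e : LocalizedModule S K ≃ₗ[R] LocalizedModule S P :=
    LinearEquiv.ofBijective iS ⟨hiS_inj, hiS_surj⟩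
  have hsq : (TensorProduct.map lA lP) ∘ₗ (LinearMap.lTensor A i) =
      (LinearMap.lTensor (LocalizedModule S A) iS) ∘ₗ (TensorProduct.map lA lK) := by
    ext a k
    simp only [TensorProduct.AlgebraTensorModule.curry_apply, LinearMap.restrictScalars_self,
      TensorProduct.curry_apply, LinearMap.coe_comp, Function.comp_apply, LinearMap.lTensor_tmul,
      TensorProduct.map_tmul]
    congr 1
    exact (IsLocalizedModule.map_apply S lK lP i k).symm
  have h0 : TensorProduct.map lA lK x = 0 := by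
    have h1 := congrArg (fun φ => φ x) hsq
    simp only [LinearMap.coe_comp, Function.comp_apply, hx, map_zero] at h1
    have hinj : Function.Injective (LinearMap.lTensor (LocalizedModule S A) iS) :=
      (LinearEquiv.lTensor (LocalizedModule S A) e).injective
    exact hinj (by rw [← h1, map_zero])
  obtain ⟨⟨_, n, rfl⟩, hs⟩ := (IsLocalizedModule.eq_zero_iff S (TensorProduct.map lA lK)).mp h0
  exact ⟨n, hs⟩

end general

section glue

variable {R R' : Type u} [CommRing R] [CommRing R'] [Algebra R R']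

/-- In a glueing pair an `f`-power torsion element of `R` mapping to zero in `R'` is zero. -/
theorem eq_zero_of_torsion_of_algebraMap_eq_zero (f : R) (hRR : EtGlue.IsGlueingPair R R' f)
    (r : R) (hr : ∃ n : ℕ, f ^ n * r = 0) (h0 : algebraMap R R' r = 0) : r = 0 := by
  apply hRR.2.1
  simp only [map_zero, Prod.mk.injEq]
  refine ⟨h0, ?_⟩
  obtain ⟨n, hn⟩ := hr
  exact (IsLocalization.map_eq_zero_iff (Submonoid.powers f) (Localization.Away f) r).mpr
    ⟨⟨f ^ n, n, rfl⟩, hn⟩

/-- every element of `R' ⊗ Q` is `f`-power torsion if `Q` is. -/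
theorem tensor_torsion (f : R) (Q : Type u) [AddCommGroup Q] [Module R Q]
    (hQ : ∀ q : Q, ∃ n : ℕ, f ^ n • q = 0) (x : R' ⊗[R] Q) : ∃ n : ℕ, f ^ n • x = 0 := by
  induction x using TensorProduct.induction_on with
  | zero => exact ⟨0, by simp⟩
  | tmul r q =>
    obtain ⟨n, hn⟩ := hQ q
    exact ⟨n, by rw [TensorProduct.smul_tmul', TensorProduct.smul_tmul, hn, tmul_zero]⟩
  | add x y hx hy =>
    obtain ⟨n, hn⟩ := hx
    obtain ⟨m, hm⟩ := hy
    refine ⟨n + m, ?_⟩
    have h1 : f ^ (n + m) • x = 0 := by rw [pow_add, mul_comm, mul_smul, hn, smul_zero]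
    have h2 : f ^ (n + m) • y = 0 := by rw [pow_add, mul_smul, hm, smul_zero]
    rw [smul_add, h1, h2, add_zero]

/-- **Lemma T.** For a glueing pair and an ideal `Q` of `f`-power torsion elements,
`R' ⊗ Q → R' ⊗ R` is injective. -/
theorem lTensor_subtype_injective_of_torsion (f : R) (hRR : EtGlue.IsGlueingPair R R' f)
    (Q : Ideal R) (hQ : ∀ q ∈ Q, ∃ n : ℕ, f ^ n * q = 0) :
    Function.Injective (LinearMap.lTensor R' (Submodule.subtype Q)) := by
  rw [injective_iff_map_eq_zero]
  intro x hx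
  have hQ' : ∀ q : Q, ∃ n : ℕ, f ^ n • q = 0 := by
    intro q
    obtain ⟨n, hn⟩ := hQ q q.2
    exact ⟨n, Subtype.ext (by simpa using hn)⟩
  obtain ⟨q, -, rfl⟩ := BL.torsion_surj f hRR Q x (tensor_torsion f Q hQ' x)
  rw [LinearMap.lTensor_tmul] at hx
  have h1 := congrArg (TensorProduct.rid R R') hx
  rw [TensorProduct.rid_tmul, map_zero, Submodule.subtype_apply, Algebra.smul_def, mul_one] at h1
  have : (q : R) = 0 := eq_zero_of_torsion_of_algebraMap_eq_zero f hRR q (hQ q q.2) h1
  have hq0 : q = 0 := Subtype.ext this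
  rw [hq0, tmul_zero]

/-- **Lemma T''.** In a free module `α →₀ R`, an `f`-power torsion element whose image in
`R' ⊗ (α →₀ R)` vanishes is zero. -/
theorem eq_zero_of_tmul_eq_zero_finsupp (f : R) (hRR : EtGlue.IsGlueingPair R R' f) (α : Type u)
    (k : α →₀ R) (hk : ∃ n : ℕ, f ^ n • k = 0) (h0 : (1 : R') ⊗ₜ[R] k = 0) : k = 0 := by
  ext a
  have h1 := congrArg (LinearMap.lTensor R' (Finsupp.lapply a : (α →₀ R) →ₗ[R] R)) h0
  rw [LinearMap.lTensor_tmul, map_zero] at h1
  have h2 := congrArg (TensorProduct.rid R R') h1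
  rw [TensorProduct.rid_tmul, map_zero, Finsupp.lapply_apply, Algebra.smul_def, mul_one] at h2
  obtain ⟨n, hn⟩ := hk
  refine eq_zero_of_torsion_of_algebraMap_eq_zero f hRR (k a) ⟨n, ?_⟩ h2
  have := congrArg (fun g : α →₀ R => g a) hn
  simpa using this

/-- injectivity for a presentation by a free module `N →₀ R` of a torsion module. -/
theorem lTensor_ker_injective_of_torsion (f : R) (hRR : EtGlue.IsGlueingPair R R' f)
    (N : Type u) [AddCommGroup N] [Module R N] (hN : ∀ y : N, ∃ n : ℕ, f ^ n • y = 0)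
    (p : (N →₀ R) →ₗ[R] N) :
    Function.Injective (LinearMap.lTensor R' (LinearMap.ker p).subtype) := by
  rw [injective_iff_map_eq_zero]
  intro x hx
  have hT : ∀ y : N →₀ R, ∃ n : ℕ, ∃ k : LinearMap.ker p,
      (LinearMap.ker p).subtype k = f ^ n • y := by
    intro y
    obtain ⟨n, hn⟩ := hN (p y)
    refine ⟨n, ⟨f ^ n • y, ?_⟩, rfl⟩
    rw [LinearMap.mem_ker, map_smul, hn]
  have hx' : LinearMap.lTensor R' (LinearMap.ker p).subtype x = 0 := hx
  have h1 := @torsion_of_lTensor_eq_zero R _ f R' (LinearMap.ker p) (N →₀ R) _ _ _ _ _ _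
    (LinearMap.ker p).subtype
  have h2 := h1 (Submodule.injective_subtype _)
  have h3 := h2 hT
  have h4 := h3 x
  have htors := h4 hx'
  obtain ⟨k, hk, rfl⟩ := BL.torsion_surj f hRR (LinearMap.ker p) x htors
  rw [LinearMap.lTensor_tmul, Submodule.subtype_apply] at hx
  have hk' : ∃ n : ℕ, f ^ n • (k : N →₀ R) = 0 := by
    obtain ⟨n, hn⟩ := hk
    exact ⟨n, by rw [← Submodule.coe_smul, hn, Submodule.coe_zero]⟩
  have : (k : N →₀ R) = 0 := eq_zero_of_tmul_eq_zero_finsupp f hRR N k hk' hx
  have hk0 : k = 0 := Subtype.ext this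
  rw [hk0, tmul_zero]

/-- **Lemma T'.** For a glueing pair, `Tor₁(R', N) = 0` for every `f`-power torsion module `N`. -/
theorem subsingleton_tor_one_of_torsion (f : R) (hRR : EtGlue.IsGlueingPair R R' f)
    (N : Type u) [AddCommGroup N] [Module R N] (hN : ∀ y : N, ∃ n : ℕ, f ^ n • y = 0) :
    Subsingleton (((CategoryTheory.Tor (ModuleCat.{u} R) 1).obj (ModuleCat.of R R')).obj
      (ModuleCat.of R N)) := by
  have hp : Function.Surjective (Finsupp.linearCombination R (id : N → N)) :=
    fun y => ⟨Finsupp.single y 1, by simp⟩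
  rw [← ModuleCat.isZero_iff_subsingleton,
    Tor1.isZero_tor_one_iff R' N (Finsupp.linearCombination R (id : N → N)) hp]
  exact lTensor_ker_injective_of_torsion f hRR N hN _

end glue

end Groth.Agent.Lib.helper3.BLTor
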