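import Mathlib

set_option autoImplicit false
universe u

open TensorProduct AlgebraicGeometry CategoryTheory Limits

namespace Groth.Agent.Lib.helper3.ClopenLift

/-- Topological form: every clopen of `W` is the preimage of a unique clopen of `Y`. -/
def P {W Y : Type*} [TopologicalSpace W] [TopologicalSpace Y] (p : W → Y) : Prop :=
  ∀ V : Set W, IsClopen V → ∃! U : Set Y, IsClopen U ∧ p ⁻¹' U = V

theorem P.of_homeo {W Y W' Y' : Type*} [TopologicalSpace W] [TopologicalSpace Y]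
    [TopologicalSpace W'] [TopologicalSpace Y'] (a : W ≃ₜ W') (b : Y ≃ₜ Y') (p : W → Y)
    (p' : W' → Y') (h : ∀ w, b (p w) = p' (a w)) (hp' : P p') : P p := by
  intro V hV
  have hV' : IsClopen (a.symm ⁻¹' V) := hV.preimage a.symm.continuous
  obtain ⟨U', ⟨hU', hpU'⟩, huniq⟩ := hp' _ hV'
  refine ⟨b ⁻¹' U', ⟨hU'.preimage b.continuous, ?_⟩, ?_⟩
  · ext w
    have h1 : p' (a w) ∈ U' ↔ a w ∈ a.symm ⁻¹' V := by
      rw [← hpU']
      rfl
    show b (p w) ∈ U' ↔ w ∈ V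
    rw [h, h1]
    show a.symm (a w) ∈ V ↔ w ∈ V
    rw [a.symm_apply_apply]
  · rintro U₁ ⟨hU₁, hpU₁⟩
    have h2 : b.symm ⁻¹' U₁ = U' := by
      apply huniq
      refine ⟨hU₁.preimage b.symm.continuous, ?_⟩
      ext w'
      show b.symm (p' w') ∈ U₁ ↔ a.symm w' ∈ V
      have h3 : b.symm (p' w') = p (a.symm w') := by
        rw [b.symm_apply_eq, h, a.apply_symm_apply]
      rw [h3, ← hpU₁]
      rfl
    rw [← h2]
    ext y
    show y ∈ U₁ ↔ b.symm (b y) ∈ U₁
    rw [b.symm_apply_apply]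

theorem isClopen_basicOpen {R : Type*} [CommRing R] {e : R} (he : IsIdempotentElem e) :
    IsClopen (PrimeSpectrum.basicOpen e : Set (PrimeSpectrum R)) :=
  PrimeSpectrum.isClopen_basicOpen_of_mul_add e (1 - e)
    (by rw [mul_sub, mul_one, he.eq, sub_self]) (by ring)

theorem P_comap_iff {B C : Type*} [CommRing B] [CommRing C] (ψ : B →+* C) :
    P (PrimeSpectrum.comap ψ) ↔
      Set.BijOn ψ {e : B | IsIdempotentElem e} {e : C | IsIdempotentElem e} := by
  have hpre : ∀ e : B, PrimeSpectrum.comap ψ ⁻¹' (PrimeSpectrum.basicOpen e : Set (PrimeSpectrum B)) =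
      (PrimeSpectrum.basicOpen (ψ e) : Set (PrimeSpectrum C)) := fun e => rfl
  constructor
  · intro hP
    refine ⟨fun e he => he.map ψ, ?_, ?_⟩
    · intro e₁ he₁ e₂ he₂ h12
      obtain ⟨U, _, huniq⟩ := hP _ (isClopen_basicOpen (he₁.map ψ))
      have h1 := huniq _ ⟨isClopen_basicOpen he₁, hpre e₁⟩
      have h2 := huniq _ ⟨isClopen_basicOpen he₂, by rw [hpre e₂, ← h12]⟩
      exact PrimeSpectrum.basicOpen_injOn_isIdempotentElem he₁ he₂
        (SetLike.ext' (h1.trans h2.symm))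
    · intro c hc
      obtain ⟨U, ⟨hU, hpU⟩, _⟩ := hP _ (isClopen_basicOpen hc)
      obtain ⟨e, he, rfl⟩ := PrimeSpectrum.exists_idempotent_basicOpen_eq_of_isClopen hU
      refine ⟨e, he, ?_⟩
      rw [hpre e] at hpU
      exact PrimeSpectrum.basicOpen_injOn_isIdempotentElem (he.map ψ) hc (SetLike.ext' hpU)
  · rintro ⟨_, hinj, hsurj⟩ V hV
    obtain ⟨c, hc, rfl⟩ := PrimeSpectrum.exists_idempotent_basicOpen_eq_of_isClopen hV
    obtain ⟨e, he, rfl⟩ := hsurj hc
    refine ⟨PrimeSpectrum.basicOpen e, ⟨isClopen_basicOpen he, hpre e⟩, ?_⟩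
    rintro U₁ ⟨hU₁, hpU₁⟩
    obtain ⟨e₁, he₁, rfl⟩ := PrimeSpectrum.exists_idempotent_basicOpen_eq_of_isClopen hU₁
    rw [hpre e₁] at hpU₁
    have h1 : ψ e₁ = ψ e :=
      PrimeSpectrum.basicOpen_injOn_isIdempotentElem (he₁.map ψ) (he.map ψ) (SetLike.ext' hpU₁)
    rw [hinj he₁ he h1]

theorem bijOn_equiv {B C C' : Type*} [CommRing B] [CommRing C] [CommRing C'] (ψ : B →+* C)
    (θ : C ≃+* C') :
    Set.BijOn ((θ : C →+* C').comp ψ) {e : B | IsIdempotentElem e} {e : C' | IsIdempotentElem e} ↔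
      Set.BijOn ψ {e : B | IsIdempotentElem e} {e : C | IsIdempotentElem e} := by
  constructor
  · rintro ⟨_, hinj, hsurj⟩
    refine ⟨fun e he => he.map ψ, ?_, ?_⟩
    · intro e₁ he₁ e₂ he₂ h12
      exact hinj he₁ he₂ (congrArg θ h12)
    · intro c hc
      obtain ⟨e, he, h⟩ := hsurj (show IsIdempotentElem (θ c) from hc.map θ)
      exact ⟨e, he, θ.injective h⟩
  · rintro ⟨_, hinj, hsurj⟩
    refine ⟨fun e he => he.map _, ?_, ?_⟩
    · intro e₁ he₁ e₂ he₂ h12
      exact hinj he₁ he₂ (θ.injective h12)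
    · intro c hc
      obtain ⟨e, he, h⟩ := hsurj (show IsIdempotentElem (θ.symm c) from hc.map θ.symm)
      refine ⟨e, he, ?_⟩
      show θ (ψ e) = c
      rw [h, θ.apply_symm_apply]

end Groth.Agent.Lib.helper3.ClopenLift
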