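import Mathlib
import Groth.Agent.Lib.helper3.ClopenLift

set_option autoImplicit false
universe u

open TensorProduct AlgebraicGeometry CategoryTheory Limits

namespace Groth.Agent.Lib.helper3.ClopenLift

/-- Scheme form. -/
def Q {W Y : Scheme.{u}} (p : W ⟶ Y) : Prop :=
  ∀ V : Set ↥W, IsClopen V → ∃! U : Set ↥Y, IsClopen U ∧ p.base ⁻¹' U = V

theorem Q.of_iso {W W' Y Y' : Scheme.{u}} (α : W ≅ W') (β : Y ≅ Y') (p : W ⟶ Y) (p' : W' ⟶ Y')
    (h : α.hom ≫ p' = p ≫ β.hom) (hp' : Q p') : Q p := by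
  refine P.of_homeo (p := p.base) (p' := p'.base) α.hom.homeomorph β.hom.homeomorph ?_ hp'
  intro w
  have := congrArg (fun f => f.base w) h
  exact this.symm

theorem Q_SpecMap_iff {B C : CommRingCat.{u}} (ψ : B ⟶ C) :
    Q (Spec.map ψ) ↔
      Set.BijOn ψ.hom {e : B | IsIdempotentElem e} {e : C | IsIdempotentElem e} :=
  P_comap_iff ψ.hom

theorem main (A : Type u) [CommRing A] (I : Ideal A) (B : Type u) [CommRing B] [Algebra A B]
    {Y : Scheme.{u}} (g : Y ⟶ Spec (CommRingCat.of A)) (β : Y ≅ Spec (CommRingCat.of B))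
    (hβ : β.inv ≫ g = Spec.map (CommRingCat.ofHom (algebraMap A B))) :
    Q (pullback.fst g (Spec.map (CommRingCat.ofHom (Ideal.Quotient.mk I)))) ↔
      Set.BijOn (Ideal.Quotient.mk (Ideal.map (algebraMap A B) I))
        {e : B | IsIdempotentElem e} {e | IsIdempotentElem e} := by
  have hpo := CommRingCat.isPushout_tensorProduct A B (A ⧸ I)
  have sq1 := isPullback_SpecMap_of_isPushout _ _ _ _ hpo
  have sq2 : IsPullback β.inv (Spec.map (CommRingCat.ofHom (algebraMap A B))) g (𝟙 _) :=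
    IsPullback.of_horiz_isIso ⟨by rw [Category.comp_id, hβ]⟩
  have sq := sq1.paste_horiz sq2
  rw [Category.comp_id] at sq
  let inl : CommRingCat.of B ⟶ CommRingCat.of (B ⊗[A] (A ⧸ I)) :=
    CommRingCat.ofHom (Algebra.TensorProduct.includeLeftRingHom)
  have hfst : sq.isoPullback.hom ≫ pullback.fst g _ = Spec.map inl ≫ β.inv :=
    sq.isoPullback_hom_fst
  have h1 : Q (pullback.fst g (Spec.map (CommRingCat.ofHom (Ideal.Quotient.mk I)))) ↔
      Q (Spec.map inl) := by
    constructor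
    · intro hQ
      refine Q.of_iso sq.isoPullback β.symm _ _ ?_ hQ
      exact hfst
    · intro hQ
      refine Q.of_iso sq.isoPullback.symm β _ _ ?_ hQ
      show sq.isoPullback.inv ≫ Spec.map inl = pullback.fst g _ ≫ β.hom
      rw [Iso.inv_comp_eq, ← Category.assoc, hfst, Category.assoc, Iso.inv_hom_id, Category.comp_id]
  rw [h1, Q_SpecMap_iff]
  let θ : (B ⧸ I.map (algebraMap A B)) ≃+* B ⊗[A] (A ⧸ I) :=
    (Algebra.TensorProduct.quotIdealMapEquivTensorQuot B I).toRingEquiv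
  have hθ : inl.hom = (θ : _ →+* _).comp (Ideal.Quotient.mk (Ideal.map (algebraMap A B) I)) := by
    ext b
    show (b ⊗ₜ[A] (1 : A ⧸ I) : B ⊗[A] (A ⧸ I)) =
      (Algebra.TensorProduct.quotIdealMapEquivTensorQuot B I) (algebraMap B _ b)
    rw [AlgEquiv.commutes]
    rfl
  rw [hθ, bijOn_equiv]

end Groth.Agent.Lib.helper3.ClopenLift
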