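import Mathlib
import Groth.Agent.Lib.helper28.ProjLim

set_option autoImplicit false
universe u

namespace Groth.Agent.Lib.helper3.ComplLift

theorem factor_evalₐ {R : Type*} [CommRing R] (I : Ideal R) {m n : ℕ} (hmn : m ≤ n)
    (x : AdicCompletion I R) :
    Ideal.Quotient.factor (Ideal.pow_le_pow_right hmn) (AdicCompletion.evalₐ I n x) =
      AdicCompletion.evalₐ I m x := by
  obtain ⟨s, rfl⟩ := AdicCompletion.mk_surjective I R x
  rw [AdicCompletion.evalₐ_mk, AdicCompletion.evalₐ_mk, Ideal.Quotient.factor_mk,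
    Ideal.Quotient.eq]
  have h := s.property hmn
  rw [SModEq.sub_mem, smul_eq_mul, Ideal.mul_top] at h
  have h2 := Ideal.neg_mem_iff (I ^ m) |>.mpr h
  rwa [neg_sub] at h2

/-- The ideal of the completion generated by `I`. -/
theorem map_pow_le_ker_evalₐ {R : Type*} [CommRing R] (I : Ideal R) (n : ℕ) :
    (I.map (algebraMap R (AdicCompletion I R))) ^ n ≤
      RingHom.ker (AdicCompletion.evalₐ I n).toRingHom := by
  rw [← Ideal.map_pow, Ideal.map_le_iff_le_comap]
  intro c hc
  rw [Ideal.mem_comap, RingHom.mem_ker]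
  show AdicCompletion.evalₐ I n (AdicCompletion.of I R c) = 0
  rw [AdicCompletion.evalₐ_of, Ideal.Quotient.eq_zero_iff_mem]
  exact hc

theorem exists_extend {V A C : Type u} [CommRing V] [CommRing A] [CommRing C] [Algebra V A]
    [Algebra V C] (I : Ideal V) (g : A →ₐ[V] AdicCompletion (I.map (algebraMap V C)) C) :
    ∃ φ : AdicCompletion (I.map (algebraMap V A)) A →ₐ[V]
        AdicCompletion (I.map (algebraMap V C)) C,
      ∀ (n : ℕ) (x : AdicCompletion (I.map (algebraMap V A)) A) (a : A),
        AdicCompletion.evalₐ (I.map (algebraMap V A)) n x =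
          Ideal.Quotient.mk ((I.map (algebraMap V A)) ^ n) a →
        AdicCompletion.evalₐ (I.map (algebraMap V C)) n (φ x) =
          AdicCompletion.evalₐ (I.map (algebraMap V C)) n (g a) := by
  have hgI : I.map (algebraMap V A) ≤
      ((I.map (algebraMap V C)).map (algebraMap C (AdicCompletion (I.map (algebraMap V C)) C))).comap
        g.toRingHom := by
    rw [Ideal.map_le_iff_le_comap]
    intro i hi
    rw [Ideal.mem_comap, Ideal.mem_comap]
    have : g.toRingHom (algebraMap V A i) =
        algebraMap C (AdicCompletion (I.map (algebraMap V C)) C) (algebraMap V C i) := by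
      show g (algebraMap V A i) = _
      rw [AlgHom.commutes]
      rfl
    rw [this]
    exact Ideal.mem_map_of_mem _ (Ideal.mem_map_of_mem _ hi)
  have hker : ∀ (n : ℕ) (a : A), a ∈ (I.map (algebraMap V A)) ^ n →
      (((AdicCompletion.evalₐ (I.map (algebraMap V C)) n).restrictScalars V).comp g) a = 0 := by
    intro n a ha
    have h1 : g.toRingHom a ∈ ((I.map (algebraMap V C)).map
        (algebraMap C (AdicCompletion (I.map (algebraMap V C)) C))) ^ n := by
      have h2 : (I.map (algebraMap V A)) ^ n ≤ (((I.map (algebraMap V C)).map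
          (algebraMap C (AdicCompletion (I.map (algebraMap V C)) C))) ^ n).comap g.toRingHom := by
        rw [← Ideal.map_le_iff_le_comap, Ideal.map_pow]
        exact Ideal.pow_right_mono (Ideal.map_le_iff_le_comap.mpr hgI) n
      exact h2 ha
    exact map_pow_le_ker_evalₐ (I.map (algebraMap V C)) n h1
  let f : (n : ℕ) → AdicCompletion (I.map (algebraMap V A)) A →ₐ[V]
      C ⧸ (I.map (algebraMap V C)) ^ n := fun n =>
    (Ideal.Quotient.liftₐ ((I.map (algebraMap V A)) ^ n)
      (((AdicCompletion.evalₐ (I.map (algebraMap V C)) n).restrictScalars V).comp g)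
      (hker n)).comp ((AdicCompletion.evalₐ (I.map (algebraMap V A)) n).restrictScalars V)
  have hfa : ∀ (n : ℕ) (x : AdicCompletion (I.map (algebraMap V A)) A) (a : A),
      AdicCompletion.evalₐ (I.map (algebraMap V A)) n x =
        Ideal.Quotient.mk ((I.map (algebraMap V A)) ^ n) a →
      f n x = AdicCompletion.evalₐ (I.map (algebraMap V C)) n (g a) := by
    intro n x a hxa
    show Ideal.Quotient.liftₐ ((I.map (algebraMap V A)) ^ n) _ (hker n)
      (AdicCompletion.evalₐ (I.map (algebraMap V A)) n x) = _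
    rw [hxa]
    rfl
  have hf : ∀ {m n : ℕ} (hle : m ≤ n),
      (Ideal.Quotient.factorₐ V (Ideal.pow_le_pow_right hle)).comp (f n) = f m := by
    intro m n hle
    ext x
    obtain ⟨a, ha⟩ := Ideal.Quotient.mk_surjective
      (AdicCompletion.evalₐ (I.map (algebraMap V A)) n x)
    have ha' : AdicCompletion.evalₐ (I.map (algebraMap V A)) m x =
        Ideal.Quotient.mk ((I.map (algebraMap V A)) ^ m) a := by
      rw [← factor_evalₐ _ hle, ← ha, Ideal.Quotient.factor_mk]
    rw [AlgHom.comp_apply, hfa n x a ha.symm, hfa m x a ha']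
    exact factor_evalₐ _ hle _
  refine ⟨AdicCompletion.liftAlgHom (I.map (algebraMap V C)) f hf, ?_⟩
  intro n x a hxa
  rw [AdicCompletion.evalₐ_liftAlgHom]
  exact hfa n x a hxa

theorem finite_of_evalOne {A C : Type u} [CommRing A] [CommRing C] (IA : Ideal A) (IC : Ideal C)
    (hIA : IA.FG) (hIC : IC.FG)
    (φ : AdicCompletion IA A →+* AdicCompletion IC C)
    (φ₀ : A ⧸ IA →+* C ⧸ IC) (hφ₀ : φ₀.Finite)
    (hcomp : (AdicCompletion.evalOneₐ IC).toRingHom.comp φ =
      φ₀.comp (AdicCompletion.evalOneₐ IA).toRingHom)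
    (hmap : (IA.map (algebraMap A (AdicCompletion IA A))).map φ =
      IC.map (algebraMap C (AdicCompletion IC C))) :
    φ.Finite := by
  letI algφ : Algebra (AdicCompletion IA A) (AdicCompletion IC C) := φ.toAlgebra
  show Module.Finite (AdicCompletion IA A) (AdicCompletion IC C)
  haveI hcA := AdicCompletion.isAdicComplete_self IA hIA
  haveI hcC := AdicCompletion.isAdicComplete_self IC hIC
  have hsmul : ∀ j : ℕ, ((IA.map (algebraMap A (AdicCompletion IA A))) ^ j •
      (⊤ : Submodule (AdicCompletion IA A) (AdicCompletion IC C))) =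
      ((IC.map (algebraMap C (AdicCompletion IC C))) ^ j).restrictScalars (AdicCompletion IA A) := by
    intro j
    rw [Ideal.smul_top_eq_map, Ideal.map_pow]
    congr 2
  have hsmul1 : ((IA.map (algebraMap A (AdicCompletion IA A))) •
      (⊤ : Submodule (AdicCompletion IA A) (AdicCompletion IC C))) =
      (IC.map (algebraMap C (AdicCompletion IC C))).restrictScalars (AdicCompletion IA A) := by
    have := hsmul 1
    rwa [pow_one, pow_one] at this
  haveI : IsPrecomplete (IA.map (algebraMap A (AdicCompletion IA A))) (AdicCompletion IA A) :=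
    hcA.toIsPrecomplete
  have sep : ∀ y : AdicCompletion IC C, (∀ j, y ∈ ((IA.map (algebraMap A (AdicCompletion IA A))) ^ j •
      (⊤ : Submodule (AdicCompletion IA A) (AdicCompletion IC C)))) → y = 0 := by
    intro y hy
    apply IsHausdorff.haus' (I := IC.map (algebraMap C (AdicCompletion IC C))) y
    intro n
    rw [SModEq.zero, smul_eq_mul, Ideal.mul_top]
    have := hy n
    rw [hsmul n] at this
    exact this
  -- the quotient is finite
  letI algA : Algebra (AdicCompletion IA A) (A ⧸ IA) := (AdicCompletion.evalOneₐ IA).toRingHom.toAlgebra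
  letI algφ₀ : Algebra (A ⧸ IA) (C ⧸ IC) := φ₀.toAlgebra
  letI algC : Algebra (AdicCompletion IA A) (C ⧸ IC) :=
    (φ₀.comp (AdicCompletion.evalOneₐ IA).toRingHom).toAlgebra
  haveI : IsScalarTower (AdicCompletion IA A) (A ⧸ IA) (C ⧸ IC) := IsScalarTower.of_algebraMap_eq' rfl
  haveI : Module.Finite (AdicCompletion IA A) (A ⧸ IA) :=
    Module.Finite.of_surjective (Algebra.linearMap (AdicCompletion IA A) (A ⧸ IA))
      (AdicCompletion.evalOneₐ_surjective IA)
  haveI : Module.Finite (A ⧸ IA) (C ⧸ IC) := hφ₀
  haveI : Module.Finite (AdicCompletion IA A) (C ⧸ IC) := Module.Finite.trans (A ⧸ IA) (C ⧸ IC)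
  let ℓ : AdicCompletion IC C →ₗ[AdicCompletion IA A] C ⧸ IC :=
    { toFun := fun y => AdicCompletion.evalOneₐ IC y
      map_add' := fun x y => map_add _ x y
      map_smul' := fun r y => by
        show AdicCompletion.evalOneₐ IC (φ r * y) =
          φ₀ (AdicCompletion.evalOneₐ IA r) * AdicCompletion.evalOneₐ IC y
        rw [map_mul]
        congr 1
        exact congrArg (fun h : AdicCompletion IA A →+* C ⧸ IC => h r) hcomp }
  have hℓsurj : Function.Surjective ℓ := AdicCompletion.evalOneₐ_surjective IC
  have hℓker : LinearMap.ker ℓ = ((IA.map (algebraMap A (AdicCompletion IA A))) •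
      (⊤ : Submodule (AdicCompletion IA A) (AdicCompletion IC C))) := by
    rw [hsmul1, ← AdicCompletion.ker_evalOneₐ_eq_map IC hIC]
    ext y
    rfl
  haveI : Module.Finite (AdicCompletion IA A) (AdicCompletion IC C ⧸
      ((IA.map (algebraMap A (AdicCompletion IA A))) •
        (⊤ : Submodule (AdicCompletion IA A) (AdicCompletion IC C)))) :=
    Module.Finite.equiv ((Submodule.quotEquivOfEq _ _ hℓker).symm.trans
      (ℓ.quotKerEquivOfSurjective hℓsurj)).symm
  exact Groth.Agent.Lib.helper28.ProjLim.finite_of_quotient_finite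
    (IA.map (algebraMap A (AdicCompletion IA A))) sep

end Groth.Agent.Lib.helper3.ComplLift
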