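import Mathlib
import Groth.Agent.S18934

/-!
# Finite free splitting covers of monic polynomials and the domination of standard étale algebras

helper3 library.
-/

namespace Groth.Agent.Lib.helper3.SplitCover

universe u

open Polynomial TensorProduct

theorem exists_prime_of_field {R S T L : Type*} [CommRing R] [CommRing S] [CommRing T] [Field L]
    [Algebra R S] [Algebra R T] (a : S →+* L) (b : T →+* L)
    (hab : a.comp (algebraMap R S) = b.comp (algebraMap R T)) :
    ∃ Q : Ideal (S ⊗[R] T), Q.IsPrime ∧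
      Q.comap (Algebra.TensorProduct.includeLeft : S →ₐ[R] S ⊗[R] T).toRingHom = RingHom.ker a ∧
      Q.comap (Algebra.TensorProduct.includeRight : T →ₐ[R] S ⊗[R] T).toRingHom =
        RingHom.ker b := by
  letI : Algebra R L := (a.comp (algebraMap R S)).toAlgebra
  let a' : S →ₐ[R] L := { a with commutes' := fun r => rfl }
  let b' : T →ₐ[R] L := { b with commutes' := fun r => (congr($hab r)).symm }
  let φ : S ⊗[R] T →ₐ[R] L := Algebra.TensorProduct.lift a' b' (fun _ _ => Commute.all _ _)
  refine ⟨RingHom.ker φ.toRingHom, RingHom.ker_isPrime _, ?_, ?_⟩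
  · ext x
    have : φ (x ⊗ₜ[R] (1 : T)) = a x := by
      have := Algebra.TensorProduct.lift_tmul a' b' (fun _ _ => Commute.all _ _) x (1 : T)
      rw [map_one, mul_one] at this
      exact this
    simp only [Ideal.mem_comap, RingHom.mem_ker]
    change φ (x ⊗ₜ[R] (1 : T)) = 0 ↔ _
    rw [this]
  · ext x
    have : φ ((1 : S) ⊗ₜ[R] x) = b x := by
      have := Algebra.TensorProduct.lift_tmul a' b' (fun _ _ => Commute.all _ _) (1 : S) x
      rw [map_one, one_mul] at this
      exact this
    simp only [Ideal.mem_comap, RingHom.mem_ker]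
    change φ ((1 : S) ⊗ₜ[R] x) = 0 ↔ _
    rw [this]

theorem exists_prime_tensor {R S T : Type u} [CommRing R] [CommRing S] [CommRing T]
    [Algebra R S] [Algebra R T] (q : Ideal S) [q.IsPrime] (q' : Ideal T) [q'.IsPrime]
    (h : q'.under R = q.under R) :
    ∃ Q : Ideal (S ⊗[R] T), Q.IsPrime ∧
      Q.comap (Algebra.TensorProduct.includeLeft : S →ₐ[R] S ⊗[R] T).toRingHom = q ∧
      Q.comap (Algebra.TensorProduct.includeRight : T →ₐ[R] S ⊗[R] T).toRingHom = q' := by
  let p : Ideal R := q.under R
  haveI : q.LiesOver p := ⟨rfl⟩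
  haveI : q'.LiesOver p := ⟨h.symm⟩
  haveI : p.IsPrime := inferInstance
  let A := S ⧸ q
  let B := T ⧸ q'
  let FA := FractionRing A
  let FB := FractionRing B
  have hA : Function.Injective (algebraMap (R ⧸ p) FA) := by
    rw [IsScalarTower.algebraMap_eq (R ⧸ p) A FA]
    exact (IsFractionRing.injective A FA).comp (FaithfulSMul.algebraMap_injective _ _)
  have hB : Function.Injective (algebraMap (R ⧸ p) FB) := by
    rw [IsScalarTower.algebraMap_eq (R ⧸ p) B FB]
    exact (IsFractionRing.injective B FB).comp (FaithfulSMul.algebraMap_injective _ _)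
  haveI : Nontrivial (FA ⊗[R ⧸ p] FB) :=
    Algebra.TensorProduct.nontrivial_of_algebraMap_injective_of_isDomain _ _ _ hA hB
  obtain ⟨M, hM⟩ := Ideal.exists_maximal (FA ⊗[R ⧸ p] FB)
  letI := Ideal.Quotient.field M
  let iA : FA →+* (FA ⊗[R ⧸ p] FB) ⧸ M := (Ideal.Quotient.mk M).comp
    (Algebra.TensorProduct.includeLeft : FA →ₐ[R ⧸ p] FA ⊗[R ⧸ p] FB).toRingHom
  let iB : FB →+* (FA ⊗[R ⧸ p] FB) ⧸ M := (Ideal.Quotient.mk M).comp
    (Algebra.TensorProduct.includeRight : FB →ₐ[R ⧸ p] FA ⊗[R ⧸ p] FB).toRingHom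
  let a : S →+* (FA ⊗[R ⧸ p] FB) ⧸ M := iA.comp ((algebraMap A FA).comp (Ideal.Quotient.mk q))
  let b : T →+* (FA ⊗[R ⧸ p] FB) ⧸ M := iB.comp ((algebraMap B FB).comp (Ideal.Quotient.mk q'))
  have hab : a.comp (algebraMap R S) = b.comp (algebraMap R T) := by
    ext r
    change Ideal.Quotient.mk M ((algebraMap A FA (Ideal.Quotient.mk q (algebraMap R S r))) ⊗ₜ 1) =
      Ideal.Quotient.mk M (1 ⊗ₜ (algebraMap B FB (Ideal.Quotient.mk q' (algebraMap R T r))))
    congr 1
    have e1 : algebraMap A FA (Ideal.Quotient.mk q (algebraMap R S r)) =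
        (Ideal.Quotient.mk p r) • (1 : FA) := by
      rw [Algebra.smul_def, mul_one, IsScalarTower.algebraMap_apply (R ⧸ p) A FA]
      rfl
    have e2 : algebraMap B FB (Ideal.Quotient.mk q' (algebraMap R T r)) =
        (Ideal.Quotient.mk p r) • (1 : FB) := by
      rw [Algebra.smul_def, mul_one, IsScalarTower.algebraMap_apply (R ⧸ p) B FB]
      rfl
    rw [e1, e2, TensorProduct.smul_tmul]
  obtain ⟨Q, hQ, h1, h2⟩ := exists_prime_of_field a b hab
  refine ⟨Q, hQ, ?_, ?_⟩
  · rw [h1]
    ext x
    rw [RingHom.mem_ker]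
    change iA (algebraMap A FA (Ideal.Quotient.mk q x)) = 0 ↔ _
    rw [map_eq_zero_iff _ iA.injective, map_eq_zero_iff _ (IsFractionRing.injective A FA),
      Ideal.Quotient.eq_zero_iff_mem]
  · rw [h2]
    ext x
    rw [RingHom.mem_ker]
    change iB (algebraMap B FB (Ideal.Quotient.mk q' x)) = 0 ↔ _
    rw [map_eq_zero_iff _ iB.injective, map_eq_zero_iff _ (IsFractionRing.injective B FB),
      Ideal.Quotient.eq_zero_iff_mem]

theorem exists_splitting (n : ℕ) : ∀ (R : Type u) [CommRing R] (f : R[X]), f.Monic →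
    f.natDegree = n →
    ∃ (S' : Type u) (_ : CommRing S') (_ : Algebra R S'), Module.Finite R S' ∧ Module.Free R S' ∧
      Module.FaithfullyFlat R S' ∧
      ∃ m : Multiset S', f.map (algebraMap R S') = (m.map (fun a => X - C a)).prod := by
  induction n with
  | zero =>
    intro R _ f hf hn
    refine ⟨R, inferInstance, inferInstance, inferInstance, inferInstance, inferInstance, 0, ?_⟩
    have : f = 1 := Polynomial.eq_one_of_monic_natDegree_zero hf hn
    simp [this]
  | succ n ih =>
    intro R _ f hf hn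
    haveI : Nontrivial R := by
      rcases subsingleton_or_nontrivial R with h | h
      · exfalso
        rw [Subsingleton.elim f 0, natDegree_zero] at hn
        omega
      · exact h
    have hfin : Module.Finite R (AdjoinRoot f) := (AdjoinRoot.powerBasis' hf).finite
    have hfree : Module.Free R (AdjoinRoot f) :=
      Module.Free.of_basis (AdjoinRoot.powerBasis' hf).basis
    have hff : Module.FaithfullyFlat R (AdjoinRoot f) :=
      Groth.Agent.S18934.faithfullyFlat R f hf (fun _ => by omega)
    haveI : Nontrivial (AdjoinRoot f) :=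
      (Groth.Agent.S18934.free_nontrivial R f hf (by omega)).2
    let f₁ : (AdjoinRoot f)[X] := (f.map (AdjoinRoot.of f)) /ₘ (X - C (AdjoinRoot.root f))
    have hroot : (f.map (AdjoinRoot.of f)).IsRoot (AdjoinRoot.root f) := by
      rw [IsRoot, eval_map, AdjoinRoot.eval₂_root]
    have hmul : (X - C (AdjoinRoot.root f)) * f₁ = f.map (AdjoinRoot.of f) :=
      mul_divByMonic_eq_iff_isRoot.2 hroot
    have hf₁ : f₁.Monic :=
      Monic.of_mul_monic_left (monic_X_sub_C _) (hmul ▸ hf.map _)
    have hdeg : f₁.natDegree = n := by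
      have := natDegree_divByMonic (f.map (AdjoinRoot.of f)) (monic_X_sub_C (AdjoinRoot.root f))
      rw [natDegree_X_sub_C, hf.natDegree_map, hn] at this
      exact this
    obtain ⟨S'', _, _, hfin', hfree', hff', m, hm⟩ := ih (AdjoinRoot f) f₁ hf₁ hdeg
    letI : Algebra R S'' := ((algebraMap (AdjoinRoot f) S'').comp (algebraMap R (AdjoinRoot f))).toAlgebra
    haveI : IsScalarTower R (AdjoinRoot f) S'' := IsScalarTower.of_algebraMap_eq (fun _ => rfl)
    refine ⟨S'', inferInstance, inferInstance, Module.Finite.trans (AdjoinRoot f) S'',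
      Module.Free.trans (S := AdjoinRoot f), Module.FaithfullyFlat.trans R (AdjoinRoot f) S'',
      (algebraMap (AdjoinRoot f) S'' (AdjoinRoot.root f)) ::ₘ m, ?_⟩
    rw [IsScalarTower.algebraMap_eq R (AdjoinRoot f) S'', ← Polynomial.map_map]
    change ((f.map (AdjoinRoot.of f)).map (algebraMap (AdjoinRoot f) S'')) = _
    rw [← hmul, Polynomial.map_mul, hm]
    simp

/-- The key step: a splitting cover `S'` of `P.f` dominates the standard étale algebra. -/
theorem dominate {R : Type u} [CommRing R] {S : Type u} [CommRing S] [Algebra R S]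
    (P : StandardEtalePresentation R S) {S' : Type u} [CommRing S'] [Algebra R S']
    (m : Multiset S')
    (hm : P.f.map (algebraMap R S') = (m.map (fun a => X - C a)).prod)
    (q : Ideal S) [q.IsPrime] (q' : Ideal S') [q'.IsPrime] (h : q'.under R = q.under R) :
    ∃ (g' : S') (_ : g' ∉ q') (φ : S →ₐ[R] Localization.Away g'),
      (q'.map (algebraMap S' (Localization.Away g'))).comap φ = q := by
  obtain ⟨Q, hQ, hQ1, hQ2⟩ := exists_prime_tensor q q' h
  let D := (S ⊗[R] S') ⧸ Q
  let α : S →ₐ[R] D := (Ideal.Quotient.mkₐ R Q).comp Algebra.TensorProduct.includeLeft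
  let β : S' →ₐ[R] D := (Ideal.Quotient.mkₐ R Q).comp Algebra.TensorProduct.includeRight
  have kα : RingHom.ker α.toRingHom = q := by
    rw [← hQ1]
    ext x
    simp only [RingHom.mem_ker, Ideal.mem_comap]
    exact Ideal.Quotient.eq_zero_iff_mem
  have kβ : RingHom.ker β.toRingHom = q' := by
    rw [← hQ2]
    ext x
    simp only [RingHom.mem_ker, Ideal.mem_comap]
    exact Ideal.Quotient.eq_zero_iff_mem
  -- the roots
  have hroots : ∀ a ∈ m, aeval a P.f = 0 := by
    intro a ha
    rw [aeval_def, ← eval_map, hm, eval_multiset_prod]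
    apply Multiset.prod_eq_zero
    rw [Multiset.mem_map]
    refine ⟨X - C a, Multiset.mem_map_of_mem _ ha, by simp⟩
  -- find the root matching `x`
  have h0 : aeval (α P.x) P.f = 0 := by
    rw [aeval_algHom_apply, P.hasMap.1, map_zero]
  have h1 : ((m.map (fun a => α P.x - β a)).prod : D) = 0 := by
    have e : P.f.map (algebraMap R D) = (m.map (fun a => X - C (β a))).prod := by
      have : algebraMap R D = β.toRingHom.comp (algebraMap R S') := by
        ext r; exact (β.commutes r).symm
      rw [this, ← Polynomial.map_map, hm, Polynomial.map_multiset_prod, Multiset.map_map]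
      congr 1
      apply Multiset.map_congr rfl
      intro a _
      simp
    rw [aeval_def, ← eval_map, e, eval_multiset_prod, Multiset.map_map] at h0
    rw [← h0]
    congr 1
    apply Multiset.map_congr rfl
    intro a _
    simp
  obtain ⟨a, ha, hxa⟩ : ∃ a ∈ m, α P.x = β a := by
    rw [Multiset.prod_eq_zero_iff] at h1
    obtain ⟨a, ha, e⟩ := Multiset.mem_map.mp h1
    exact ⟨a, ha, sub_eq_zero.mp e⟩
  have hunit : IsUnit (β (aeval a P.g)) := by
    rw [← aeval_algHom_apply, ← hxa, aeval_algHom_apply]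
    exact P.hasMap.2.map α
  refine ⟨aeval a P.g, ?_, ?_⟩
  · intro hmem
    rw [← kβ] at hmem
    have : β (aeval a P.g) = 0 := hmem
    rw [this] at hunit
    exact not_isUnit_zero hunit
  let g' : S' := aeval a P.g
  let γ : Localization.Away g' →ₐ[R] D :=
    IsLocalization.liftAlgHom (M := Submonoid.powers g') (f := β) (by
      rintro ⟨_, n, rfl⟩
      simpa using hunit.pow n)
  have hγ : ∀ s : S', γ (algebraMap S' (Localization.Away g') s) = β s := fun s =>
    IsLocalization.lift_eq _ s
  have hy : P.HasMap (algebraMap S' (Localization.Away g') a) := by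
    refine ⟨?_, ?_⟩
    · rw [aeval_algebraMap_apply, hroots a ha, map_zero]
    · rw [aeval_algebraMap_apply]
      exact IsLocalization.Away.algebraMap_isUnit g'
  let φ : S →ₐ[R] Localization.Away g' := (P.lift _ hy).comp P.equivRing.toAlgHom
  have hφx : φ P.x = algebraMap S' (Localization.Away g') a := by
    change P.lift _ hy (P.equivRing P.x) = _
    rw [P.equivRing_x, StandardEtalePair.lift_X]
  have hcomp : γ.comp φ = α := by
    apply P.hom_ext
    rw [AlgHom.comp_apply, hφx, hγ, hxa]
  have hker : RingHom.ker γ.toRingHom = q'.map (algebraMap S' (Localization.Away g')) := by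
    rw [← IsLocalization.map_comap (Submonoid.powers g') (Localization.Away g')
      (RingHom.ker γ.toRingHom)]
    congr 1
    rw [← kβ]
    ext s
    simp only [Ideal.mem_comap, RingHom.mem_ker]
    change γ (algebraMap S' (Localization.Away g') s) = 0 ↔ β s = 0
    rw [hγ]
  refine ⟨φ, ?_⟩
  rw [← hker, ← kα, ← hcomp]
  ext s
  simp only [Ideal.mem_comap, RingHom.mem_ker]
  rfl

theorem main (R : Type u) [CommRing R] (S : Type u) [CommRing S] [Algebra R S]
    [Algebra.IsStandardEtale R S] :
    ∃ (S' : Type u) (_ : CommRing S') (_ : Algebra R S'),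
      Module.Finite R S' ∧ Algebra.FinitePresentation R S' ∧ Module.FaithfullyFlat R S' ∧
        ∀ (q : Ideal S) [q.IsPrime] (q' : Ideal S') [q'.IsPrime], q'.under R = q.under R →
          ∃ (g' : S') (_ : g' ∉ q') (φ : S →ₐ[R] Localization.Away g'),
            (q'.map (algebraMap S' (Localization.Away g'))).comap φ = q := by
  obtain ⟨P⟩ := Algebra.IsStandardEtale.nonempty_standardEtalePresentation (R := R) (S := S)
  obtain ⟨S', _, _, hfin, hfree, hff, m, hm⟩ := exists_splitting _ R P.f P.monic_f rfl
  haveI : Module.FinitePresentation R S' := Module.finitePresentation_of_projective R S'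
  refine ⟨S', inferInstance, inferInstance, hfin, inferInstance, hff, ?_⟩
  intro q _ q' _ h
  exact dominate P m hm q q' h

/-- `Dom R A S'`: Zariski locally on `S'`, over every point of `Spec A` lying over the same point
of `Spec R`, the structure map of `S'` factors through `A`. -/
def Dom (R A S' : Type u) [CommRing R] [CommRing A] [CommRing S'] [Algebra R A] [Algebra R S'] :
    Prop :=
  ∀ (q : Ideal A) [q.IsPrime] (q' : Ideal S') [q'.IsPrime], q'.under R = q.under R →
    ∃ (g' : S') (_ : g' ∉ q'), Nonempty (A →ₐ[R] Localization.Away g')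

theorem dom_of_algHom {R A S₁ S₃ : Type u} [CommRing R] [CommRing A] [CommRing S₁] [CommRing S₃]
    [Algebra R A] [Algebra R S₁] [Algebra R S₃] (ι : S₁ →ₐ[R] S₃) (H : Dom R A S₁) :
    Dom R A S₃ := by
  intro q _ q' _ h
  have h' : (q'.comap ι.toRingHom).under R = q.under R := by
    rw [← h]
    ext r
    simp only [Ideal.under_def, Ideal.mem_comap]
    change ι (algebraMap R S₁ r) ∈ q' ↔ _
    rw [ι.commutes]
  obtain ⟨g₁, hg₁, ⟨ψ⟩⟩ := H q (q'.comap ι.toRingHom) h'
  refine ⟨ι g₁, hg₁, ⟨?_⟩⟩
  let γ : Localization.Away g₁ →ₐ[R] Localization.Away (ι g₁) :=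
    IsLocalization.liftAlgHom (M := Submonoid.powers g₁)
      (f := (IsScalarTower.toAlgHom R S₃ (Localization.Away (ι g₁))).comp ι) (by
      rintro ⟨_, n, rfl⟩
      simpa using (IsLocalization.Away.algebraMap_isUnit (S := Localization.Away (ι g₁))
        (ι g₁)).pow n)
  exact γ.comp ψ

theorem main' (R : Type u) [CommRing R] (S : Type u) [CommRing S] [Algebra R S]
    [Algebra.IsStandardEtale R S] :
    ∃ (S' : Type u) (_ : CommRing S') (_ : Algebra R S'),
      Module.Finite R S' ∧ Module.Free R S' ∧ Module.FaithfullyFlat R S' ∧ Dom R S S' := by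
  obtain ⟨P⟩ := Algebra.IsStandardEtale.nonempty_standardEtalePresentation (R := R) (S := S)
  obtain ⟨S', _, _, hfin, hfree, hff, m, hm⟩ := exists_splitting _ R P.f P.monic_f rfl
  refine ⟨S', inferInstance, inferInstance, hfin, hfree, hff, ?_⟩
  intro q _ q' _ h
  obtain ⟨g', hg', φ, -⟩ := dominate P m hm q q' h
  exact ⟨g', hg', ⟨φ⟩⟩

theorem exists_cover_finset {R : Type u} [CommRing R] {S : Type u} [CommRing S] [Algebra R S]
    (t : Finset S) (ht : ∀ f ∈ t, Algebra.IsStandardEtale R (Localization.Away f)) :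
    ∃ (S' : Type u) (_ : CommRing S') (_ : Algebra R S'),
      Module.Finite R S' ∧ Module.Free R S' ∧ Module.FaithfullyFlat R S' ∧
        ∀ f ∈ t, Dom R (Localization.Away f) S' := by
  classical
  induction t using Finset.induction_on with
  | empty =>
    exact ⟨R, inferInstance, inferInstance, inferInstance, inferInstance, inferInstance,
      fun f hf => absurd hf (Finset.notMem_empty f)⟩
  | insert f t hft ih =>
    obtain ⟨S₂, _, _, hfin₂, hfree₂, hff₂, H₂⟩ :=
      ih (fun g hg => ht g (Finset.mem_insert_of_mem hg))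
    haveI := ht f (Finset.mem_insert_self f t)
    obtain ⟨S₁, _, _, hfin₁, hfree₁, hff₁, H₁⟩ := main' R (Localization.Away f)
    refine ⟨S₁ ⊗[R] S₂, inferInstance, inferInstance, inferInstance, inferInstance,
      Module.FaithfullyFlat.trans R S₁ (S₁ ⊗[R] S₂), ?_⟩
    intro g hg
    rcases Finset.mem_insert.mp hg with rfl | hg
    · exact dom_of_algHom Algebra.TensorProduct.includeLeft H₁
    · exact dom_of_algHom Algebra.TensorProduct.includeRight (H₂ g hg)

theorem main_etale (R : Type u) [CommRing R] (S : Type u) [CommRing S] [Algebra R S]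
    [Algebra.Etale R S] :
    ∃ (S' : Type u) (_ : CommRing S') (_ : Algebra R S'),
      Module.Finite R S' ∧ Module.Free R S' ∧ Module.FaithfullyFlat R S' ∧ Dom R S S' := by
  -- the ideal generated by the `f` with `S_f` standard étale is the unit ideal
  let s : Set S := {f | Algebra.IsStandardEtale R (Localization.Away f)}
  have hs : Ideal.span s = ⊤ := by
    by_contra hne
    obtain ⟨M, hM, hle⟩ := Ideal.exists_le_maximal _ hne
    haveI := hM.isPrime
    obtain ⟨f, hfM, hf⟩ := Algebra.IsEtaleAt.exists_isStandardEtale (R := R) M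
    exact hfM (hle (Ideal.subset_span hf))
  obtain ⟨t, hts, ht⟩ := (Ideal.span_eq_top_iff_finite s).mp hs
  obtain ⟨S', i1, i2, hfin, hfree, hff, H⟩ := exists_cover_finset (R := R) t (fun f hf => hts hf)
  refine ⟨S', i1, i2, hfin, hfree, hff, ?_⟩
  intro q _ q' _ h
  -- some `f ∈ t` is not in `q`
  obtain ⟨f, hft, hfq⟩ : ∃ f ∈ t, f ∉ q := by
    by_contra hcon
    push Not at hcon
    have : Ideal.span (t : Set S) ≤ q := Ideal.span_le.mpr (fun f hf => hcon f hf)
    rw [ht] at this
    exact (Ideal.IsPrime.ne_top ‹_›) (top_le_iff.mp this)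
  have hdisj : Disjoint (Submonoid.powers f : Set S) (q : Set S) :=
    (Ideal.disjoint_powers_iff_notMem_of_isPrime _).mpr hfq
  haveI : (q.map (algebraMap S (Localization.Away f))).IsPrime :=
    IsLocalization.isPrime_of_isPrime_disjoint (Submonoid.powers f) _ _ ‹_› hdisj
  have hcm : (q.map (algebraMap S (Localization.Away f))).comap
      (algebraMap S (Localization.Away f)) = q :=
    IsLocalization.comap_map_of_isPrime_disjoint (Submonoid.powers f) _ ‹_› hdisj
  have h' : q'.under R = (q.map (algebraMap S (Localization.Away f))).under R := by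
    rw [h]
    conv_lhs => rw [← hcm]
    rw [Ideal.under_def, Ideal.under_def, Ideal.comap_comap,
      ← IsScalarTower.algebraMap_eq]
  obtain ⟨g', hg', ⟨ψ⟩⟩ := H f hft _ q' h'
  exact ⟨g', hg', ⟨ψ.comp (IsScalarTower.toAlgHom R S (Localization.Away f))⟩⟩

end Groth.Agent.Lib.helper3.SplitCover
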