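import Mathlib
import Groth.Agent.Lib.helper3.SplitCover
import Groth.Agent.S9435

set_option autoImplicit false
universe u

open TensorProduct

namespace Groth.Agent.Lib.helper3.UnramSplit

/-- The conclusion of the local splitting statement for an unramified prime. -/
def Phi (R S : Type u) [CommRing R] [CommRing S] [Algebra R S] (q : Ideal S) : Prop :=
  ∃ (R' : Type u) (_ : CommRing R') (_ : Algebra R R') (_ : Algebra.Etale R R') (p' : Ideal R')
      (_ : p'.IsPrime) (_ : p'.LiesOver (q.under R)) (A : Type u) (_ : CommRing A) (_ : Algebra R' A)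
      (B : Type u) (_ : CommRing B) (_ : Algebra R' B) (e : (R' ⊗[R] S) ≃ₐ[R'] (A × B)),
      Function.Surjective (algebraMap R' A) ∧ (p'.map (algebraMap R' A)).IsPrime ∧
        (p'.map (algebraMap R' A)).comap (algebraMap R' A) = p' ∧
        (p'.map (algebraMap R' A)).comap (((RingHom.fst A B).comp e.toRingHom).comp
          (Algebra.TensorProduct.includeRight : S →ₐ[R] R' ⊗[R] S).toRingHom) = q

theorem Phi.of_idem {R S : Type u} [CommRing R] [CommRing S] [Algebra R S] (q : Ideal S) [q.IsPrime]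
    (ε : S) (hε : IsIdempotentElem ε) (hεq : ε ∉ q)
    (h : ∀ x : S, ∃ r : R, (x - algebraMap R S r) * ε = 0) : Phi R S q := by
  have h1ε : (1 - ε) ∈ q := by
    have : ε * (1 - ε) ∈ q := by
      rw [mul_sub, mul_one, hε.eq, sub_self]; exact q.zero_mem
    exact (‹q.IsPrime›.mem_or_mem this).resolve_left hεq
  let e₀ : S ≃ₐ[R] (S ⧸ Ideal.span {1 - ε}) × (S ⧸ Ideal.span {ε}) :=
    AlgEquiv.prodQuotientOfIsIdempotentElem R hε.one_sub hε (by ring)
      (by rw [sub_mul, one_mul, hε.eq, sub_self])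
  let e : R ⊗[R] S ≃ₐ[R] (S ⧸ Ideal.span {1 - ε}) × (S ⧸ Ideal.span {ε}) :=
    (Algebra.TensorProduct.lid R S).trans e₀
  have hker : RingHom.ker (Ideal.Quotient.mk (Ideal.span {1 - ε})) ≤ q := by
    rw [Ideal.mk_ker, Ideal.span_le]
    rintro _ rfl
    exact h1ε
  have hsurj : Function.Surjective (algebraMap R (S ⧸ Ideal.span {1 - ε})) := by
    intro a
    obtain ⟨x, rfl⟩ := Ideal.Quotient.mk_surjective a
    obtain ⟨r, hr⟩ := h x
    refine ⟨r, ?_⟩
    rw [IsScalarTower.algebraMap_apply R S (S ⧸ Ideal.span {1 - ε}), Ideal.Quotient.algebraMap_eq,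
      eq_comm, Ideal.Quotient.eq, Ideal.mem_span_singleton]
    refine ⟨x - algebraMap R S r, ?_⟩
    rw [mul_comm, mul_sub, mul_one, hr, sub_zero]
  have hcm : (q.map (Ideal.Quotient.mk (Ideal.span {1 - ε}))).comap
      (Ideal.Quotient.mk (Ideal.span {1 - ε})) = q := by
    rw [Ideal.comap_map_of_surjective _ Ideal.Quotient.mk_surjective, ← RingHom.ker_eq_comap_bot]
    exact sup_eq_left.mpr hker
  have hmap : (q.under R).map (algebraMap R (S ⧸ Ideal.span {1 - ε})) =
      q.map (Ideal.Quotient.mk (Ideal.span {1 - ε})) := by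
    apply le_antisymm
    · rw [Ideal.map_le_iff_le_comap]
      intro r hr
      rw [Ideal.mem_comap, IsScalarTower.algebraMap_apply R S (S ⧸ Ideal.span {1 - ε}),
        Ideal.Quotient.algebraMap_eq]
      exact Ideal.mem_map_of_mem _ hr
    · intro a ha
      obtain ⟨r, rfl⟩ := hsurj a
      apply Ideal.mem_map_of_mem
      rw [IsScalarTower.algebraMap_apply R S (S ⧸ Ideal.span {1 - ε}),
        Ideal.Quotient.algebraMap_eq] at ha
      have : algebraMap R S r ∈ (q.map (Ideal.Quotient.mk (Ideal.span {1 - ε}))).comap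
          (Ideal.Quotient.mk (Ideal.span {1 - ε})) := ha
      rw [hcm] at this
      exact this
  have hprime : (q.map (Ideal.Quotient.mk (Ideal.span {1 - ε}))).IsPrime :=
    Ideal.map_isPrime_of_surjective Ideal.Quotient.mk_surjective hker
  refine ⟨R, inferInstance, inferInstance, inferInstance, q.under R, inferInstance, ⟨rfl⟩,
    S ⧸ Ideal.span {1 - ε}, inferInstance, inferInstance, S ⧸ Ideal.span {ε}, inferInstance,
    inferInstance, e, hsurj, ?_, ?_, ?_⟩
  · rw [hmap]; exact hprime
  · rw [hmap]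
    have : algebraMap R (S ⧸ Ideal.span {1 - ε}) =
        (Ideal.Quotient.mk (Ideal.span {1 - ε})).comp (algebraMap R S) := rfl
    rw [this, ← Ideal.comap_comap, hcm]
  · rw [hmap]
    have : ((RingHom.fst (S ⧸ Ideal.span {1 - ε}) (S ⧸ Ideal.span {ε})).comp e.toRingHom).comp
        (Algebra.TensorProduct.includeRight : S →ₐ[R] R ⊗[R] S).toRingHom =
        Ideal.Quotient.mk (Ideal.span {1 - ε}) := by
      ext s
      simp [e, e₀, AlgEquiv.prodQuotientOfIsIdempotentElem_apply_fst]
    rw [this, hcm]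

theorem Phi.trans {R S : Type u} [CommRing R] [CommRing S] [Algebra R S] (q : Ideal S)
    (R₁ : Type u) [CommRing R₁] [Algebra R R₁] [Algebra.Etale R R₁]
    (q₁ : Ideal (R₁ ⊗[R] S))
    (hq₁ : q₁.comap (Algebra.TensorProduct.includeRight : S →ₐ[R] R₁ ⊗[R] S).toRingHom = q)
    (h : Phi R₁ (R₁ ⊗[R] S) q₁) : Phi R S q := by
  obtain ⟨R', _, _, _, p', _, hp', A, _, _, B, _, _, e, h1, h2, h3, h4⟩ := h
  letI : Algebra R R' := ((algebraMap R₁ R').comp (algebraMap R R₁)).toAlgebra
  haveI : IsScalarTower R R₁ R' := .of_algebraMap_eq' rfl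
  haveI : Algebra.Etale R R' := Algebra.Etale.comp R R₁ R'
  have hunder : (q₁.under R₁).under R = q.under R := by
    ext x
    simp only [Ideal.under, Ideal.mem_comap]
    rw [← hq₁, Ideal.mem_comap]
    have : algebraMap R₁ (R₁ ⊗[R] S) (algebraMap R R₁ x) =
        (Algebra.TensorProduct.includeRight : S →ₐ[R] R₁ ⊗[R] S).toRingHom (algebraMap R S x) := by
      rw [← IsScalarTower.algebraMap_apply]
      exact ((Algebra.TensorProduct.includeRight : S →ₐ[R] R₁ ⊗[R] S).commutes x).symm
    rw [this]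
  haveI : p'.LiesOver (q.under R) := by
    refine ⟨?_⟩
    rw [← hunder, hp'.over]
    ext x
    simp only [Ideal.under, Ideal.mem_comap]
    rfl
  let c : R' ⊗[R] S ≃ₐ[R'] R' ⊗[R₁] (R₁ ⊗[R] S) :=
    (Algebra.TensorProduct.cancelBaseChange R R₁ R' R' S).symm
  refine ⟨R', inferInstance, inferInstance, inferInstance, p', inferInstance, inferInstance,
    A, inferInstance, inferInstance, B, inferInstance, inferInstance, c.trans e, h1, h2, h3, ?_⟩
  have : ((RingHom.fst A B).comp (c.trans e).toRingHom).comp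
        (Algebra.TensorProduct.includeRight : S →ₐ[R] R' ⊗[R] S).toRingHom =
      (((RingHom.fst A B).comp e.toRingHom).comp
        (Algebra.TensorProduct.includeRight : (R₁ ⊗[R] S) →ₐ[R₁] R' ⊗[R₁] (R₁ ⊗[R] S)).toRingHom).comp
        (Algebra.TensorProduct.includeRight : S →ₐ[R] R₁ ⊗[R] S).toRingHom := by
    ext s
    simp [c]
  rw [this, ← Ideal.comap_comap, h4, hq₁]

theorem Phi.of_away {R T : Type u} [CommRing R] [CommRing T] [Algebra R T] (Q : Ideal T) [Q.IsPrime]
    (ε : T) (hε : IsIdempotentElem ε) (hεQ : ε ∉ Q) (f : R) (hf : f ∉ Q.under R)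
    (h : ∀ t : T, ∃ a : R, (f • t - algebraMap R T a) * ε = 0) : Phi R T Q := by
  -- a prime of the localisation over `Q.under R`
  have hdisj : Disjoint (Submonoid.powers f : Set R) (Q.under R : Set R) := by
    rw [Ideal.disjoint_powers_iff_notMem _ (Ideal.IsPrime.isRadical inferInstance)]
    exact hf
  haveI hp'prime : ((Q.under R).map (algebraMap R (Localization.Away f))).IsPrime :=
    IsLocalization.isPrime_of_isPrime_disjoint (.powers f) _ _ inferInstance hdisj
  have hp'under : ((Q.under R).map (algebraMap R (Localization.Away f))).under R = Q.under R :=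
    IsLocalization.comap_map_of_isPrime_disjoint (.powers f) _ inferInstance hdisj
  obtain ⟨Q', hQ'prime, hQ'l, hQ'r⟩ := SplitCover.exists_prime_tensor (R := R)
    (S := Localization.Away f) (T := T)
    ((Q.under R).map (algebraMap R (Localization.Away f))) Q hp'under.symm
  haveI := hQ'prime
  refine Phi.trans Q (Localization.Away f) Q' hQ'r ?_
  refine Phi.of_idem Q' ((1 : Localization.Away f) ⊗ₜ[R] ε) ?_ ?_ ?_
  · show _ * _ = _
    rw [Algebra.TensorProduct.tmul_mul_tmul, one_mul, hε.eq]
  · intro hmem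
    apply hεQ
    rw [← hQ'r]
    exact hmem
  · intro x
    induction x with
    | zero => exact ⟨0, by simp⟩
    | add x y hx hy =>
      obtain ⟨r₁, h₁⟩ := hx
      obtain ⟨r₂, h₂⟩ := hy
      refine ⟨r₁ + r₂, ?_⟩
      rw [map_add]
      have : (x + y - (algebraMap _ _ r₁ + algebraMap _ _ r₂)) * ((1 : Localization.Away f) ⊗ₜ[R] ε) =
          (x - algebraMap _ _ r₁) * ((1 : Localization.Away f) ⊗ₜ[R] ε) +
          (y - algebraMap _ _ r₂) * ((1 : Localization.Away f) ⊗ₜ[R] ε) := by ring
      rw [this, h₁, h₂, add_zero]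
    | tmul r' t =>
      obtain ⟨a, ha⟩ := h t
      have ha' : (f • t) * ε = algebraMap R T a * ε := by
        rw [sub_mul] at ha
        exact sub_eq_zero.mp ha
      refine ⟨r' * IsLocalization.Away.invSelf f * algebraMap R _ a, ?_⟩
      rw [sub_mul, sub_eq_zero, Algebra.TensorProduct.algebraMap_apply,
        Algebra.TensorProduct.tmul_mul_tmul, Algebra.TensorProduct.tmul_mul_tmul, mul_one, one_mul]
      have h1 : r' = (r' * IsLocalization.Away.invSelf f) * algebraMap R (Localization.Away f) f := by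
        rw [mul_assoc, mul_comm (IsLocalization.Away.invSelf f), IsLocalization.Away.mul_invSelf,
          mul_one]
      conv_lhs => rw [h1]
      rw [Algebra.algebraMap_eq_smul_one (A := Localization.Away f) f, mul_smul_comm, mul_one,
        TensorProduct.smul_tmul, ← smul_mul_assoc, ha']
      rw [← Algebra.smul_def a ε, TensorProduct.tmul_smul, TensorProduct.smul_tmul',
        Algebra.smul_def a, Algebra.algebraMap_self, RingHom.id_apply, mul_one, mul_comm]

theorem resTriv_baseChange {R S : Type u} [CommRing R] [CommRing S] [Algebra R S]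
    (q : Ideal S) [q.IsPrime]
    (hres : ∀ t : S, ∃ a s : R, s ∉ q.under R ∧ s • t - algebraMap R S a ∈ q)
    (R' : Type u) [CommRing R'] [Algebra R R'] (q' : Ideal (R' ⊗[R] S)) [q'.IsPrime]
    (hq' : q'.comap (Algebra.TensorProduct.includeRight : S →ₐ[R] R' ⊗[R] S).toRingHom = q) :
    ∀ t : R' ⊗[R] S, ∃ a s : R', s ∉ q'.under R' ∧ s • t - algebraMap R' (R' ⊗[R] S) a ∈ q' := by
  have hmem : ∀ y : S, y ∈ q → ((1 : R') ⊗ₜ[R] y) ∈ q' := by
    intro y hy
    rw [← hq'] at hy
    exact hy
  intro t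
  induction t with
  | zero => exact ⟨0, 1, fun h => Ideal.IsPrime.ne_top' ((Ideal.eq_top_iff_one _).mpr h), by simp⟩
  | add x y hx hy =>
    obtain ⟨a₁, s₁, hs₁, h₁⟩ := hx
    obtain ⟨a₂, s₂, hs₂, h₂⟩ := hy
    refine ⟨s₂ * a₁ + s₁ * a₂, s₁ * s₂, ?_, ?_⟩
    · exact fun h => (Ideal.IsPrime.mem_or_mem inferInstance h).elim hs₁ hs₂
    · have : (s₁ * s₂) • (x + y) - algebraMap R' (R' ⊗[R] S) (s₂ * a₁ + s₁ * a₂) =
          s₂ • (s₁ • x - algebraMap R' (R' ⊗[R] S) a₁) + s₁ • (s₂ • y - algebraMap R' (R' ⊗[R] S) a₂) := by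
        simp only [Algebra.smul_def, map_add, map_mul]
        ring
      rw [this]
      exact q'.add_mem (Submodule.smul_of_tower_mem q' s₂ h₁) (Submodule.smul_of_tower_mem q' s₁ h₂)
  | tmul r' t =>
    obtain ⟨a₀, s₀, hs₀, h₀⟩ := hres t
    refine ⟨r' * algebraMap R R' a₀, algebraMap R R' s₀, ?_, ?_⟩
    · intro hmem'
      apply hs₀
      rw [← hq']
      have : algebraMap R' (R' ⊗[R] S) (algebraMap R R' s₀) =
          (Algebra.TensorProduct.includeRight : S →ₐ[R] R' ⊗[R] S).toRingHom (algebraMap R S s₀) := by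
        rw [← IsScalarTower.algebraMap_apply]
        exact ((Algebra.TensorProduct.includeRight : S →ₐ[R] R' ⊗[R] S).commutes s₀).symm
      show algebraMap R S s₀ ∈ Ideal.comap _ q'
      rw [Ideal.mem_comap, ← this]
      exact hmem'
    · have : algebraMap R R' s₀ • (r' ⊗ₜ[R] t) - algebraMap R' (R' ⊗[R] S) (r' * algebraMap R R' a₀) =
          (r' ⊗ₜ[R] (1 : S)) * ((1 : R') ⊗ₜ[R] (s₀ • t - algebraMap R S a₀)) := by
        rw [Algebra.TensorProduct.tmul_mul_tmul, mul_one, one_mul, TensorProduct.tmul_sub,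
          Algebra.TensorProduct.algebraMap_apply, Algebra.algebraMap_self, RingHom.id_apply,
          TensorProduct.smul_tmul', smul_eq_mul, ← Algebra.smul_def, TensorProduct.tmul_smul,
          Algebra.algebraMap_eq_smul_one (A := S) a₀, TensorProduct.tmul_smul, TensorProduct.smul_tmul',
          TensorProduct.smul_tmul']
        rw [Algebra.smul_def a₀ r', mul_comm r']
      rw [this]
      exact q'.mul_mem_left _ (hmem _ h₀)

theorem isUnramifiedAt_baseChange {R S : Type u} [CommRing R] [CommRing S] [Algebra R S]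
    [Algebra.FiniteType R S] (q : Ideal S) [q.IsPrime] [Algebra.IsUnramifiedAt R q]
    (R' : Type u) [CommRing R'] [Algebra R R'] (q' : Ideal (R' ⊗[R] S)) [q'.IsPrime]
    (hq' : q'.comap (Algebra.TensorProduct.includeRight : S →ₐ[R] R' ⊗[R] S).toRingHom = q) :
    Algebra.IsUnramifiedAt R' q' := by
  obtain ⟨g, hgq, hU⟩ := Algebra.exists_formallyUnramified_of_isUnramifiedAt (R := R) q
  have hgq' : ((1 : R') ⊗ₜ[R] g) ∉ q' := by
    intro hmem
    apply hgq
    rw [← hq']
    exact hmem
  suffices h : Algebra.FormallyUnramified R' (Localization.Away ((1 : R') ⊗ₜ[R] g)) by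
    have := Algebra.basicOpen_subset_unramifiedLocus_iff.mpr h
    exact this (show (⟨q', inferInstance⟩ : PrimeSpectrum (R' ⊗[R] S)) ∈
      PrimeSpectrum.basicOpen ((1 : R') ⊗ₜ[R] g) from hgq')
  -- the map `S → L`
  let φ : S →ₐ[R] Localization.Away ((1 : R') ⊗ₜ[R] g) :=
    (IsScalarTower.toAlgHom R (R' ⊗[R] S) (Localization.Away ((1 : R') ⊗ₜ[R] g))).comp
      (Algebra.TensorProduct.includeRight : S →ₐ[R] R' ⊗[R] S)
  have hφ : ∀ y : Submonoid.powers g, IsUnit (φ y) := by
    rintro ⟨_, n, rfl⟩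
    simp only [map_pow]
    apply IsUnit.pow
    exact IsLocalization.Away.algebraMap_isUnit ((1 : R') ⊗ₜ[R] g)
  let θ : Localization.Away g →ₐ[R] Localization.Away ((1 : R') ⊗ₜ[R] g) :=
    IsLocalization.liftAlgHom (M := Submonoid.powers g) (f := φ) hφ
  let ψ : R' ⊗[R] Localization.Away g →ₐ[R'] Localization.Away ((1 : R') ⊗ₜ[R] g) :=
    Algebra.TensorProduct.lift (Algebra.ofId R' _) θ (fun _ _ => Commute.all _ _)
  have hθ : ∀ s : S, θ (algebraMap S (Localization.Away g) s) =
      algebraMap (R' ⊗[R] S) _ ((1 : R') ⊗ₜ[R] s) := by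
    intro s
    simp [θ, φ]
  have hψ : Function.Surjective ψ := by
    have h1 : ∀ x : R' ⊗[R] S, algebraMap (R' ⊗[R] S) (Localization.Away ((1 : R') ⊗ₜ[R] g)) x ∈
        ψ.range := by
      intro x
      induction x with
      | zero => simp
      | add x y hx hy => rw [map_add]; exact ψ.range.add_mem hx hy
      | tmul a s =>
        refine ⟨a ⊗ₜ algebraMap S (Localization.Away g) s, ?_⟩
        show ψ (a ⊗ₜ algebraMap S (Localization.Away g) s) = _
        rw [Algebra.TensorProduct.lift_tmul, hθ]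
        rw [Algebra.ofId_apply, IsScalarTower.algebraMap_apply R' (R' ⊗[R] S), ← map_mul,
          Algebra.TensorProduct.algebraMap_apply, Algebra.algebraMap_self, RingHom.id_apply,
          Algebra.TensorProduct.tmul_mul_tmul, mul_one, one_mul]
    intro y
    obtain ⟨x, s, rfl⟩ := IsLocalization.exists_mk'_eq (Submonoid.powers ((1 : R') ⊗ₜ[R] g)) y
    obtain ⟨n, hn⟩ := s.2
    have hinv : (IsLocalization.mk' (Localization.Away ((1 : R') ⊗ₜ[R] g)) x s) =
        algebraMap _ _ x * (ψ ((1 : R') ⊗ₜ[R] IsLocalization.Away.invSelf g)) ^ n := by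
      rw [IsLocalization.mk'_eq_iff_eq_mul, ← hn]
      have hψ1 : ψ ((1 : R') ⊗ₜ[R] IsLocalization.Away.invSelf g) = θ (IsLocalization.Away.invSelf g) := by
        show Algebra.TensorProduct.lift _ _ _ _ = _
        rw [Algebra.TensorProduct.lift_tmul, map_one, one_mul]
      rw [hψ1, mul_assoc, map_pow, ← mul_pow]
      have : θ (IsLocalization.Away.invSelf g) *
          algebraMap (R' ⊗[R] S) (Localization.Away ((1 : R') ⊗ₜ[R] g)) ((1 : R') ⊗ₜ[R] g) = 1 := by
        rw [← hθ, ← map_mul, mul_comm, IsLocalization.Away.mul_invSelf, map_one]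
      rw [this, one_pow, mul_one]
    rw [hinv]
    exact ψ.range.mul_mem (h1 x) (ψ.range.pow_mem ⟨_, rfl⟩ n)
  exact Algebra.FormallyUnramified.of_surjective ψ hψ

theorem nak {R T : Type u} [CommRing R] [CommRing T] [Algebra R T] [Algebra.FiniteType R T]
    (P : Ideal R) [P.IsPrime]
    (Q : Ideal T) [Q.IsPrime] [Q.LiesOver P] [Algebra.IsUnramifiedAt R Q]
    (ε : T) (hε : IsIdempotentElem ε) (hεQ : ε ∉ Q) [Module.Finite R (Localization.Away ε)]
    (huniq : ∀ Q' : Ideal T, Q'.IsPrime → Q'.LiesOver P → ε ∉ Q' → Q' = Q)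
    (hres : ∀ t : T, ∃ a s : R, s ∉ P ∧ s • t - algebraMap R T a ∈ Q) :
    ∃ f ∉ P, ∀ t : T, ∃ a : R, (f • t - algebraMap R T a) * ε = 0 := by
  classical
  have hdisj : Disjoint (Submonoid.powers ε : Set T) (Q : Set T) := by
    rw [Ideal.disjoint_powers_iff_notMem _ (Ideal.IsPrime.isRadical inferInstance)]
    exact hεQ
  let QA : Ideal (Localization.Away ε) := Q.map (algebraMap T (Localization.Away ε))
  haveI hQAprime : QA.IsPrime :=
    IsLocalization.isPrime_of_isPrime_disjoint (.powers ε) _ _ inferInstance hdisj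
  have hQAcomap : QA.comap (algebraMap T (Localization.Away ε)) = Q :=
    IsLocalization.comap_map_of_isPrime_disjoint (.powers ε) _ inferInstance hdisj
  haveI hQAover : QA.LiesOver P := by
    refine ⟨?_⟩
    rw [Ideal.under, IsScalarTower.algebraMap_eq R T (Localization.Away ε), ← Ideal.comap_comap,
      hQAcomap]
    exact Q.over_def P
  have hq : P.primesOver (Localization.Away ε) = {QA} := by
    ext Q''
    constructor
    · rintro ⟨hp, ho⟩
      have h1 : (Q''.comap (algebraMap T (Localization.Away ε))).IsPrime := Ideal.comap_isPrime _ _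
      have h2 : (Q''.comap (algebraMap T (Localization.Away ε))).LiesOver P := by
        refine ⟨?_⟩
        rw [ho.over, Ideal.under, Ideal.under, Ideal.comap_comap, ← IsScalarTower.algebraMap_eq]
      have h3 : ε ∉ Q''.comap (algebraMap T (Localization.Away ε)) := fun h =>
        hp.ne_top (Ideal.eq_top_of_isUnit_mem _ h (IsLocalization.Away.algebraMap_isUnit ε))
      have h4 := huniq _ h1 h2 h3
      show Q'' = QA
      have h5 := IsLocalization.map_comap (.powers ε) (Localization.Away ε) Q''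
      have h6 : Ideal.under T Q'' = Q := h4
      rw [h6] at h5
      exact h5.symm
    · rintro rfl
      exact ⟨inferInstance, inferInstance⟩
  haveI hQAunr : Algebra.IsUnramifiedAt R QA := by
    have key : ∀ (Q₁ : Ideal T) [Q₁.IsPrime], Q₁ = Q → Algebra.IsUnramifiedAt R Q₁ := by
      rintro Q₁ _ rfl
      infer_instance
    haveI := key _ hQAcomap
    exact Algebra.FormallyUnramified.of_equiv
      ((IsLocalization.localizationLocalizationAtPrimeIsoLocalization (.powers ε) QA).restrictScalars R)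
  have hε1 : algebraMap T (Localization.Away ε) ε = 1 := by
    have hu := IsLocalization.Away.algebraMap_isUnit (S := Localization.Away ε) ε
    have : algebraMap T (Localization.Away ε) ε * algebraMap T (Localization.Away ε) ε =
        algebraMap T (Localization.Away ε) ε * 1 := by rw [← map_mul, hε.eq, mul_one]
    exact hu.mul_left_cancel this
  have hT : ∀ x : Localization.Away ε, ∃ t : T, algebraMap T (Localization.Away ε) t = x := by
    intro x
    obtain ⟨t, s, rfl⟩ := IsLocalization.exists_mk'_eq (Submonoid.powers ε) x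
    obtain ⟨n, hn⟩ := s.2
    refine ⟨t, ?_⟩
    rw [eq_comm, IsLocalization.mk'_eq_iff_eq_mul, ← hn, map_pow, hε1, one_pow, mul_one]
  have hresA : ∀ x : Localization.Away ε, ∃ a s : R, s ∉ P ∧
      s • x - algebraMap R (Localization.Away ε) a ∈ QA := by
    intro x
    obtain ⟨t, rfl⟩ := hT x
    obtain ⟨a, s, hs, h⟩ := hres t
    refine ⟨a, s, hs, ?_⟩
    have := Ideal.mem_map_of_mem (algebraMap T (Localization.Away ε)) h
    rwa [map_sub, ← IsScalarTower.algebraMap_apply, Algebra.smul_def, map_mul,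
      ← IsScalarTower.algebraMap_apply, ← Algebra.smul_def] at this
  letI := Localization.AtPrime.algebraOfLiesOver P QA
  have hσ : ∀ r : R, algebraMap P.ResidueField QA.ResidueField (algebraMap R P.ResidueField r) =
      algebraMap (Localization.Away ε) QA.ResidueField (algebraMap R (Localization.Away ε) r) := by
    intro r
    rw [← IsScalarTower.algebraMap_apply, ← IsScalarTower.algebraMap_apply]
  have hval : ∀ x : Localization.Away ε, algebraMap (Localization.Away ε) QA.ResidueField x ∈
      Set.range (algebraMap P.ResidueField QA.ResidueField) := by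
    intro x
    obtain ⟨a, s, hs, h⟩ := hresA x
    have h0 : algebraMap (Localization.Away ε) QA.ResidueField
        (s • x - algebraMap R (Localization.Away ε) a) = 0 :=
      (Ideal.algebraMap_residueField_eq_zero).mpr h
    rw [map_sub, Algebra.smul_def, map_mul, sub_eq_zero, ← hσ, ← hσ] at h0
    have hs0 : algebraMap P.ResidueField QA.ResidueField (algebraMap R P.ResidueField s) ≠ 0 := by
      rw [hσ, Ne, Ideal.algebraMap_residueField_eq_zero]
      intro hmem
      apply hs
      rw [hQAover.over]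
      exact hmem
    refine ⟨algebraMap R P.ResidueField a / algebraMap R P.ResidueField s, ?_⟩
    rw [map_div₀, ← h0, mul_div_cancel_left₀ _ hs0]
  have H : Function.Surjective (algebraMap P.ResidueField QA.ResidueField) := by
    intro z
    obtain ⟨x, y, hy, rfl⟩ := IsFractionRing.div_surjective (A := Localization.Away ε ⧸ QA) z
    obtain ⟨x, rfl⟩ := Ideal.Quotient.mk_surjective x
    obtain ⟨y, rfl⟩ := Ideal.Quotient.mk_surjective y
    have hx : algebraMap (Localization.Away ε ⧸ QA) QA.ResidueField (Ideal.Quotient.mk QA x) =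
        algebraMap (Localization.Away ε) QA.ResidueField x := by
      rw [← Ideal.Quotient.algebraMap_eq, ← IsScalarTower.algebraMap_apply]
    have hy' : algebraMap (Localization.Away ε ⧸ QA) QA.ResidueField (Ideal.Quotient.mk QA y) =
        algebraMap (Localization.Away ε) QA.ResidueField y := by
      rw [← Ideal.Quotient.algebraMap_eq, ← IsScalarTower.algebraMap_apply]
    rw [hx, hy']
    obtain ⟨u, hu⟩ := hval x
    obtain ⟨v, hv⟩ := hval y
    exact ⟨u / v, by rw [map_div₀, hu, hv]⟩
  have hsurj := Localization.localRingHom_surjective_of_primesOver_eq_singleton hq H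
  have hex : ∀ x : Localization.Away ε, ∃ a, ∃ b ∉ P,
      algebraMap R (Localization.Away ε) a = x * algebraMap R (Localization.Away ε) b := by
    intro x
    have := (IsLocalization.mk'_surjective P.primeCompl).exists.mp
      (hsurj (algebraMap _ _ x))
    simp only [Localization.localRingHom_mk', Prod.exists, Subtype.exists, Ideal.mem_primeCompl_iff,
      IsLocalization.mk'_eq_iff_eq_mul, exists_prop, ← map_mul,
      IsLocalization.eq_iff_exists QA.primeCompl] at this
    obtain ⟨a, b, hbp, c, hcq, hc⟩ := this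
    obtain ⟨d, hd, e, he⟩ := Ideal.exists_notMem_dvd_algebraMap_of_primesOver_eq_singleton hq _ hcq
    refine ⟨d * a, d * b, ‹P.IsPrime›.mul_notMem hd hbp, ?_⟩
    rw [map_mul, map_mul, he]
    linear_combination e * hc
  choose a b hbP hab using hex
  obtain ⟨s, hs⟩ := (Module.Finite.fg_top : (⊤ : Submodule R (Localization.Away ε)).FG)
  refine ⟨∏ i ∈ s, b i, ?_, ?_⟩
  · exact fun h => by
      obtain ⟨i, _, hi⟩ := Ideal.IsPrime.prod_mem_iff.mp h
      exact hbP i hi
  · have hspan : ∀ y ∈ Submodule.span R (s : Set (Localization.Away ε)),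
        ∃ c : R, (∏ i ∈ s, b i) • y = algebraMap R (Localization.Away ε) c := by
      intro y hy
      induction hy using Submodule.span_induction with
      | mem x hx =>
        refine ⟨(∏ i ∈ s.erase x, b i) * a x, ?_⟩
        rw [← Finset.prod_erase_mul s b hx, map_mul, hab x, Algebra.smul_def, map_mul]
        ring
      | zero => exact ⟨0, by simp⟩
      | add x y _ _ hx hy =>
        obtain ⟨c₁, h₁⟩ := hx
        obtain ⟨c₂, h₂⟩ := hy
        exact ⟨c₁ + c₂, by rw [smul_add, h₁, h₂, map_add]⟩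
      | smul r x _ hx =>
        obtain ⟨c, hc⟩ := hx
        exact ⟨r * c, by rw [smul_comm, hc, Algebra.smul_def, map_mul]⟩
    intro t
    obtain ⟨c, hc⟩ := hspan (algebraMap T (Localization.Away ε) t) (by rw [hs]; trivial)
    refine ⟨c, ?_⟩
    have h0 : algebraMap T (Localization.Away ε) ((∏ i ∈ s, b i) • t - algebraMap R T c) = 0 := by
      rw [map_sub, ← IsScalarTower.algebraMap_apply, ← hc, Algebra.smul_def, Algebra.smul_def, map_mul,
        ← IsScalarTower.algebraMap_apply, sub_self]
    obtain ⟨⟨_, n, rfl⟩, hn⟩ := (IsLocalization.map_eq_zero_iff (Submonoid.powers ε) _ _).mp h0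
    have hn' : ε ^ n * ((∏ i ∈ s, b i) • t - algebraMap R T c) = 0 := hn
    rcases n with _ | n
    · rw [pow_zero, one_mul] at hn'
      rw [hn', zero_mul]
    · rw [hε.pow_succ_eq] at hn'
      rw [mul_comm]
      exact hn'

theorem Phi.of_resTriv {R S : Type u} [CommRing R] [CommRing S] [Algebra R S] [Algebra.FiniteType R S]
    (q : Ideal S) [q.IsPrime] [Algebra.IsUnramifiedAt R q]
    (hres : ∀ t : S, ∃ a s : R, s ∉ q.under R ∧ s • t - algebraMap R S a ∈ q) : Phi R S q := by
  haveI : q.LiesOver (q.under R) := ⟨rfl⟩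
  haveI : Algebra.QuasiFiniteAt R q := inferInstance
  obtain ⟨R₂, _, _, _, P, _, _, e, he, P', _, _, hP'q, heP', hpP, hfin, H⟩ :=
    Algebra.exists_etale_isIdempotentElem_forall_liesOver_eq (q.under R) q
  haveI : Algebra.IsUnramifiedAt R₂ P' := isUnramifiedAt_baseChange q R₂ P' hP'q
  have hres' := resTriv_baseChange q hres R₂ P' hP'q
  have hP'under : P'.under R₂ = P := (P'.over_def P).symm
  rw [hP'under] at hres'
  obtain ⟨f, hfP, hf⟩ := nak P P' e he heP' (fun Q' h1 h2 h3 => H Q' h1 h2 h3) hres'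
  exact Phi.trans q R₂ P' hP'q (Phi.of_away P' e he heP' f (by rw [hP'under]; exact hfP) hf)

theorem main {R S : Type u} [CommRing R] [CommRing S] [Algebra R S] [Algebra.FiniteType R S]
    (q : Ideal S) [q.IsPrime] [Algebra.IsUnramifiedAt R q] : Phi R S q := by
  haveI : q.LiesOver (q.under R) := ⟨rfl⟩
  letI := Localization.AtPrime.algebraOfLiesOver (q.under R) q
  obtain ⟨R₁, _, _, _, ψ, hψ⟩ := Groth.Agent.S9435.result R (q.under R) q.ResidueField
  let Ψ : R₁ ⊗[R] S →ₐ[R] q.ResidueField :=
    Algebra.TensorProduct.lift ψ (IsScalarTower.toAlgHom R S q.ResidueField)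
      (fun _ _ => Commute.all _ _)
  let q₁ : Ideal (R₁ ⊗[R] S) := RingHom.ker Ψ.toRingHom
  haveI : q₁.IsPrime := RingHom.ker_isPrime _
  have hΨr : ∀ s : S, Ψ ((1 : R₁) ⊗ₜ[R] s) = algebraMap S q.ResidueField s := by
    intro s
    simp [Ψ]
  have hΨl : ∀ r : R₁, Ψ (algebraMap R₁ (R₁ ⊗[R] S) r) = ψ r := by
    intro r
    simp [Ψ, Algebra.TensorProduct.algebraMap_apply]
  have hcomap : q₁.comap (Algebra.TensorProduct.includeRight : S →ₐ[R] R₁ ⊗[R] S).toRingHom = q := by
    ext s
    simp only [Ideal.mem_comap, q₁, RingHom.mem_ker]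
    show Ψ ((1 : R₁) ⊗ₜ[R] s) = 0 ↔ _
    rw [hΨr, Ideal.algebraMap_residueField_eq_zero]
  haveI : Algebra.IsUnramifiedAt R₁ q₁ := isUnramifiedAt_baseChange q R₁ q₁ hcomap
  have hres₁ : ∀ t : R₁ ⊗[R] S, ∃ a s : R₁, s ∉ q₁.under R₁ ∧
      s • t - algebraMap R₁ (R₁ ⊗[R] S) a ∈ q₁ := by
    intro t
    have hmem : Ψ t ∈ Subfield.closure (Set.range ψ) := by rw [hψ]; trivial
    rw [Subfield.mem_closure_iff] at hmem
    obtain ⟨y, hy, z, hz, hyz⟩ := hmem
    have hcl : Subring.closure (Set.range ψ) = ψ.toRingHom.range := by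
      rw [← Subring.closure_eq ψ.toRingHom.range]
      congr 1
    rw [hcl] at hy hz
    obtain ⟨a, rfl⟩ := hy
    obtain ⟨s, rfl⟩ := hz
    by_cases hs0 : ψ s = 0
    · refine ⟨0, 1, ?_, ?_⟩
      · intro h1
        exact Ideal.IsPrime.ne_top' ((Ideal.eq_top_iff_one _).mpr h1)
      · show Ψ.toRingHom _ = 0
        have : Ψ t = 0 := by
          rw [← hyz]
          show ψ a / ψ s = 0
          rw [hs0, div_zero]
        simp [this]
    · refine ⟨a, s, ?_, ?_⟩
      · intro hmem'
        apply hs0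
        have : Ψ (algebraMap R₁ (R₁ ⊗[R] S) s) = 0 := hmem'
        rwa [hΨl] at this
      · show Ψ.toRingHom _ = 0
        have h1 : Ψ t = ψ a / ψ s := hyz.symm
        show Ψ (s • t - algebraMap R₁ (R₁ ⊗[R] S) a) = 0
        rw [map_sub, Algebra.smul_def, map_mul, hΨl, hΨl, h1, mul_div_cancel₀ _ hs0, sub_self]
  exact Phi.trans q R₁ q₁ hcomap (Phi.of_resTriv q₁ hres₁)

end Groth.Agent.Lib.helper3.UnramSplit
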