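import Mathlib
import Groth.Agent.Lib.helper3.UnramSplit

set_option autoImplicit false
universe u

open TensorProduct

namespace Groth.Agent.Lib.helper3.UnramSplit2

open Groth.Agent.Lib.helper3.UnramSplit

/-- Inductive form of the conclusion of the global splitting statement. -/
def Conc (R S : Type u) [CommRing R] [CommRing S] [Algebra R S] (p : Ideal R) : Prop :=
  ∃ (R' : Type u) (_ : CommRing R') (_ : Algebra R R') (_ : Algebra.Etale R R') (p' : Ideal R')
    (_ : p'.IsPrime) (_ : p'.LiesOver p) (ι : Type) (_ : Fintype ι) (K : ι → Ideal R')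
    (B : Type u) (_ : CommRing B) (_ : Algebra R' B),
    Nonempty ((R' ⊗[R] S) ≃ₐ[R'] ((∀ i, R' ⧸ K i) × B)) ∧ (∀ i, K i ≤ p') ∧
    ∀ (Q : Ideal B) [Q.IsPrime], Q.comap (algebraMap R' B) ≠ p'

theorem Conc.empty {R S : Type u} [CommRing R] [CommRing S] [Algebra R S] (p : Ideal R) [p.IsPrime]
    (h : ∀ Q : Ideal S, Q.IsPrime → Q.comap (algebraMap R S) ≠ p) : Conc R S p := by
  let f : S →ₐ[R] ((∀ i : PEmpty, R ⧸ (PEmpty.elim i : Ideal R)) × S) :=
    AlgHom.prod (Pi.algHom R _ (fun i => PEmpty.elim i)) (AlgHom.id R S)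
  have hf : Function.Bijective f := by
    constructor
    · intro x y hxy
      exact congrArg Prod.snd hxy
    · rintro ⟨x, s⟩
      refine ⟨s, Prod.ext ?_ rfl⟩
      funext i
      exact PEmpty.elim i
  refine ⟨R, inferInstance, inferInstance, inferInstance, p, inferInstance, ⟨by simp [Ideal.under]⟩,
    PEmpty, inferInstance, fun i => PEmpty.elim i, S, inferInstance, inferInstance,
    ⟨(Algebra.TensorProduct.lid R S).trans (AlgEquiv.ofBijective f hf)⟩, fun i => PEmpty.elim i,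
    fun Q hQ => h Q hQ⟩

theorem Conc.step {R S : Type u} [CommRing R] [CommRing S] [Algebra R S] (p : Ideal R)
    (R₁ : Type u) [CommRing R₁] [Algebra R R₁] [Algebra.Etale R R₁] (p₁ : Ideal R₁) [p₁.IsPrime]
    [p₁.LiesOver p]
    (A B₁ : Type u) [CommRing A] [CommRing B₁] [Algebra R₁ A] [Algebra R₁ B₁]
    (e₁ : (R₁ ⊗[R] S) ≃ₐ[R₁] A × B₁) (hA : Function.Surjective (algebraMap R₁ A))
    (hK : RingHom.ker (algebraMap R₁ A) ≤ p₁)
    (h : Conc R₁ B₁ p₁) : Conc R S p := by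
  obtain ⟨R₂, _, _, _, p₂, _, hp₂, ι, _, K, B₂, _, _, ⟨e₂⟩, hK₂, hB₂⟩ := h
  letI : Algebra R R₂ := ((algebraMap R₁ R₂).comp (algebraMap R R₁)).toAlgebra
  haveI : IsScalarTower R R₁ R₂ := .of_algebraMap_eq' rfl
  haveI : Algebra.Etale R R₂ := Algebra.Etale.comp R R₁ R₂
  haveI : p₂.LiesOver p := .trans p₂ p₁ p
  let K₀ : Ideal R₁ := RingHom.ker (algebraMap R₁ A)
  let K' : Option ι → Ideal R₂ := fun o => o.elim (K₀.map (algebraMap R₁ R₂)) K
  let a₁ : (R₁ ⧸ K₀) ≃ₐ[R₁] A :=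
    Ideal.quotientKerAlgEquivOfSurjective (f := Algebra.ofId R₁ A) hA
  let α : R₂ ⊗[R₁] A ≃ₐ[R₂] R₂ ⧸ K₀.map (algebraMap R₁ R₂) :=
    (Algebra.TensorProduct.congr AlgEquiv.refl a₁.symm).trans
      (Algebra.TensorProduct.quotIdealMapEquivTensorQuot R₂ K₀).symm
  let E1 : R₂ ⊗[R] S ≃ₐ[R₂] R₂ ⊗[R₁] (R₁ ⊗[R] S) :=
    (Algebra.TensorProduct.cancelBaseChange R R₁ R₂ R₂ S).symm
  let E2 : R₂ ⊗[R₁] (R₁ ⊗[R] S) ≃ₐ[R₂] R₂ ⊗[R₁] (A × B₁) :=
    Algebra.TensorProduct.congr AlgEquiv.refl e₁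
  let E3 : R₂ ⊗[R₁] (A × B₁) ≃ₐ[R₂] (R₂ ⊗[R₁] A) × (R₂ ⊗[R₁] B₁) :=
    Algebra.TensorProduct.prodRight R₁ R₂ R₂ A B₁
  let E4 : ((R₂ ⊗[R₁] A) × (R₂ ⊗[R₁] B₁)) ≃ₐ[R₂]
      ((R₂ ⧸ K₀.map (algebraMap R₁ R₂)) × ((∀ i, R₂ ⧸ K i) × B₂)) := AlgEquiv.prodCongr α e₂
  let E5 : ((R₂ ⧸ K₀.map (algebraMap R₁ R₂)) × ((∀ i, R₂ ⧸ K i) × B₂)) ≃ₐ[R₂]
      ((∀ o, R₂ ⧸ K' o) × B₂) :=
    { toFun := fun x => (fun o => Option.rec (motive := fun o => R₂ ⧸ K' o) x.1
        (fun i => x.2.1 i) o, x.2.2)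
      invFun := fun y => (y.1 none, (fun i => y.1 (some i), y.2))
      left_inv := fun x => rfl
      right_inv := fun y => by
        refine Prod.ext ?_ rfl
        funext o
        cases o <;> rfl
      map_mul' := fun x y => by
        refine Prod.ext ?_ rfl
        funext o
        cases o <;> rfl
      map_add' := fun x y => by
        refine Prod.ext ?_ rfl
        funext o
        cases o <;> rfl
      commutes' := fun r => by
        refine Prod.ext ?_ rfl
        funext o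
        cases o <;> rfl }
  refine ⟨R₂, inferInstance, inferInstance, inferInstance, p₂, inferInstance, inferInstance,
    Option ι, inferInstance, K', B₂, inferInstance, inferInstance,
    ⟨E1.trans (E2.trans (E3.trans (E4.trans E5)))⟩, ?_, fun Q hQ => hB₂ Q⟩
  intro o
  cases o with
  | none =>
    show K₀.map (algebraMap R₁ R₂) ≤ p₂
    rw [Ideal.map_le_iff_le_comap]
    refine hK.trans ?_
    rw [hp₂.over]
  | some i => exact hK₂ i

theorem finrank_lt {R S : Type u} [CommRing R] [CommRing S] [Algebra R S] (p : Ideal R) [p.IsPrime]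
    [Module.Finite p.ResidueField (p.Fiber S)]
    (R₁ : Type u) [CommRing R₁] [Algebra R R₁] (p₁ : Ideal R₁) [p₁.IsPrime] [p₁.LiesOver p]
    (A B : Type u) [CommRing A] [CommRing B] [Algebra R₁ A] [Algebra R₁ B]
    (e : (R₁ ⊗[R] S) ≃ₐ[R₁] A × B) (hA : Nontrivial (p₁.Fiber A)) :
    Module.finrank p₁.ResidueField (p₁.Fiber B) < Module.finrank p.ResidueField (p.Fiber S) := by
  letI := Localization.AtPrime.algebraOfLiesOver p p₁
  have e1 : p₁.ResidueField ⊗[R₁] (R₁ ⊗[R] S) ≃ₗ[p₁.ResidueField] p₁.ResidueField ⊗[R] S :=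
    TensorProduct.AlgebraTensorModule.cancelBaseChange R R₁ p₁.ResidueField p₁.ResidueField S
  have e2 : p₁.ResidueField ⊗[p.ResidueField] (p.ResidueField ⊗[R] S) ≃ₗ[p₁.ResidueField]
      p₁.ResidueField ⊗[R] S :=
    TensorProduct.AlgebraTensorModule.cancelBaseChange R p.ResidueField p₁.ResidueField
      p₁.ResidueField S
  have e3 : p₁.ResidueField ⊗[R₁] (R₁ ⊗[R] S) ≃ₗ[p₁.ResidueField] p₁.ResidueField ⊗[R₁] (A × B) :=
    TensorProduct.AlgebraTensorModule.congr (LinearEquiv.refl _ _) e.toLinearEquiv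
  have e4 : p₁.ResidueField ⊗[R₁] (A × B) ≃ₗ[p₁.ResidueField]
      (p₁.ResidueField ⊗[R₁] A) × (p₁.ResidueField ⊗[R₁] B) :=
    TensorProduct.prodRight R₁ p₁.ResidueField p₁.ResidueField A B
  have hd : Module.finrank p₁.ResidueField ((p₁.ResidueField ⊗[R₁] A) × (p₁.ResidueField ⊗[R₁] B)) =
      Module.finrank p.ResidueField (p.Fiber S) := by
    have h4 := e4.finrank_eq
    have h3 := e3.finrank_eq
    have h1 := e1.finrank_eq
    have h2 := e2.finrank_eq
    have h0 : Module.finrank p₁.ResidueField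
        (p₁.ResidueField ⊗[p.ResidueField] (p.ResidueField ⊗[R] S)) =
        Module.finrank p.ResidueField (p.ResidueField ⊗[R] S) :=
      Module.finrank_baseChange
    rw [← h4, ← h3, h1, ← h2, h0]
  haveI : Module.Finite p₁.ResidueField (p₁.ResidueField ⊗[p.ResidueField] (p.ResidueField ⊗[R] S)) :=
    inferInstance
  haveI hfin : Module.Finite p₁.ResidueField
      ((p₁.ResidueField ⊗[R₁] A) × (p₁.ResidueField ⊗[R₁] B)) :=
    Module.Finite.equiv (e2.trans (e1.symm.trans (e3.trans e4)))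
  haveI : Module.Finite p₁.ResidueField (p₁.ResidueField ⊗[R₁] A) :=
    Module.Finite.of_surjective (LinearMap.fst p₁.ResidueField (p₁.ResidueField ⊗[R₁] A)
      (p₁.ResidueField ⊗[R₁] B)) (fun x => ⟨(x, 0), rfl⟩)
  haveI : Module.Finite p₁.ResidueField (p₁.ResidueField ⊗[R₁] B) :=
    Module.Finite.of_surjective (LinearMap.snd p₁.ResidueField (p₁.ResidueField ⊗[R₁] A)
      (p₁.ResidueField ⊗[R₁] B)) (fun x => ⟨(0, x), rfl⟩)
  rw [← hd, Module.finrank_prod]
  have : 0 < Module.finrank p₁.ResidueField (p₁.ResidueField ⊗[R₁] A) := Module.finrank_pos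
  show Module.finrank p₁.ResidueField (p₁.ResidueField ⊗[R₁] B) < _
  omega

theorem conc_main : ∀ (d : ℕ) (R S : Type u) [CommRing R] [CommRing S] [Algebra R S]
    [Algebra.Unramified R S] (p : Ideal R) [p.IsPrime],
    Module.finrank p.ResidueField (p.Fiber S) = d → Conc R S p := by
  intro d
  induction d using Nat.strong_induction_on with
  | _ d ih =>
    intro R S _ _ _ _ p _ hd
    haveI : Algebra.FiniteType R S := Algebra.Unramified.finiteType
    haveI : Algebra.FormallyUnramified R S := inferInstance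
    by_cases hex : ∃ q : Ideal S, q.IsPrime ∧ q.comap (algebraMap R S) = p
    · obtain ⟨q, hq, hqp⟩ := hex
      haveI : Algebra.IsUnramifiedAt R q := by
        show Algebra.FormallyUnramified R (Localization.AtPrime q)
        infer_instance
      obtain ⟨R₁, _, _, _, p₁, _, hp₁, A, _, _, B₁, _, _, e₁, h1, h2, h3, h4⟩ :=
        UnramSplit.main (R := R) (S := S) q
      have hqu : q.under R = p := hqp
      haveI : p₁.LiesOver p := hqu ▸ hp₁
      -- B₁ is unramified over R₁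
      let π : (R₁ ⊗[R] S) →ₐ[R₁] B₁ := (AlgHom.snd R₁ A B₁).comp e₁.toAlgHom
      have hπ : Function.Surjective π := Prod.snd_surjective.comp e₁.surjective
      haveI : Algebra.FormallyUnramified R₁ B₁ := Algebra.FormallyUnramified.of_surjective π hπ
      haveI : Algebra.FiniteType R₁ B₁ := Algebra.FiniteType.of_surjective π hπ
      haveI : Algebra.Unramified R₁ B₁ := ⟨inferInstance, inferInstance⟩
      have hker : RingHom.ker (algebraMap R₁ A) ≤ p₁ := by
        intro x hx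
        rw [← h3]
        rw [Ideal.mem_comap, RingHom.mem_ker.mp hx]
        exact Ideal.zero_mem _
      have hnt : Nontrivial (p₁.Fiber A) := by
        have hmem : (p₁.map (algebraMap R₁ A)) ∈ p₁.primesOver A := ⟨h2, ⟨h3.symm⟩⟩
        have := (PrimeSpectrum.primesOverOrderIsoFiber R₁ A p₁) ⟨_, hmem⟩
        exact this.nontrivial
      haveI : Algebra.QuasiFinite R S := inferInstance
      haveI : Module.Finite p.ResidueField (p.Fiber S) := Algebra.QuasiFinite.finite_fiber p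
      have hlt := finrank_lt p R₁ p₁ A B₁ e₁ hnt
      rw [hd] at hlt
      exact Conc.step p R₁ p₁ A B₁ e₁ h1 hker (ih _ hlt R₁ B₁ p₁ rfl)
    · push Not at hex
      exact Conc.empty p (fun Q hQ => hex Q hQ)

end Groth.Agent.Lib.helper3.UnramSplit2
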