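import Mathlib
import Groth.Agent.Lib.helper3.UnramSplit2

/-!
# One-point étale-local structure of unramified points (towards S9555)
-/

set_option autoImplicit false
universe u

open CategoryTheory CategoryTheory.Limits AlgebraicGeometry TensorProduct

namespace Groth.Agent.Lib.helper3.EtNbhd

open Groth.Agent.Lib.helper3

/-- ring-level property of `f.appLE U V` from the property of `V.ι ≫ f`. -/
theorem appLE_of_restrict {P : MorphismProperty Scheme.{u}}
    {Q : ∀ {R S : Type u} [CommRing R] [CommRing S], (R →+* S) → Prop} [HasRingHomProperty P Q]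
    {X S : Scheme.{u}} (f : X ⟶ S) (V : X.Opens) (hV : IsAffineOpen V) (H : P (V.ι ≫ f))
    (U : S.Opens) (hU : IsAffineOpen U) (e : V ≤ f ⁻¹ᵁ U) : Q (f.appLE U V e).hom := by
  haveI : IsAffine V.toScheme := hV
  have h1 := HasRingHomProperty.appLE P (V.ι ≫ f) H ⟨U, hU⟩ ⟨⊤, isAffineOpen_top _⟩
    (by intro y _; exact e y.2)
  rw [← Scheme.Hom.appLE_comp_appLE V.ι f U V ⊤ e V.ι_preimage_self.ge, CommRingCat.hom_comp,
    (HasRingHomProperty.isLocal_ringHomProperty P).respectsIso.cancel_right_isIso] at h1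
  exact h1

theorem isOpenImmersion_of_idem {A C : Type u} [CommRing A] [CommRing C] (π : A →+* C)
    (hπ : Function.Surjective π) (ε : A) (hε : IsIdempotentElem ε)
    (H : ∀ x y, π x = π y ↔ ε * x = ε * y) :
    IsOpenImmersion (Spec.map (CommRingCat.ofHom π)) := by
  letI := π.toAlgebra
  have : IsLocalization.Away ε C := IsLocalization.away_of_isIdempotentElem_of_mul hε H hπ
  exact IsOpenImmersion.of_isLocalization ε

/-- a prime not containing `ε` comes from the quotient cut out by `ε` -/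
theorem exists_prime_of_idem {A C : Type u} [CommRing A] [CommRing C] (π : A →+* C)
    (hπ : Function.Surjective π) (ε : A) (H : ∀ z, π z = 0 → z * ε = 0)
    (y : Ideal A) [y.IsPrime] (hy : ε ∉ y) :
    ∃ t : Ideal C, t.IsPrime ∧ t.comap π = y := by
  have hker : RingHom.ker π ≤ y := by
    intro z hz
    have : z * ε ∈ y := by rw [H z hz]; exact y.zero_mem
    exact (Ideal.IsPrime.mem_or_mem inferInstance this).resolve_right hy
  refine ⟨y.map π, Ideal.map_isPrime_of_surjective hπ hker, ?_⟩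
  rw [Ideal.comap_map_of_surjective π hπ]
  have : Ideal.comap π ⊥ = RingHom.ker π := rfl
  rw [this]
  exact sup_eq_left.mpr hker

/-- the splitting statement together with a property of the closed pieces -/
def ConcP (Pr : MorphismProperty Scheme.{u}) (R S : Type u) [CommRing R] [CommRing S]
    [Algebra R S] (p : Ideal R) : Prop :=
  ∃ (R' : Type u) (_ : CommRing R') (_ : Algebra R R') (_ : Algebra.Etale R R') (p' : Ideal R')
    (_ : p'.IsPrime) (_ : p'.LiesOver p) (ι : Type) (_ : Fintype ι) (K : ι → Ideal R')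
    (B : Type u) (_ : CommRing B) (_ : Algebra R' B),
    Nonempty ((R' ⊗[R] S) ≃ₐ[R'] ((∀ i, R' ⧸ K i) × B)) ∧ (∀ i, K i ≤ p') ∧
    (∀ (Q : Ideal B) [Q.IsPrime], Q.comap (algebraMap R' B) ≠ p') ∧
    ∀ i, Pr (Spec.map (CommRingCat.ofHom (Ideal.Quotient.mk (K i))))

theorem concP_closedImmersion (R S : Type u) [CommRing R] [CommRing S] [Algebra R S]
    [Algebra.Unramified R S] (p : Ideal R) [p.IsPrime] : ConcP @IsClosedImmersion R S p := by
  obtain ⟨R', _, _, _, p', _, hp', ι, _, K, B, _, _, he, hK, hB⟩ :=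
    UnramSplit2.conc_main _ R S p rfl
  exact ⟨R', inferInstance, inferInstance, inferInstance, p', inferInstance, hp', ι, inferInstance,
    K, B, inferInstance, inferInstance, he, hK, hB,
    fun i => IsClosedImmersion.spec_of_surjective _ Ideal.Quotient.mk_surjective⟩

set_option backward.defeqAttrib.useBackward true in
set_option backward.isDefEq.respectTransparency false in
theorem onePoint_gen (Pr : MorphismProperty Scheme.{u}) [Pr.RespectsIso]
    {Ps : MorphismProperty Scheme.{u}}
    {Qs : ∀ {R S : Type u} [CommRing R] [CommRing S], (R →+* S) → Prop} [HasRingHomProperty Ps Qs]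
    (hdec : ∀ (R A : Type u) [CommRing R] [CommRing A] [Algebra R A] [Algebra.Unramified R A],
      Qs (algebraMap R A) → ∀ (p : Ideal R) [p.IsPrime], ConcP Pr R A p)
    {X S : Scheme.{u}} (f : X ⟶ S) (x : X) (W : X.Opens) (hxW : x ∈ W)
    (hft : LocallyOfFiniteType (W.ι ≫ f)) (hun : FormallyUnramified (W.ι ≫ f))
    (hPs : Ps (W.ι ≫ f)) :
    ∃ (U : Scheme.{u}) (g : U ⟶ S) (u : U), Etale g ∧ g u = f x ∧
      ∃ (K : Type) (_ : Finite K) (V : K → (pullback f g).Opens),
        (∀ k, Pr ((V k).ι ≫ pullback.snd f g) ∧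
          ∃ w : ↑(pullback f g), w ∈ V k ∧ pullback.snd f g w = u) ∧
        (∀ k (w : ↑(pullback f g)), w ∈ V k → pullback.snd f g w = u → pullback.fst f g w = x) ∧
        (∀ (k k' : K) (w : ↑(pullback f g)), w ∈ V k → w ∈ V k' → k = k') ∧
        (∀ (w : ↑(pullback f g)), pullback.snd f g w = u → pullback.fst f g w = x →
          ∃ k, w ∈ V k) := by
  obtain ⟨_, ⟨U, hU, rfl⟩, hxU, -⟩ := S.isBasis_affineOpens.exists_subset_of_mem_open
    (Set.mem_univ (f x)) isOpen_univ
  obtain ⟨_, ⟨V, hV, rfl⟩, hxV, hVle⟩ :=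
    X.isBasis_affineOpens.exists_subset_of_mem_open
      (show x ∈ ((W ⊓ f ⁻¹ᵁ U : X.Opens) : Set X) from ⟨hxW, hxU⟩) (W ⊓ f ⁻¹ᵁ U).2
  have hVW : V ≤ W := fun y hy => (hVle hy).1
  have hUV : V ≤ f ⁻¹ᵁ U := fun y hy => (hVle hy).2
  have e1 : Scheme.Opens.ι V ≫ f = X.homOfLE hVW ≫ (W.ι ≫ f) := by rw [← Category.assoc, X.homOfLE_ι]
  have hft' : LocallyOfFiniteType (Scheme.Opens.ι V ≫ f) := e1 ▸ inferInstance
  have hun' : FormallyUnramified (Scheme.Opens.ι V ≫ f) := by
    rw [e1]
    exact HasRingHomProperty.comp_of_isOpenImmersion @FormallyUnramified _ _ hun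
  have h1 : (f.appLE U V hUV).hom.FiniteType :=
    appLE_of_restrict (P := @LocallyOfFiniteType) f V hV hft' U hU hUV
  have h2 : (f.appLE U V hUV).hom.FormallyUnramified :=
    appLE_of_restrict (P := @FormallyUnramified) f V hV hun' U hU hUV
  have h3 : Qs (f.appLE U V hUV).hom :=
    appLE_of_restrict (P := Ps) f V hV (by
      rw [e1]; exact HasRingHomProperty.comp_of_isOpenImmersion Ps _ _ hPs) U hU hUV
  algebraize [(f.appLE U V hUV).hom]
  haveI : Algebra.Unramified Γ(S, U) Γ(X, V) := ⟨inferInstance, inferInstance⟩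
  obtain ⟨R, _, _, _, P, _, hPo, K, _, I, B, _, _, ⟨e⟩, hI, hB, hPr⟩ :=
    hdec Γ(S, U) Γ(X, V) h3 (hU.primeIdealOf ⟨f x, hxU⟩).asIdeal
  classical
  let φ : Γ(S, U) ⟶ .of R := CommRingCat.ofHom <| algebraMap Γ(S, U) R
  have hφ : φ.hom.Etale := RingHom.etale_algebraMap.mpr ‹_›
  have : Etale (Spec.map φ) := HasRingHomProperty.Spec_iff.mpr hφ
  let e₁ : Spec (.of (R ⊗ Γ(X, V))) ≅ pullback (Spec.map (f.appLE U V hUV)) (Spec.map φ) :=
    (pullbackSpecIso _ _ _).symm ≪≫ pullbackSymmetry _ _
  have he₁ : e₁.hom ≫ pullback.fst _ _ =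
      Spec.map (CommRingCat.ofHom Algebra.TensorProduct.includeRight.toRingHom) := by
    dsimp [e₁, RingHom.algebraMap_toAlgebra]
    rw [Category.assoc, pullbackSymmetry_hom_comp_fst]
    exact pullbackSpecIso_inv_snd ..
  have he₂ : e₁.hom ≫ pullback.snd _ _ =
      Spec.map (CommRingCat.ofHom (algebraMap R (R ⊗[Γ(S, U)] Γ(X, V)))) := by
    dsimp [e₁, RingHom.algebraMap_toAlgebra]
    rw [Category.assoc, pullbackSymmetry_hom_comp_snd]
    exact pullbackSpecIso_inv_fst ..
  let gS : Spec (.of R) ⟶ S := Spec.map φ ≫ hU.fromSpec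
  let G : Spec (.of (R ⊗[Γ(S, U)] Γ(X, V))) ⟶ pullback f gS :=
    e₁.hom ≫ pullback.map _ _ _ _ hV.fromSpec (𝟙 _) hU.fromSpec
      (IsAffineOpen.SpecMap_appLE_fromSpec ..) (by simp [gS])
  have hg1 : G ≫ pullback.fst f gS =
      Spec.map (CommRingCat.ofHom Algebra.TensorProduct.includeRight.toRingHom) ≫
        hV.fromSpec := by
    simp only [G, Category.assoc, pullback.lift_fst, pullback.map]
    rw [← Category.assoc, he₁]
  have hg2 : G ≫ pullback.snd f gS =
      Spec.map (CommRingCat.ofHom (algebraMap R (R ⊗[Γ(S, U)] Γ(X, V)))) := by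
    simp only [G, Category.assoc, pullback.lift_snd, pullback.map, Category.comp_id]
    exact he₂
  haveI : IsOpenImmersion G := inferInstance
  let u : Spec (.of R) := ⟨P, ‹_›⟩
  have hgu : gS u = f x := by
    dsimp [gS, u, Spec.map_apply]
    convert! hU.fromSpec_primeIdealOf ⟨f x, hxU⟩
    exact PrimeSpectrum.ext (Ideal.over_def _ _).symm
  -- the projections
  let π : ∀ k, (R ⊗[Γ(S, U)] Γ(X, V)) →+* R ⧸ I k := fun k =>
    (Pi.evalRingHom _ k).comp ((RingHom.fst _ _).comp e.toRingHom)
  have hπs : ∀ k, Function.Surjective (π k) := fun k =>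
    (Function.surjective_eval k).comp (Prod.fst_surjective.comp e.surjective)
  let ε : K → (R ⊗[Γ(S, U)] Γ(X, V)) := fun k => e.symm (Pi.single k 1, 0)
  have hεe : ∀ k, e (ε k) = (Pi.single k 1, 0) := fun k => e.apply_symm_apply _
  have hεidem : ∀ k, IsIdempotentElem (ε k) := by
    intro k
    apply e.injective
    show e (ε k * ε k) = e (ε k)
    rw [map_mul, hεe]
    refine Prod.ext ?_ (by simp)
    funext k'
    by_cases h : k' = k
    · subst h; simp
    · simp [h]
  have hπε : ∀ k x y, π k x = π k y ↔ ε k * x = ε k * y := by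
    intro k x y
    constructor
    · intro h
      apply e.injective
      rw [map_mul, map_mul, hεe]
      refine Prod.ext ?_ (by simp)
      funext k'
      by_cases hk : k' = k
      · subst hk
        have h' : (e x).1 k' = (e y).1 k' := h
        simpa using h'
      · simp [hk]
    · intro h
      have := congrArg (fun z => (e z).1 k) h
      have h' : (e x).1 k = (e y).1 k := by simpa [map_mul, hεe] using this
      exact h'
  haveI hoi : ∀ k, IsOpenImmersion (Spec.map (CommRingCat.ofHom (π k))) := fun k =>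
    isOpenImmersion_of_idem (π k) (hπs k) (ε k) (hεidem k) (hπε k)
  have hπalg : ∀ k r, π k (algebraMap R _ r) = Ideal.Quotient.mk (I k) r := by
    intro k r
    show (e (algebraMap R _ r)).1 k = _
    rw [e.commutes]
    rfl
  let ιk : ∀ k, Spec (.of (R ⧸ I k)) ⟶ pullback f gS := fun k =>
    Spec.map (CommRingCat.ofHom (π k)) ≫ G
  have hιsnd : ∀ k, ιk k ≫ pullback.snd f gS =
      Spec.map (CommRingCat.ofHom (Ideal.Quotient.mk (I k))) := by
    intro k
    simp only [ιk, Category.assoc, hg2]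
    rw [← Spec.map_comp]
    congr 1
    ext r
    exact hπalg k r
  -- the point over `u` in the `k`-th piece
  have hkerle : ∀ k, RingHom.ker (Ideal.Quotient.mk (I k)) ≤ P := fun k => by
    rw [Ideal.mk_ker]; exact hI k
  let tk : ∀ k, Spec (.of (R ⧸ I k)) := fun k =>
    ⟨P.map (Ideal.Quotient.mk (I k)),
      Ideal.map_isPrime_of_surjective Ideal.Quotient.mk_surjective (hkerle k)⟩
  have htk : ∀ k, Spec.map (CommRingCat.ofHom (Ideal.Quotient.mk (I k))) (tk k) = u := by
    intro k
    apply PrimeSpectrum.ext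
    show Ideal.comap (Ideal.Quotient.mk (I k)) (P.map (Ideal.Quotient.mk (I k))) = P
    rw [Ideal.comap_map_of_surjective _ Ideal.Quotient.mk_surjective]
    have : Ideal.comap (Ideal.Quotient.mk (I k)) ⊥ = RingHom.ker (Ideal.Quotient.mk (I k)) := rfl
    rw [this]
    exact sup_eq_left.mpr (hkerle k)
  have htk_uniq : ∀ k (t : Spec (.of (R ⧸ I k))),
      Spec.map (CommRingCat.ofHom (Ideal.Quotient.mk (I k))) t = u → t = tk k := by
    intro k t ht
    apply PrimeSpectrum.ext
    have h3 : Ideal.comap (Ideal.Quotient.mk (I k)) t.asIdeal = P :=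
      congrArg PrimeSpectrum.asIdeal ht
    show t.asIdeal = P.map (Ideal.Quotient.mk (I k))
    rw [← h3, Ideal.map_comap_of_surjective _ Ideal.Quotient.mk_surjective]
  let Kg := {k : K // pullback.fst f gS (ιk k (tk k)) = x}
  refine ⟨Spec (.of R), gS, u, inferInstance, hgu, Kg, inferInstance,
    fun k => (ιk k.1).opensRange, ?_, ?_, ?_, ?_⟩
  · rintro ⟨k, hk⟩
    refine ⟨?_, ιk k (tk k), ⟨tk k, rfl⟩, ?_⟩
    · rw [← MorphismProperty.cancel_left_of_respectsIso Pr
        (Scheme.Hom.isoOpensRange (ιk k)).hom]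
      have : (Scheme.Hom.isoOpensRange (ιk k)).hom ≫ (ιk k).opensRange.ι ≫ pullback.snd f gS =
          Spec.map (CommRingCat.ofHom (Ideal.Quotient.mk (I k))) := by
        rw [← Category.assoc, Scheme.Hom.isoOpensRange_hom_ι, hιsnd]
      rw [this]
      exact hPr k
    · rw [← Scheme.Hom.comp_apply, hιsnd]
      exact htk k
  · rintro ⟨k, hk⟩ w ⟨t, rfl⟩ hw
    rw [← Scheme.Hom.comp_apply, hιsnd] at hw
    rw [htk_uniq k t hw]
    exact hk
  · rintro ⟨k, hk⟩ ⟨k', hk'⟩ w ⟨t, rfl⟩ ⟨t', ht'⟩
    by_contra hne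
    have hne' : k ≠ k' := fun h => hne (Subtype.ext h)
    have hGinj := G.isOpenEmbedding.injective
    have hyy : Spec.map (CommRingCat.ofHom (π k')) t' = Spec.map (CommRingCat.ofHom (π k)) t :=
      hGinj ht'
    -- `ε k` lies in the kernel of `π k'` and `1 - ε k` in the kernel of `π k`
    have h1 : π k' (ε k) = 0 := by
      show (e (ε k)).1 k' = 0
      rw [hεe]
      simp [Ne.symm hne']
    have h2 : π k (1 - ε k) = 0 := by
      show (e (1 - ε k)).1 k = 0
      rw [map_sub, hεe]
      simp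
    have m1 : ε k ∈ (Spec.map (CommRingCat.ofHom (π k)) t).asIdeal := by
      rw [← hyy]
      show π k' (ε k) ∈ t'.asIdeal
      rw [h1]; exact t'.asIdeal.zero_mem
    have m2 : 1 - ε k ∈ (Spec.map (CommRingCat.ofHom (π k)) t).asIdeal := by
      show π k (1 - ε k) ∈ t.asIdeal
      rw [h2]; exact t.asIdeal.zero_mem
    have : (1 : R ⊗[Γ(S, U)] Γ(X, V)) ∈ (Spec.map (CommRingCat.ofHom (π k)) t).asIdeal := by
      have := Ideal.add_mem _ m1 m2
      simpa using this
    exact (Spec.map (CommRingCat.ofHom (π k)) t).isPrime.ne_top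
      ((Ideal.eq_top_iff_one _).mpr this)
  · intro w hsnd hfstw
    have hwr : w ∈ Set.range (pullback.map (Spec.map (f.appLE U V hUV)) (Spec.map φ) f gS
        hV.fromSpec (𝟙 _) hU.fromSpec (IsAffineOpen.SpecMap_appLE_fromSpec ..) (by simp [gS])) := by
      rw [Scheme.Pullback.range_map]
      refine ⟨?_, ⟨pullback.snd f gS w, rfl⟩⟩
      change pullback.fst f gS w ∈ Set.range hV.fromSpec
      rw [hV.range_fromSpec, hfstw]
      exact hxV
    obtain ⟨t0, rfl⟩ := hwr
    obtain ⟨y, rfl⟩ : ∃ y, e₁.hom y = t0 := ⟨e₁.inv t0, by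
      rw [← Scheme.Hom.comp_apply, Iso.inv_hom_id]; rfl⟩
    have hgy : ∀ z, (pullback.map (Spec.map (f.appLE U V hUV)) (Spec.map φ) f gS
        hV.fromSpec (𝟙 _) hU.fromSpec (IsAffineOpen.SpecMap_appLE_fromSpec ..) (by simp [gS]))
        (e₁.hom z) = G z := fun z => rfl
    rw [hgy] at hsnd hfstw ⊢
    rw [← Scheme.Hom.comp_apply, hg2] at hsnd
    have hyP : y.asIdeal.comap (algebraMap R (R ⊗[Γ(S, U)] Γ(X, V))) = P :=
      congrArg PrimeSpectrum.asIdeal hsnd
    haveI := y.isPrime
    -- some `ε k` is not in `y`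
    have hex : ∃ k, ε k ∉ y.asIdeal := by
      by_contra hall
      push Not at hall
      -- then `εB ∉ y` and `y` comes from a prime of `B`
      let εB : R ⊗[Γ(S, U)] Γ(X, V) := e.symm (0, 1)
      have hsum : ∑ k, ε k + εB = 1 := by
        apply e.injective
        rw [map_add, map_sum, map_one]
        simp only [hεe, εB, AlgEquiv.apply_symm_apply]
        refine Prod.ext ?_ ?_
        · simp only [Prod.fst_add, Prod.fst_sum, add_zero, Prod.fst_one]
          exact Finset.univ_sum_single (1 : ∀ k, R ⧸ I k)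
        · simp [Prod.snd_sum]
      have hεB : εB ∉ y.asIdeal := by
        intro hin
        have : (1 : R ⊗[Γ(S, U)] Γ(X, V)) ∈ y.asIdeal := by
          rw [← hsum]
          exact Ideal.add_mem _ (Ideal.sum_mem _ fun k _ => hall k) hin
        exact y.isPrime.ne_top ((Ideal.eq_top_iff_one _).mpr this)
      let πB : (R ⊗[Γ(S, U)] Γ(X, V)) →+* B := (RingHom.snd _ _).comp e.toRingHom
      have hπBs : Function.Surjective πB := Prod.snd_surjective.comp e.surjective
      obtain ⟨Q, hQ, hQy⟩ := exists_prime_of_idem πB hπBs εB (by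
        intro z hz
        apply e.injective
        rw [map_mul, map_zero]
        simp only [εB, AlgEquiv.apply_symm_apply]
        refine Prod.ext (by simp) ?_
        show (e z).2 * 1 = 0
        rw [mul_one]
        exact hz) y.asIdeal hεB
      apply hB Q
      have : Q.comap (algebraMap R B) = (Q.comap πB).comap (algebraMap R _) := by
        rw [Ideal.comap_comap]
        congr 1
        ext r
        show algebraMap R B r = (e (algebraMap R _ r)).2
        rw [e.commutes]
        rfl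
      rw [this, hQy, hyP]
    obtain ⟨k, hk⟩ := hex
    obtain ⟨t, ht, hty⟩ := exists_prime_of_idem (π k) (hπs k) (ε k) (by
      intro z hz
      have := (hπε k z 0).mp (by rw [hz, map_zero])
      rw [mul_zero, mul_comm] at this
      exact this) y.asIdeal hk
    let tt : Spec (.of (R ⧸ I k)) := ⟨t, ht⟩
    have hty' : Spec.map (CommRingCat.ofHom (π k)) tt = y := PrimeSpectrum.ext hty
    have hw : ιk k tt = G y := by
      show G (Spec.map (CommRingCat.ofHom (π k)) tt) = G y
      rw [hty']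
    have htu : Spec.map (CommRingCat.ofHom (Ideal.Quotient.mk (I k))) tt = u := by
      rw [← hιsnd, Scheme.Hom.comp_apply, hw, ← Scheme.Hom.comp_apply, hg2]
      exact hsnd
    have htt := htk_uniq k tt htu
    refine ⟨⟨k, ?_⟩, tt, hw⟩
    rw [← htt, hw]
    exact hfstw

theorem onePoint {X S : Scheme.{u}} (f : X ⟶ S) (x : X) (W : X.Opens) (hxW : x ∈ W)
    (hft : LocallyOfFiniteType (W.ι ≫ f)) (hun : FormallyUnramified (W.ι ≫ f)) :
    ∃ (U : Scheme.{u}) (g : U ⟶ S) (u : U), Etale g ∧ g u = f x ∧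
      ∃ (K : Type) (_ : Finite K) (V : K → (pullback f g).Opens),
        (∀ k, IsClosedImmersion ((V k).ι ≫ pullback.snd f g) ∧
          ∃ w : ↑(pullback f g), w ∈ V k ∧ pullback.snd f g w = u) ∧
        (∀ k (w : ↑(pullback f g)), w ∈ V k → pullback.snd f g w = u → pullback.fst f g w = x) ∧
        (∀ (k k' : K) (w : ↑(pullback f g)), w ∈ V k → w ∈ V k' → k = k') ∧
        (∀ (w : ↑(pullback f g)), pullback.snd f g w = u → pullback.fst f g w = x →
          ∃ k, w ∈ V k) :=
  onePoint_gen @IsClosedImmersion (Ps := @FormallyUnramified)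
    (fun R A _ _ _ _ _ p _ => concP_closedImmersion R A p) f x W hxW hft hun hun

end Groth.Agent.Lib.helper3.EtNbhd
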