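import Mathlib
import Groth.Agent.Lib.helper3.EtNbhd1

/-!
# Combining one-point étale neighbourhoods over finitely many points
-/

set_option autoImplicit false
universe u

open CategoryTheory CategoryTheory.Limits AlgebraicGeometry

namespace Groth.Agent.Lib.helper3.EtNbhd

/-- the conclusion for a family of points -/
def Good (P : MorphismProperty Scheme.{u}) {X S : Scheme.{u}} (f : X ⟶ S) {ι : Type} (x : ι → X)
    {U : Scheme.{u}} (g : U ⟶ S) (u : U) : Prop :=
  ∃ (K : Type) (_ : Finite K) (lab : K → ι) (V : K → (pullback f g).Opens),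
    (∀ k, P ((V k).ι ≫ pullback.snd f g) ∧
      ∃ w : ↑(pullback f g), w ∈ V k ∧ pullback.snd f g w = u) ∧
    (∀ k (w : ↑(pullback f g)), w ∈ V k → pullback.snd f g w = u →
      pullback.fst f g w = x (lab k)) ∧
    (∀ (k k' : K) (w : ↑(pullback f g)), w ∈ V k → w ∈ V k' → pullback.snd f g w = u → k = k') ∧
    (∀ (w : ↑(pullback f g)) (i : ι), pullback.snd f g w = u → pullback.fst f g w = x i →
      ∃ k, lab k = i ∧ w ∈ V k)

theorem exists_of_isPullback {A B C D : Scheme.{u}} {a : A ⟶ B} {b : A ⟶ C} {c : B ⟶ D}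
    {d : C ⟶ D} (sq : IsPullback a b c d) (x : B) (y : C) (h : c x = d y) :
    ∃ z : A, a z = x ∧ b z = y := by
  obtain ⟨z, hz1, hz2⟩ := Scheme.Pullback.exists_preimage_pullback x y h
  refine ⟨sq.isoPullback.inv z, ?_, ?_⟩
  · rw [← Scheme.Hom.comp_apply, IsPullback.isoPullback_inv_fst]; exact hz1
  · rw [← Scheme.Hom.comp_apply, IsPullback.isoPullback_inv_snd]; exact hz2

variable {P : MorphismProperty Scheme.{u}} {X S : Scheme.{u}} {f : X ⟶ S}

theorem Good.baseChange [P.IsStableUnderBaseChange] {ι : Type} {x : ι → X}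
    {U U' : Scheme.{u}} {g : U ⟶ S} {u : U} (h : U' ⟶ U) (u' : U') (hu : h u' = u)
    (H : Good P f x g u) : Good P f x (h ≫ g) u' := by
  obtain ⟨K, hK, lab, V, h1, h2, h3, h4⟩ := H
  let q : pullback f (h ≫ g) ⟶ pullback f g :=
    pullback.map f (h ≫ g) f g (𝟙 _) h (𝟙 _) (by simp) (by simp)
  have hq1 : q ≫ pullback.fst f g = pullback.fst f (h ≫ g) := by
    simp only [q, pullback.map, pullback.lift_fst, Category.comp_id]
  have hq2 : q ≫ pullback.snd f g = pullback.snd f (h ≫ g) ≫ h := by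
    simp only [q, pullback.map, pullback.lift_snd]
  have sq : IsPullback q (pullback.snd f (h ≫ g)) (pullback.snd f g) h :=
    IsPullback.of_right (by rw [hq1]; exact IsPullback.of_hasPullback f (h ≫ g)) hq2
      (IsPullback.of_hasPullback f g)
  have hfst : ∀ w : ↑(pullback f (h ≫ g)), pullback.fst f g (q w) = pullback.fst f (h ≫ g) w := by
    intro w
    rw [← Scheme.Hom.comp_apply, hq1]
  have hsnd : ∀ w : ↑(pullback f (h ≫ g)), pullback.snd f (h ≫ g) w = u' →
      pullback.snd f g (q w) = u := by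
    intro w hw
    rw [← Scheme.Hom.comp_apply, hq2, Scheme.Hom.comp_apply, hw, hu]
  refine ⟨K, hK, lab, fun k => q ⁻¹ᵁ V k, ?_, ?_, ?_, ?_⟩
  · intro k
    obtain ⟨hP, w, hwV, hw⟩ := h1 k
    refine ⟨?_, ?_⟩
    · have sqV := isPullback_morphismRestrict q (V k)
      exact P.of_isPullback (sqV.paste_vert sq) hP
    · obtain ⟨z, hz1, hz2⟩ := exists_of_isPullback sq w u' (by rw [hw, hu])
      exact ⟨z, by show q z ∈ V k; rw [hz1]; exact hwV, hz2⟩
  · intro k w hwV hw
    rw [← hfst]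
    exact h2 k (q w) hwV (hsnd w hw)
  · intro k k' w hwV hwV' hw
    exact h3 k k' (q w) hwV hwV' (hsnd w hw)
  · intro w i hw hwi
    obtain ⟨k, hk, hkV⟩ := h4 (q w) i (hsnd w hw) (by rw [hfst]; exact hwi)
    exact ⟨k, hk, hkV⟩

theorem Good.of_equiv {α β : Type} (e : α ≃ β) {x : β → X} {U : Scheme.{u}} {g : U ⟶ S} {u : U}
    (H : Good P f (x ∘ e) g u) : Good P f x g u := by
  obtain ⟨K, hK, lab, V, h1, h2, h3, h4⟩ := H
  refine ⟨K, hK, e ∘ lab, V, h1, h2, h3, ?_⟩
  intro w i hw hwi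
  obtain ⟨k, hk, hkV⟩ := h4 w (e.symm i) hw (by simpa using hwi)
  exact ⟨k, by simp [hk], hkV⟩

theorem Good.union {α : Type} {x : Option α → X} (hinj : Function.Injective x)
    {U : Scheme.{u}} {g : U ⟶ S} {u : U}
    (H1 : Good P f (x ∘ some) g u) (H2 : Good P f (fun _ : Unit => x none) g u) :
    Good P f x g u := by
  obtain ⟨K₁, hK₁, lab₁, V₁, a1, a2, a3, a4⟩ := H1
  obtain ⟨K₂, hK₂, lab₂, V₂, b1, b2, b3, b4⟩ := H2
  refine ⟨K₁ ⊕ K₂, inferInstance, Sum.elim (some ∘ lab₁) (fun _ => none), Sum.elim V₁ V₂,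
    ?_, ?_, ?_, ?_⟩
  · rintro (k | k)
    · exact a1 k
    · exact b1 k
  · rintro (k | k) w hwV hw
    · exact a2 k w hwV hw
    · exact b2 k w hwV hw
  · rintro (k | k) (k' | k') w hwV hwV' hw
    · rw [a3 k k' w hwV hwV' hw]
    · exfalso
      have e1 := a2 k w hwV hw
      have e2 := b2 k' w hwV' hw
      have := hinj (e1.symm.trans e2)
      simp at this
    · exfalso
      have e1 := b2 k w hwV hw
      have e2 := a2 k' w hwV' hw
      have := hinj (e1.symm.trans e2)
      simp at this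
    · rw [b3 k k' w hwV hwV' hw]
  · intro w i hw hwi
    cases i with
    | none =>
      obtain ⟨k, -, hkV⟩ := b4 w () hw hwi
      exact ⟨Sum.inr k, rfl, hkV⟩
    | some j =>
      obtain ⟨k, hk, hkV⟩ := a4 w j hw hwi
      exact ⟨Sum.inl k, by simp [hk], hkV⟩

theorem main [P.IsStableUnderBaseChange] (s : S) (C : X → Prop)
    (hone : ∀ x₀ : X, f x₀ = s → C x₀ →
      ∃ (U : Scheme.{u}) (g : U ⟶ S) (u : U), Etale g ∧ g u = s ∧
        Good P f (fun _ : Unit => x₀) g u)
    (ι : Type) [Finite ι] :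
    ∀ (x : ι → X), Function.Injective x → (∀ i, f (x i) = s) → (∀ i, C (x i)) →
      ∃ (U : Scheme.{u}) (g : U ⟶ S) (u : U), Etale g ∧ g u = s ∧ Good P f x g u := by
  induction ι using Finite.induction_empty_option with
  | of_equiv e ih =>
    intro x hinj hs hC
    obtain ⟨U, g, u, hg, hgu, H⟩ := ih (x ∘ e) (hinj.comp e.injective) (fun i => hs _)
      (fun i => hC _)
    exact ⟨U, g, u, hg, hgu, H.of_equiv e⟩
  | h_empty =>
    intro x _ _ _
    refine ⟨S, 𝟙 S, s, inferInstance, rfl, PEmpty, inferInstance, fun k => k.elim,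
      fun k => k.elim, fun k => k.elim, fun k => k.elim, fun k => k.elim, fun w i => i.elim⟩
  | h_option ih =>
    intro x hinj hs hC
    obtain ⟨U₁, g₁, u₁, hg₁, hgu₁, H₁⟩ := ih (x ∘ some)
      (hinj.comp (Option.some_injective _)) (fun i => hs _) (fun i => hC _)
    obtain ⟨U₂, g₂, u₂, hg₂, hgu₂, H₂⟩ := hone (x none) (hs none) (hC none)
    obtain ⟨u, hu1, hu2⟩ := Scheme.Pullback.exists_preimage_pullback (f := g₁) (g := g₂) u₁ u₂
      (by rw [hgu₁, hgu₂])
    have G1 := H₁.baseChange (pullback.fst g₁ g₂) u hu1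
    have G2 := H₂.baseChange (pullback.snd g₁ g₂) u hu2
    rw [← pullback.condition] at G2
    refine ⟨pullback g₁ g₂, pullback.fst g₁ g₂ ≫ g₁, u, inferInstance, ?_, Good.union hinj G1 G2⟩
    rw [Scheme.Hom.comp_apply, hu1, hgu₁]

end Groth.Agent.Lib.helper3.EtNbhd
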