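import Mathlib
import Groth.Agent.Lib.helper3.UnramSplit2

/-!
# Finite unramified algebras split étale-locally into quotients
-/

set_option autoImplicit false
universe u

open TensorProduct

namespace Groth.Agent.Lib.helper3.FUnrSplit

open Groth.Agent.Lib.helper3

/-- projection from a product with trivial second factor is an algebra isomorphism -/
noncomputable def fstEquiv (R X Y : Type u) [CommRing R] [CommRing X] [CommRing Y] [Algebra R X]
    [Algebra R Y] [Subsingleton Y] : (X × Y) ≃ₐ[R] X :=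
  AlgEquiv.ofBijective (AlgHom.fst R X Y) ⟨fun _ _ h => Prod.ext h (Subsingleton.elim _ _),
    fun x => ⟨(x, 0), rfl⟩⟩

theorem subsingleton_tensor_away {R' B : Type u} [CommRing R'] [CommRing B] [Algebra R' B]
    (g : R') (hg : algebraMap R' B g = 0) :
    Subsingleton (Localization.Away g ⊗[R'] B) := by
  refine ⟨fun a b => ?_⟩
  have h0 : ∀ z : Localization.Away g ⊗[R'] B, z = 0 := by
    intro z
    induction z using TensorProduct.induction_on with
    | zero => rfl
    | tmul x b =>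
      have hu : IsUnit (algebraMap R' (Localization.Away g) g) :=
        IsLocalization.Away.algebraMap_isUnit g
      obtain ⟨w, hw⟩ := hu.exists_right_inv
      have : x = g • (x * w) := by
        rw [Algebra.smul_def, mul_comm x w, ← mul_assoc, hw, one_mul]
      rw [this, TensorProduct.smul_tmul, Algebra.smul_def, hg, zero_mul, TensorProduct.tmul_zero]
    | add x y hx hy => rw [hx, hy, add_zero]
  rw [h0 a, h0 b]

theorem alg_main (R S : Type u) [CommRing R] [CommRing S] [Algebra R S] [Module.Finite R S]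
    [Algebra.FormallyUnramified R S] (p : Ideal R) [p.IsPrime] :
    ∃ (T : Type u) (_ : CommRing T) (_ : Algebra R T) (_ : Algebra.Etale R T) (P : Ideal T)
      (_ : P.IsPrime) (_ : P.LiesOver p) (n : ℕ) (K : Fin n → Ideal T),
      Nonempty ((T ⊗[R] S) ≃ₐ[T] (∀ i : Fin n, T ⧸ K i)) := by
  haveI : Algebra.FiniteType R S := inferInstance
  haveI : Algebra.Unramified R S := ⟨inferInstance, inferInstance⟩
  obtain ⟨R', _, _, _, p', _, hp', ι, _, K, B, _, _, ⟨e⟩, hK, hB⟩ :=
    UnramSplit2.conc_main _ R S p rfl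
  classical
  -- `B` is integral over `R'`
  let π : (R' ⊗[R] S) →ₐ[R'] B := (AlgHom.snd R' (∀ i, R' ⧸ K i) B).comp e.toAlgHom
  have hπ : Function.Surjective π := Prod.snd_surjective.comp e.surjective
  haveI : Module.Finite R' (R' ⊗[R] S) := inferInstance
  haveI : Module.Finite R' B := Module.Finite.of_surjective π.toLinearMap hπ
  haveI : Algebra.IsIntegral R' B := inferInstance
  -- find `g ∈ ker ∖ p'`
  have hker : ¬ RingHom.ker (algebraMap R' B) ≤ p' := by
    intro hle
    obtain ⟨Q, -, hQ, hQp⟩ := Ideal.exists_ideal_over_prime_of_isIntegral p' (⊥ : Ideal B)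
      (by rwa [← RingHom.ker_eq_comap_bot])
    exact hB Q hQp
  obtain ⟨g, hgker, hgp⟩ := Set.not_subset.mp hker
  have hg0 : algebraMap R' B g = 0 := hgker
  let T := Localization.Away g
  haveI : IsScalarTower R R' T := inferInstance
  haveI : Algebra.Etale R' T := Algebra.Etale.of_isLocalizationAway g
  haveI : Algebra.Etale R T := inferInstance
  have hdisj : Disjoint (Submonoid.powers g : Set R') (p' : Set R') := by
    rw [Set.disjoint_left]
    rintro x ⟨k, rfl⟩ hx
    exact hgp (Ideal.IsPrime.mem_of_pow_mem inferInstance k hx)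
  let P : Ideal T := p'.map (algebraMap R' T)
  haveI hPprime : P.IsPrime :=
    IsLocalization.isPrime_of_isPrime_disjoint (Submonoid.powers g) T p' inferInstance hdisj
  have hPcomap : P.comap (algebraMap R' T) = p' :=
    IsLocalization.comap_map_of_isPrime_disjoint (Submonoid.powers g) T inferInstance hdisj
  haveI hPo' : P.LiesOver p' := ⟨hPcomap.symm⟩
  haveI : P.LiesOver p := .trans P p' p
  haveI : Subsingleton (T ⊗[R'] B) := subsingleton_tensor_away g hg0
  let E1 : T ⊗[R] S ≃ₐ[T] T ⊗[R'] (R' ⊗[R] S) :=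
    (Algebra.TensorProduct.cancelBaseChange R R' T T S).symm
  let E2 : T ⊗[R'] (R' ⊗[R] S) ≃ₐ[T] T ⊗[R'] ((∀ i, R' ⧸ K i) × B) :=
    Algebra.TensorProduct.congr AlgEquiv.refl e
  let E3 : T ⊗[R'] ((∀ i, R' ⧸ K i) × B) ≃ₐ[T] (T ⊗[R'] (∀ i, R' ⧸ K i)) × (T ⊗[R'] B) :=
    Algebra.TensorProduct.prodRight R' T T (∀ i, R' ⧸ K i) B
  let E4 : ((T ⊗[R'] (∀ i, R' ⧸ K i)) × (T ⊗[R'] B)) ≃ₐ[T] T ⊗[R'] (∀ i, R' ⧸ K i) :=
    fstEquiv T _ _
  let E5 : T ⊗[R'] (∀ i, R' ⧸ K i) ≃ₐ[T] ∀ i, T ⊗[R'] (R' ⧸ K i) :=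
    Algebra.TensorProduct.piRight R' T T (fun i => R' ⧸ K i)
  let E6 : (∀ i, T ⊗[R'] (R' ⧸ K i)) ≃ₐ[T] ∀ i, T ⧸ (K i).map (algebraMap R' T) :=
    AlgEquiv.piCongrRight fun i =>
      (Algebra.TensorProduct.quotIdealMapEquivTensorQuot T (K i)).symm
  let n := Fintype.card ι
  let ε : ι ≃ Fin n := Fintype.equivFin ι
  let K' : Fin n → Ideal T := fun j => (K (ε.symm j)).map (algebraMap R' T)
  let E7 : (∀ i, T ⧸ (K i).map (algebraMap R' T)) ≃ₐ[T] ∀ j : Fin n, T ⧸ K' j :=
    AlgEquiv.piCongrLeft' T (fun i => T ⧸ (K i).map (algebraMap R' T)) ε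
  exact ⟨T, inferInstance, inferInstance, inferInstance, P, inferInstance, inferInstance, n, K',
    ⟨E1.trans (E2.trans (E3.trans (E4.trans (E5.trans (E6.trans E7)))))⟩⟩

end Groth.Agent.Lib.helper3.FUnrSplit
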