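import Mathlib
import Groth.Agent.Lib.helper3.EtNbhd1
import Groth.Agent.Lib.helper3.FUnrSplit

/-!
# The étale case: the closed pieces become isomorphic to the base after localising
-/

set_option autoImplicit false
universe u

open CategoryTheory CategoryTheory.Limits AlgebraicGeometry TensorProduct

namespace Groth.Agent.Lib.helper3.EtNbhd

open Groth.Agent.Lib.helper3

theorem isIso_SpecMap_mk_of_eq_bot {T : Type u} [CommRing T] (J : Ideal T) (hJ : J = ⊥) :
    IsIso (Spec.map (CommRingCat.ofHom (Ideal.Quotient.mk J))) := by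
  have hb : Function.Bijective (Ideal.Quotient.mk J) := by
    refine ⟨?_, Ideal.Quotient.mk_surjective⟩
    rw [injective_iff_map_eq_zero]
    intro a ha
    rw [Ideal.Quotient.eq_zero_iff_mem, hJ] at ha
    exact ha
  haveI : IsIso (CommRingCat.ofHom (Ideal.Quotient.mk J)) :=
    (ConcreteCategory.isIso_iff_bijective _).mpr hb
  infer_instance

theorem concP_iso (R S : Type u) [CommRing R] [CommRing S] [Algebra R S]
    [Algebra.Etale R S] (p : Ideal R) [p.IsPrime] :
    ConcP (MorphismProperty.isomorphisms Scheme.{u}) R S p := by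
  haveI : Algebra.FiniteType R S := inferInstance
  haveI : Algebra.Unramified R S := ⟨inferInstance, inferInstance⟩
  obtain ⟨R', _, _, _, p', _, hp', ι, _, K, B, _, _, ⟨e⟩, hK, hB⟩ :=
    UnramSplit2.conc_main _ R S p rfl
  classical
  haveI : Module.Flat R S := inferInstance
  haveI : Module.Flat R' (R' ⊗[R] S) := inferInstance
  haveI : Algebra.FinitePresentation R' (R' ⊗[R] S) := inferInstance
  -- each `K i` is generated by an idempotent
  have hidem : ∀ i, ∃ a : R', IsIdempotentElem a ∧ K i = Ideal.span {a} := by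
    intro i
    let π : (R' ⊗[R] S) →ₐ[R'] R' ⧸ K i :=
      (Pi.evalAlgHom R' _ i).comp ((AlgHom.fst R' _ B).comp e.toAlgHom)
    have hπs : Function.Surjective π :=
      (Function.surjective_eval i).comp (Prod.fst_surjective.comp e.surjective)
    let ε : R' ⊗[R] S := e.symm (Pi.single i 1, 0)
    have hεe : e ε = (Pi.single i 1, 0) := e.apply_symm_apply _
    have hzε : ∀ z, π z = 0 → z * ε = 0 := by
      intro z hz
      apply e.injective
      rw [map_mul, hεe, map_zero]
      refine Prod.ext ?_ (by simp)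
      funext j
      by_cases hj : j = i
      · subst hj
        have h' : (e z).1 j = 0 := hz
        simp [h']
      · simp [hj]
    have hπε : π (1 - ε) = 0 := by
      show (e (1 - ε)).1 i = 0
      rw [map_sub, hεe]
      simp
    have hker : RingHom.ker π.toRingHom = Ideal.span {1 - ε} := by
      apply le_antisymm
      · intro z hz
        have hz0 : z * ε = 0 := hzε z hz
        have : z = z * (1 - ε) := by rw [mul_sub, mul_one, hz0, sub_zero]
        rw [this]
        exact Ideal.mul_mem_left _ _ (Ideal.mem_span_singleton_self _)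
      · rw [Ideal.span_le]
        rintro _ rfl
        exact hπε
    haveI : Algebra.FinitePresentation R' (R' ⧸ K i) :=
      Algebra.FinitePresentation.of_surjective hπs (by
        rw [hker]; exact ⟨{1 - ε}, by simp⟩)
    have hfg : (K i).FG := by
      have := Algebra.FinitePresentation.ker_fG_of_surjective (Ideal.Quotient.mkₐ R' (K i))
        (Ideal.Quotient.mkₐ_surjective R' (K i))
      have hk : RingHom.ker (Ideal.Quotient.mkₐ R' (K i)).toRingHom = K i := by
        ext z
        exact Ideal.Quotient.eq_zero_iff_mem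
      rwa [hk] at this
    haveI : Module.Flat R' (R' ⧸ K i) := by
      let inc : (R' ⧸ K i) →ₗ[R'] (R' ⊗[R] S) :=
        e.symm.toLinearMap ∘ₗ LinearMap.inl R' _ B ∘ₗ LinearMap.single R' (fun j => R' ⧸ K j) i
      refine Module.Flat.of_retract inc π.toLinearMap (LinearMap.ext fun b => ?_)
      show (e (e.symm (Pi.single i b, 0))).1 i = b
      rw [e.apply_symm_apply]
      simp
    haveI : (K i).Pure := ‹Module.Flat R' (R' ⧸ K i)›
    exact ((K i).isIdempotentElem_iff_of_fg hfg).mp (Ideal.isIdempotentElem_of_pure (K i))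
  choose a ha hKa using hidem
  let h : R' := ∏ i, (1 - a i)
  have hhp : h ∉ p' := by
    intro hin
    obtain ⟨i, -, hi⟩ := (Ideal.IsPrime.prod_mem_iff (hp := inferInstance)).mp hin
    have hai : a i ∈ p' := hK i (by rw [hKa i]; exact Ideal.mem_span_singleton_self _)
    have : (1 : R') ∈ p' := by
      have := Ideal.add_mem _ hi hai
      simpa using this
    exact (inferInstance : p'.IsPrime).ne_top ((Ideal.eq_top_iff_one _).mpr this)
  let T := Localization.Away h
  haveI : IsScalarTower R R' T := inferInstance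
  haveI : Algebra.Etale R' T := Algebra.Etale.of_isLocalizationAway h
  haveI : Algebra.Etale R T := inferInstance
  have hdisj : Disjoint (Submonoid.powers h : Set R') (p' : Set R') := by
    rw [Set.disjoint_left]
    rintro x ⟨k, rfl⟩ hx
    exact hhp (Ideal.IsPrime.mem_of_pow_mem inferInstance k hx)
  let P : Ideal T := p'.map (algebraMap R' T)
  haveI hPprime : P.IsPrime :=
    IsLocalization.isPrime_of_isPrime_disjoint (Submonoid.powers h) T p' inferInstance hdisj
  have hPcomap : P.comap (algebraMap R' T) = p' :=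
    IsLocalization.comap_map_of_isPrime_disjoint (Submonoid.powers h) T inferInstance hdisj
  haveI hPo' : P.LiesOver p' := ⟨hPcomap.symm⟩
  haveI : P.LiesOver p := .trans P p' p
  have hbot : ∀ i, (K i).map (algebraMap R' T) = ⊥ := by
    intro i
    have hu : IsUnit (algebraMap R' T h) := IsLocalization.Away.algebraMap_isUnit h
    have hdvd : (1 - a i) ∣ h := Finset.dvd_prod_of_mem _ (Finset.mem_univ i)
    have hu' : IsUnit (algebraMap R' T (1 - a i)) :=
      isUnit_of_dvd_unit (map_dvd (algebraMap R' T) hdvd) hu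
    have h0 : a i * (1 - a i) = 0 := by
      rw [mul_sub, mul_one, (ha i).eq, sub_self]
    have h1 : algebraMap R' T (a i) * algebraMap R' T (1 - a i) = 0 := by
      rw [← map_mul, h0, map_zero]
    have h2 : algebraMap R' T (a i) = 0 := (hu'.mul_left_eq_zero).mp h1
    rw [hKa i, Ideal.map_span, Set.image_singleton, h2]
    exact Ideal.span_singleton_eq_bot.mpr rfl
  let E1 : T ⊗[R] S ≃ₐ[T] T ⊗[R'] (R' ⊗[R] S) :=
    (Algebra.TensorProduct.cancelBaseChange R R' T T S).symm
  let E2 : T ⊗[R'] (R' ⊗[R] S) ≃ₐ[T] T ⊗[R'] ((∀ i, R' ⧸ K i) × B) :=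
    Algebra.TensorProduct.congr AlgEquiv.refl e
  let E3 : T ⊗[R'] ((∀ i, R' ⧸ K i) × B) ≃ₐ[T] (T ⊗[R'] (∀ i, R' ⧸ K i)) × (T ⊗[R'] B) :=
    Algebra.TensorProduct.prodRight R' T T (∀ i, R' ⧸ K i) B
  let E5 : T ⊗[R'] (∀ i, R' ⧸ K i) ≃ₐ[T] ∀ i, T ⊗[R'] (R' ⧸ K i) :=
    Algebra.TensorProduct.piRight R' T T (fun i => R' ⧸ K i)
  let E6 : (∀ i, T ⊗[R'] (R' ⧸ K i)) ≃ₐ[T] ∀ i, T ⧸ (K i).map (algebraMap R' T) :=
    AlgEquiv.piCongrRight fun i =>
      (Algebra.TensorProduct.quotIdealMapEquivTensorQuot T (K i)).symm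
  let E4 : ((T ⊗[R'] (∀ i, R' ⧸ K i)) × (T ⊗[R'] B)) ≃ₐ[T]
      ((∀ i, T ⧸ (K i).map (algebraMap R' T)) × (T ⊗[R'] B)) :=
    AlgEquiv.prodCongr (E5.trans E6) AlgEquiv.refl
  refine ⟨T, inferInstance, inferInstance, inferInstance, P, inferInstance, inferInstance, ι,
    inferInstance, fun i => (K i).map (algebraMap R' T), T ⊗[R'] B, inferInstance, inferInstance,
    ⟨E1.trans (E2.trans (E3.trans E4))⟩, ?_, ?_, ?_⟩
  · intro i
    show (K i).map (algebraMap R' T) ≤ P
    rw [hbot i]
    exact bot_le
  · intro Q hQ hQP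
    let incB : B →+* T ⊗[R'] B :=
      (Algebra.TensorProduct.includeRight : B →ₐ[R'] T ⊗[R'] B).toRingHom
    apply hB (Q.comap incB)
    rw [Ideal.comap_comap]
    have : incB.comp (algebraMap R' B) =
        (algebraMap T (T ⊗[R'] B)).comp (algebraMap R' T) := by
      ext r
      show (1 : T) ⊗ₜ[R'] (algebraMap R' B r) = (algebraMap R' T r) ⊗ₜ[R'] (1 : B)
      rw [Algebra.algebraMap_eq_smul_one, Algebra.algebraMap_eq_smul_one, TensorProduct.smul_tmul]
    rw [this, ← Ideal.comap_comap, hQP, hPcomap]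
  · intro i
    exact (MorphismProperty.isomorphisms.iff _).mpr (isIso_SpecMap_mk_of_eq_bot _ (hbot i))

end Groth.Agent.Lib.helper3.EtNbhd
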