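import Mathlib
import Groth.Agent.Lib.helper3.EtNbhd2

/-!
# The separated case: a decomposition of the base change into clopen pieces
-/

set_option autoImplicit false
universe u

open CategoryTheory CategoryTheory.Limits AlgebraicGeometry

namespace Groth.Agent.Lib.helper3.EtNbhd

theorem decomp (P : MorphismProperty Scheme.{u}) [P.IsStableUnderBaseChange]
    (hP : ∀ {A B : Scheme.{u}} (φ : A ⟶ B), P φ → IsClosedImmersion φ)
    {X S : Scheme.{u}} (f : X ⟶ S) [IsSeparated f] (s : S) {ι : Type} (x : ι → X)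
    {U : Scheme.{u}} (g : U ⟶ S) (u : U) [Etale g] (hgu : g u = s) (H : Good P f x g u) :
    ∃ (U' : Scheme.{u}) (g' : U' ⟶ S) (u' : U'), Etale g' ∧ g' u' = s ∧
      ∃ (K : Type) (_ : Finite K) (W : (pullback f g').Opens) (V : K → (pullback f g').Opens),
        W ⊔ (⨆ k, V k) = ⊤ ∧ (∀ k, Disjoint W (V k)) ∧ (∀ k k', k ≠ k' → Disjoint (V k) (V k')) ∧
        (∀ k, P ((V k).ι ≫ pullback.snd f g') ∧
          ∃ w : ↑(pullback f g'), w ∈ V k ∧ pullback.snd f g' w = u') ∧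
        (∀ (w : ↑(pullback f g')) (i : ι), w ∈ W → pullback.snd f g' w = u' →
          pullback.fst f g' w ≠ x i) := by
  obtain ⟨K, hK, lab, V, h1, h2, h3, h4⟩ := H
  haveI := hK
  have hcl : ∀ k, IsClosed ((V k : Set ↑(pullback f g))) := by
    intro k
    haveI : IsClosedImmersion ((V k).ι ≫ pullback.snd f g) := hP _ (h1 k).1
    haveI : IsClosedImmersion (V k).ι := IsClosedImmersion.of_comp (V k).ι (pullback.snd f g)
    have := (V k).ι.isClosedEmbedding.isClosed_range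
    simpa [Scheme.Opens.range_ι] using this
  let Z : K → K → Set U := fun k k' => pullback.snd f g '' ((V k : Set _) ∩ (V k' : Set _))
  have hZcl : ∀ k k', IsClosed (Z k k') := by
    intro k k'
    haveI : IsClosedImmersion ((V k).ι ≫ pullback.snd f g) := hP _ (h1 k).1
    have hcm : IsClosedMap ((V k).ι ≫ pullback.snd f g) :=
      ((V k).ι ≫ pullback.snd f g).isClosedEmbedding.isClosedMap
    have : Z k k' = ((V k).ι ≫ pullback.snd f g) '' ((V k).ι ⁻¹' (V k' : Set _)) := by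
      ext y
      constructor
      · rintro ⟨w, ⟨hw1, hw2⟩, rfl⟩
        exact ⟨⟨w, hw1⟩, hw2, rfl⟩
      · rintro ⟨w, hw, rfl⟩
        exact ⟨w.1, ⟨w.2, hw⟩, rfl⟩
    rw [this]
    exact hcm _ ((hcl k').preimage (V k).ι.continuous)
  let Zall : Set U := ⋃ k, ⋃ k', ⋃ (_ : k ≠ k'), Z k k'
  have hZall : IsClosed Zall :=
    isClosed_iUnion_of_finite fun k => isClosed_iUnion_of_finite fun k' =>
      isClosed_iUnion_of_finite fun _ => hZcl k k'
  have huZ : u ∉ Zall := by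
    simp only [Zall, Set.mem_iUnion, not_exists]
    rintro k k' hne ⟨w, ⟨hw1, hw2⟩, hwu⟩
    exact hne (h3 k k' w hw1 hw2 hwu)
  let U' : U.Opens := ⟨Zallᶜ, hZall.isOpen_compl⟩
  let u' : U' := ⟨u, huZ⟩
  let hh : (U' : Scheme.{u}) ⟶ U := U'.ι
  have hu' : hh u' = u := rfl
  let q : pullback f (hh ≫ g) ⟶ pullback f g :=
    pullback.map f (hh ≫ g) f g (𝟙 _) hh (𝟙 _) (by simp) (by simp)
  have hq1 : q ≫ pullback.fst f g = pullback.fst f (hh ≫ g) := by
    simp only [q, pullback.map, pullback.lift_fst, Category.comp_id]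
  have hq2 : q ≫ pullback.snd f g = pullback.snd f (hh ≫ g) ≫ hh := by
    simp only [q, pullback.map, pullback.lift_snd]
  have sq : IsPullback q (pullback.snd f (hh ≫ g)) (pullback.snd f g) hh :=
    IsPullback.of_right (by rw [hq1]; exact IsPullback.of_hasPullback f (hh ≫ g)) hq2
      (IsPullback.of_hasPullback f g)
  have hfst : ∀ w : ↑(pullback f (hh ≫ g)),
      pullback.fst f g (q w) = pullback.fst f (hh ≫ g) w := by
    intro w
    rw [← Scheme.Hom.comp_apply, hq1]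
  have hsnd' : ∀ w : ↑(pullback f (hh ≫ g)),
      pullback.snd f g (q w) = hh (pullback.snd f (hh ≫ g) w) := by
    intro w
    rw [← Scheme.Hom.comp_apply, hq2, Scheme.Hom.comp_apply]
  have hsnd : ∀ w : ↑(pullback f (hh ≫ g)), pullback.snd f (hh ≫ g) w = u' →
      pullback.snd f g (q w) = u := by
    intro w hw
    rw [hsnd', hw, hu']
  let V' : K → (pullback f (hh ≫ g)).Opens := fun k => q ⁻¹ᵁ V k
  have hcl' : ∀ k, IsClosed ((V' k : Set ↑(pullback f (hh ≫ g)))) := fun k =>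
    (hcl k).preimage q.continuous
  let W : (pullback f (hh ≫ g)).Opens :=
    ⟨(⋃ k, (V' k : Set ↑(pullback f (hh ≫ g))))ᶜ,
      (isClosed_iUnion_of_finite hcl').isOpen_compl⟩
  refine ⟨U', hh ≫ g, u', inferInstance, ?_, K, hK, W, V', ?_, ?_, ?_, ?_, ?_⟩
  · rw [Scheme.Hom.comp_apply, hu', hgu]
  · rw [eq_top_iff]
    intro w _
    by_cases hw : w ∈ (⋃ k, (V' k : Set ↑(pullback f (hh ≫ g))))
    · obtain ⟨k, hk⟩ := Set.mem_iUnion.mp hw
      exact (le_sup_right : (⨆ k, V' k) ≤ W ⊔ ⨆ k, V' k)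
        ((le_iSup V' k : V' k ≤ ⨆ k, V' k) hk)
    · exact (le_sup_left : W ≤ W ⊔ ⨆ k, V' k) hw
  · intro k
    rw [disjoint_iff_inf_le]
    rintro w ⟨hw1, hw2⟩
    exact (hw1 (Set.mem_iUnion.mpr ⟨k, hw2⟩)).elim
  · intro k k' hne
    rw [disjoint_iff_inf_le]
    rintro w ⟨hw1, hw2⟩
    exfalso
    have hmem : pullback.snd f g (q w) ∈ Zall := by
      simp only [Zall, Set.mem_iUnion]
      exact ⟨k, k', hne, q w, ⟨hw1, hw2⟩, rfl⟩
    rw [hsnd'] at hmem
    exact (pullback.snd f (hh ≫ g) w).2 hmem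
  · intro k
    obtain ⟨hPk, w, hwV, hw⟩ := h1 k
    refine ⟨?_, ?_⟩
    · have sqV := isPullback_morphismRestrict q (V k)
      exact P.of_isPullback (sqV.paste_vert sq) hPk
    · obtain ⟨z, hz1, hz2⟩ := exists_of_isPullback sq w u' (by rw [hw, hu'])
      exact ⟨z, by show q z ∈ V k; rw [hz1]; exact hwV, hz2⟩
  · intro w i hwW hw hwi
    obtain ⟨k, -, hkV⟩ := h4 (q w) i (hsnd w hw) (by rw [hfst]; exact hwi)
    exact hwW (Set.mem_iUnion.mpr ⟨k, hkV⟩)

end Groth.Agent.Lib.helper3.EtNbhd
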