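import Mathlib

/-!
# Points of a fibre product over a point with trivial residue field extension
-/

set_option autoImplicit false
universe u

open CategoryTheory CategoryTheory.Limits AlgebraicGeometry

namespace Groth.Agent.Lib.helper3.EtNbhd

variable {X Y S : Scheme.{u}} (f : X ⟶ S) (g : Y ⟶ S)

set_option backward.defeqAttrib.useBackward true in
set_option backward.isDefEq.respectTransparency false in
theorem unique_of_surj (t t' : ↑(pullback f g))
    (hsurj : Function.Surjective (g.residueFieldMap (pullback.snd f g t)))
    (h1 : pullback.fst f g t' = pullback.fst f g t)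
    (h2 : pullback.snd f g t' = pullback.snd f g t) : t' = t := by
  apply Scheme.Pullback.carrierEquiv.injective
  have hT : Scheme.Pullback.Triplet.ofPoint t' = Scheme.Pullback.Triplet.ofPoint t := by
    ext
    · exact h1
    · exact h2
  let T := Scheme.Pullback.Triplet.ofPoint t
  haveI : IsIso (g.residueFieldMap T.y) :=
    (ConcreteCategory.isIso_iff_bijective _).mpr
      ⟨(g.residueFieldMap T.y).hom.injective, hsurj⟩
  haveI : IsIso ((S.residueFieldCongr T.hy).inv ≫ g.residueFieldMap T.y) := inferInstance
  haveI : IsIso T.tensorInl := by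
    unfold Scheme.Pullback.Triplet.tensorInl
    infer_instance
  have hsub : Subsingleton (Spec T.tensor) := by
    refine ⟨fun p p' => ?_⟩
    apply (Spec.map T.tensorInl).homeomorph.injective
    haveI : Subsingleton (PrimeSpectrum (X.residueField T.x)) := inferInstance
    exact Subsingleton.elim (α := PrimeSpectrum (X.residueField T.x)) _ _
  rw [Scheme.Pullback.carrierEquiv_eq_iff]
  exact ⟨hT, @Subsingleton.elim _ hsub _ _⟩

set_option backward.defeqAttrib.useBackward true in
set_option backward.isDefEq.respectTransparency false in
theorem surj_fst_of_surj (t : ↑(pullback f g))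
    (hsurj : Function.Surjective (g.residueFieldMap (pullback.snd f g t))) :
    Function.Surjective ((pullback.fst f g).residueFieldMap t) := by
  let x := pullback.fst f g t
  let y := pullback.snd f g t
  have hxy : f x = g y := congr($(pullback.condition (f := f) (g := g)) t)
  haveI : IsIso (g.residueFieldMap y) :=
    (ConcreteCategory.isIso_iff_bijective _).mpr ⟨(g.residueFieldMap y).hom.injective, hsurj⟩
  let α : S.residueField (g y) ⟶ X.residueField x :=
    (S.residueFieldCongr hxy).inv ≫ f.residueFieldMap x
  let ρ : Y.residueField y ⟶ X.residueField x := inv (g.residueFieldMap y) ≫ α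
  have compat : X.fromSpecResidueField x ≫ f = (Spec.map ρ ≫ Y.fromSpecResidueField y) ≫ g := by
    rw [Category.assoc, ← Scheme.Hom.SpecMap_residueFieldMap_fromSpecResidueField,
      ← Scheme.Hom.SpecMap_residueFieldMap_fromSpecResidueField, ← Spec.map_comp_assoc]
    have : g.residueFieldMap y ≫ ρ = α := by simp [ρ]
    rw [this]
    simp only [α, Spec.map_comp, Category.assoc, Scheme.residueFieldCongr_inv,
      Scheme.residueFieldCongr_fromSpecResidueField]
  let σ : Spec (X.residueField x) ⟶ pullback f g :=
    pullback.lift (X.fromSpecResidueField x) (Spec.map ρ ≫ Y.fromSpecResidueField y) compat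
  have hσ1 : σ ≫ pullback.fst f g = X.fromSpecResidueField x := pullback.lift_fst _ _ _
  have hσ2 : σ ≫ pullback.snd f g = Spec.map ρ ≫ Y.fromSpecResidueField y :=
    pullback.lift_snd _ _ _
  let pt : Spec (X.residueField x) := IsLocalRing.closedPoint (X.residueField x)
  let t₀ := σ pt
  have e1 : pullback.fst f g t₀ = x := by
    rw [← Scheme.Hom.comp_apply, hσ1]
    exact Scheme.fromSpecResidueField_apply _ _
  have e2 : pullback.snd f g t₀ = y := by
    rw [← Scheme.Hom.comp_apply, hσ2, Scheme.Hom.comp_apply]
    exact Scheme.fromSpecResidueField_apply _ _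
  have ht : t₀ = t := unique_of_surj f g t t₀ hsurj e1 e2
  suffices h : Function.Surjective ((pullback.fst f g).residueFieldMap t₀) from ht ▸ h
  have key := Scheme.descResidueField_stalkClosedPointTo_comp (f := pullback.fst f g)
    (K := X.residueField x) σ
  -- the left-hand side is an isomorphism
  have e3 : (σ ≫ pullback.fst f g) pt = x := by
    rw [hσ1]; exact Scheme.fromSpecResidueField_apply _ _
  haveI : IsLocalHom (Scheme.stalkClosedPointTo (σ ≫ pullback.fst f g)).hom :=
    Scheme.isLocalHom_stalkClosedPointTo _
  have hD : Scheme.descResidueField (Scheme.stalkClosedPointTo (σ ≫ pullback.fst f g)) =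
      (X.residueFieldCongr e3).hom := by
    apply Spec.map_injective
    rw [← cancel_mono (X.fromSpecResidueField _)]
    have h5 := Scheme.descResidueField_stalkClosedPointTo_fromSpecResidueField
      (X.residueField x) X (σ ≫ pullback.fst f g)
    refine h5.trans ?_
    rw [Scheme.residueFieldCongr_fromSpecResidueField]
    exact hσ1
  have hDs : Function.Surjective
      (Scheme.descResidueField (Scheme.stalkClosedPointTo (σ ≫ pullback.fst f g))).hom := by
    rw [hD]
    exact ((ConcreteCategory.isIso_iff_bijective (X.residueFieldCongr e3).hom).mp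
      inferInstance).2
  intro b
  haveI : IsLocalHom (Scheme.stalkClosedPointTo σ).hom :=
    Scheme.isLocalHom_stalkClosedPointTo _
  let ψ := Scheme.descResidueField (Scheme.stalkClosedPointTo σ)
  obtain ⟨a, ha⟩ := hDs (ψ.hom b)
  refine ⟨a, ?_⟩
  apply ψ.hom.injective
  rw [← ha]
  have := congrArg (fun m => m.hom a) key
  simp only [CommRingCat.hom_comp, RingHom.comp_apply] at this
  exact this.symm

end Groth.Agent.Lib.helper3.EtNbhd
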