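import Mathlib

/-!
# Residue field algebra for étale localisation of a quasi-finite point
-/

open TensorProduct

namespace Groth.Agent.Lib.helper3.QFLocAlg

universe u

section

variable {R₀ R' : Type*} [CommRing R₀] [CommRing R'] [Algebra R₀ R']
  (p : Ideal R₀) [p.IsPrime] (P : Ideal R') [P.IsPrime] [P.LiesOver p]

theorem exists_frac
    (hsurj : Function.Surjective
      (Ideal.ResidueField.mapₐ p P (Algebra.ofId R₀ R') (P.over_def p)))
    (r : R') : ∃ a c : R₀, c ∉ p ∧ algebraMap R₀ R' c * r - algebraMap R₀ R' a ∈ P := by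
  obtain ⟨z, hz⟩ := hsurj (algebraMap R' P.ResidueField r)
  obtain ⟨x, y, hy, rfl⟩ := IsFractionRing.div_surjective (A := R₀ ⧸ p) z
  obtain ⟨a, rfl⟩ := Ideal.Quotient.mk_surjective x
  obtain ⟨c, rfl⟩ := Ideal.Quotient.mk_surjective y
  have hc : c ∉ p := by
    intro hcp
    have : Ideal.Quotient.mk p c = 0 := Ideal.Quotient.eq_zero_iff_mem.mpr hcp
    rw [this] at hy
    exact zero_notMem_nonZeroDivisors hy
  refine ⟨a, c, hc, ?_⟩
  have hne : algebraMap R' P.ResidueField (algebraMap R₀ R' c) ≠ 0 := by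
    rw [Ne, Ideal.algebraMap_residueField_eq_zero]
    intro h
    apply hc
    rw [P.over_def p]
    exact h
  rw [← Ideal.algebraMap_residueField_eq_zero (I := P), map_sub, map_mul, ← hz]
  rw [Ideal.algebraMap_quotient_residueField_mk, Ideal.algebraMap_quotient_residueField_mk,
    map_div₀]
  simp only [Ideal.ResidueField.mapₐ_apply, Ideal.ResidueField.map_algebraMap]
  change algebraMap R' P.ResidueField (algebraMap R₀ R' c) *
    (algebraMap R' P.ResidueField (algebraMap R₀ R' a) /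
      algebraMap R' P.ResidueField (algebraMap R₀ R' c)) -
    algebraMap R' P.ResidueField (algebraMap R₀ R' a) = 0
  field_simp
  ring

end

section

variable {R₀ R' S₀ : Type u} [CommRing R₀] [CommRing R'] [CommRing S₀] [Algebra R₀ R']
  [Algebra R₀ S₀] (p : Ideal R₀) [p.IsPrime] (P : Ideal R') [P.IsPrime] [P.LiesOver p]

theorem residue_surjective
    (hsurj : Function.Surjective
      (Ideal.ResidueField.mapₐ p P (Algebra.ofId R₀ R') (P.over_def p)))
    (P' : Ideal (R' ⊗[R₀] S₀)) [P'.IsPrime] [P'.LiesOver P] {K : Type u} [Field K]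
    (ρ : K →+* P'.ResidueField)
    (hρ : ∀ s : S₀, algebraMap (R' ⊗[R₀] S₀) P'.ResidueField (1 ⊗ₜ s) ∈ ρ.range) :
    Function.Surjective ρ := by
  set ev := algebraMap (R' ⊗[R₀] S₀) P'.ResidueField with hev
  have hF : ∀ y, y ∈ ρ.fieldRange ↔ ∃ x, ρ x = y := fun y => RingHom.mem_fieldRange
  have hS : ∀ s : S₀, ev (1 ⊗ₜ s) ∈ ρ.fieldRange := fun s => (hF _).mpr (hρ s)
  have ha : ∀ a : R₀, ev ((algebraMap R₀ R' a) ⊗ₜ 1) ∈ ρ.fieldRange := by
    intro a
    have : (algebraMap R₀ R' a) ⊗ₜ[R₀] (1 : S₀) = 1 ⊗ₜ (algebraMap R₀ S₀ a) := by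
      rw [Algebra.algebraMap_eq_smul_one, Algebra.algebraMap_eq_smul_one, TensorProduct.smul_tmul]
    rw [this]
    exact hS _
  have hPP' : ∀ r : R', r ∈ P ↔ (r ⊗ₜ[R₀] (1 : S₀)) ∈ P' := by
    intro r
    rw [P'.over_def P]
    rfl
  have hr : ∀ r : R', ev (r ⊗ₜ 1) ∈ ρ.fieldRange := by
    intro r
    obtain ⟨a, c, hc, hmem⟩ := exists_frac p P hsurj r
    have h0 : ev ((algebraMap R₀ R' c * r - algebraMap R₀ R' a) ⊗ₜ 1) = 0 :=
      Ideal.algebraMap_residueField_eq_zero.mpr ((hPP' _).mp hmem)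
    have hcne : ev ((algebraMap R₀ R' c) ⊗ₜ 1) ≠ 0 := by
      intro h
      apply hc
      have h1 : algebraMap R₀ R' c ∈ P := (hPP' _).mpr (Ideal.algebraMap_residueField_eq_zero.mp h)
      rw [P.over_def p]
      exact h1
    have h1 : ev ((algebraMap R₀ R' c) ⊗ₜ 1) * ev (r ⊗ₜ 1) = ev ((algebraMap R₀ R' a) ⊗ₜ 1) := by
      rw [← map_mul, Algebra.TensorProduct.tmul_mul_tmul, mul_one]
      have : (algebraMap R₀ R' c * r) ⊗ₜ[R₀] (1 : S₀) =
          (algebraMap R₀ R' c * r - algebraMap R₀ R' a) ⊗ₜ 1 + (algebraMap R₀ R' a) ⊗ₜ 1 := by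
        rw [← TensorProduct.add_tmul, sub_add_cancel]
      rw [this, map_add, h0, zero_add]
    have h2 : ev (r ⊗ₜ 1) = ev ((algebraMap R₀ R' a) ⊗ₜ 1) / ev ((algebraMap R₀ R' c) ⊗ₜ 1) := by
      rw [eq_div_iff hcne, mul_comm]
      exact h1
    rw [h2]
    exact div_mem (ha a) (ha c)
  have hall : ∀ b : R' ⊗[R₀] S₀, ev b ∈ ρ.fieldRange := by
    intro b
    induction b using TensorProduct.induction_on with
    | zero => rw [map_zero]; exact zero_mem _
    | tmul r s =>
      have : r ⊗ₜ[R₀] s = (r ⊗ₜ 1) * (1 ⊗ₜ s) := by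
        rw [Algebra.TensorProduct.tmul_mul_tmul, mul_one, one_mul]
      rw [this, map_mul]
      exact mul_mem (hr r) (hS s)
    | add x y hx hy => rw [map_add]; exact add_mem hx hy
  intro z
  obtain ⟨x, y, -, rfl⟩ := IsFractionRing.div_surjective (A := (R' ⊗[R₀] S₀) ⧸ P') z
  obtain ⟨x, rfl⟩ := Ideal.Quotient.mk_surjective x
  obtain ⟨y, rfl⟩ := Ideal.Quotient.mk_surjective y
  rw [Ideal.algebraMap_quotient_residueField_mk, Ideal.algebraMap_quotient_residueField_mk]
  exact (hF _).mp (div_mem (hall x) (hall y))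

end

section

variable {R₀ R' : Type u} [CommRing R₀] [CommRing R'] [Algebra R₀ R']
  (p : Ideal R₀) [p.IsPrime] (P : Ideal R') [P.IsPrime] [P.LiesOver p]

theorem residue_surjective₀
    (hsurj : Function.Surjective
      (Ideal.ResidueField.mapₐ p P (Algebra.ofId R₀ R') (P.over_def p)))
    {K : Type u} [Field K] (ρ : K →+* P.ResidueField)
    (hρ : ∀ a : R₀, algebraMap R' P.ResidueField (algebraMap R₀ R' a) ∈ ρ.range) :
    Function.Surjective ρ := by
  set ev := algebraMap R' P.ResidueField with hev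
  have hF : ∀ y, y ∈ ρ.fieldRange ↔ ∃ x, ρ x = y := fun y => RingHom.mem_fieldRange
  have ha : ∀ a : R₀, ev (algebraMap R₀ R' a) ∈ ρ.fieldRange := fun a => (hF _).mpr (hρ a)
  have hr : ∀ r : R', ev r ∈ ρ.fieldRange := by
    intro r
    obtain ⟨a, c, hc, hmem⟩ := exists_frac p P hsurj r
    have h0 : ev (algebraMap R₀ R' c * r - algebraMap R₀ R' a) = 0 :=
      Ideal.algebraMap_residueField_eq_zero.mpr hmem
    have hcne : ev (algebraMap R₀ R' c) ≠ 0 := by
      intro h
      apply hc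
      have h1 : algebraMap R₀ R' c ∈ P := Ideal.algebraMap_residueField_eq_zero.mp h
      rw [P.over_def p]
      exact h1
    have h1 : ev (algebraMap R₀ R' c) * ev r = ev (algebraMap R₀ R' a) := by
      rw [map_sub, map_mul, sub_eq_zero] at h0
      exact h0
    have h2 : ev r = ev (algebraMap R₀ R' a) / ev (algebraMap R₀ R' c) := by
      rw [eq_div_iff hcne, mul_comm]
      exact h1
    rw [h2]
    exact div_mem (ha a) (ha c)
  intro z
  obtain ⟨x, y, -, rfl⟩ := IsFractionRing.div_surjective (A := R' ⧸ P) z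
  obtain ⟨x, rfl⟩ := Ideal.Quotient.mk_surjective x
  obtain ⟨y, rfl⟩ := Ideal.Quotient.mk_surjective y
  rw [Ideal.algebraMap_quotient_residueField_mk, Ideal.algebraMap_quotient_residueField_mk]
  exact (hF _).mp (div_mem (hr x) (hr y))

end

end Groth.Agent.Lib.helper3.QFLocAlg
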