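import Mathlib
import Groth.Agent.Lib.helper3.QFLocAlg

/-!
# Étale localisation of a quasi-finite point (scheme level)
-/

open CategoryTheory CategoryTheory.Limits AlgebraicGeometry TensorProduct

namespace Groth.Agent.Lib.helper3.QFLoc

universe u

section Ring

variable {A B : Type u} [CommRing A] [CommRing B] (α : A →+* B)

/-- the residue field map of `Spec.map α`, transported to `Ideal.ResidueField`. -/
theorem exists_residueFieldMap_transport (q : Spec (CommRingCat.of B)) :
    ∃ ρ : (Spec.map (CommRingCat.ofHom α) q).asIdeal.ResidueField →+* q.asIdeal.ResidueField,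
      ρ.comp (algebraMap A _) = (algebraMap B _).comp α ∧
      (Function.Surjective ρ →
        Function.Surjective ((Spec.map (CommRingCat.ofHom α)).residueFieldMap q)) := by
  let isoP := Scheme.Spec.residueFieldIso (CommRingCat.of A) (Spec.map (CommRingCat.ofHom α) q)
  let isoQ := Scheme.Spec.residueFieldIso (CommRingCat.of B) q
  let ρ₀ := (Spec.map (CommRingCat.ofHom α)).residueFieldMap q
  let ρ'' : CommRingCat.of (Spec.map (CommRingCat.ofHom α) q).asIdeal.ResidueField ⟶
      CommRingCat.of q.asIdeal.ResidueField :=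
    isoP.inv ≫ ρ₀ ≫ isoQ.hom
  have key : CommRingCat.ofHom
      (algebraMap A (Spec.map (CommRingCat.ofHom α) q).asIdeal.ResidueField) ≫ ρ'' =
      CommRingCat.ofHom α ≫ CommRingCat.ofHom (algebraMap B q.asIdeal.ResidueField) := by
    apply Spec.map_injective
    simp only [Spec.map_comp, ρ'', ρ₀, Category.assoc]
    rw [Scheme.Spec.map_residueFieldIso_inv_eq_fromSpecResidueField,
      Scheme.Hom.SpecMap_residueFieldMap_fromSpecResidueField,
      ← Scheme.Spec.map_residueFieldIso_inv_eq_fromSpecResidueField, ← Category.assoc,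
      ← Category.assoc, ← Spec.map_comp, Iso.inv_hom_id, Spec.map_id, Category.id_comp]
  refine ⟨ρ''.hom, ?_, fun hsurj => ?_⟩
  · exact congrArg CommRingCat.Hom.hom key
  · have h1 : ρ₀ = isoP.hom ≫ ρ'' ≫ isoQ.inv := by
      simp only [ρ'', Category.assoc, Iso.hom_inv_id, Category.comp_id, Iso.hom_inv_id_assoc]
    change Function.Surjective ρ₀
    rw [h1]
    have e1 : Function.Bijective isoP.hom := ConcreteCategory.bijective_of_isIso isoP.hom
    have e2 : Function.Bijective isoQ.inv := ConcreteCategory.bijective_of_isIso isoQ.inv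
    intro z
    obtain ⟨z₁, rfl⟩ := e2.surjective z
    obtain ⟨z₂, rfl⟩ := hsurj z₁
    obtain ⟨z₃, rfl⟩ := e1.surjective z₂
    exact ⟨z₃, rfl⟩

end Ring

section SJ

variable {X Y Z : Scheme.{u}}

theorem surj_comp (f : X ⟶ Y) (g : Y ⟶ Z) (x : X)
    (h1 : Function.Surjective (f.residueFieldMap x))
    (h2 : Function.Surjective (g.residueFieldMap (f x))) :
    Function.Surjective ((f ≫ g).residueFieldMap x) := by
  rw [Scheme.residueFieldMap_comp]
  intro z
  obtain ⟨y, rfl⟩ := h1 z
  obtain ⟨w, rfl⟩ := h2 y
  exact ⟨w, rfl⟩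

theorem surj_cancel (f : X ⟶ Y) (g : Y ⟶ Z) (x : X) [IsIso (f.residueFieldMap x)]
    (h : Function.Surjective ((f ≫ g).residueFieldMap x)) :
    Function.Surjective (g.residueFieldMap (f x)) := by
  rw [Scheme.residueFieldMap_comp] at h
  have hinj : Function.Injective (f.residueFieldMap x) :=
    (ConcreteCategory.bijective_of_isIso (f.residueFieldMap x)).injective
  intro y
  obtain ⟨z, hz⟩ := h (f.residueFieldMap x y)
  exact ⟨z, hinj hz⟩

theorem surj_congr {f g : X ⟶ Y} (e : f = g) (x : X)
    (h : Function.Surjective (f.residueFieldMap x)) :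
    Function.Surjective (g.residueFieldMap x) := by
  subst e
  exact h

theorem surj_of_isIso (f : X ⟶ Y) (x : X) [IsIso (f.residueFieldMap x)] :
    Function.Surjective (f.residueFieldMap x) :=
  (ConcreteCategory.bijective_of_isIso (f.residueFieldMap x)).surjective

end SJ

end Groth.Agent.Lib.helper3.QFLoc
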