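import Mathlib
import Groth.Agent.Lib.helper3.QFLoc

/-!
# Étale localisation of a quasi-finite point: the chart
-/

open CategoryTheory CategoryTheory.Limits AlgebraicGeometry TensorProduct

namespace Groth.Agent.Lib.helper3.QFLoc

universe u

variable {X S : Scheme.{u}} (f : X ⟶ S) [LocallyOfFiniteType f]

set_option backward.defeqAttrib.useBackward true in
set_option backward.isDefEq.respectTransparency false in
theorem chart (x : X) (hx : f.QuasiFiniteAt x) :
    ∃ (U : Scheme.{u}) (g : U ⟶ S) (u : U), Etale g ∧ g u = f x ∧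
      Function.Surjective (g.residueFieldMap u) ∧
      ∃ (V : (pullback f g).Opens) (v : ↑(pullback f g)), v ∈ V ∧
        IsFinite (V.ι ≫ pullback.snd f g) ∧ pullback.snd f g v = u ∧ pullback.fst f g v = x ∧
        Function.Surjective ((pullback.fst f g).residueFieldMap v) ∧
        (∀ w : ↑(pullback f g), w ∈ V → pullback.snd f g w = u → w = v) ∧
        (∀ w : ↑(pullback f g), pullback.snd f g w = u → pullback.fst f g w = x → w = v) ∧
        (IsSeparated f → IsClosed (V : Set ↑(pullback f g))) := by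
  obtain ⟨_, ⟨U, hU, rfl⟩, hxU, -⟩ := S.isBasis_affineOpens.exists_subset_of_mem_open
    (Set.mem_univ (f x)) isOpen_univ
  obtain ⟨_, ⟨V, hV, rfl⟩, hxV, hUV : V ≤ f ⁻¹ᵁ U⟩ :=
    X.isBasis_affineOpens.exists_subset_of_mem_open hxU (f ⁻¹ᵁ U).2
  have : (f.appLE U V hUV).hom.FiniteType := f.finiteType_appLE hU hV hUV
  algebraize [(f.appLE U V hUV).hom]
  have hlo : (hV.primeIdealOf ⟨x, hxV⟩).asIdeal.LiesOver (hU.primeIdealOf ⟨f x, hxU⟩).asIdeal := by
    suffices hU.primeIdealOf ⟨f x, hxU⟩ = Spec.map (f.appLE U V hUV) (hV.primeIdealOf ⟨x, hxV⟩) from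
      ⟨congr(($this).1)⟩
    apply hU.isoSpec.inv.homeomorph.injective
    apply Subtype.ext
    simp only [IsAffineOpen.primeIdealOf, Scheme.Hom.homeomorph_apply,
      ← Scheme.Hom.comp_apply, ← Scheme.Opens.ι_apply, IsAffineOpen.isoSpec_hom]
    simp
  have : Algebra.QuasiFiniteAt Γ(S, U) (hV.primeIdealOf ⟨x, hxV⟩).asIdeal :=
    hx.quasiFiniteAt hV hU hUV hxV
  obtain ⟨R, _, _, _, P, _, _, e, _, P', _, _, hP', heP', hbij, _, huniq⟩ :=
    Algebra.exists_etale_isIdempotentElem_forall_liesOver_eq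
    (hU.primeIdealOf ⟨f x, hxU⟩).asIdeal (hV.primeIdealOf ⟨x, hxV⟩).asIdeal
  have : (algebraMap R (Localization.Away e)).Finite := RingHom.finite_algebraMap.mpr ‹_›
  let φ : Γ(S, U) ⟶ .of R := CommRingCat.ofHom <| algebraMap Γ(S, U) R
  have hφ : φ.hom.Etale := RingHom.etale_algebraMap.mpr ‹_›
  have : Etale (Spec.map φ) := HasRingHomProperty.Spec_iff.mpr hφ
  let e₁ : Spec (.of (R ⊗ Γ(X, V))) ≅ pullback (Spec.map (f.appLE U V hUV)) (Spec.map φ) :=
    (pullbackSpecIso _ _ _).symm ≪≫ pullbackSymmetry _ _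
  have he₁ : e₁.hom ≫ pullback.fst _ _ =
      Spec.map (CommRingCat.ofHom Algebra.TensorProduct.includeRight.toRingHom) := by
    dsimp [e₁, RingHom.algebraMap_toAlgebra]
    rw [Category.assoc, pullbackSymmetry_hom_comp_fst]
    exact pullbackSpecIso_inv_snd ..
  have he₂ : e₁.hom ≫ pullback.snd _ _ =
      Spec.map (CommRingCat.ofHom (algebraMap R (R ⊗[Γ(S, U)] Γ(X, V)))) := by
    dsimp [e₁, RingHom.algebraMap_toAlgebra]
    rw [Category.assoc, pullbackSymmetry_hom_comp_snd]
    exact pullbackSpecIso_inv_fst ..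
  let gS : Spec (.of R) ⟶ S := Spec.map φ ≫ hU.fromSpec
  let g : Spec (.of (R ⊗[Γ(S, U)] Γ(X, V))) ⟶ pullback f gS :=
    e₁.hom ≫ pullback.map _ _ _ _ hV.fromSpec (𝟙 _) hU.fromSpec
      (IsAffineOpen.SpecMap_appLE_fromSpec ..) (by simp [gS])
  have hg1 : g ≫ pullback.fst f gS =
      Spec.map (CommRingCat.ofHom Algebra.TensorProduct.includeRight.toRingHom) ≫
        hV.fromSpec := by
    simp only [g, Category.assoc, pullback.lift_fst, pullback.map]
    rw [← Category.assoc, he₁]
  have hg2 : g ≫ pullback.snd f gS =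
      Spec.map (CommRingCat.ofHom (algebraMap R (R ⊗[Γ(S, U)] Γ(X, V)))) := by
    simp only [g, Category.assoc, pullback.lift_snd, pullback.map, Category.comp_id]
    exact he₂
  let W₁ := g ''ᵁ PrimeSpectrum.basicOpen e
  have hfinW : IsFinite (W₁.ι ≫ pullback.snd f _) := by
    let ι : Spec (.of (Localization.Away e)) ⟶ pullback f (Spec.map φ ≫ hU.fromSpec) :=
      Spec.map (CommRingCat.ofHom <| algebraMap _ _) ≫ g
    have : ι.opensRange = W₁ := by
      simp only [Scheme.Hom.opensRange_comp, ι, W₁]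
      congr 1
      exact TopologicalSpace.Opens.ext <| PrimeSpectrum.localization_away_comap_range _ _
    rw [← this, ← MorphismProperty.cancel_left_of_respectsIso @IsFinite
      (Scheme.Hom.isoOpensRange _).hom]
    have H : (pullbackSpecIso _ R _).inv ≫ pullback.fst _ (Spec.map (f.appLE U V hUV)) = _ :=
      pullbackSpecIso_inv_fst ..
    simpa [Scheme.Hom.isoOpensRange, ι, g, e₁, RingHom.algebraMap_toAlgebra, φ, H,
      ← Spec.map_comp, IsFinite.SpecMap_iff]
  let u : Spec (.of R) := ⟨P, ‹_›⟩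
  let pt' : Spec (.of (R ⊗[Γ(S, U)] Γ(X, V))) := ⟨P', ‹_›⟩
  have hgu : gS u = f x := by
    dsimp [gS, u, Spec.map_apply]
    convert! hU.fromSpec_primeIdealOf ⟨f x, hxU⟩
    exact PrimeSpectrum.ext (Ideal.over_def _ _).symm
  have hfst : pullback.fst f gS (g pt') = x := by
    trans hV.fromSpec ⟨P'.comap Algebra.TensorProduct.includeRight.toRingHom, inferInstance⟩
    · rw [← Scheme.Hom.comp_apply, hg1]; rfl
    convert! hV.fromSpec_primeIdealOf ⟨x, hxV⟩
  refine ⟨Spec (.of R), gS, u, inferInstance, hgu, ?_, W₁, g pt', ⟨pt', heP', rfl⟩, hfinW,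
    ?_, hfst, ?_, ?_, ?_, ?_⟩
  · -- residue field at `u`
    refine surj_comp (Spec.map φ) hU.fromSpec u ?_ (surj_of_isIso _ _)
    obtain ⟨ρ, hρ, hs⟩ := exists_residueFieldMap_transport (algebraMap Γ(S, U) R) u
    apply hs
    refine QFLocAlg.residue_surjective₀ (hU.primeIdealOf ⟨f x, hxU⟩).asIdeal P hbij.2 ρ ?_
    intro a
    exact ⟨algebraMap _ _ a, RingHom.congr_fun hρ a⟩
  · -- `snd v = u`
    rw [← Scheme.Hom.comp_apply, hg2]
    exact PrimeSpectrum.ext (Ideal.over_def P' P).symm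
  · -- residue field at `v`
    have halg : Function.Surjective ((Spec.map (CommRingCat.ofHom
        (Algebra.TensorProduct.includeRight.toRingHom :
          Γ(X, V) →+* R ⊗[Γ(S, U)] Γ(X, V)))).residueFieldMap pt') := by
      obtain ⟨ρ, hρ, hs⟩ := exists_residueFieldMap_transport
        (Algebra.TensorProduct.includeRight.toRingHom : Γ(X, V) →+* R ⊗[Γ(S, U)] Γ(X, V)) pt'
      apply hs
      refine QFLocAlg.residue_surjective (hU.primeIdealOf ⟨f x, hxU⟩).asIdeal P hbij.2 P' ρ ?_
      intro s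
      exact ⟨algebraMap _ _ s, RingHom.congr_fun hρ s⟩
    have h2 : Function.Surjective ((Spec.map (CommRingCat.ofHom
        (Algebra.TensorProduct.includeRight.toRingHom :
          Γ(X, V) →+* R ⊗[Γ(S, U)] Γ(X, V))) ≫ hV.fromSpec).residueFieldMap pt') :=
      surj_comp _ hV.fromSpec pt' halg (surj_of_isIso _ _)
    have h1 : Function.Surjective ((g ≫ pullback.fst f gS).residueFieldMap pt') :=
      surj_congr hg1.symm pt' h2
    exact surj_cancel g (pullback.fst f gS) pt' h1
  · -- uniqueness inside `W₁`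
    rintro w ⟨y, hy, rfl⟩ hsnd
    change pullback.snd f gS (g y) = u at hsnd
    change g y = g pt'
    rw [← Scheme.Hom.comp_apply, hg2] at hsnd
    have hlo' : y.asIdeal.LiesOver P := ⟨(congrArg PrimeSpectrum.asIdeal hsnd).symm⟩
    have hyP : y.asIdeal = P' := huniq y.asIdeal y.isPrime hlo' hy
    have : y = pt' := PrimeSpectrum.ext hyP
    rw [this]
  · -- uniqueness over `x`
    intro w hsnd hfstw
    have hwr : w ∈ Set.range (pullback.map (Spec.map (f.appLE U V hUV)) (Spec.map φ) f gS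
        hV.fromSpec (𝟙 _) hU.fromSpec (IsAffineOpen.SpecMap_appLE_fromSpec ..) (by simp [gS])) := by
      rw [Scheme.Pullback.range_map]
      refine ⟨?_, ⟨pullback.snd f gS w, rfl⟩⟩
      change pullback.fst f gS w ∈ Set.range hV.fromSpec
      rw [hV.range_fromSpec, hfstw]
      exact hxV
    obtain ⟨t, rfl⟩ := hwr
    obtain ⟨y, rfl⟩ : ∃ y, e₁.hom y = t := ⟨e₁.inv t, by
      rw [← Scheme.Hom.comp_apply, Iso.inv_hom_id]; rfl⟩
    have hgy : ∀ z, (pullback.map (Spec.map (f.appLE U V hUV)) (Spec.map φ) f gS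
        hV.fromSpec (𝟙 _) hU.fromSpec (IsAffineOpen.SpecMap_appLE_fromSpec ..) (by simp [gS]))
        (e₁.hom z) = g z := fun z => rfl
    rw [hgy] at hsnd hfstw ⊢
    rw [← Scheme.Hom.comp_apply, hg2] at hsnd
    rw [← Scheme.Hom.comp_apply, hg1] at hfstw
    have hlo' : y.asIdeal.LiesOver P := ⟨(congrArg PrimeSpectrum.asIdeal hsnd).symm⟩
    have hxq : hV.fromSpec (hV.primeIdealOf ⟨x, hxV⟩) = x := hV.fromSpec_primeIdealOf ⟨x, hxV⟩
    have hinj := hV.fromSpec.isOpenEmbedding.injective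
    have h3 : (Spec.map (CommRingCat.ofHom
        (Algebra.TensorProduct.includeRight.toRingHom :
          Γ(X, V) →+* R ⊗[Γ(S, U)] Γ(X, V)))) y = hV.primeIdealOf ⟨x, hxV⟩ := by
      apply hinj
      rw [hxq]
      exact hfstw
    have h4 : y.asIdeal.comap Algebra.TensorProduct.includeRight.toRingHom =
        P'.comap Algebra.TensorProduct.includeRight.toRingHom := by
      rw [hP']
      exact congrArg PrimeSpectrum.asIdeal h3
    have hyP : y.asIdeal = P' :=
      Ideal.eq_of_comap_eq_comap_of_bijective_residueFieldMap hbij y.asIdeal P' h4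
    have : y = pt' := PrimeSpectrum.ext hyP
    rw [this]
  · intro hsep
    have : IsFinite W₁.ι := .of_comp _ (pullback.snd f _)
    have hcl := W₁.ι.isClosedMap.isClosed_range
    simpa [Scheme.Opens.range_ι] using hcl

end Groth.Agent.Lib.helper3.QFLoc
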