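import Mathlib
import Groth.Agent.Lib.helper3.EtNbhd2
import Groth.Agent.Lib.helper3.EtNbhd5
import Groth.Agent.Lib.helper3.QFLoc2

/-!
# Finitely many quasi-finite points: a common elementary étale neighbourhood
-/

set_option autoImplicit false
universe u

open CategoryTheory CategoryTheory.Limits AlgebraicGeometry

namespace Groth.Agent.Lib.helper3.EtNbhd

open Groth.Agent.Lib.helper3.QFLoc

section Sq

variable {P B C D : Scheme.{u}} {a : P ⟶ B} {b : P ⟶ C} {c : B ⟶ D} {d : C ⟶ D}

theorem sq_unique (sq : IsPullback a b c d) (z z' : P)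
    (hsurj : Function.Surjective (d.residueFieldMap (b z)))
    (h1 : a z' = a z) (h2 : b z' = b z) : z' = z := by
  have ha : ∀ w : P, pullback.fst c d (sq.isoPullback.hom w) = a w := fun w => by
    rw [← Scheme.Hom.comp_apply, IsPullback.isoPullback_hom_fst]
  have hb : ∀ w : P, pullback.snd c d (sq.isoPullback.hom w) = b w := fun w => by
    rw [← Scheme.Hom.comp_apply, IsPullback.isoPullback_hom_snd]
  have hs : Function.Surjective
      (d.residueFieldMap (pullback.snd c d (sq.isoPullback.hom z))) := (hb z).symm ▸ hsurj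
  have := unique_of_surj c d (sq.isoPullback.hom z) (sq.isoPullback.hom z') hs
    (by rw [ha, ha, h1]) (by rw [hb, hb, h2])
  have hinj : Function.Injective sq.isoPullback.hom := by
    intro p p' hpp
    have := congrArg sq.isoPullback.inv hpp
    simpa [← Scheme.Hom.comp_apply] using this
  exact hinj this

theorem sq_surj (sq : IsPullback a b c d) (z : P)
    (hsurj : Function.Surjective (d.residueFieldMap (b z))) :
    Function.Surjective (a.residueFieldMap z) := by
  have hb : pullback.snd c d (sq.isoPullback.hom z) = b z := by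
    rw [← Scheme.Hom.comp_apply, IsPullback.isoPullback_hom_snd]
  have hs : Function.Surjective
      (d.residueFieldMap (pullback.snd c d (sq.isoPullback.hom z))) := hb.symm ▸ hsurj
  have h1 := surj_fst_of_surj c d (sq.isoPullback.hom z) hs
  have h2 := surj_comp sq.isoPullback.hom (pullback.fst c d) z (surj_of_isIso _ _) h1
  exact surj_congr (IsPullback.isoPullback_hom_fst sq) z h2

end Sq

/-- the conclusion for a family of quasi-finite points -/
def GoodQ {X S : Scheme.{u}} (f : X ⟶ S) {ι : Type} (x : ι → X)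
    {U : Scheme.{u}} (g : U ⟶ S) (u : U) : Prop :=
  ∃ (V : ι → (pullback f g).Opens) (v : ι → ↑(pullback f g)), ∀ i,
    v i ∈ V i ∧ IsFinite ((V i).ι ≫ pullback.snd f g) ∧
    pullback.snd f g (v i) = u ∧
    (∀ w : ↑(pullback f g), w ∈ V i → pullback.snd f g w = u → w = v i) ∧
    pullback.fst f g (v i) = x i ∧
    Function.Surjective ((pullback.fst f g).residueFieldMap (v i))

variable {X S : Scheme.{u}} {f : X ⟶ S}

theorem GoodQ.baseChange {ι : Type} {x : ι → X}
    {U U' : Scheme.{u}} {g : U ⟶ S} {u : U} (h : U' ⟶ U) (u' : U') (hu : h u' = u)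
    (hres : Function.Surjective (h.residueFieldMap u'))
    (H : GoodQ f x g u) : GoodQ f x (h ≫ g) u' := by
  obtain ⟨V, v, hV⟩ := H
  let q : pullback f (h ≫ g) ⟶ pullback f g :=
    pullback.map f (h ≫ g) f g (𝟙 _) h (𝟙 _) (by simp) (by simp)
  have hq1 : q ≫ pullback.fst f g = pullback.fst f (h ≫ g) := by
    simp only [q, pullback.map, pullback.lift_fst, Category.comp_id]
  have hq2 : q ≫ pullback.snd f g = pullback.snd f (h ≫ g) ≫ h := by
    simp only [q, pullback.map, pullback.lift_snd]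
  have sq : IsPullback q (pullback.snd f (h ≫ g)) (pullback.snd f g) h :=
    IsPullback.of_right (by rw [hq1]; exact IsPullback.of_hasPullback f (h ≫ g)) hq2
      (IsPullback.of_hasPullback f g)
  have hfst : ∀ w : ↑(pullback f (h ≫ g)), pullback.fst f g (q w) = pullback.fst f (h ≫ g) w := by
    intro w
    rw [← Scheme.Hom.comp_apply, hq1]
  have hsnd : ∀ w : ↑(pullback f (h ≫ g)), pullback.snd f (h ≫ g) w = u' →
      pullback.snd f g (q w) = u := by
    intro w hw
    rw [← Scheme.Hom.comp_apply, hq2, Scheme.Hom.comp_apply, hw, hu]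
  have hex : ∀ i, ∃ z : ↑(pullback f (h ≫ g)), q z = v i ∧ pullback.snd f (h ≫ g) z = u' :=
    fun i => exists_of_isPullback sq (v i) u' (by rw [(hV i).2.2.1, hu])
  choose z hz1 hz2 using hex
  refine ⟨fun i => q ⁻¹ᵁ V i, z, fun i => ?_⟩
  obtain ⟨b1, b2, b3, b4, b5, b6⟩ := hV i
  have hresz : Function.Surjective (h.residueFieldMap (pullback.snd f (h ≫ g) (z i))) :=
    (hz2 i).symm ▸ hres
  refine ⟨?_, ?_, hz2 i, ?_, ?_, ?_⟩
  · show q (z i) ∈ V i
    rw [hz1]; exact b1
  · have sqV := isPullback_morphismRestrict q (V i)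
    exact MorphismProperty.of_isPullback (P := @IsFinite) (sqV.paste_vert sq) b2
  · intro w hwV hw
    have hqw : q w = v i := b4 (q w) hwV (hsnd w hw)
    exact sq_unique sq (z i) w hresz (by rw [hqw, hz1]) (by rw [hw, hz2])
  · rw [← hfst, hz1]; exact b5
  · have s1 : Function.Surjective (q.residueFieldMap (z i)) := sq_surj sq (z i) hresz
    have s2 : Function.Surjective ((pullback.fst f g).residueFieldMap (q (z i))) :=
      (hz1 i).symm ▸ b6
    exact surj_congr hq1 (z i) (surj_comp q (pullback.fst f g) (z i) s1 s2)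

theorem GoodQ.of_equiv {α β : Type} (e : α ≃ β) {x : β → X} {U : Scheme.{u}} {g : U ⟶ S} {u : U}
    (H : GoodQ f (x ∘ e) g u) : GoodQ f x g u := by
  obtain ⟨V, v, hV⟩ := H
  refine ⟨fun i => V (e.symm i), fun i => v (e.symm i), fun i => ?_⟩
  obtain ⟨b1, b2, b3, b4, b5, b6⟩ := hV (e.symm i)
  exact ⟨b1, b2, b3, b4, by simpa using b5, b6⟩

theorem GoodQ.union {α : Type} {x : Option α → X} {U : Scheme.{u}} {g : U ⟶ S} {u : U}
    (H1 : GoodQ f (x ∘ some) g u) (H2 : GoodQ f (fun _ : Unit => x none) g u) :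
    GoodQ f x g u := by
  obtain ⟨V₁, v₁, h₁⟩ := H1
  obtain ⟨V₂, v₂, h₂⟩ := H2
  refine ⟨fun i => i.elim (V₂ ()) V₁, fun i => i.elim (v₂ ()) v₁, fun i => ?_⟩
  cases i with
  | none => exact h₂ ()
  | some j => exact h₁ j

theorem mainQ (s : S) (C : X → Prop)
    (hone : ∀ x₀ : X, f x₀ = s → C x₀ →
      ∃ (U : Scheme.{u}) (g : U ⟶ S) (u : U), Etale g ∧ g u = s ∧
        Function.Surjective (g.residueFieldMap u) ∧ GoodQ f (fun _ : Unit => x₀) g u)
    (ι : Type) [Finite ι] :
    ∀ (x : ι → X), (∀ i, f (x i) = s) → (∀ i, C (x i)) →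
      ∃ (U : Scheme.{u}) (g : U ⟶ S) (u : U), Etale g ∧ g u = s ∧
        Function.Surjective (g.residueFieldMap u) ∧ GoodQ f x g u := by
  induction ι using Finite.induction_empty_option with
  | of_equiv e ih =>
    intro x hs hC
    obtain ⟨U, g, u, hg, hgu, hres, H⟩ := ih (x ∘ e) (fun i => hs _) (fun i => hC _)
    exact ⟨U, g, u, hg, hgu, hres, H.of_equiv e⟩
  | h_empty =>
    intro x _ _
    exact ⟨S, 𝟙 S, s, inferInstance, rfl, surj_of_isIso _ _,
      fun k => k.elim, fun k => k.elim, fun k => k.elim⟩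
  | h_option ih =>
    intro x hs hC
    obtain ⟨U₁, g₁, u₁, hg₁, hgu₁, hres₁, H₁⟩ := ih (x ∘ some) (fun i => hs _) (fun i => hC _)
    obtain ⟨U₂, g₂, u₂, hg₂, hgu₂, hres₂, H₂⟩ := hone (x none) (hs none) (hC none)
    obtain ⟨u, hu1, hu2⟩ := Scheme.Pullback.exists_preimage_pullback (f := g₁) (g := g₂) u₁ u₂
      (by rw [hgu₁, hgu₂])
    have r1 : Function.Surjective ((pullback.fst g₁ g₂).residueFieldMap u) :=
      sq_surj (IsPullback.of_hasPullback g₁ g₂) u (hu2.symm ▸ hres₂)
    have r2 : Function.Surjective ((pullback.snd g₁ g₂).residueFieldMap u) :=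
      sq_surj (IsPullback.of_hasPullback g₁ g₂).flip u (hu1.symm ▸ hres₁)
    have G1 := H₁.baseChange (pullback.fst g₁ g₂) u hu1 r1
    have G2 := H₂.baseChange (pullback.snd g₁ g₂) u hu2 r2
    rw [← pullback.condition] at G2
    refine ⟨pullback g₁ g₂, pullback.fst g₁ g₂ ≫ g₁, u, inferInstance, ?_, ?_, GoodQ.union G1 G2⟩
    · rw [Scheme.Hom.comp_apply, hu1, hgu₁]
    · exact surj_comp _ _ u r1 (hu1.symm ▸ hres₁)

end Groth.Agent.Lib.helper3.EtNbhd
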