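import Mathlib
import Groth.Agent.Lib.helper3.EtNbhd7

/-!
# The finite part of a separated morphism near a finite fibre
-/

set_option autoImplicit false
universe u

open CategoryTheory CategoryTheory.Limits AlgebraicGeometry

namespace Groth.Agent.Lib.helper3.EtNbhd

open Groth.Agent.Lib.helper3.QFLoc

theorem finite_union {Z T : Scheme.{u}} (p : Z ⟶ T) (A B : Z.Opens) (hAB : Disjoint A B)
    (hA : IsFinite (A.ι ≫ p)) (hB : IsFinite (B.ι ≫ p)) : IsFinite ((A ⊔ B).ι ≫ p) := by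
  let a : (A : Scheme.{u}) ⟶ ((A ⊔ B : Z.Opens) : Scheme.{u}) := Z.homOfLE le_sup_left
  let b : (B : Scheme.{u}) ⟶ ((A ⊔ B : Z.Opens) : Scheme.{u}) := Z.homOfLE le_sup_right
  have ha : a ≫ (A ⊔ B).ι = A.ι := Z.homOfLE_ι _
  have hb : b ≫ (A ⊔ B).ι = B.ι := Z.homOfLE_ι _
  have hav : ∀ w : A, (a w).1 = w.1 := fun w => by
    have := congr($ha w)
    exact this
  have hbv : ∀ w : B, (b w).1 = w.1 := fun w => by
    have := congr($hb w)
    exact this
  have hc : IsCompl a.opensRange b.opensRange := by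
    constructor
    · rw [disjoint_iff_inf_le]
      rintro w ⟨⟨wa, hwa⟩, ⟨wb, hwb⟩⟩
      exfalso
      have h1 : w.1 ∈ A := by rw [← hwa, hav]; exact wa.2
      have h2 : w.1 ∈ B := by rw [← hwb, hbv]; exact wb.2
      exact (disjoint_iff_inf_le.mp hAB) ⟨h1, h2⟩
    · rw [codisjoint_iff_le_sup]
      rintro w -
      rcases w.2 with h | h
      · exact Or.inl ⟨⟨w.1, h⟩, Subtype.ext (hav ⟨w.1, h⟩)⟩
      · exact Or.inr ⟨⟨w.1, h⟩, Subtype.ext (hbv ⟨w.1, h⟩)⟩
  obtain ⟨hcol⟩ := nonempty_isColimit_binaryCofanMk_of_isCompl a b hc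
  let e : (A : Scheme.{u}) ⨿ (B : Scheme.{u}) ≅ ((A ⊔ B : Z.Opens) : Scheme.{u}) :=
    (coprodIsCoprod _ _).coconePointUniqueUpToIso hcol
  have he1 : coprod.inl ≫ e.hom = a :=
    IsColimit.comp_coconePointUniqueUpToIso_hom (coprodIsCoprod _ _) hcol ⟨WalkingPair.left⟩
  have he2 : coprod.inr ≫ e.hom = b :=
    IsColimit.comp_coconePointUniqueUpToIso_hom (coprodIsCoprod _ _) hcol ⟨WalkingPair.right⟩
  have he : e.hom ≫ (A ⊔ B).ι ≫ p = coprod.desc (A.ι ≫ p) (B.ι ≫ p) := by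
    apply coprod.hom_ext
    · rw [← Category.assoc, he1, ← Category.assoc, ha, coprod.inl_desc]
    · rw [← Category.assoc, he2, ← Category.assoc, hb, coprod.inr_desc]
  have : IsFinite (e.hom ≫ (A ⊔ B).ι ≫ p) := he ▸ inferInstance
  exact (MorphismProperty.cancel_left_of_respectsIso @IsFinite e.hom _).mp this

theorem finite_sup {Z T : Scheme.{u}} (p : Z ⟶ T) {K : Type} [DecidableEq K] (V : K → Z.Opens)
    (hdisj : ∀ k k', k ≠ k' → Disjoint (V k) (V k')) (hfin : ∀ k, IsFinite ((V k).ι ≫ p))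
    (s : Finset K) : IsFinite ((s.sup V).ι ≫ p) := by
  induction s using Finset.induction_on with
  | empty =>
    rw [Finset.sup_empty]
    haveI : IsEmpty ((⊥ : Z.Opens) : Scheme.{u}) := ⟨fun w => w.2⟩
    infer_instance
  | insert k s hk ih =>
    rw [Finset.sup_insert]
    refine finite_union p _ _ ?_ (hfin k) ih
    rw [Finset.disjoint_sup_right]
    intro k' hk'
    exact hdisj k k' (fun h => hk (h ▸ hk'))

set_option maxHeartbeats 400000 in
theorem finitePart {X S : Scheme.{u}} (f : X ⟶ S) [IsSeparated f] (s : S)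
    {ι : Type} [Finite ι] (x : ι → X) (hinj : Function.Injective x)
    (hcov : ∀ z : X, f z = s → ∃ i, x i = z)
    {U : Scheme.{u}} (g : U ⟶ S) (u : U) [Etale g] (hgu : g u = s)
    (hres : Function.Surjective (g.residueFieldMap u)) (H : GoodR f x g u) :
    ∃ (U' : Scheme.{u}) (g' : U' ⟶ S) (u' : U'), Etale g' ∧ g' u' = s ∧
      Function.Surjective (g'.residueFieldMap u') ∧
      ∃ (V W : (pullback f g').Opens), IsCompl V W ∧ IsFinite (V.ι ≫ pullback.snd f g') ∧
        ∀ w : ↑(pullback f g'), pullback.snd f g' w = u' → w ∈ V := by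
  classical
  obtain ⟨V, v, hV⟩ := H
  haveI : Fintype ι := Fintype.ofFinite ι
  have hfinV : ∀ k, IsFinite ((V k).ι ≫ pullback.snd f g) := fun k => (hV k).2.1
  have hcl : ∀ k, IsClosed ((V k : Set ↑(pullback f g))) := by
    intro k
    haveI := hfinV k
    haveI : IsFinite (V k).ι := IsFinite.of_comp (V k).ι (pullback.snd f g)
    have := (V k).ι.isClosedMap.isClosed_range
    simpa [Scheme.Opens.range_ι] using this
  let Z : ι → ι → Set U := fun k k' => pullback.snd f g '' ((V k : Set _) ∩ (V k' : Set _))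
  have hZcl : ∀ k k', IsClosed (Z k k') := by
    intro k k'
    haveI := hfinV k
    have hcm : IsClosedMap ((V k).ι ≫ pullback.snd f g) :=
      ((V k).ι ≫ pullback.snd f g).isClosedMap
    have : Z k k' = ((V k).ι ≫ pullback.snd f g) '' ((V k).ι ⁻¹' (V k' : Set _)) := by
      ext y
      constructor
      · rintro ⟨w, ⟨hw1, hw2⟩, rfl⟩
        exact ⟨⟨w, hw1⟩, hw2, rfl⟩
      · rintro ⟨w, hw, rfl⟩
        exact ⟨w.1, ⟨w.2, hw⟩, rfl⟩
    rw [this]
    exact hcm _ ((hcl k').preimage (V k).ι.continuous)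
  let Zall : Set U := ⋃ k, ⋃ k', ⋃ (_ : k ≠ k'), Z k k'
  have hZall : IsClosed Zall :=
    isClosed_iUnion_of_finite fun k => isClosed_iUnion_of_finite fun k' =>
      isClosed_iUnion_of_finite fun _ => hZcl k k'
  have huZ : u ∉ Zall := by
    simp only [Zall, Set.mem_iUnion, not_exists]
    rintro k k' hne ⟨w, ⟨hw1, hw2⟩, hwu⟩
    apply hne
    apply hinj
    have e1 := (hV k).2.2.2.1 w hw1 hwu
    have e2 := (hV k').2.2.2.1 w hw2 hwu
    rw [← (hV k).2.2.2.2.1, ← (hV k').2.2.2.2.1, ← e1, ← e2]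
  let U' : U.Opens := ⟨Zallᶜ, hZall.isOpen_compl⟩
  let u' : U' := ⟨u, huZ⟩
  let hh : (U' : Scheme.{u}) ⟶ U := U'.ι
  have hu' : hh u' = u := rfl
  let q : pullback f (hh ≫ g) ⟶ pullback f g :=
    pullback.map f (hh ≫ g) f g (𝟙 _) hh (𝟙 _) (by simp) (by simp)
  have hq1 : q ≫ pullback.fst f g = pullback.fst f (hh ≫ g) := by
    simp only [q, pullback.map, pullback.lift_fst, Category.comp_id]
  have hq2 : q ≫ pullback.snd f g = pullback.snd f (hh ≫ g) ≫ hh := by
    simp only [q, pullback.map, pullback.lift_snd]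
  have sq : IsPullback q (pullback.snd f (hh ≫ g)) (pullback.snd f g) hh :=
    IsPullback.of_right (by rw [hq1]; exact IsPullback.of_hasPullback f (hh ≫ g)) hq2
      (IsPullback.of_hasPullback f g)
  have hfst : ∀ w : ↑(pullback f (hh ≫ g)),
      pullback.fst f g (q w) = pullback.fst f (hh ≫ g) w := by
    intro w
    rw [← Scheme.Hom.comp_apply, hq1]
  have hsnd' : ∀ w : ↑(pullback f (hh ≫ g)),
      pullback.snd f g (q w) = hh (pullback.snd f (hh ≫ g) w) := by
    intro w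
    rw [← Scheme.Hom.comp_apply, hq2, Scheme.Hom.comp_apply]
  have hsnd : ∀ w : ↑(pullback f (hh ≫ g)), pullback.snd f (hh ≫ g) w = u' →
      pullback.snd f g (q w) = u := by
    intro w hw
    rw [hsnd', hw, hu']
  let V' : ι → (pullback f (hh ≫ g)).Opens := fun k => q ⁻¹ᵁ V k
  have hcl' : ∀ k, IsClosed ((V' k : Set ↑(pullback f (hh ≫ g)))) := fun k =>
    (hcl k).preimage q.continuous
  have hdisj : ∀ k k', k ≠ k' → Disjoint (V' k) (V' k') := by
    intro k k' hne
    rw [disjoint_iff_inf_le]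
    rintro w ⟨hw1, hw2⟩
    exfalso
    have hmem : pullback.snd f g (q w) ∈ Zall := by
      simp only [Zall, Set.mem_iUnion]
      exact ⟨k, k', hne, q w, ⟨hw1, hw2⟩, rfl⟩
    rw [hsnd'] at hmem
    exact (pullback.snd f (hh ≫ g) w).2 hmem
  have hfin' : ∀ k, IsFinite ((V' k).ι ≫ pullback.snd f (hh ≫ g)) := by
    intro k
    have sqV := isPullback_morphismRestrict q (V k)
    exact MorphismProperty.of_isPullback (P := @IsFinite) (sqV.paste_vert sq) (hfinV k)
  let Vtot : (pullback f (hh ≫ g)).Opens := Finset.univ.sup V'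
  have hVtot : ∀ w, w ∈ Vtot ↔ ∃ k, w ∈ V' k := by
    intro w
    show w ∈ Finset.univ.sup V' ↔ _
    rw [Finset.sup_univ_eq_iSup, TopologicalSpace.Opens.mem_iSup]
  let W : (pullback f (hh ≫ g)).Opens :=
    ⟨(⋃ k, (V' k : Set ↑(pullback f (hh ≫ g))))ᶜ,
      (isClosed_iUnion_of_finite hcl').isOpen_compl⟩
  refine ⟨U', hh ≫ g, u', inferInstance, ?_, ?_, Vtot, W, ?_, finite_sup _ V' hdisj hfin' _, ?_⟩
  · rw [Scheme.Hom.comp_apply, hu', hgu]
  · exact surj_comp hh g u' (surj_of_isIso _ _) hres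
  · constructor
    · rw [disjoint_iff_inf_le]
      rintro w ⟨hw1, hw2⟩
      obtain ⟨k, hk⟩ := (hVtot w).mp hw1
      exact (hw2 (Set.mem_iUnion.mpr ⟨k, hk⟩)).elim
    · rw [codisjoint_iff_le_sup]
      rintro w -
      by_cases hw : w ∈ (⋃ k, (V' k : Set ↑(pullback f (hh ≫ g))))
      · obtain ⟨k, hk⟩ := Set.mem_iUnion.mp hw
        exact (le_sup_left : Vtot ≤ Vtot ⊔ W) ((hVtot w).mpr ⟨k, hk⟩)
      · exact (le_sup_right : W ≤ Vtot ⊔ W) hw
  · intro w hw
    have hz : f (pullback.fst f (hh ≫ g) w) = s := by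
      have := congr($(pullback.condition (f := f) (g := hh ≫ g)) w)
      rw [Scheme.Hom.comp_apply, Scheme.Hom.comp_apply, hw] at this
      rw [this, Scheme.Hom.comp_apply, hu', hgu]
    obtain ⟨i, hi⟩ := hcov _ hz
    have hqw : q w = v i := (hV i).2.2.2.2.2.2 (q w) (hsnd w hw) (by rw [hfst, hi])
    exact (hVtot w).mpr ⟨i, by show q w ∈ V i; rw [hqw]; exact (hV i).1⟩

end Groth.Agent.Lib.helper3.EtNbhd
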