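import Mathlib
import Groth.Agent.S9435

set_option autoImplicit false
universe u

open AlgebraicGeometry CategoryTheory Limits

namespace Groth.Agent.Lib.helper3.EtNbhdRes

theorem main_affine (S : Scheme.{u}) (R : CommRingCat.{u}) (j : Spec R ⟶ S) [IsOpenImmersion j]
    (x : Spec R) (k : Type u) [Field k] [Algebra (S.residueField (j x)) k]
    [FiniteDimensional (S.residueField (j x)) k] [Algebra.IsSeparable (S.residueField (j x)) k] :
    ∃ (U : Scheme.{u}) (g : U ⟶ S) (u : U) (hu : g u = j x), Etale g ∧
      letI := ((S.residueFieldCongr hu).inv ≫ g.residueFieldMap u).hom.toAlgebra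
      Nonempty (k ≃ₐ[S.residueField (j x)] U.residueField u) := by
  let p : Ideal R := x.asIdeal
  haveI : p.IsPrime := x.isPrime
  let σ' : S.residueField (j x) ≅ CommRingCat.of p.ResidueField :=
    asIso (j.residueFieldMap x) ≪≫ Scheme.Spec.residueFieldIso R x
  let ρ : p.ResidueField →+* k := (algebraMap (S.residueField (j x)) k).comp σ'.inv.hom
  letI algκ : Algebra p.ResidueField k := ρ.toAlgebra
  letI algR : Algebra R k := (ρ.comp (algebraMap R p.ResidueField)).toAlgebra
  haveI : IsScalarTower R p.ResidueField k := .of_algebraMap_eq' rfl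
  have hσ : (algebraMap p.ResidueField k).comp σ'.commRingCatIsoToRingEquiv.toRingHom =
      (RingEquiv.refl k).toRingHom.comp (algebraMap (S.residueField (j x)) k) := by
    ext y
    show algebraMap (S.residueField (j x)) k (σ'.inv.hom (σ'.hom.hom y)) = _
    have : σ'.inv.hom (σ'.hom.hom y) = y := by
      have := congrArg (fun f => f.hom y) σ'.hom_inv_id
      exact this
    rw [this]
    rfl
  haveI : Module.Finite p.ResidueField k :=
    Module.Finite.of_equiv_equiv σ'.commRingCatIsoToRingEquiv (RingEquiv.refl k) hσ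
  haveI : Algebra.IsSeparable p.ResidueField k :=
    Algebra.IsSeparable.of_equiv_equiv σ'.commRingCatIsoToRingEquiv (RingEquiv.refl k) hσ
  obtain ⟨R', _, _, _, ψ, hψ⟩ := Groth.Agent.S9435.result R p k
  let φ : R ⟶ CommRingCat.of R' := CommRingCat.ofHom (algebraMap R R')
  have hφ : φ.hom.Etale := RingHom.etale_algebraMap.mpr inferInstance
  haveI : Etale (Spec.map φ) := HasRingHomProperty.Spec_iff.mpr hφ
  let g : Spec (CommRingCat.of R') ⟶ S := Spec.map φ ≫ j
  haveI : Etale g := inferInstance
  let m : Spec (CommRingCat.of k) ⟶ Spec (CommRingCat.of R') :=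
    Spec.map (CommRingCat.ofHom ψ.toRingHom)
  have key : m ≫ g = Spec.map (CommRingCat.ofHom (algebraMap (S.residueField (j x)) k)) ≫
      S.fromSpecResidueField (j x) := by
    have h1 : m ≫ Spec.map φ = Spec.map (CommRingCat.ofHom (algebraMap R k)) := by
      rw [← Spec.map_comp]
      congr 1
      ext r
      exact ψ.commutes r
    have h2 : CommRingCat.ofHom (algebraMap R k) =
        CommRingCat.ofHom (algebraMap R p.ResidueField) ≫ (Scheme.Spec.residueFieldIso R x).inv ≫
          inv (j.residueFieldMap x) ≫
          CommRingCat.ofHom (algebraMap (S.residueField (j x)) k) := by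
      ext r
      rfl
    have h3 : Spec.map (Scheme.Spec.residueFieldIso R x).inv ≫
        Spec.map (CommRingCat.ofHom (algebraMap R p.ResidueField)) =
        (Spec R).fromSpecResidueField x :=
      Scheme.Spec.map_residueFieldIso_inv_eq_fromSpecResidueField R x
    have h4 : Spec.map (inv (j.residueFieldMap x)) ≫ (Spec R).fromSpecResidueField x ≫ j =
        S.fromSpecResidueField (j x) := by
      rw [← Scheme.Hom.SpecMap_residueFieldMap_fromSpecResidueField, ← Category.assoc,
        ← Spec.map_comp, IsIso.hom_inv_id, Spec.map_id, Category.id_comp]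
    show m ≫ Spec.map φ ≫ j = _
    rw [← Category.assoc, h1, h2, Spec.map_comp, Spec.map_comp, Spec.map_comp, Category.assoc,
      Category.assoc, Category.assoc, ← Category.assoc (Spec.map (Scheme.Spec.residueFieldIso R x).inv),
      h3, h4]
    rfl
  -- the point and the residue field map
  have hE := congrArg (Scheme.SpecToEquivOfField k S) key
  have hR : Scheme.SpecToEquivOfField k S
      (Spec.map (CommRingCat.ofHom (algebraMap (S.residueField (j x)) k)) ≫
        S.fromSpecResidueField (j x)) =
      ⟨j x, CommRingCat.ofHom (algebraMap (S.residueField (j x)) k)⟩ :=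
    (Scheme.SpecToEquivOfField k S).apply_symm_apply
      ⟨j x, CommRingCat.ofHom (algebraMap (S.residueField (j x)) k)⟩
  rw [hR, Scheme.SpecToEquivOfField_eq_iff] at hE
  obtain ⟨e, he⟩ := hE
  let u₀ : Spec (CommRingCat.of R') := m (IsLocalRing.closedPoint k)
  let θ₀ : (Spec (CommRingCat.of R')).residueField u₀ ⟶ CommRingCat.of k :=
    (Spec (CommRingCat.of R')).descResidueField (Scheme.stalkClosedPointTo m)
  have hu : g u₀ = j x := e
  have he' : g.residueFieldMap u₀ ≫ θ₀ = (S.residueFieldCongr hu).hom ≫
      CommRingCat.ofHom (algebraMap (S.residueField (j x)) k) := by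
    rw [← Scheme.descResidueField_stalkClosedPointTo_comp]
    exact he
  have hlin : (S.residueFieldCongr hu).inv ≫ g.residueFieldMap u₀ ≫ θ₀ =
      CommRingCat.ofHom (algebraMap (S.residueField (j x)) k) := by
    rw [he', ← Category.assoc, Iso.inv_hom_id, Category.id_comp]
    rfl
  refine ⟨Spec (CommRingCat.of R'), g, u₀, hu, inferInstance, ?_⟩
  letI algU : Algebra (S.residueField (j x)) ((Spec (CommRingCat.of R')).residueField u₀) :=
    ((S.residueFieldCongr hu).inv ≫ g.residueFieldMap u₀).hom.toAlgebra
  -- surjectivity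
  have hψθ : ∀ r' : R', ψ r' ∈ θ₀.hom.fieldRange := by
    intro r'
    have h5 := Scheme.germ_stalkClosedPointTo_Spec (R := CommRingCat.of R') (S := CommRingCat.of k)
      (CommRingCat.ofHom ψ.toRingHom)
    have h6 := (Spec (CommRingCat.of R')).residue_descResidueField (Scheme.stalkClosedPointTo m)
    refine ⟨(Spec (CommRingCat.of R')).residue u₀
      ((Spec (CommRingCat.of R')).presheaf.germ ⊤ u₀ trivial
        ((Scheme.ΓSpecIso (CommRingCat.of R')).inv r')), ?_⟩
    have h7 : ((Spec (CommRingCat.of R')).residue u₀ ≫ θ₀) = Scheme.stalkClosedPointTo m := h6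
    have h8 := congrArg (fun f => f.hom ((Scheme.ΓSpecIso (CommRingCat.of R')).inv r')) h5
    have h9 := congrArg (fun f => f.hom ((Spec (CommRingCat.of R')).presheaf.germ ⊤ u₀ trivial
        ((Scheme.ΓSpecIso (CommRingCat.of R')).inv r'))) h7
    simp only [CommRingCat.hom_comp, RingHom.comp_apply] at h8 h9
    rw [h9]
    refine h8.trans ?_
    have h10 : (Scheme.ΓSpecIso (CommRingCat.of R')).hom.hom
        ((Scheme.ΓSpecIso (CommRingCat.of R')).inv.hom r') = r' := by
      have := congrArg (fun f => f.hom r') (Scheme.ΓSpecIso (CommRingCat.of R')).inv_hom_id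
      exact this
    rw [h10]
    rfl
  have hsurj : Function.Surjective θ₀.hom := by
    rw [← RingHom.fieldRange_eq_top_iff, eq_top_iff, ← hψ, Subfield.closure_le]
    rintro _ ⟨r', rfl⟩
    exact hψθ r'
  have hinj : Function.Injective θ₀.hom := θ₀.hom.injective
  let Θ : (Spec (CommRingCat.of R')).residueField u₀ →ₐ[S.residueField (j x)] k :=
    { toRingHom := θ₀.hom
      commutes' := fun y => by
        have := congrArg (fun f => f.hom y) hlin
        exact this }
  exact ⟨(AlgEquiv.ofBijective Θ ⟨hinj, hsurj⟩).symm⟩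

theorem main_of_chart (S : Scheme.{u}) (s : S) (R : CommRingCat.{u}) (j : Spec R ⟶ S)
    [IsOpenImmersion j] (x : Spec R) (hx : j x = s) (k : Type u) [Field k]
    [Algebra (S.residueField s) k]
    [FiniteDimensional (S.residueField s) k] [Algebra.IsSeparable (S.residueField s) k] :
    ∃ (U : Scheme.{u}) (g : U ⟶ S) (u : U) (hu : g u = s), Etale g ∧
      letI := ((S.residueFieldCongr hu).inv ≫ g.residueFieldMap u).hom.toAlgebra
      Nonempty (k ≃ₐ[S.residueField s] U.residueField u) := by
  subst hx
  exact main_affine S R j x k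

end Groth.Agent.Lib.helper3.EtNbhdRes
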