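import Mathlib

/-!
# Étale neighbourhoods of `V(I)` and lifting of coprime factorizations (helper3)

* `exists_etale_section`: an étale `A`-algebra `U` with an `A`-algebra map `U → A/I` admits a
  principal localization `A'` with `A/I ≅ A'/IA'`.
* `exists_hom_of_factorization`: the universal coprime factorization ring.
* `bijective_of_ker_eq`: bookkeeping for `A/I → A'/IA'`.
-/

set_option autoImplicit false
universe u
open Polynomial

namespace Groth.Agent.Lib.helper3.EtaleLift

/-- Step 1: existence of `b` with `φ b = 1` and `b • ker φ ⊆ I U`. -/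
theorem exists_elem_of_etale_section {A : Type u} [CommRing A] (I : Ideal A) (U : Type u) [CommRing U]
    [Algebra A U] [Algebra.Etale A U] (φ : U →ₐ[A] A ⧸ I) :
    ∃ b : U, φ b = 1 ∧ ∀ x : U, φ x = 0 → b * x ∈ I.map (algebraMap A U) := by
  have hφI : I.map (algebraMap A U) ≤ RingHom.ker φ.toRingHom := by
    rw [Ideal.map_le_iff_le_comap]
    intro a ha
    simp only [Ideal.mem_comap, RingHom.mem_ker, AlgHom.toRingHom_eq_coe, RingHom.coe_coe,
      AlgHom.commutes]
    exact Ideal.Quotient.eq_zero_iff_mem.mpr ha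
  let φr : U ⧸ I.map (algebraMap A U) →+* A ⧸ I :=
    Ideal.Quotient.lift (I.map (algebraMap A U)) φ.toRingHom (fun x hx ↦ hφI hx)
  let φb : U ⧸ I.map (algebraMap A U) →ₐ[A ⧸ I] A ⧸ I :=
    { φr with
      commutes' := by
        intro r
        obtain ⟨a, rfl⟩ := Ideal.Quotient.mk_surjective r
        change φr (Ideal.Quotient.mk _ (algebraMap A U a)) = _
        simp only [φr, Ideal.Quotient.lift_mk, AlgHom.toRingHom_eq_coe, RingHom.coe_coe,
          AlgHom.commutes]
        rfl }
  have hsurj : Function.Surjective φb := by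
    intro y
    exact ⟨algebraMap _ _ y, by simp⟩
  have hE : Algebra.Etale (A ⧸ I) (U ⧸ I.map (algebraMap A U)) :=
    .of_equiv (Algebra.TensorProduct.quotIdealMapEquivQuotTensor U I).symm
  let _ := φb.toRingHom.toAlgebra
  have hT : IsScalarTower (A ⧸ I) (U ⧸ I.map (algebraMap A U)) (A ⧸ I) :=
    .of_algebraMap_eq' φb.comp_algebraMap.symm
  have hFE : Algebra.FormallyEtale (U ⧸ I.map (algebraMap A U)) (A ⧸ I) :=
    .of_restrictScalars (R := A ⧸ I)
  obtain ⟨e, he, hke⟩ :=
    (Ideal.isIdempotentElem_iff_of_fg _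
      (Algebra.FinitePresentation.ker_fG_of_surjective φb hsurj)).mp
      ((Algebra.FormallyEtale.iff_of_surjective
        (R := U ⧸ I.map (algebraMap A U)) (S := A ⧸ I) hsurj).mp hFE)
  obtain ⟨e0, rfl⟩ := Ideal.Quotient.mk_surjective e
  have hφe : φ e0 = 0 := by
    have : Ideal.Quotient.mk _ e0 ∈ RingHom.ker φb.toRingHom := by
      rw [hke]; exact Submodule.mem_span_singleton_self _
    simpa [φb, φr] using this
  refine ⟨1 - e0, by rw [map_sub, map_one, hφe, sub_zero], fun x hx ↦ ?_⟩
  have hx' : Ideal.Quotient.mk (I.map (algebraMap A U)) x ∈ RingHom.ker φb.toRingHom := by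
    simpa [φb, φr] using hx
  rw [hke, Ideal.submodule_span_eq, Ideal.mem_span_singleton'] at hx'
  obtain ⟨y, hy⟩ := hx'
  rw [← Ideal.Quotient.eq_zero_iff_mem, map_mul, map_sub, map_one, ← hy, mul_comm y, ← mul_assoc,
    sub_mul, one_mul, he.eq, sub_self, zero_mul]

/-- Step 2: the étale neighbourhood. -/
theorem exists_etale_section {A : Type u} [CommRing A] (I : Ideal A) (U : Type u) [CommRing U]
    [Algebra A U] [Algebra.Etale A U] (φ : U →ₐ[A] A ⧸ I) :
    ∃ (A' : Type u) (_ : CommRing A') (_ : Algebra A A') (_ : Algebra.Etale A A')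
      (ψ : U →ₐ[A] A') (φ' : A' →ₐ[A] A ⧸ I), φ'.comp ψ = φ ∧
        RingHom.ker φ'.toRingHom = I.map (algebraMap A A') := by
  obtain ⟨b, hb1, hbK⟩ := exists_elem_of_etale_section I U φ
  have hunit : IsUnit (φ b) := by rw [hb1]; exact isUnit_one
  let φ' : Localization.Away b →ₐ[A] A ⧸ I := IsLocalization.Away.liftAlgHom (f := φ) b hunit
  have hE : Algebra.Etale A (Localization.Away b) := inferInstance
  refine ⟨Localization.Away b, inferInstance, inferInstance, hE,
    IsScalarTower.toAlgHom A U (Localization.Away b), φ', ?_, ?_⟩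
  · ext x
    simp [φ']
  · apply le_antisymm
    · intro y hy
      obtain ⟨⟨u, s⟩, rfl⟩ := IsLocalization.mk'_surjective (Submonoid.powers b) y
      have hu : φ u = 0 := by
        have h1 : φ' (IsLocalization.mk' (Localization.Away b) u s) * φ' (algebraMap U _ s.1) =
            φ' (algebraMap U _ u) := by
          rw [← map_mul, IsLocalization.mk'_spec]
        have h2 : φ' (IsLocalization.mk' (Localization.Away b) u s) = 0 := hy
        rw [h2, zero_mul] at h1
        simpa [φ'] using h1.symm
      have h3 : algebraMap U (Localization.Away b) (b * u) ∈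
          I.map (algebraMap A (Localization.Away b)) := by
        rw [IsScalarTower.algebraMap_eq A U (Localization.Away b), ← Ideal.map_map]
        exact Ideal.mem_map_of_mem _ (hbK u hu)
      have hbu : IsUnit (algebraMap U (Localization.Away b) b) :=
        IsLocalization.Away.algebraMap_isUnit b
      have hsu : IsUnit (algebraMap U (Localization.Away b) s.1) :=
        IsLocalization.map_units _ s
      have : IsLocalization.mk' (Localization.Away b) u s =
          (hbu.unit⁻¹ : (Localization.Away b)ˣ) * (hsu.unit⁻¹ : (Localization.Away b)ˣ) *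
            algebraMap U (Localization.Away b) (b * u) := by
        rw [IsLocalization.mk'_eq_iff_eq_mul, map_mul]
        have e1 : (hbu.unit⁻¹ : (Localization.Away b)ˣ) * algebraMap U _ b = (1 : Localization.Away b) :=
          hbu.val_inv_mul
        have e2 : (hsu.unit⁻¹ : (Localization.Away b)ˣ) * algebraMap U _ s.1 = (1 : Localization.Away b) :=
          hsu.val_inv_mul
        calc algebraMap U (Localization.Away b) u
            = ((hbu.unit⁻¹ : (Localization.Away b)ˣ) * algebraMap U _ b) *
              ((hsu.unit⁻¹ : (Localization.Away b)ˣ) * algebraMap U _ s.1) * algebraMap U _ u := by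
              rw [e1, e2, one_mul, one_mul]
          _ = _ := by ring
      change IsLocalization.mk' (Localization.Away b) u s ∈ _
      rw [this]
      exact Ideal.mul_mem_left _ _ h3
    · rw [Ideal.map_le_iff_le_comap]
      intro a ha
      simp only [Ideal.mem_comap, RingHom.mem_ker, AlgHom.toRingHom_eq_coe, RingHom.coe_coe,
        AlgHom.commutes]
      exact Ideal.Quotient.eq_zero_iff_mem.mpr ha


theorem exists_hom_of_factorization {A S : Type u} [CommRing A] [CommRing S] [Algebra A S]
    [Nontrivial S]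
    (f : A[X]) (hf : f.Monic) (g h : S[X]) (hg : g.Monic) (hh : h.Monic) (hcop : IsCoprime g h)
    (hfgh : f.map (algebraMap A S) = g * h) :
    ∃ (U : Type u) (_ : CommRing U) (_ : Algebra A U) (_ : Algebra.Etale A U) (F₁ F₂ : U[X])
      (φ : U →ₐ[A] S), F₁.Monic ∧ F₂.Monic ∧ IsCoprime F₁ F₂ ∧ f.map (algebraMap A U) = F₁ * F₂ ∧
        F₁.map φ.toRingHom = g ∧ F₂.map φ.toRingHom = h := by
  have hn : f.natDegree = g.natDegree + h.natDegree := by
    simpa [hg.natDegree_mul hh, hf.natDegree_map] using congr(($hfgh).natDegree)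
  let p : MonicDegreeEq A f.natDegree := .mk f hf rfl
  let q : { q : MonicDegreeEq S g.natDegree × MonicDegreeEq S h.natDegree //
      q.1.1 * q.2.1 = p.1.map (algebraMap A S) ∧ IsCoprime q.1.1 q.2.1 } :=
    ⟨(.mk g hg rfl, .mk h hh rfl), hfgh.symm, hcop⟩
  let φ := (UniversalCoprimeFactorizationRing.homEquiv S g.natDegree h.natDegree hn p).symm q
  have hφ : UniversalCoprimeFactorizationRing.homEquiv S g.natDegree h.natDegree hn p φ = q :=
    Equiv.apply_symm_apply _ _
  refine ⟨UniversalCoprimeFactorizationRing g.natDegree h.natDegree hn p, inferInstance,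
    inferInstance, inferInstance,
    (UniversalCoprimeFactorizationRing.factor₁ g.natDegree h.natDegree hn p).1,
    (UniversalCoprimeFactorizationRing.factor₂ g.natDegree h.natDegree hn p).1, φ,
    (UniversalCoprimeFactorizationRing.factor₁ ..).monic,
    (UniversalCoprimeFactorizationRing.factor₂ ..).monic,
    UniversalCoprimeFactorizationRing.isCoprime_factor₁_factor₂ ..,
    (UniversalCoprimeFactorizationRing.factor₁_mul_factor₂ ..).symm, ?_, ?_⟩
  · have : _ = g := congr(($hφ).1.1.1)
    refine Eq.trans ?_ this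
    simp [UniversalCoprimeFactorizationRing.homEquiv, UniversalFactorizationRing.homEquiv,
      UniversalCoprimeFactorizationRing.factor₁, MonicDegreeEq.map, Polynomial.map_map]
    rfl
  · have : _ = h := congr(($hφ).1.2.1)
    refine Eq.trans ?_ this
    simp [UniversalCoprimeFactorizationRing.homEquiv, UniversalFactorizationRing.homEquiv,
      UniversalCoprimeFactorizationRing.factor₂, MonicDegreeEq.map, Polynomial.map_map]
    rfl


theorem bijective_of_ker_eq {A : Type u} [CommRing A] (I : Ideal A) (A' : Type u) [CommRing A']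
    [Algebra A A'] (φ' : A' →ₐ[A] A ⧸ I)
    (hker : RingHom.ker φ'.toRingHom = I.map (algebraMap A A')) :
    Function.Bijective (algebraMap (A ⧸ I) (A' ⧸ I.map (algebraMap A A'))) ∧
    ∀ x : A', algebraMap (A ⧸ I) (A' ⧸ I.map (algebraMap A A')) (φ' x) = Ideal.Quotient.mk _ x := by
  let φb : A' ⧸ I.map (algebraMap A A') →+* A ⧸ I :=
    Ideal.Quotient.lift (I.map (algebraMap A A')) φ'.toRingHom
      (fun x hx ↦ by rw [← hker] at hx; exact hx)
  have hinj : Function.Injective φb := by
    rw [injective_iff_map_eq_zero]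
    intro y hy
    obtain ⟨x, rfl⟩ := Ideal.Quotient.mk_surjective y
    have : x ∈ RingHom.ker φ'.toRingHom := by simpa [φb] using hy
    rw [hker] at this
    exact Ideal.Quotient.eq_zero_iff_mem.mpr this
  have hleft : ∀ r : A ⧸ I, φb (algebraMap (A ⧸ I) (A' ⧸ I.map (algebraMap A A')) r) = r := by
    intro r
    obtain ⟨a, rfl⟩ := Ideal.Quotient.mk_surjective r
    change φb (Ideal.Quotient.mk _ (algebraMap A A' a)) = _
    simp only [φb, Ideal.Quotient.lift_mk, AlgHom.toRingHom_eq_coe, RingHom.coe_coe,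
      AlgHom.commutes]
    rfl
  have h2 : ∀ x : A', algebraMap (A ⧸ I) (A' ⧸ I.map (algebraMap A A')) (φ' x) =
      Ideal.Quotient.mk _ x := by
    intro x
    apply hinj
    rw [hleft]
    simp [φb]
  refine ⟨⟨fun a b hab ↦ ?_, fun y ↦ ?_⟩, h2⟩
  · rw [← hleft a, ← hleft b, hab]
  · obtain ⟨x, rfl⟩ := Ideal.Quotient.mk_surjective y
    exact ⟨φ' x, h2 x⟩

theorem exists_etale_section_unit {A : Type u} [CommRing A] (I : Ideal A) (U : Type u) [CommRing U]
    [Algebra A U] [Algebra.Etale A U] (φ : U →ₐ[A] A ⧸ I) (a : A)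
    (ha : IsUnit (Ideal.Quotient.mk I a)) :
    ∃ (A' : Type u) (_ : CommRing A') (_ : Algebra A A') (_ : Algebra.Etale A A')
      (ψ : U →ₐ[A] A') (φ' : A' →ₐ[A] A ⧸ I), φ'.comp ψ = φ ∧
        RingHom.ker φ'.toRingHom = I.map (algebraMap A A') ∧ IsUnit (algebraMap A A' a) := by
  have hunit : IsUnit (φ (algebraMap A U a)) := by
    rw [AlgHom.commutes]; exact ha
  let φ₁ : Localization.Away (algebraMap A U a) →ₐ[A] A ⧸ I :=
    IsLocalization.Away.liftAlgHom (f := φ) (algebraMap A U a) hunit
  obtain ⟨A', _, _, hE, ψ₁, φ', hcomp, hker⟩ :=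
    exists_etale_section I (Localization.Away (algebraMap A U a)) φ₁
  refine ⟨A', inferInstance, inferInstance, hE,
    ψ₁.comp (IsScalarTower.toAlgHom A U (Localization.Away (algebraMap A U a))), φ', ?_, hker, ?_⟩
  · rw [← AlgHom.comp_assoc, hcomp]
    ext x
    simp [φ₁]
  · have h1 : IsUnit (algebraMap U (Localization.Away (algebraMap A U a)) (algebraMap A U a)) :=
      IsLocalization.Away.algebraMap_isUnit _
    have h2 := h1.map ψ₁
    rwa [← IsScalarTower.algebraMap_apply, AlgHom.commutes] at h2

theorem exists_etale_lift_coprime_factorization {A : Type u} [CommRing A] (I : Ideal A) (f : A[X])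
    (hf : f.Monic) (g h : (A ⧸ I)[X]) (hg : g.Monic) (hh : h.Monic) (hcop : IsCoprime g h)
    (hfgh : f.map (Ideal.Quotient.mk I) = g * h) (a : A) (ha : IsUnit (Ideal.Quotient.mk I a)) :
    ∃ (A' : Type u) (_ : CommRing A') (_ : Algebra A A') (_ : Algebra.Etale A A')
      (φ' : A' →ₐ[A] A ⧸ I) (g' h' : A'[X]),
      RingHom.ker φ'.toRingHom = I.map (algebraMap A A') ∧ IsUnit (algebraMap A A' a) ∧
      g'.Monic ∧ h'.Monic ∧ IsCoprime g' h' ∧ f.map (algebraMap A A') = g' * h' ∧
      g'.map φ'.toRingHom = g ∧ h'.map φ'.toRingHom = h := by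
  rcases subsingleton_or_nontrivial (A ⧸ I) with hS | hS
  · obtain ⟨A', _, _, hE, ψ, φ', -, hker, hu⟩ :=
      exists_etale_section_unit I A (Algebra.ofId A (A ⧸ I)) a ha
    have : Subsingleton (A ⧸ I)[X] := inferInstance
    exact ⟨A', inferInstance, inferInstance, hE, φ', f.map (algebraMap A A'), 1, hker, hu,
      hf.map _, monic_one, isCoprime_one_right, (mul_one _).symm, Subsingleton.elim _ _,
      Subsingleton.elim _ _⟩
  · obtain ⟨U, _, _, hEU, F₁, F₂, φ, hF₁, hF₂, hF, hfF, h1, h2⟩ :=
      exists_hom_of_factorization (S := A ⧸ I) f hf g h hg hh hcop hfgh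
    obtain ⟨A', _, _, hE, ψ, φ', hcomp, hker, hu⟩ := exists_etale_section_unit I U φ a ha
    refine ⟨A', inferInstance, inferInstance, hE, φ', F₁.map ψ.toRingHom, F₂.map ψ.toRingHom, hker,
      hu, hF₁.map _, hF₂.map _, ?_, ?_, ?_, ?_⟩
    · exact hF.map (Polynomial.mapRingHom ψ.toRingHom)
    · rw [← Polynomial.map_mul, ← hfF, Polynomial.map_map]
      congr 1
      exact ψ.comp_algebraMap.symm
    · rw [Polynomial.map_map, ← h1, ← hcomp]; rfl
    · rw [Polynomial.map_map, ← h2, ← hcomp]; rfl

end Groth.Agent.Lib.helper3.EtaleLift
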