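import Mathlib

/-!
# `A[S₁..S_m]` is finite free over `A[T₁..T_m]` via `Tᵢ ↦ Sᵢ^p`
-/

universe u

namespace Groth.Agent.Lib.helper3.ExpandFree

open MvPolynomial

/-- the exponent vector attached to a remainder function -/
noncomputable def rr {m p : ℕ} (r : Fin m → Fin p) : Fin m →₀ ℕ :=
  Finsupp.equivFunOnFinite.symm (fun i => (r i : ℕ))

@[simp] theorem rr_apply {m p : ℕ} (r : Fin m → Fin p) (i : Fin m) : rr r i = (r i : ℕ) := rfl

/-- euclidean division on exponent vectors -/
noncomputable def β (m p : ℕ) (hp : 0 < p) :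
    (Σ _ : Fin m → Fin p, (Fin m →₀ ℕ)) ≃ (Fin m →₀ ℕ) where
  toFun x := p • x.2 + rr x.1
  invFun e := ⟨fun i => ⟨e i % p, Nat.mod_lt _ hp⟩, e.mapRange (· / p) (Nat.zero_div p)⟩
  left_inv := by
    rintro ⟨r, q⟩
    have h1 : ∀ i, (p * q i + (r i : ℕ)) % p = (r i : ℕ) := fun i => by
      rw [Nat.mul_add_mod, Nat.mod_eq_of_lt (r i).2]
    have h2 : ∀ i, (p * q i + (r i : ℕ)) / p = q i := fun i => by
      rw [Nat.mul_add_div hp, Nat.div_eq_of_lt (r i).2, add_zero]
    refine Sigma.ext ?_ ?_
    · funext i
      apply Fin.ext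
      simp [h1]
    · apply heq_of_eq
      ext i
      simp [h2]
  right_inv := by
    intro e
    ext i
    simp [Nat.div_add_mod]

variable (p : ℕ) (hp : 0 < p) (A P : Type u) [CommRing A] [CommRing P] [Algebra A P] (m : ℕ)
  (eP : MvPolynomial (Fin m) A ≃ₐ[A] P) [Algebra P (MvPolynomial (Fin m) A)]
  [IsScalarTower A P (MvPolynomial (Fin m) A)]

include eP in
theorem algebraMap_eP
    (h : ∀ i, algebraMap P (MvPolynomial (Fin m) A) (eP (X i)) = X i ^ p)
    (x : MvPolynomial (Fin m) A) :
    algebraMap P (MvPolynomial (Fin m) A) (eP x) = expand p x := by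
  have : ((IsScalarTower.toAlgHom A P (MvPolynomial (Fin m) A)).comp eP.toAlgHom) =
      expand p := by
    apply MvPolynomial.algHom_ext
    intro i
    simp [h]
  exact congrArg (fun f => f x) this

/-- the `P`-linear map from the free module on remainders -/
noncomputable def Ψ : ((Fin m → Fin p) →₀ P) →ₗ[P] MvPolynomial (Fin m) A :=
  Finsupp.linearCombination P (fun r => monomial (rr r) (1 : A))

include eP hp in
theorem Ψ_bijective
    (h : ∀ i, algebraMap P (MvPolynomial (Fin m) A) (eP (X i)) = X i ^ p) :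
    Function.Bijective (Ψ p A P m) := by
  let bP : Module.Basis (Fin m →₀ ℕ) A P :=
    (MvPolynomial.basisMonomials (Fin m) A).map eP.toLinearEquiv
  let b1 : Module.Basis (Σ _ : Fin m → Fin p, (Fin m →₀ ℕ)) A ((Fin m → Fin p) →₀ P) :=
    Finsupp.basis (fun _ => bP)
  let b2 : Module.Basis (Fin m →₀ ℕ) A (MvPolynomial (Fin m) A) :=
    MvPolynomial.basisMonomials (Fin m) A
  have key : (Ψ p A P m).restrictScalars A = (b1.equiv b2 (β m p hp)).toLinearMap := by
    apply b1.ext
    rintro ⟨r, q⟩
    rw [LinearEquiv.coe_coe, Module.Basis.equiv_apply]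
    have e1 : b1 ⟨r, q⟩ = Finsupp.single r (eP (monomial q 1)) := by
      simp [b1, bP, Finsupp.coe_basis]
    have e2 : b2 (β m p hp ⟨r, q⟩) = monomial (p • q + rr r) 1 := by
      simp [b2, β]
    rw [e1, e2, LinearMap.coe_restrictScalars, Ψ, Finsupp.linearCombination_single,
      Algebra.smul_def, algebraMap_eP p A P m eP h, expand_monomial, monomial_mul, one_mul]
  have : ⇑(Ψ p A P m) = ⇑(b1.equiv b2 (β m p hp)) := by
    funext x
    exact congrArg (fun f => f x) key
  rw [this]
  exact (b1.equiv b2 (β m p hp)).bijective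

include eP hp in
theorem free_finite
    (h : ∀ i, algebraMap P (MvPolynomial (Fin m) A) (eP (X i)) = X i ^ p) :
    Module.Free P (MvPolynomial (Fin m) A) ∧ Module.Finite P (MvPolynomial (Fin m) A) := by
  let e : ((Fin m → Fin p) →₀ P) ≃ₗ[P] MvPolynomial (Fin m) A :=
    LinearEquiv.ofBijective (Ψ p A P m) (Ψ_bijective p hp A P m eP h)
  exact ⟨Module.Free.of_equiv e, Module.Finite.equiv e⟩

include eP hp in
theorem faithfullyFlat
    (h : ∀ i, algebraMap P (MvPolynomial (Fin m) A) (eP (X i)) = X i ^ p) :
    Module.FaithfullyFlat P (MvPolynomial (Fin m) A) := by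
  obtain ⟨h1, h2⟩ := free_finite p hp A P m eP h
  rcases subsingleton_or_nontrivial P with hP | hP
  · refine ⟨fun I hI => ?_⟩
    exact absurd (Subsingleton.elim I ⊤) hI.ne_top
  · have : Nontrivial (MvPolynomial (Fin m) A) := eP.symm.injective.nontrivial
    infer_instance

/-- the relations `Sᵢ^p - Tᵢ` -/
noncomputable def rel (i : Fin m) : MvPolynomial (Fin m) P :=
  X i ^ p - C (eP (X i))

theorem aeval_surjective :
    Function.Surjective (aeval (R := P) (X : Fin m → MvPolynomial (Fin m) A)) := by
  intro b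
  refine ⟨MvPolynomial.map (algebraMap A P) b, ?_⟩
  rw [MvPolynomial.aeval_map_algebraMap, MvPolynomial.aeval_X_left_apply]

theorem span_rel_eq_ker
    (h : ∀ i, algebraMap P (MvPolynomial (Fin m) A) (eP (X i)) = X i ^ p) :
    Ideal.span (Set.range (rel p A P m eP)) =
      RingHom.ker (aeval (R := P) (X : Fin m → MvPolynomial (Fin m) A)) := by
  apply le_antisymm
  · rw [Ideal.span_le]
    rintro _ ⟨i, rfl⟩
    simp only [SetLike.mem_coe, RingHom.mem_ker, rel, map_sub, map_pow, aeval_X, aeval_C, h,
      sub_self]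
  · intro x hx
    rw [RingHom.mem_ker] at hx
    set J := Ideal.span (Set.range (rel p A P m eP)) with hJ
    have hrel : ∀ i, Ideal.Quotient.mk J (X i ^ p) = Ideal.Quotient.mk J (C (eP (X i))) := by
      intro i
      rw [← sub_eq_zero, ← map_sub, Ideal.Quotient.eq_zero_iff_mem]
      exact Ideal.subset_span ⟨i, rfl⟩
    -- the composite `A[S] → P[S] → P[S]/J`
    let ι : MvPolynomial (Fin m) A →+* MvPolynomial (Fin m) P ⧸ J :=
      (Ideal.Quotient.mk J).comp (MvPolynomial.map (algebraMap A P))
    have h1 : (ι.comp (algebraMap P (MvPolynomial (Fin m) A))).comp eP.toRingEquiv.toRingHom =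
        ((Ideal.Quotient.mk J).comp C).comp eP.toRingEquiv.toRingHom := by
      apply MvPolynomial.ringHom_ext
      · intro a
        have e1 : eP (C a) = algebraMap A P a := by
          rw [← MvPolynomial.algebraMap_eq, eP.commutes]
        have e2 : algebraMap P (MvPolynomial (Fin m) A) (algebraMap A P a) = C a := by
          rw [← IsScalarTower.algebraMap_apply, MvPolynomial.algebraMap_eq]
        simp [ι, e1, e2]
      · intro i
        simp [ι, h, hrel]
    have h2 : ∀ c : P, ι (algebraMap P (MvPolynomial (Fin m) A) c) = Ideal.Quotient.mk J (C c) := by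
      intro c
      have := congrArg (fun f => f (eP.symm c)) h1
      simpa using this
    have h3 : (ι.comp (aeval (R := P) (X : Fin m → MvPolynomial (Fin m) A)).toRingHom) =
        Ideal.Quotient.mk J := by
      apply MvPolynomial.ringHom_ext
      · intro c
        simp [h2]
      · intro i
        simp [ι]
    have h4 := congrArg (fun f => f x) h3
    simp only [RingHom.coe_comp, Function.comp_apply, AlgHom.toRingHom_eq_coe,
      RingHom.coe_coe, hx, map_zero] at h4
    exact Ideal.Quotient.eq_zero_iff_mem.mp h4.symm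

/-- the presentation of `A[S]` over `A[T]` -/
noncomputable def pres
    (h : ∀ i, algebraMap P (MvPolynomial (Fin m) A) (eP (X i)) = X i ^ p) :
    Algebra.Presentation P (MvPolynomial (Fin m) A) (Fin m) (Fin m) where
  __ := Algebra.Generators.ofSurjective (X : Fin m → MvPolynomial (Fin m) A)
    (aeval_surjective A P m)
  relation := rel p A P m eP
  span_range_relation_eq_ker := by
    rw [Algebra.Generators.ker_eq_ker_aeval_val]
    exact span_rel_eq_ker p A P m eP h

end Groth.Agent.Lib.helper3.ExpandFree
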