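import Mathlib

set_option autoImplicit false
universe u

open TensorProduct

namespace Groth.Agent.Lib.helper3.FEtSplit

/-- A finite étale algebra is split by an étale neighbourhood of any prime. -/
theorem alg_main (R S : Type u) [CommRing R] [CommRing S] [Algebra R S] [Module.Finite R S]
    [Algebra.Etale R S] (p : Ideal R) [p.IsPrime] :
    ∃ (T : Type u) (_ : CommRing T) (_ : Algebra R T) (_ : Algebra.Etale R T) (P : Ideal T)
      (_ : P.IsPrime) (_ : P.LiesOver p) (n : ℕ), Nonempty ((T ⊗[R] S) ≃ₐ[T] (Fin n → T)) := by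
  haveI : Algebra.FinitePresentation R S := inferInstance
  haveI : Module.FinitePresentation R S :=
    Module.FinitePresentation.of_finite_of_finitePresentation R S
  haveI : Module.Flat R S := inferInstance
  have hlc := Module.isLocallyConstant_rankAtStalk (R := R) (M := S)
  let x : PrimeSpectrum R := ⟨p, inferInstance⟩
  let n := Module.rankAtStalk (R := R) S x
  have hopen : IsOpen {y : PrimeSpectrum R | Module.rankAtStalk (R := R) S y = n} :=
    hlc.isOpen_fiber n
  obtain ⟨_, ⟨r, rfl⟩, hxr, hsub⟩ :=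
    PrimeSpectrum.isTopologicalBasis_basic_opens.exists_subset_of_mem_open
      (show x ∈ {y : PrimeSpectrum R | Module.rankAtStalk (R := R) S y = n} from rfl) hopen
  have hrp : r ∉ p := hxr
  let R₁ := Localization.Away r
  have hconst : Module.rankAtStalk (R := R₁) (R₁ ⊗[R] S) = n := by
    ext q
    rw [Module.rankAtStalk_baseChange]
    have hq : (q.comap (algebraMap R R₁)) ∈ (PrimeSpectrum.basicOpen r : Set (PrimeSpectrum R)) := by
      show r ∉ (q.comap (algebraMap R R₁)).asIdeal
      intro hr
      have hu : IsUnit (algebraMap R R₁ r) := IsLocalization.Away.algebraMap_isUnit r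
      exact q.isPrime.ne_top (Ideal.eq_top_of_isUnit_mem _ hr hu)
    exact hsub hq
  obtain ⟨T, _, _, _, _, _, hT⟩ :=
    Algebra.IsFiniteSplit.exists_tensorProduct_of_etale (R := R₁) (S := R₁ ⊗[R] S) hconst
  obtain ⟨m, ⟨f⟩⟩ := hT.nonempty_algEquiv_fun
  letI : Algebra R T := ((algebraMap R₁ T).comp (algebraMap R R₁)).toAlgebra
  haveI : IsScalarTower R R₁ T := .of_algebraMap_eq' rfl
  haveI : Algebra.Etale R R₁ := Algebra.Etale.of_isLocalizationAway r
  haveI : Algebra.Etale R T := Algebra.Etale.comp R R₁ T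
  -- the prime
  let p₁ : Ideal R₁ := p.map (algebraMap R R₁)
  have hdisj : Disjoint (Submonoid.powers r : Set R) (p : Set R) := by
    rw [Set.disjoint_left]
    rintro _ ⟨k, rfl⟩ hk
    exact hrp (Ideal.IsPrime.mem_of_pow_mem inferInstance k hk)
  haveI : p₁.IsPrime := IsLocalization.isPrime_of_isPrime_disjoint (Submonoid.powers r) R₁ p
    inferInstance hdisj
  haveI : p₁.LiesOver p :=
    ⟨(IsLocalization.comap_map_of_isPrime_disjoint (Submonoid.powers r) R₁ inferInstance
      hdisj).symm⟩
  obtain ⟨P, hP, hPo⟩ := Ideal.exists_isPrime_liesOver_of_faithfullyFlat (A := R₁) (B := T) p₁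
  haveI : P.LiesOver p := .trans P p₁ p
  refine ⟨T, inferInstance, inferInstance, inferInstance, P, hP, inferInstance, m, ⟨?_⟩⟩
  exact (Algebra.TensorProduct.cancelBaseChange R R₁ T T S).symm.trans f

end Groth.Agent.Lib.helper3.FEtSplit
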