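import Mathlib
import Groth.Agent.Lib.helper3.FEtSplit

set_option autoImplicit false
universe u

open TensorProduct AlgebraicGeometry CategoryTheory Limits

namespace Groth.Agent.Lib.helper3.FEtSplit

theorem core {X S : Scheme.{u}} (f : X ⟶ S) (R A T : Type u) [CommRing R] [CommRing A] [CommRing T]
    [Algebra R A] [Algebra R T]
    (j : Spec (CommRingCat.of R) ⟶ S) (a : Spec (CommRingCat.of A) ⟶ X)
    (hpb : IsPullback a (Spec.map (CommRingCat.ofHom (algebraMap R A))) f j)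
    (n : ℕ) (e : (T ⊗[R] A) ≃ₐ[T] (Fin n → T)) :
    ∃ (V : Fin n → Scheme.{u}) (c : ∀ i, V i ⟶ Spec (CommRingCat.of T)) (_ : ∀ i, IsIso (c i))
      (E : (∐ V) ≅ pullback f (Spec.map (CommRingCat.ofHom (algebraMap R T)) ≫ j)),
      ∀ i, Sigma.ι V i ≫ E.hom ≫ pullback.snd f _ = c i := by
  have hpo := CommRingCat.isPushout_tensorProduct R T A
  have sq2 := (isPullback_SpecMap_of_isPushout _ _ _ _ hpo).flip
  have sq12 := sq2.paste_horiz hpb
  let ι := ULift.{u} (Fin n)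
  let ε : Fin n ≃ ι := Equiv.ulift.symm
  let Rf : ι → CommRingCat.{u} := fun _ => CommRingCat.of T
  let V' : ι → Scheme.{u} := fun i => Spec (Rf i)
  let V : Fin n → Scheme.{u} := fun i => Spec (CommRingCat.of T)
  let eR : (T ⊗[R] A) ≃+* (Π i, Rf i) :=
    e.toRingEquiv.trans (RingEquiv.piCongrLeft' (fun _ : Fin n => T) ε)
  let eC : CommRingCat.of (T ⊗[R] A) ⟶ CommRingCat.of (Π i, Rf i) := (eR.toCommRingCatIso).hom
  haveI : IsIso eC := show IsIso (eR.toCommRingCatIso).hom from inferInstance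
  let E0 : (∐ V) ⟶ Spec (CommRingCat.of (T ⊗[R] A)) :=
    (Sigma.reindex ε V').hom ≫ sigmaSpec Rf ≫ Spec.map eC
  haveI h1s : IsIso (sigmaSpec Rf) := inferInstance
  haveI h2s : IsIso (Spec.map eC) := inferInstance
  haveI : IsIso E0 :=
    show IsIso ((Sigma.reindex ε V').hom ≫ sigmaSpec Rf ≫ Spec.map eC) from inferInstance
  have sq0 : IsPullback E0 (E0 ≫ Spec.map (CommRingCat.ofHom
      (Algebra.TensorProduct.includeLeftRingHom : T →+* T ⊗[R] A)))
      (Spec.map (CommRingCat.ofHom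
      (Algebra.TensorProduct.includeLeftRingHom : T →+* T ⊗[R] A))) (𝟙 _) :=
    IsPullback.of_horiz_isIso ⟨by simp⟩
  have sq := sq0.paste_horiz sq12
  rw [Category.id_comp] at sq
  refine ⟨V, fun i => Sigma.ι V i ≫ sq.isoPullback.hom ≫ pullback.snd f _, ?_, sq.isoPullback,
    fun i => rfl⟩
  intro i
  have h1 : Sigma.ι V i ≫ sq.isoPullback.hom ≫ pullback.snd f _ = 𝟙 _ := by
    rw [IsPullback.isoPullback_hom_snd]
    show Sigma.ι (V' ∘ ε) i ≫ ((Sigma.reindex ε V').hom ≫ sigmaSpec Rf ≫ Spec.map eC) ≫ Spec.map _ = _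
    rw [Category.assoc, Sigma.ι_reindex_hom_assoc, Category.assoc, ι_sigmaSpec_assoc,
      ← Spec.map_comp, ← Spec.map_comp]
    rw [← Spec.map_id]
    congr 1
    ext t
    show (e (algebraMap T (T ⊗[R] A) t)) i = t
    rw [e.commutes]
    rfl
  show IsIso (Sigma.ι V i ≫ sq.isoPullback.hom ≫ pullback.snd f _)
  rw [h1]
  infer_instance

end Groth.Agent.Lib.helper3.FEtSplit
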