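import Mathlib
import Groth.Agent.Lib.helper3.FEtSplit2

set_option autoImplicit false
universe u

open TensorProduct AlgebraicGeometry CategoryTheory Limits

namespace Groth.Agent.Lib.helper3.FEtSplit

theorem main_of_chart {X S : Scheme.{u}} (f : X ⟶ S) [IsFinite f] [Etale f] (s : S)
    (R : CommRingCat.{u}) (j : Spec R ⟶ S) [IsOpenImmersion j] (x : Spec R) (hx : j.base x = s) :
    ∃ (U : Scheme.{u}) (g : U ⟶ S) (_ : AlgebraicGeometry.Etale g) (u : U) (_ : g.base u = s)
      (n : ℕ) (V : Fin n → Scheme.{u}) (c : ∀ j, V j ⟶ U) (_ : ∀ j, IsIso (c j))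
      (e : (∐ V) ≅ pullback f g), ∀ j, Sigma.ι V j ≫ e.hom ≫ pullback.snd f g = c j := by
  let X' := pullback f j
  let f' : X' ⟶ Spec R := pullback.snd f j
  haveI : IsFinite f' := inferInstance
  haveI : Etale f' := inferInstance
  haveI : IsAffine X' := isAffine_of_isAffineHom f'
  let A : CommRingCat.{u} := Γ(X', ⊤)
  let φ : R ⟶ A := (Scheme.ΓSpecIso R).inv ≫ f'.appTop
  have hφ : X'.isoSpec.inv ≫ f' = Spec.map φ := by
    rw [← Scheme.isoSpec_inv_naturality, Scheme.isoSpec_Spec_inv, ← Spec.map_comp]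
  haveI : IsFinite (Spec.map φ) := hφ ▸ inferInstance
  haveI : Etale (Spec.map φ) := hφ ▸ inferInstance
  have hfin : φ.hom.Finite := (IsFinite.SpecMap_iff φ).mp inferInstance
  have het : φ.hom.Etale := HasRingHomProperty.Spec_iff.mp (inferInstance : Etale (Spec.map φ))
  letI : Algebra R A := φ.hom.toAlgebra
  haveI : Module.Finite R A := hfin
  haveI : Algebra.Etale R A := RingHom.etale_algebraMap.mp het
  let p : Ideal R := x.asIdeal
  haveI : p.IsPrime := x.isPrime
  obtain ⟨T, _, _, _, P, hP, hPo, n, ⟨e⟩⟩ := alg_main R A p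
  let a : Spec (CommRingCat.of A) ⟶ X := X'.isoSpec.inv ≫ pullback.fst f j
  have sq1 : IsPullback (pullback.fst f j) f' f j := IsPullback.of_hasPullback f j
  have sq0 : IsPullback X'.isoSpec.inv (Spec.map φ) f' (𝟙 _) :=
    IsPullback.of_horiz_isIso ⟨by rw [Category.comp_id, hφ]⟩
  have hpb : IsPullback a (Spec.map (CommRingCat.ofHom (algebraMap R A))) f j := by
    have := sq0.paste_horiz sq1
    rw [Category.id_comp] at this
    exact this
  obtain ⟨V, c, hc, E, hE⟩ := core f R A T j a hpb n e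
  let g : Spec (CommRingCat.of T) ⟶ S := Spec.map (CommRingCat.ofHom (algebraMap R T)) ≫ j
  have hφT : (CommRingCat.ofHom (algebraMap R T)).hom.Etale :=
    RingHom.etale_algebraMap.mpr inferInstance
  haveI : Etale (Spec.map (CommRingCat.ofHom (algebraMap R T))) :=
    HasRingHomProperty.Spec_iff.mpr hφT
  haveI : Etale g := inferInstance
  let u : Spec (CommRingCat.of T) := ⟨P, hP⟩
  have hu : g.base u = s := by
    rw [← hx]
    show j.base ((Spec.map (CommRingCat.ofHom (algebraMap R T))).base u) = j.base x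
    congr 1
    apply PrimeSpectrum.ext
    show Ideal.comap (algebraMap R T) P = p
    exact hPo.over.symm
  exact ⟨Spec (CommRingCat.of T), g, inferInstance, u, hu, n, V, c, hc, E, hE⟩

end Groth.Agent.Lib.helper3.FEtSplit
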