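import Mathlib
import Groth.Agent.Lib.helper3.FUnrSplit

set_option autoImplicit false
universe u

open TensorProduct AlgebraicGeometry CategoryTheory Limits

namespace Groth.Agent.Lib.helper3.FUnrSplit

theorem core {X S : Scheme.{u}} (f : X ⟶ S) (R A T : Type u) [CommRing R] [CommRing A] [CommRing T]
    [Algebra R A] [Algebra R T]
    (j : Spec (CommRingCat.of R) ⟶ S) (a : Spec (CommRingCat.of A) ⟶ X)
    (hpb : IsPullback a (Spec.map (CommRingCat.ofHom (algebraMap R A))) f j)
    (n : ℕ) (K : Fin n → Ideal T) (e : (T ⊗[R] A) ≃ₐ[T] (∀ i : Fin n, T ⧸ K i)) :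
    ∃ (V : Fin n → Scheme.{u}) (c : ∀ i, V i ⟶ Spec (CommRingCat.of T))
      (_ : ∀ i, IsClosedImmersion (c i))
      (E : (∐ V) ≅ pullback f (Spec.map (CommRingCat.ofHom (algebraMap R T)) ≫ j)),
      ∀ i, Sigma.ι V i ≫ E.hom ≫ pullback.snd f _ = c i := by
  have hpo := CommRingCat.isPushout_tensorProduct R T A
  have sq2 := (isPullback_SpecMap_of_isPushout _ _ _ _ hpo).flip
  have sq12 := sq2.paste_horiz hpb
  let ι := ULift.{u} (Fin n)
  let ε : Fin n ≃ ι := Equiv.ulift.symm
  let Rf : ι → CommRingCat.{u} := fun i => CommRingCat.of (T ⧸ K (ε.symm i))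
  let V' : ι → Scheme.{u} := fun i => Spec (Rf i)
  let V : Fin n → Scheme.{u} := fun i => Spec (CommRingCat.of (T ⧸ K i))
  let eR : (T ⊗[R] A) ≃+* (Π i, Rf i) :=
    e.toRingEquiv.trans (RingEquiv.piCongrLeft' (fun i : Fin n => T ⧸ K i) ε)
  let eC : CommRingCat.of (T ⊗[R] A) ⟶ CommRingCat.of (Π i, Rf i) := (eR.toCommRingCatIso).hom
  haveI : IsIso eC := show IsIso (eR.toCommRingCatIso).hom from inferInstance
  let E0 : (∐ V) ⟶ Spec (CommRingCat.of (T ⊗[R] A)) :=
    (Sigma.reindex ε V').hom ≫ sigmaSpec Rf ≫ Spec.map eC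
  haveI h1s : IsIso (sigmaSpec Rf) := inferInstance
  haveI h2s : IsIso (Spec.map eC) := inferInstance
  haveI : IsIso E0 :=
    show IsIso ((Sigma.reindex ε V').hom ≫ sigmaSpec Rf ≫ Spec.map eC) from inferInstance
  have sq0 : IsPullback E0 (E0 ≫ Spec.map (CommRingCat.ofHom
      (Algebra.TensorProduct.includeLeftRingHom : T →+* T ⊗[R] A)))
      (Spec.map (CommRingCat.ofHom
      (Algebra.TensorProduct.includeLeftRingHom : T →+* T ⊗[R] A))) (𝟙 _) :=
    IsPullback.of_horiz_isIso ⟨by simp⟩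
  have sq := sq0.paste_horiz sq12
  rw [Category.id_comp] at sq
  refine ⟨V, fun i => Sigma.ι V i ≫ sq.isoPullback.hom ≫ pullback.snd f _, ?_, sq.isoPullback,
    fun i => rfl⟩
  intro i
  have h1 : Sigma.ι V i ≫ sq.isoPullback.hom ≫ pullback.snd f _ =
      Spec.map (CommRingCat.ofHom (Ideal.Quotient.mk (K i))) := by
    rw [IsPullback.isoPullback_hom_snd]
    show Sigma.ι (V' ∘ ε) i ≫ ((Sigma.reindex ε V').hom ≫ sigmaSpec Rf ≫ Spec.map eC) ≫ Spec.map _ = _
    rw [Category.assoc, Sigma.ι_reindex_hom_assoc, Category.assoc, ι_sigmaSpec_assoc,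
      ← Spec.map_comp, ← Spec.map_comp]
    congr 1
    ext t
    show (e (algebraMap T (T ⊗[R] A) t)) i = Ideal.Quotient.mk (K i) t
    rw [e.commutes]
    rfl
  show IsClosedImmersion (Sigma.ι V i ≫ sq.isoPullback.hom ≫ pullback.snd f _)
  rw [h1]
  exact IsClosedImmersion.spec_of_surjective _ Ideal.Quotient.mk_surjective

theorem main_of_chart {X S : Scheme.{u}} (f : X ⟶ S) [IsFinite f] [FormallyUnramified f] (s : S)
    (R : CommRingCat.{u}) (j : Spec R ⟶ S) [IsOpenImmersion j] (x : Spec R) (hx : j.base x = s) :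
    ∃ (U : Scheme.{u}) (g : U ⟶ S) (_ : AlgebraicGeometry.Etale g) (u : U) (_ : g.base u = s)
      (n : ℕ) (V : Fin n → Scheme.{u}) (c : ∀ j, V j ⟶ U) (_ : ∀ j, IsClosedImmersion (c j))
      (e : (∐ V) ≅ pullback f g), ∀ j, Sigma.ι V j ≫ e.hom ≫ pullback.snd f g = c j := by
  let X' := pullback f j
  let f' : X' ⟶ Spec R := pullback.snd f j
  haveI : IsFinite f' := inferInstance
  haveI : FormallyUnramified f' :=
    MorphismProperty.pullback_snd (P := @FormallyUnramified) f j inferInstance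
  haveI : IsAffine X' := isAffine_of_isAffineHom f'
  let A : CommRingCat.{u} := Γ(X', ⊤)
  let φ : R ⟶ A := (Scheme.ΓSpecIso R).inv ≫ f'.appTop
  have hφ : X'.isoSpec.inv ≫ f' = Spec.map φ := by
    rw [← Scheme.isoSpec_inv_naturality, Scheme.isoSpec_Spec_inv, ← Spec.map_comp]
  haveI : IsFinite (Spec.map φ) := hφ ▸ inferInstance
  haveI : FormallyUnramified (X'.isoSpec.inv ≫ f') :=
    (MorphismProperty.cancel_left_of_respectsIso @FormallyUnramified X'.isoSpec.inv f').mpr
      inferInstance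
  haveI : FormallyUnramified (Spec.map φ) := hφ ▸ inferInstance
  have hfin : φ.hom.Finite := (IsFinite.SpecMap_iff φ).mp inferInstance
  have het : φ.hom.FormallyUnramified :=
    HasRingHomProperty.Spec_iff.mp (inferInstance : FormallyUnramified (Spec.map φ))
  letI : Algebra R A := φ.hom.toAlgebra
  haveI : Module.Finite R A := hfin
  haveI : Algebra.FormallyUnramified R A := het
  let p : Ideal R := x.asIdeal
  haveI : p.IsPrime := x.isPrime
  obtain ⟨T, _, _, _, P, hP, hPo, n, K, ⟨e⟩⟩ := alg_main R A p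
  let a : Spec (CommRingCat.of A) ⟶ X := X'.isoSpec.inv ≫ pullback.fst f j
  have sq1 : IsPullback (pullback.fst f j) f' f j := IsPullback.of_hasPullback f j
  have sq0 : IsPullback X'.isoSpec.inv (Spec.map φ) f' (𝟙 _) :=
    IsPullback.of_horiz_isIso ⟨by rw [Category.comp_id, hφ]⟩
  have hpb : IsPullback a (Spec.map (CommRingCat.ofHom (algebraMap R A))) f j := by
    have := sq0.paste_horiz sq1
    rw [Category.id_comp] at this
    exact this
  obtain ⟨V, c, hc, E, hE⟩ := core f R A T j a hpb n K e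
  let g : Spec (CommRingCat.of T) ⟶ S := Spec.map (CommRingCat.ofHom (algebraMap R T)) ≫ j
  have hφT : (CommRingCat.ofHom (algebraMap R T)).hom.Etale :=
    RingHom.etale_algebraMap.mpr inferInstance
  haveI : Etale (Spec.map (CommRingCat.ofHom (algebraMap R T))) :=
    HasRingHomProperty.Spec_iff.mpr hφT
  haveI : Etale g := inferInstance
  let u : Spec (CommRingCat.of T) := ⟨P, hP⟩
  have hu : g.base u = s := by
    rw [← hx]
    show j.base ((Spec.map (CommRingCat.ofHom (algebraMap R T))).base u) = j.base x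
    congr 1
    apply PrimeSpectrum.ext
    show Ideal.comap (algebraMap R T) P = p
    exact hPo.over.symm
  exact ⟨Spec (CommRingCat.of T), g, inferInstance, u, hu, n, V, c, hc, E, hE⟩

end Groth.Agent.Lib.helper3.FUnrSplit
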