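import Mathlib
import Groth.Agent.S0503

set_option autoImplicit false
universe u

open IsLocalRing

namespace Groth.Agent.Lib.helper3.FinOpen

theorem map_le_map_of_comap (A : Type u) [CommRing A] [IsLocalRing A] (B C : Type u) [CommRing B]
    [CommRing C] [Algebra A B] [Algebra A C] (π : B →ₐ[A] C) (q : Ideal B)
    (hq : q.comap (algebraMap A B) = maximalIdeal A) :
    (maximalIdeal A).map (algebraMap A C) ≤ q.map π.toRingHom := by
  rw [Ideal.map_le_iff_le_comap]
  intro a ha
  rw [Ideal.mem_comap]
  have h1 : algebraMap A B a ∈ q := by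
    rw [← hq] at ha
    exact ha
  have h2 : algebraMap A C a = π.toRingHom (algebraMap A B a) := (π.commutes a).symm
  rw [h2]
  exact Ideal.mem_map_of_mem _ h1

theorem alg (A : Type u) [CommRing A] [HenselianLocalRing A] (B : Type u) [CommRing B]
    [Algebra A B] [Algebra.Etale A B] (q : Ideal B) [q.IsPrime]
    (hq : q.comap (algebraMap A B) = maximalIdeal A) :
    ∃ e : B, IsIdempotentElem e ∧ Module.Finite A (B ⧸ Ideal.span ({1 - e} : Set B)) ∧
      Module.FaithfullyFlat A (B ⧸ Ideal.span ({1 - e} : Set B)) := by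
  haveI : Algebra.FiniteType A B := inferInstance
  haveI : Algebra.QuasiFinite A B := inferInstance
  obtain ⟨e, he, hfin, htop⟩ := Groth.Agent.S0503.result A B
  have heq : e ∉ q := by
    intro heq
    have hker : RingHom.ker (Ideal.Quotient.mkₐ A (Ideal.span ({e} : Set B))).toRingHom ≤ q := by
      intro x hx
      have hx' : x ∈ Ideal.span ({e} : Set B) := by
        rw [← Ideal.mk_ker (I := Ideal.span ({e} : Set B))]
        exact hx
      rw [Ideal.mem_span_singleton'] at hx'
      obtain ⟨y, rfl⟩ := hx'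
      exact q.mul_mem_left y heq
    have hprime : (q.map (Ideal.Quotient.mkₐ A (Ideal.span ({e} : Set B))).toRingHom).IsPrime :=
      Ideal.map_isPrime_of_surjective (Ideal.Quotient.mkₐ_surjective A _) hker
    have hle := map_le_map_of_comap A B _ (Ideal.Quotient.mkₐ A (Ideal.span ({e} : Set B))) q hq
    rw [htop] at hle
    exact hprime.ne_top (top_le_iff.mp hle)
  have h1e : 1 - e ∈ q := by
    have h0 : e * (1 - e) ∈ q := by
      rw [mul_sub, mul_one, he.eq, sub_self]
      exact q.zero_mem
    exact (Ideal.IsPrime.mem_or_mem inferInstance h0).resolve_left heq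
  refine ⟨e, he, hfin, ?_⟩
  haveI hloc : IsLocalization.Away e (B ⧸ Ideal.span ({1 - e} : Set B)) :=
    IsLocalization.away_of_isIdempotentElem he Ideal.mk_ker Ideal.Quotient.mk_surjective
  haveI : Module.Flat B (B ⧸ Ideal.span ({1 - e} : Set B)) :=
    IsLocalization.flat _ (Submonoid.powers e)
  haveI : Module.Flat A B := inferInstance
  haveI : Module.Flat A (B ⧸ Ideal.span ({1 - e} : Set B)) := Module.Flat.trans A B _
  refine ⟨fun m' hm' => ?_⟩
  rw [IsLocalRing.eq_maximalIdeal hm']
  intro htop'
  have hker : RingHom.ker (Ideal.Quotient.mkₐ A (Ideal.span ({1 - e} : Set B))).toRingHom ≤ q := by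
    intro x hx
    have hx' : x ∈ Ideal.span ({1 - e} : Set B) := by
      rw [← Ideal.mk_ker (I := Ideal.span ({1 - e} : Set B))]
      exact hx
    rw [Ideal.mem_span_singleton'] at hx'
    obtain ⟨y, rfl⟩ := hx'
    exact q.mul_mem_left y h1e
  have hprime : (q.map (Ideal.Quotient.mkₐ A (Ideal.span ({1 - e} : Set B))).toRingHom).IsPrime :=
    Ideal.map_isPrime_of_surjective (Ideal.Quotient.mkₐ_surjective A _) hker
  have hle := map_le_map_of_comap A B _ (Ideal.Quotient.mkₐ A (Ideal.span ({1 - e} : Set B))) q hq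
  rw [Ideal.smul_top_eq_map] at htop'
  have h2 : (maximalIdeal A).map (algebraMap A (B ⧸ Ideal.span ({1 - e} : Set B))) = ⊤ := by
    rw [eq_top_iff]
    intro x _
    have : x ∈ (⊤ : Submodule A (B ⧸ Ideal.span ({1 - e} : Set B))) := trivial
    rw [← htop'] at this
    exact this
  rw [h2] at hle
  exact hprime.ne_top (top_le_iff.mp hle)

end Groth.Agent.Lib.helper3.FinOpen
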