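import Mathlib
import Groth.Agent.Lib.helper3.FinOpen

set_option autoImplicit false
universe u

open CategoryTheory CategoryTheory.Limits AlgebraicGeometry IsLocalRing

namespace Groth.Agent.Lib.helper3.FinOpen

theorem main_chart (A : Type u) [CommRing A] [HenselianLocalRing A]
    (T : Scheme.{u}) (f : T ⟶ Spec (CommRingCat.of A)) (B : Type u) [CommRing B] [Algebra A B]
    [Algebra.Etale A B]
    (j : Spec (CommRingCat.of B) ⟶ T) [IsOpenImmersion j]
    (hφ : Spec.map (CommRingCat.ofHom (algebraMap A B)) = j ≫ f)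
    (q : Ideal B) [q.IsPrime] (hP : q.comap (algebraMap A B) = maximalIdeal A) :
    ∃ U : T.Opens, IsFinite (U.ι ≫ f) ∧ Surjective (U.ι ≫ f) := by
  obtain ⟨e, he, hfin, hff⟩ := alg A B q hP
  let φ : CommRingCat.of A ⟶ CommRingCat.of B := CommRingCat.ofHom (algebraMap A B)
  let π : CommRingCat.of B ⟶ CommRingCat.of (B ⧸ Ideal.span ({1 - e} : Set B)) :=
    CommRingCat.ofHom (Ideal.Quotient.mk _)
  haveI : IsOpenImmersion (Spec.map π) :=
    (isOpenImmersion_SpecMap_iff_of_surjective π Ideal.Quotient.mk_surjective).mpr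
      ⟨1 - e, he.one_sub, Ideal.mk_ker⟩
  let k : Spec (CommRingCat.of (B ⧸ Ideal.span ({1 - e} : Set B))) ⟶ T := Spec.map π ≫ j
  haveI : IsOpenImmersion k := inferInstance
  have hk : k ≫ f = Spec.map (φ ≫ π) := by
    show (Spec.map π ≫ j) ≫ f = _
    rw [Category.assoc, ← hφ, ← Spec.map_comp]
  have hU : k.opensRange.ι ≫ f = k.isoOpensRange.inv ≫ Spec.map (φ ≫ π) := by
    rw [← k.isoOpensRange_inv_comp, Category.assoc, hk]
  have hfin' : IsFinite (Spec.map (φ ≫ π)) := by
    rw [IsFinite.SpecMap_iff]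
    exact RingHom.finite_algebraMap.mpr hfin
  refine ⟨k.opensRange, ?_, ⟨fun y => ?_⟩⟩
  · rw [hU]
    infer_instance
  · obtain ⟨Q, hQ⟩ := PrimeSpectrum.comap_surjective_of_faithfullyFlat (A := A)
      (B := B ⧸ Ideal.span ({1 - e} : Set B)) y
    refine ⟨k.isoOpensRange.hom.base Q, ?_⟩
    have h3 : k.isoOpensRange.hom ≫ (k.opensRange.ι ≫ f) = Spec.map (φ ≫ π) := by
      rw [hU, Iso.hom_inv_id_assoc]
    rw [← Scheme.Hom.comp_apply, h3]
    exact hQ

theorem main_chart' (A : Type u) [CommRing A] [HenselianLocalRing A]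
    (T : Scheme.{u}) (f : T ⟶ Spec (CommRingCat.of A)) (B : CommRingCat.{u})
    (φ : CommRingCat.of A ⟶ B) (het' : φ.hom.Etale)
    (j : Spec B ⟶ T) [IsOpenImmersion j] (hφ : Spec.map φ = j ≫ f)
    (y' : Spec B) (h1 : (Spec.map φ).base y' = IsLocalRing.closedPoint A) :
    ∃ U : T.Opens, IsFinite (U.ι ≫ f) ∧ Surjective (U.ι ≫ f) := by
  letI : Algebra A B := φ.hom.toAlgebra
  haveI : Algebra.Etale A B := het'
  have hP : (PrimeSpectrum.asIdeal y').comap (algebraMap A B) = maximalIdeal A :=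
    congrArg PrimeSpectrum.asIdeal h1
  haveI : (PrimeSpectrum.asIdeal y').IsPrime := y'.isPrime
  exact main_chart A T f B j hφ (PrimeSpectrum.asIdeal y') hP

theorem main (A : Type u) [CommRing A] [HenselianLocalRing A]
    (T : Scheme.{u}) (f : T ⟶ Spec (CommRingCat.of A)) [Etale f] [Surjective f] :
    ∃ U : T.Opens, IsFinite (U.ι ≫ f) ∧ Surjective (U.ι ≫ f) := by
  obtain ⟨t, ht⟩ := f.surjective (closedPoint A)
  obtain ⟨y', hy'⟩ := T.affineOpenCover.covers t
  obtain ⟨φ, hφ⟩ : ∃ φ : CommRingCat.of A ⟶ T.affineOpenCover.X (T.affineOpenCover.idx t),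
      Spec.map φ = T.affineOpenCover.f (T.affineOpenCover.idx t) ≫ f :=
    ⟨Spec.preimage _, Spec.map_preimage _⟩
  have het : Etale (Spec.map φ) := by rw [hφ]; infer_instance
  have het' : φ.hom.Etale := (HasRingHomProperty.Spec_iff (P := @Etale)).mp het
  have h1 : (Spec.map φ).base y' = IsLocalRing.closedPoint A := by
    rw [hφ, Scheme.Hom.comp_apply, hy']; exact ht
  exact main_chart' A T f _ φ het' _ hφ y' h1

end Groth.Agent.Lib.helper3.FinOpen
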