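import Mathlib
import Groth.Agent.Lib.helper3.FinPart

set_option autoImplicit false
universe u

open CategoryTheory CategoryTheory.Limits AlgebraicGeometry IsLocalRing

namespace Groth.Agent.Lib.helper3.FinPart

theorem chart0 (R : Type u) [CommRing R] [HenselianLocalRing R]
    (X : Scheme.{u}) (f : X ⟶ Spec (CommRingCat.of R)) (B : Type u) [CommRing B] [Algebra R B]
    [Algebra.FiniteType R B] [Algebra.QuasiFinite R B]
    (j : Spec (CommRingCat.of B) ⟶ X) [IsOpenImmersion j]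
    (hφ : Spec.map (CommRingCat.ofHom (algebraMap R B)) = j ≫ f)
    (q : Ideal B) [q.IsPrime] (hP : q.comap (algebraMap R B) = maximalIdeal R) :
    ∃ (C : CommRingCat.{u}) (φ : CommRingCat.of R ⟶ C) (k : Spec C ⟶ X),
      φ.hom.Finite ∧ IsOpenImmersion k ∧ k ≫ f = Spec.map φ ∧
        j.base ⟨q, inferInstance⟩ ∈ Set.range k.base := by
  obtain ⟨e, he, hfin, h1e⟩ := alg R B q hP
  let φ : CommRingCat.of R ⟶ CommRingCat.of B := CommRingCat.ofHom (algebraMap R B)
  let π : CommRingCat.of B ⟶ CommRingCat.of (B ⧸ Ideal.span ({1 - e} : Set B)) :=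
    CommRingCat.ofHom (Ideal.Quotient.mk _)
  haveI : IsOpenImmersion (Spec.map π) :=
    (isOpenImmersion_SpecMap_iff_of_surjective π Ideal.Quotient.mk_surjective).mpr
      ⟨1 - e, he.one_sub, Ideal.mk_ker⟩
  have hk : (Spec.map π ≫ j) ≫ f = Spec.map (φ ≫ π) := by
    rw [Category.assoc, ← hφ, ← Spec.map_comp]
  refine ⟨CommRingCat.of (B ⧸ Ideal.span ({1 - e} : Set B)), φ ≫ π, Spec.map π ≫ j,
    RingHom.finite_algebraMap.mpr hfin, inferInstance, hk, ?_⟩
  have hker : RingHom.ker (Ideal.Quotient.mk (Ideal.span ({1 - e} : Set B))) ≤ q := by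
    rw [Ideal.mk_ker]
    intro x hx
    rw [Ideal.mem_span_singleton'] at hx
    obtain ⟨y, rfl⟩ := hx
    exact q.mul_mem_left y h1e
  have hprime : (q.map (Ideal.Quotient.mk (Ideal.span ({1 - e} : Set B)))).IsPrime :=
    Ideal.map_isPrime_of_surjective Ideal.Quotient.mk_surjective hker
  refine ⟨⟨q.map (Ideal.Quotient.mk (Ideal.span ({1 - e} : Set B))), hprime⟩, ?_⟩
  rw [Scheme.Hom.comp_apply]
  congr 1
  apply PrimeSpectrum.ext
  show Ideal.comap (Ideal.Quotient.mk (Ideal.span ({1 - e} : Set B)))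
    (q.map (Ideal.Quotient.mk (Ideal.span ({1 - e} : Set B)))) = q
  rw [Ideal.comap_map_of_surjective _ Ideal.Quotient.mk_surjective, ← RingHom.ker_eq_comap_bot]
  exact sup_eq_left.mpr hker

theorem chart1 (R : Type u) [CommRing R] [HenselianLocalRing R]
    (X : Scheme.{u}) (f : X ⟶ Spec (CommRingCat.of R)) (B : CommRingCat.{u})
    (φ : CommRingCat.of R ⟶ B) (hft : φ.hom.FiniteType) (hqf : φ.hom.QuasiFinite)
    (j : Spec B ⟶ X) [IsOpenImmersion j] (hφ : Spec.map φ = j ≫ f)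
    (y' : Spec B) (h1 : (Spec.map φ).base y' = IsLocalRing.closedPoint R) :
    ∃ (C : CommRingCat.{u}) (φ : CommRingCat.of R ⟶ C) (k : Spec C ⟶ X),
      φ.hom.Finite ∧ IsOpenImmersion k ∧ k ≫ f = Spec.map φ ∧ j.base y' ∈ Set.range k.base := by
  letI : Algebra R B := φ.hom.toAlgebra
  haveI : Algebra.FiniteType R B := hft
  haveI : Algebra.QuasiFinite R B := hqf
  have hP : (PrimeSpectrum.asIdeal y').comap (algebraMap R B) = maximalIdeal R :=
    congrArg PrimeSpectrum.asIdeal h1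
  haveI : (PrimeSpectrum.asIdeal y').IsPrime := y'.isPrime
  exact chart0 R X f B j hφ (PrimeSpectrum.asIdeal y') hP

theorem chart (R : Type u) [CommRing R] [HenselianLocalRing R] {X : Scheme.{u}}
    (f : X ⟶ Spec (CommRingCat.of R)) [LocallyQuasiFinite f] [LocallyOfFiniteType f] (x : X)
    (hx : f.base x = closedPoint R) :
    ∃ (C : CommRingCat.{u}) (φ : CommRingCat.of R ⟶ C) (k : Spec C ⟶ X),
      φ.hom.Finite ∧ IsOpenImmersion k ∧ k ≫ f = Spec.map φ ∧ x ∈ Set.range k.base := by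
  obtain ⟨y', hy'⟩ := X.affineOpenCover.covers x
  obtain ⟨φ, hφ⟩ : ∃ φ : CommRingCat.of R ⟶ X.affineOpenCover.X (X.affineOpenCover.idx x),
      Spec.map φ = X.affineOpenCover.f (X.affineOpenCover.idx x) ≫ f :=
    ⟨Spec.preimage _, Spec.map_preimage _⟩
  have h1q : LocallyQuasiFinite (Spec.map φ) := by rw [hφ]; infer_instance
  have h1t : LocallyOfFiniteType (Spec.map φ) := by rw [hφ]; infer_instance
  have hqf : φ.hom.QuasiFinite := (HasRingHomProperty.Spec_iff (P := @LocallyQuasiFinite)).mp h1q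
  have hft : φ.hom.FiniteType := (HasRingHomProperty.Spec_iff (P := @LocallyOfFiniteType)).mp h1t
  have h1 : (Spec.map φ).base y' = IsLocalRing.closedPoint R := by
    rw [hφ, Scheme.Hom.comp_apply, hy']; exact hx
  obtain ⟨C, φC, k, h2, h3, h4, h5⟩ := chart1 R X f _ φ hft hqf _ hφ y' h1
  refine ⟨C, φC, k, h2, h3, h4, ?_⟩
  rw [← hy']
  exact h5

end Groth.Agent.Lib.helper3.FinPart
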