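import Mathlib
import Groth.Agent.Lib.helper3.FinPart2

set_option autoImplicit false
universe u

open CategoryTheory CategoryTheory.Limits AlgebraicGeometry IsLocalRing

namespace Groth.Agent.Lib.helper3.FinPart

theorem exists_finite_part (R : Type u) [CommRing R] [HenselianLocalRing R] {X : Scheme.{u}}
    (f : X ⟶ Spec (CommRingCat.of R))
    [LocallyQuasiFinite f] [LocallyOfFiniteType f] [QuasiCompact f] [IsSeparated f] :
    ∃ W : X.Opens, IsClosed (W : Set X) ∧ IsFinite (W.ι ≫ f) ∧
      ∀ x : X, f.base x = closedPoint R → x ∈ W := by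
  let Z : Type u := {x : X // f.base x = closedPoint R}
  haveI : Finite Z := (f.finite_preimage_singleton (closedPoint R)).to_subtype
  choose C φ k hfin hopen hk hmem using fun z : Z => chart R f z.1 z.2
  haveI : ∀ z, IsOpenImmersion (k z) := hopen
  let W : X.Opens := ⨆ z, (k z).opensRange
  have hkfin : ∀ z, IsFinite (k z ≫ f) := fun z => by
    rw [hk z]
    exact (IsFinite.SpecMap_iff _).mpr (hfin z)
  have hkfin' : ∀ z, IsFinite (k z) := fun z =>
    haveI := hkfin z
    IsFinite.of_comp (k z) f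
  have hWcoe : (W : Set X) = ⋃ z, Set.range (k z).base := by
    simp [W]
  have hclosed : IsClosed (W : Set X) := by
    rw [hWcoe]
    exact isClosed_iUnion_of_finite (fun z => (k z).isClosedMap.isClosed_range)
  have hcontains : ∀ x : X, f.base x = closedPoint R → x ∈ W := fun x hx => by
    have h1 : x ∈ (W : Set X) := by
      rw [hWcoe]
      exact Set.mem_iUnion.mpr ⟨⟨x, hx⟩, hmem ⟨x, hx⟩⟩
    exact h1
  refine ⟨W, hclosed, ?_, hcontains⟩
  -- finiteness
  have hsub : ∀ z, Set.range (k z).base ⊆ Set.range W.ι.base := fun z => by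
    rw [Scheme.Opens.range_ι, hWcoe]
    exact Set.subset_iUnion (fun z => Set.range (k z).base) z
  let l : ∀ z, Spec (C z) ⟶ (W : Scheme.{u}) := fun z => IsOpenImmersion.lift W.ι (k z) (hsub z)
  have hl : ∀ z, l z ≫ W.ι = k z := fun z => IsOpenImmersion.lift_fac _ _ _
  let d' : (∐ fun z => Spec (C z)) ⟶ (W : Scheme.{u}) := Sigma.desc l
  haveI : Surjective d' := by
    apply Surjective.sigmaDesc_of_union_range_eq_univ
    rw [Set.eq_univ_iff_forall]
    intro w
    have hw : W.ι.base w ∈ (W : Set X) := by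
      rw [← Scheme.Opens.range_ι W]
      exact ⟨w, rfl⟩
    rw [hWcoe, Set.mem_iUnion] at hw
    obtain ⟨z, c, hc⟩ := hw
    refine Set.mem_iUnion.mpr ⟨z, c, ?_⟩
    apply W.ι.isOpenEmbedding.injective
    rw [← Scheme.Hom.comp_apply, hl z]
    exact hc
  have hdf : d' ≫ (W.ι ≫ f) = sigmaSpec C ≫
      Spec.map (CommRingCat.ofHom (Pi.ringHom (fun z => (φ z).hom))) := by
    apply Sigma.hom_ext
    intro z
    rw [Sigma.ι_desc_assoc, ← Category.assoc, hl z, hk z, ι_sigmaSpec_assoc, ← Spec.map_comp]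
    congr 1
  have hpifin : (CommRingCat.ofHom (Pi.ringHom (fun z => (φ z).hom))).hom.Finite := by
    letI : ∀ z, Algebra R (C z) := fun z => (φ z).hom.toAlgebra
    haveI : ∀ z, Module.Finite R (C z) := fun z => hfin z
    haveI : Module.Finite R (∀ z, C z) := inferInstance
    exact RingHom.finite_algebraMap.mpr this
  haveI : IsFinite (Spec.map (CommRingCat.ofHom (Pi.ringHom (fun z => (φ z).hom)))) :=
    (IsFinite.SpecMap_iff _).mpr hpifin
  haveI : IsFinite (d' ≫ (W.ι ≫ f)) := by
    rw [hdf]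
    infer_instance
  haveI : UniversallyClosed (d' ≫ (W.ι ≫ f)) := inferInstance
  haveI : UniversallyClosed (W.ι ≫ f) := UniversallyClosed.of_comp_surjective d' (W.ι ≫ f)
  haveI : IsProper (W.ι ≫ f) := {}
  exact IsFinite.of_isProper_of_locallyQuasiFinite (W.ι ≫ f)

end Groth.Agent.Lib.helper3.FinPart
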