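import Mathlib

/-! Formal glueing: base change along a flat map `R → S` inducing `R/I ≅ S/IS` is an isomorphism on
`I`-power torsion modules (helper3). -/

namespace Groth.Agent.Lib.helper3.FormalGlue

open TensorProduct

variable {R S : Type*} [CommRing R] [CommRing S] [Algebra R S]

/-- If `S = R + IS` then `S = R + IⁿS` for all `n`. -/
theorem range_sup_pow_smul_top (I : Ideal R)
    (h1 : LinearMap.range (Algebra.linearMap R S) ⊔ I • (⊤ : Submodule R S) = ⊤) (n : ℕ) :
    LinearMap.range (Algebra.linearMap R S) ⊔ (I ^ n) • (⊤ : Submodule R S) = ⊤ := by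
  induction n with
  | zero =>
    rw [pow_zero, Ideal.one_eq_top, Submodule.top_smul]
    exact sup_top_eq _
  | succ n ih =>
    have key : (I ^ n) • (⊤ : Submodule R S) ≤
        LinearMap.range (Algebra.linearMap R S) ⊔ (I ^ (n + 1)) • (⊤ : Submodule R S) := by
      calc (I ^ n) • (⊤ : Submodule R S)
          = (I ^ n) • (LinearMap.range (Algebra.linearMap R S) ⊔ I • (⊤ : Submodule R S)) := by
            rw [h1]
        _ = (I ^ n) • LinearMap.range (Algebra.linearMap R S) ⊔
              (I ^ n) • (I • (⊤ : Submodule R S)) := Submodule.smul_sup _ _ _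
        _ ≤ LinearMap.range (Algebra.linearMap R S) ⊔ (I ^ (n + 1)) • (⊤ : Submodule R S) := by
            apply sup_le_sup Submodule.smul_le_right
            rw [← Submodule.mul_smul, pow_succ]
    apply le_antisymm le_top
    calc (⊤ : Submodule R S)
        = LinearMap.range (Algebra.linearMap R S) ⊔ (I ^ n) • (⊤ : Submodule R S) := ih.symm
      _ ≤ LinearMap.range (Algebra.linearMap R S) ⊔ (I ^ (n + 1)) • (⊤ : Submodule R S) :=
          sup_le le_sup_left key

theorem tmul_eq_zero_of_mem_smul_top {M : Type*} [AddCommGroup M] [Module R M] (J : Ideal R) (m : M)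
    (hm : ∀ a ∈ J, a • m = 0) (x : S) (hx : x ∈ J • (⊤ : Submodule R S)) : x ⊗ₜ[R] m = 0 := by
  refine Submodule.smul_induction_on hx ?_ ?_
  · intro a ha s _
    rw [TensorProduct.smul_tmul, hm a ha, tmul_zero]
  · intro x y hx hy
    rw [add_tmul, hx, hy, add_zero]

/-- Surjectivity of `M → S ⊗ M` on `I`-power torsion modules, assuming `S = R + IS`. -/
theorem mk_surjective_of_torsion (I : Ideal R)
    (h1 : LinearMap.range (Algebra.linearMap R S) ⊔ I • (⊤ : Submodule R S) = ⊤)
    {M : Type*} [AddCommGroup M] [Module R M]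
    (hM : ∀ m : M, ∃ n : ℕ, ∀ a ∈ I ^ n, a • m = 0) :
    Function.Surjective (TensorProduct.mk R S M 1) := by
  intro t
  induction t using TensorProduct.induction_on with
  | zero => exact ⟨0, map_zero _⟩
  | tmul s m =>
    obtain ⟨n, hn⟩ := hM m
    have hs : s ∈ (⊤ : Submodule R S) := trivial
    rw [← range_sup_pow_smul_top I h1 n, Submodule.mem_sup] at hs
    obtain ⟨_, ⟨r, rfl⟩, x, hx, rfl⟩ := hs
    refine ⟨r • m, ?_⟩
    rw [add_tmul, tmul_eq_zero_of_mem_smul_top (I ^ n) m hn x hx, add_zero, mk_apply,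
      Algebra.linearMap_apply, Algebra.algebraMap_eq_smul_one, smul_tmul]
  | add x y hx hy =>
    obtain ⟨a, rfl⟩ := hx
    obtain ⟨b, rfl⟩ := hy
    exact ⟨a + b, map_add _ _ _⟩

/-- If `S = R + IS` and `IS ∩ R = I`, then `JS ∩ R = J` for every ideal `J ⊇ I`. -/
theorem mem_of_algebraMap_mem_smul_top (I : Ideal R)
    (h1 : LinearMap.range (Algebra.linearMap R S) ⊔ I • (⊤ : Submodule R S) = ⊤)
    (h2 : ∀ r, algebraMap R S r ∈ I • (⊤ : Submodule R S) → r ∈ I)
    (J : Ideal R) (hIJ : I ≤ J) (r : R) (hr : algebraMap R S r ∈ J • (⊤ : Submodule R S)) :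
    r ∈ J := by
  have hle : J • (⊤ : Submodule R S) ≤
      Submodule.map (Algebra.linearMap R S) J ⊔ I • (⊤ : Submodule R S) := by
    calc J • (⊤ : Submodule R S)
        = J • (LinearMap.range (Algebra.linearMap R S) ⊔ I • (⊤ : Submodule R S)) := by rw [h1]
      _ = J • LinearMap.range (Algebra.linearMap R S) ⊔ J • (I • (⊤ : Submodule R S)) :=
          Submodule.smul_sup _ _ _
      _ ≤ Submodule.map (Algebra.linearMap R S) J ⊔ I • (⊤ : Submodule R S) := by
          apply sup_le_sup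
          · rw [Submodule.smul_le]
            rintro a ha _ ⟨b, rfl⟩
            refine ⟨a * b, J.mul_mem_right _ ha, ?_⟩
            rw [Algebra.linearMap_apply, Algebra.linearMap_apply, map_mul, Algebra.smul_def]
          · rw [← Submodule.mul_smul]
            exact Submodule.smul_mono_left Ideal.mul_le_right
  obtain ⟨_, ⟨a, ha, rfl⟩, y, hy, hsum⟩ := Submodule.mem_sup.mp (hle hr)
  have h3 : algebraMap R S (r - a) ∈ I • (⊤ : Submodule R S) := by
    rw [map_sub, ← hsum, Algebra.linearMap_apply, add_sub_cancel_left]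
    exact hy
  have h4 := h2 _ h3
  have h5 : r = (r - a) + a := by ring
  rw [h5]
  exact J.add_mem (hIJ h4) ha

/-- Injectivity of `M → S ⊗ M` on `I`-power torsion modules, for `S` flat with `R/I ≅ S/IS`. -/
theorem mk_injective_of_torsion [Module.Flat R S] (I : Ideal R)
    (h1 : LinearMap.range (Algebra.linearMap R S) ⊔ I • (⊤ : Submodule R S) = ⊤)
    (h2 : ∀ r, algebraMap R S r ∈ I • (⊤ : Submodule R S) → r ∈ I)
    {M : Type*} [AddCommGroup M] [Module R M]
    (hM : ∀ m : M, ∃ n : ℕ, ∀ a ∈ I ^ n, a • m = 0) :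
    Function.Injective (TensorProduct.mk R S M 1) := by
  rw [injective_iff_map_eq_zero]
  intro m hm
  obtain ⟨n, hn⟩ := hM m
  let f : R →ₗ[R] M := LinearMap.toSpanSingleton R M m
  let J : Ideal R := LinearMap.ker f
  have hJmem : ∀ a, a ∈ J ↔ a • m = 0 := fun a => by
    simp [J, f, LinearMap.mem_ker]
  have hIJ : I ^ n ≤ J := fun a ha => (hJmem a).mpr (hn a ha)
  let ι : R ⧸ J →ₗ[R] M := Submodule.liftQ J f le_rfl
  have hι : Function.Injective ι := by
    rw [← LinearMap.ker_eq_bot]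
    exact Submodule.ker_liftQ_eq_bot _ _ _ le_rfl
  have hflat : Function.Injective (ι.lTensor S) :=
    Module.Flat.lTensor_preserves_injective_linearMap ι hι
  have h0 : (1 : S) ⊗ₜ[R] (Ideal.Quotient.mk J 1) = 0 := by
    apply hflat
    rw [LinearMap.lTensor_tmul, map_zero]
    have : ι (Ideal.Quotient.mk J 1) = m := by
      change f 1 = m
      simp [f]
    rw [this]
    exact hm
  have h1J : (1 : S) ∈ J • (⊤ : Submodule R S) := by
    have := congrArg (TensorProduct.tensorQuotEquivQuotSMul S J) h0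
    rw [map_zero, tensorQuotEquivQuotSMul_tmul_mk, one_smul, Submodule.Quotient.mk_eq_zero] at this
    exact this
  by_contra hm0
  have hJ : J ≠ ⊤ := by
    intro hJ
    have : (1 : R) ∈ J := hJ ▸ Submodule.mem_top
    rw [hJmem, one_smul] at this
    exact hm0 this
  obtain ⟨𝔪, h𝔪, hJ𝔪⟩ := Ideal.exists_le_maximal J hJ
  have hI𝔪 : I ≤ 𝔪 := h𝔪.isPrime.le_of_pow_le (hIJ.trans hJ𝔪)
  have : (1 : R) ∈ 𝔪 := mem_of_algebraMap_mem_smul_top I h1 h2 𝔪 hI𝔪 1 (by
    rw [map_one]
    exact Submodule.smul_mono_left hJ𝔪 h1J)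
  exact h𝔪.ne_top ((Ideal.eq_top_iff_one _).mpr this)

theorem mk_bijective_of_torsion [Module.Flat R S] (I : Ideal R)
    (h1 : LinearMap.range (Algebra.linearMap R S) ⊔ I • (⊤ : Submodule R S) = ⊤)
    (h2 : ∀ r, algebraMap R S r ∈ I • (⊤ : Submodule R S) → r ∈ I)
    {M : Type*} [AddCommGroup M] [Module R M]
    (hM : ∀ m : M, ∃ n : ℕ, ∀ a ∈ I ^ n, a • m = 0) :
    Function.Bijective (TensorProduct.mk R S M 1) :=
  ⟨mk_injective_of_torsion I h1 h2 hM, mk_surjective_of_torsion I h1 hM⟩


/-- For flat `S` and a finitely generated ideal `J`, `J`-torsion elements of `S ⊗ N` come from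
`S ⊗ N[J]`. -/
theorem mem_range_lTensor_torsionBySet [Module.Flat R S] (J : Ideal R) (hJ : J.FG)
    {N : Type*} [AddCommGroup N] [Module R N]
    (y : S ⊗[R] N) (hy : ∀ a ∈ J, a • y = 0) :
    y ∈ LinearMap.range ((Submodule.torsionBySet R N (J : Set R)).subtype.lTensor S) := by
  classical
  obtain ⟨t, rfl⟩ := hJ
  let θ : N →ₗ[R] (t → N) := LinearMap.pi (fun a => (a : R) • LinearMap.id)
  have hker : LinearMap.ker θ =
      Submodule.torsionBySet R N ((Ideal.span (t : Set R) : Ideal R) : Set R) := by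
    rw [← Submodule.torsionBySet_eq_torsionBySet_span]
    ext x
    simp only [LinearMap.mem_ker, Submodule.mem_torsionBySet_iff]
    constructor
    · intro h a
      exact congrFun h ⟨a.1, a.2⟩
    · intro h
      funext a
      exact h ⟨a.1, a.2⟩
  have hex : Function.Exact (LinearMap.ker θ).subtype θ := LinearMap.exact_subtype_ker_map θ
  have hex' := Module.Flat.lTensor_exact S hex
  have hy0 : θ.lTensor S y = 0 := by
    apply (TensorProduct.piRight R R S (fun _ : t => N)).injective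
    rw [map_zero]
    funext a
    have key : ∀ z : S ⊗[R] N,
        (TensorProduct.piRight R R S (fun _ : t => N)) (θ.lTensor S z) a = (a : R) • z := by
      intro z
      induction z using TensorProduct.induction_on with
      | zero => simp
      | tmul s x =>
        rw [LinearMap.lTensor_tmul, TensorProduct.piRight_apply, TensorProduct.piRightHom_tmul]
        simp [θ]
      | add z w hz hw => simp only [map_add, Pi.add_apply, hz, hw, smul_add]
    rw [key]
    exact hy a (Ideal.subset_span a.2)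
  obtain ⟨w, hw⟩ := (hex' y).mp hy0
  rw [← hker]
  exact ⟨w, hw⟩

/-- Existence: an `Iⁿ`-torsion element of `S ⊗ N` is `1 ⊗ x` for an `Iⁿ`-torsion `x`. -/
theorem exists_of_torsion_tmul [Module.Flat R S] (I : Ideal R) (hI : I.FG)
    (h1 : LinearMap.range (Algebra.linearMap R S) ⊔ I • (⊤ : Submodule R S) = ⊤)
    {N : Type*} [AddCommGroup N] [Module R N] (n : ℕ)
    (y : S ⊗[R] N) (hy : ∀ a ∈ I ^ n, a • y = 0) :
    ∃ x : N, (∀ a ∈ I ^ n, a • x = 0) ∧ (1 : S) ⊗ₜ[R] x = y := by
  obtain ⟨w, hw⟩ := mem_range_lTensor_torsionBySet (S := S) (I ^ n) (hI.pow) y hy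
  have htors : ∀ m : Submodule.torsionBySet R N ((I ^ n : Ideal R) : Set R),
      ∃ k : ℕ, ∀ a ∈ I ^ k, a • m = 0 := by
    intro m
    refine ⟨n, fun a ha => ?_⟩
    apply Subtype.ext
    have := (Submodule.mem_torsionBySet_iff _ _).mp m.2 ⟨a, ha⟩
    simpa using this
  obtain ⟨x, hx⟩ := mk_surjective_of_torsion I h1 htors w
  refine ⟨x.1, ?_, ?_⟩
  · intro a ha
    exact (Submodule.mem_torsionBySet_iff _ _).mp x.2 ⟨a, ha⟩
  · rw [← hw, ← hx, TensorProduct.mk_apply, LinearMap.lTensor_tmul]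
    rfl

/-- Uniqueness: an `I`-power torsion `x` with `1 ⊗ x = 0` in `S ⊗ N` vanishes. -/
theorem eq_zero_of_torsion_of_tmul_eq_zero [Module.Flat R S] (I : Ideal R)
    (h1 : LinearMap.range (Algebra.linearMap R S) ⊔ I • (⊤ : Submodule R S) = ⊤)
    (h2 : ∀ r, algebraMap R S r ∈ I • (⊤ : Submodule R S) → r ∈ I)
    {N : Type*} [AddCommGroup N] [Module R N] (n : ℕ)
    (x : N) (hx : ∀ a ∈ I ^ n, a • x = 0) (h0 : (1 : S) ⊗ₜ[R] x = 0) : x = 0 := by
  let T := Submodule.torsionBySet R N ((I ^ n : Ideal R) : Set R)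
  have hxT : x ∈ T := (Submodule.mem_torsionBySet_iff _ _).mpr (fun a => hx a.1 a.2)
  have htors : ∀ m : T, ∃ k : ℕ, ∀ a ∈ I ^ k, a • m = 0 := by
    intro m
    refine ⟨n, fun a ha => ?_⟩
    apply Subtype.ext
    have := (Submodule.mem_torsionBySet_iff _ _).mp m.2 ⟨a, ha⟩
    simpa using this
  have hinj : Function.Injective (T.subtype.lTensor S) :=
    Module.Flat.lTensor_preserves_injective_linearMap _ T.subtype_injective
  have h3 : (1 : S) ⊗ₜ[R] (⟨x, hxT⟩ : T) = 0 := by
    apply hinj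
    rw [LinearMap.lTensor_tmul, map_zero]
    exact h0
  have h4 := mk_injective_of_torsion I h1 h2 htors (a₁ := ⟨x, hxT⟩) (a₂ := 0) (by
    rw [TensorProduct.mk_apply, h3, map_zero])
  exact congrArg Subtype.val h4

/-- Translate bijectivity of `R/I → S/IS` into the elementary hypotheses. -/
theorem hyps_of_quotientMap_bijective (I : Ideal R)
    (hq : Function.Bijective (Ideal.quotientMap (I.map (algebraMap R S)) (algebraMap R S)
      Ideal.le_comap_map)) :
    (LinearMap.range (Algebra.linearMap R S) ⊔ I • (⊤ : Submodule R S) = ⊤) ∧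
    (∀ r, algebraMap R S r ∈ I • (⊤ : Submodule R S) → r ∈ I) := by
  have hmem : ∀ x : S, x ∈ I • (⊤ : Submodule R S) ↔ x ∈ I.map (algebraMap R S) := by
    intro x
    rw [Ideal.smul_top_eq_map]
    rfl
  constructor
  · rw [eq_top_iff]
    intro s _
    obtain ⟨rbar, hr⟩ := hq.2 (Ideal.Quotient.mk _ s)
    obtain ⟨r, rfl⟩ := Ideal.Quotient.mk_surjective rbar
    rw [Ideal.quotientMap_mk, Ideal.Quotient.eq] at hr
    rw [Submodule.mem_sup]
    refine ⟨algebraMap R S r, ⟨r, rfl⟩, s - algebraMap R S r, ?_, by ring⟩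
    rw [hmem, ← neg_sub]
    exact neg_mem hr
  · intro r hr
    rw [hmem] at hr
    have h0 : Ideal.quotientMap (I.map (algebraMap R S)) (algebraMap R S) Ideal.le_comap_map
        (Ideal.Quotient.mk I r) = 0 := by
      rw [Ideal.quotientMap_mk, Ideal.Quotient.eq_zero_iff_mem]
      exact hr
    have := hq.1 (h0.trans (map_zero _).symm)
    rwa [Ideal.Quotient.eq_zero_iff_mem] at this

end Groth.Agent.Lib.helper3.FormalGlue
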