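import Mathlib

/-!
# Formal smoothness / étaleness of `A/K → B/KB` in terms of lifting problems over `A`
for test algebras killed by `K`.
-/

universe u

namespace Groth.Agent.Lib.helper3.FormalQuot

variable {A : Type u} [CommRing A] (K : Ideal A) (B : Type u) [CommRing B] [Algebra A B]

/-- the `A/K`-algebra structure of an `A`-algebra killed by `K` -/
def algOfKill (E : Type u) [CommRing E] [Algebra A E] (hE : K.map (algebraMap A E) = ⊥) :
    Algebra (A ⧸ K) E :=
  (Ideal.Quotient.lift K (algebraMap A E) (fun a ha => by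
    have := Ideal.mem_map_of_mem (algebraMap A E) ha
    rwa [hE, Ideal.mem_bot] at this)).toAlgebra

theorem tower_algOfKill (E : Type u) [CommRing E] [Algebra A E]
    (hE : K.map (algebraMap A E) = ⊥) :
    letI := algOfKill K E hE
    IsScalarTower A (A ⧸ K) E := by
  letI := algOfKill K E hE
  exact IsScalarTower.of_algebraMap_eq (fun _ => rfl)

variable {B}

/-- maps to an algebra killed by `K` factor through `B/KB` -/
def factor (E : Type u) [CommRing E] [Algebra A E] (hE : K.map (algebraMap A E) = ⊥)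
    (v : B →ₐ[A] E) : (B ⧸ K.map (algebraMap A B)) →ₐ[A] E :=
  Ideal.Quotient.liftₐ _ v (by
    intro b hb
    have h1 : v b ∈ (K.map (algebraMap A B)).map v.toRingHom := Ideal.mem_map_of_mem _ hb
    rw [Ideal.map_map] at h1
    have h2 : v.toRingHom.comp (algebraMap A B) = algebraMap A E := by
      ext a; exact v.commutes a
    rw [h2, hE, Ideal.mem_bot] at h1
    exact h1)

theorem factor_mk (E : Type u) [CommRing E] [Algebra A E] (hE : K.map (algebraMap A E) = ⊥)
    (v : B →ₐ[A] E) (b : B) : factor K E hE v (Ideal.Quotient.mk _ b) = v b := rfl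

variable (B)

/-- lifting for `B` over `A` against algebras killed by `K`, from formal smoothness of `A/K → B/KB` -/
theorem exists_lift_of_formallySmooth
    [Algebra.FormallySmooth (A ⧸ K) (B ⧸ K.map (algebraMap A B))]
    (E C : Type u) [CommRing E] [CommRing C] [Algebra A E] [Algebra A C]
    (hE : K.map (algebraMap A E) = ⊥) (hC : K.map (algebraMap A C) = ⊥)
    (p : E →ₐ[A] C) (hp : Function.Surjective p) (hnil : IsNilpotent (RingHom.ker p))
    (u : B →ₐ[A] C) : ∃ v : B →ₐ[A] E, p.comp v = u := by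
  letI := algOfKill K E hE
  letI := algOfKill K C hC
  haveI := tower_algOfKill K E hE
  haveI := tower_algOfKill K C hC
  have hsurj : Function.Surjective (algebraMap A (A ⧸ K)) := Ideal.Quotient.mk_surjective
  let p' : E →ₐ[A ⧸ K] C := AlgHom.extendScalarsOfSurjective hsurj p
  let ub : (B ⧸ K.map (algebraMap A B)) →ₐ[A ⧸ K] C :=
    AlgHom.extendScalarsOfSurjective hsurj (factor K C hC u)
  let vb := Algebra.FormallySmooth.liftOfSurjective ub p' hp hnil
  refine ⟨(vb.restrictScalars A).comp (Ideal.Quotient.mkₐ A _), ?_⟩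
  ext b
  exact Algebra.FormallySmooth.liftOfSurjective_apply ub p' hp hnil (Ideal.Quotient.mk _ b)

/-- uniqueness of lifts from formal unramifiedness of `A/K → B/KB` -/
theorem lift_unique_of_formallyUnramified
    [Algebra.FormallyUnramified (A ⧸ K) (B ⧸ K.map (algebraMap A B))]
    (E C : Type u) [CommRing E] [CommRing C] [Algebra A E] [Algebra A C]
    (hE : K.map (algebraMap A E) = ⊥) (hC : K.map (algebraMap A C) = ⊥)
    (p : E →ₐ[A] C) (hnil : IsNilpotent (RingHom.ker p))
    (v₁ v₂ : B →ₐ[A] E) (h : p.comp v₁ = p.comp v₂) : v₁ = v₂ := by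
  letI := algOfKill K E hE
  letI := algOfKill K C hC
  haveI := tower_algOfKill K E hE
  haveI := tower_algOfKill K C hC
  have hsurj : Function.Surjective (algebraMap A (A ⧸ K)) := Ideal.Quotient.mk_surjective
  let p' : E →ₐ[A ⧸ K] C := AlgHom.extendScalarsOfSurjective hsurj p
  let w₁ : (B ⧸ K.map (algebraMap A B)) →ₐ[A ⧸ K] E :=
    AlgHom.extendScalarsOfSurjective hsurj (factor K E hE v₁)
  let w₂ : (B ⧸ K.map (algebraMap A B)) →ₐ[A ⧸ K] E :=
    AlgHom.extendScalarsOfSurjective hsurj (factor K E hE v₂)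
  have hw : w₁ = w₂ := by
    apply Algebra.FormallyUnramified.lift_unique' p' hnil
    ext x
    obtain ⟨b, rfl⟩ := Ideal.Quotient.mk_surjective x
    exact AlgHom.congr_fun h b
  ext b
  exact AlgHom.congr_fun hw (Ideal.Quotient.mk _ b)

/-- formal smoothness of `A/K → B/KB` from lifting over `A` against square-zero extensions killed
by `K` -/
theorem formallySmooth_of_lift
    (H : ∀ (E : Type u) [CommRing E] [Algebra A E], K.map (algebraMap A E) = ⊥ →
      ∀ (L : Ideal E), L ^ 2 = ⊥ → ∀ u : B →ₐ[A] E ⧸ L,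
        ∃ v : B →ₐ[A] E, (Ideal.Quotient.mkₐ A L).comp v = u) :
    Algebra.FormallySmooth (A ⧸ K) (B ⧸ K.map (algebraMap A B)) := by
  apply Algebra.FormallySmooth.of_comp_surjective
  intro E _ _ L hL ub
  letI algAE : Algebra A E := ((algebraMap (A ⧸ K) E).comp (Ideal.Quotient.mk K)).toAlgebra
  haveI towerE : IsScalarTower A (A ⧸ K) E := IsScalarTower.of_algebraMap_eq (fun _ => rfl)
  have hsurj : Function.Surjective (algebraMap A (A ⧸ K)) := Ideal.Quotient.mk_surjective
  have hE : K.map (algebraMap A E) = ⊥ := by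
    rw [eq_bot_iff, Ideal.map_le_iff_le_comap]
    intro a ha
    rw [Ideal.mem_comap, Ideal.mem_bot]
    change algebraMap (A ⧸ K) E (Ideal.Quotient.mk K a) = 0
    rw [Ideal.Quotient.eq_zero_iff_mem.mpr ha, map_zero]
  obtain ⟨v, hv⟩ := H E hE L hL ((ub.restrictScalars A).comp (Ideal.Quotient.mkₐ A _))
  refine ⟨AlgHom.extendScalarsOfSurjective hsurj (factor K E hE v), ?_⟩
  ext x
  obtain ⟨b, rfl⟩ := Ideal.Quotient.mk_surjective x
  exact AlgHom.congr_fun hv b

/-- formal unramifiedness of `A/K → B/KB` from uniqueness of lifts over `A` -/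
theorem formallyUnramified_of_unique
    (H : ∀ (E : Type u) [CommRing E] [Algebra A E], K.map (algebraMap A E) = ⊥ →
      ∀ (L : Ideal E), L ^ 2 = ⊥ → ∀ v₁ v₂ : B →ₐ[A] E,
        (Ideal.Quotient.mkₐ A L).comp v₁ = (Ideal.Quotient.mkₐ A L).comp v₂ → v₁ = v₂) :
    Algebra.FormallyUnramified (A ⧸ K) (B ⧸ K.map (algebraMap A B)) := by
  rw [Algebra.FormallyUnramified.iff_comp_injective]
  intro E _ _ L hL w₁ w₂ hw
  letI algAE : Algebra A E := ((algebraMap (A ⧸ K) E).comp (Ideal.Quotient.mk K)).toAlgebra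
  haveI towerE : IsScalarTower A (A ⧸ K) E := IsScalarTower.of_algebraMap_eq (fun _ => rfl)
  have hE : K.map (algebraMap A E) = ⊥ := by
    rw [eq_bot_iff, Ideal.map_le_iff_le_comap]
    intro a ha
    rw [Ideal.mem_comap, Ideal.mem_bot]
    change algebraMap (A ⧸ K) E (Ideal.Quotient.mk K a) = 0
    rw [Ideal.Quotient.eq_zero_iff_mem.mpr ha, map_zero]
  have := H E hE L hL ((w₁.restrictScalars A).comp (Ideal.Quotient.mkₐ A _))
    ((w₂.restrictScalars A).comp (Ideal.Quotient.mkₐ A _)) (by
      ext b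
      exact AlgHom.congr_fun hw (Ideal.Quotient.mk _ b))
  ext x
  obtain ⟨b, rfl⟩ := Ideal.Quotient.mk_surjective x
  exact AlgHom.congr_fun this b

end Groth.Agent.Lib.helper3.FormalQuot
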