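import Mathlib

/-!
# Lifting coprime factorizations over a Henselian pair (Mathlib's `HenselianRing`)

Main result: `exists_factor_lift`.  The proof uses a splitting algebra of `f`, the fundamental theorem
of symmetric polynomials and root lifting for the polynomial `∏_S (Y - ρ_S)`.
-/

open Polynomial

namespace Groth.Agent.Lib.helper3.PairFactor

universe u



/-- ring-hom version of the splitting algebra with an additive retraction -/
theorem exists_splitting_aux (n : ℕ) : ∀ (A : Type u) [CommRing A] (f : A[X]), f.Monic →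
    f.natDegree = n →
    ∃ (D : Type u) (_ : CommRing D) (ι : A →+* D) (r : D →+ A) (t : Fin n → D),
      (∀ a d, r (ι a * d) = a * r d) ∧ r 1 = 1 ∧ f.map ι = ∏ i, (X - C (t i)) := by
  induction n with
  | zero =>
    intro A _ f hf hn
    refine ⟨A, inferInstance, RingHom.id A, AddMonoidHom.id A, Fin.elim0, fun a d => rfl, rfl, ?_⟩
    rw [Polynomial.map_id, Finset.univ_eq_empty, Finset.prod_empty]
    exact eq_one_of_monic_natDegree_zero hf hn
  | succ n ih =>
    intro A _ f hf hn
    have hAnt : Nontrivial A := by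
      by_contra hA
      rw [not_nontrivial_iff_subsingleton] at hA
      have : f.natDegree = 0 := by rw [Subsingleton.elim f 0]; simp
      omega
    have hdeg : f.degree ≠ 0 := by
      rw [degree_eq_natDegree hf.ne_zero, hn]; exact_mod_cast Nat.succ_ne_zero n
    -- first step
    let A₁ := AdjoinRoot f
    let ι₁ : A →+* A₁ := AdjoinRoot.of f
    let ρ : A₁ := AdjoinRoot.root f
    have hroot : (f.map ι₁).IsRoot ρ := by
      rw [IsRoot, eval_map]; exact AdjoinRoot.eval₂_root f
    let f₁ : A₁[X] := (f.map ι₁) /ₘ (X - C ρ)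
    have hf₁ : (X - C ρ) * f₁ = f.map ι₁ := mul_divByMonic_eq_iff_isRoot.mpr hroot
    have hfm : (f.map ι₁).Monic := hf.map ι₁
    have hf₁m : f₁.Monic := by
      refine Monic.of_mul_monic_left (monic_X_sub_C ρ) ?_
      rw [hf₁]; exact hfm
    -- retraction of A → A₁
    let r₁ : A₁ →ₗ[A] A := (Polynomial.lcoeff A 0) ∘ₗ (AdjoinRoot.modByMonicHom hf)
    have hr₁1 : r₁ 1 = 1 := by
      have h1 : (1 : AdjoinRoot f) = AdjoinRoot.mk f 1 := (map_one _).symm
      simp only [r₁, LinearMap.comp_apply]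
      rw [h1, AdjoinRoot.modByMonicHom_mk, (modByMonic_eq_self_iff hf).mpr (by
        rw [degree_one]
        exact lt_of_le_of_ne (zero_le_degree_iff.mpr hf.ne_zero) (Ne.symm hdeg))]
      simp
    have hA₁ : Nontrivial A₁ := by
      refine ⟨⟨1, 0, fun h => ?_⟩⟩
      have := congrArg r₁ h
      rw [hr₁1, map_zero] at this
      exact one_ne_zero this
    have hf₁d : f₁.natDegree = n := by
      have h1 := congrArg natDegree hf₁
      rw [(monic_X_sub_C ρ).natDegree_mul hf₁m, natDegree_X_sub_C, hf.natDegree_map ι₁, hn] at h1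
      omega
    obtain ⟨D, _, ι₂, r₂, t', hr₂, hr₂1, ht'⟩ := ih A₁ f₁ hf₁m hf₁d
    refine ⟨D, inferInstance, ι₂.comp ι₁, (r₁ : A₁ →+ A).comp r₂, Fin.cons (ι₂ ρ) t', ?_, ?_, ?_⟩
    · intro a d
      simp only [AddMonoidHom.comp_apply, RingHom.comp_apply]
      rw [hr₂]
      have : ι₁ a * r₂ d = a • r₂ d := by
        rw [Algebra.smul_def]; rfl
      rw [this]
      exact r₁.map_smul a (r₂ d)
    · simp only [AddMonoidHom.comp_apply]
      rw [hr₂1]; exact hr₁1
    · rw [← Polynomial.map_map, ← hf₁, Polynomial.map_mul, ht', Fin.prod_univ_succ]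
      simp

/-- **Splitting algebra**: a monic polynomial splits into linear factors in an algebra `D` which
admits an `A`-linear retraction `D → A`. -/
theorem exists_splitting (A : Type u) [CommRing A] (f : A[X]) (hf : f.Monic) :
    ∃ (D : Type u) (_ : CommRing D) (_ : Algebra A D) (r : D →ₗ[A] A) (t : Fin f.natDegree → D),
      r 1 = 1 ∧ f.map (algebraMap A D) = ∏ i, (X - C (t i)) := by
  obtain ⟨D, _, ι, r, t, hr, hr1, ht⟩ := exists_splitting_aux f.natDegree A f hf rfl
  letI : Algebra A D := ι.toAlgebra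
  refine ⟨D, inferInstance, inferInstance, ⟨⟨r, r.map_add⟩, ?_⟩, t, hr1, ht⟩
  intro a d
  simp only [RingHom.id_apply, smul_eq_mul]
  rw [Algebra.smul_def]
  exact hr a d




section descent

variable {A D : Type*} [CommRing A] [CommRing D] [Algebra A D] {n : ℕ}

/-- Vieta: the elementary symmetric functions of the roots come from the coefficients. -/
theorem esymm_eq_algebraMap (f : A[X]) (t : Fin n → D)
    (hft : f.map (algebraMap A D) = ∏ i, (X - C (t i))) (j : ℕ) (hj : j ≤ n) :
    (Finset.univ.val.map t).esymm j = algebraMap A D ((-1) ^ j * f.coeff (n - j)) := by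
  have hcard : Multiset.card (Finset.univ.val.map t) = n := by simp
  have hprod : ((Finset.univ.val.map t).map fun a => X - C a).prod = ∏ i, (X - C (t i)) := by
    rw [Multiset.map_map]; rfl
  have h1 := Multiset.prod_X_sub_C_coeff (Finset.univ.val.map t) (k := n - j) (by rw [hcard]; omega)
  rw [hprod, ← hft, hcard, show n - (n - j) = j by omega, coeff_map] at h1
  rw [map_mul, map_pow, map_neg, map_one, h1, ← mul_assoc, ← mul_pow]
  simp

theorem algebraMap_eval_eq (b : Fin n → A) (p : MvPolynomial (Fin n) A) :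
    algebraMap A D (MvPolynomial.eval b p) =
      MvPolynomial.aeval (fun i => algebraMap A D (b i)) p := by
  induction p using MvPolynomial.induction_on with
  | C a => simp
  | add p q hp hq => rw [map_add, map_add, map_add, hp, hq]
  | mul_X p i hp => rw [map_mul, map_mul, map_mul, hp]; simp

/-- symmetric polynomial expressions in the roots of `f` lie in the image of `A`. -/
theorem aeval_mem_range (f : A[X]) (t : Fin n → D)
    (hft : f.map (algebraMap A D) = ∏ i, (X - C (t i))) (P : MvPolynomial (Fin n) A)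
    (hP : P.IsSymmetric) : MvPolynomial.aeval t P ∈ (algebraMap A D).range := by
  obtain ⟨P', hP'⟩ := MvPolynomial.esymmAlgHom_surjective (σ := Fin n) (R := A) (n := n)
    (by simp) ⟨P, hP⟩
  have h1 : P = MvPolynomial.aeval (fun i : Fin n => MvPolynomial.esymm (Fin n) A (i + 1)) P' := by
    rw [← MvPolynomial.esymmAlgHom_apply, hP']
  let b : Fin n → A := fun i => (-1) ^ ((i : ℕ) + 1) * f.coeff (n - ((i : ℕ) + 1))
  refine ⟨MvPolynomial.eval b P', ?_⟩
  rw [h1, MvPolynomial.comp_aeval_apply]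
  have h2 : (fun i : Fin n => MvPolynomial.aeval t (MvPolynomial.esymm (Fin n) A (i + 1))) =
      fun i => algebraMap A D (b i) := by
    funext i
    rw [MvPolynomial.aeval_esymm_eq_multiset_esymm]
    exact esymm_eq_algebraMap f t hft _ (by omega)
  rw [h2]
  exact algebraMap_eval_eq b P'

/-- polynomial version -/
theorem exists_map_eq (f : A[X]) (t : Fin n → D)
    (hft : f.map (algebraMap A D) = ∏ i, (X - C (t i))) (Q : (MvPolynomial (Fin n) A)[X])
    (hQ : ∀ σ : Equiv.Perm (Fin n), Q.map (MvPolynomial.rename σ).toRingHom = Q) :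
    ∃ q : A[X], q.map (algebraMap A D) = Q.map (MvPolynomial.aeval t : _ →ₐ[A] D).toRingHom := by
  have : Q.map (MvPolynomial.aeval t : _ →ₐ[A] D).toRingHom ∈ Polynomial.lifts (algebraMap A D) := by
    rw [Polynomial.lifts_iff_coeff_lifts]
    intro k
    rw [coeff_map]
    refine aeval_mem_range f t hft (Q.coeff k) fun σ => ?_
    have := congrArg (fun p => p.coeff k) (hQ σ)
    simpa [coeff_map] using this
  exact (Polynomial.mem_lifts _).mp this

end descent




section idem

variable {R : Type*} [CommRing R] {κ : Type*} [Fintype κ] [DecidableEq κ]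

/-- the family `ε S = ∏_{i ∈ S} p i * ∏_{i ∉ S} q i` -/
def eps (p q : κ → R) (S : Finset κ) : R := (∏ i ∈ S, p i) * ∏ i ∈ Sᶜ, q i

theorem sum_eps (p q : κ → R) (hpq : ∀ i, p i + q i = 1) : ∑ S : Finset κ, eps p q S = 1 := by
  have h := Finset.prod_add p q (Finset.univ : Finset κ)
  rw [Finset.powerset_univ] at h
  simp only [hpq, Finset.prod_const_one] at h
  rw [h]
  refine Finset.sum_congr rfl fun S _ => ?_
  rw [eps, Finset.compl_eq_univ_sdiff]

theorem eps_mul_eps (p q : κ → R) (h0 : ∀ i, p i * q i = 0) {S S' : Finset κ} (hS : S ≠ S') :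
    eps p q S * eps p q S' = 0 := by
  have : ∃ i, (i ∈ S ∧ i ∉ S') ∨ (i ∉ S ∧ i ∈ S') := by
    by_contra hcon
    push Not at hcon
    apply hS
    ext i
    constructor
    · intro hi; by_contra hi'; exact absurd hi' (by simpa using (hcon i).1 hi)
    · intro hi; by_contra hi'; exact (hcon i).2 hi' hi
  obtain ⟨i, hi | hi⟩ := this
  · have h1 : p i ∣ eps p q S := Dvd.dvd.mul_right (Finset.dvd_prod_of_mem p hi.1) _
    have h2 : q i ∣ eps p q S' :=
      Dvd.dvd.mul_left (Finset.dvd_prod_of_mem q (Finset.mem_compl.mpr hi.2)) _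
    have := mul_dvd_mul h1 h2
    rw [h0] at this
    exact zero_dvd_iff.mp this
  · have h1 : q i ∣ eps p q S :=
      Dvd.dvd.mul_left (Finset.dvd_prod_of_mem q (Finset.mem_compl.mpr hi.1)) _
    have h2 : p i ∣ eps p q S' := Dvd.dvd.mul_right (Finset.dvd_prod_of_mem p hi.2) _
    have := mul_dvd_mul h2 h1
    rw [h0, mul_comm] at this
    exact zero_dvd_iff.mp this

theorem eps_mul_p (p q : κ → R) (hpq : ∀ i, p i + q i = 1) (h0 : ∀ i, p i * q i = 0)
    {S : Finset κ} {i : κ} (hi : i ∈ S) : eps p q S * p i = eps p q S := by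
  have hpp : p i * p i = p i := by
    have := congrArg (fun x => p i * x) (hpq i)
    simp only [mul_add, h0, add_zero, mul_one] at this
    exact this
  rw [eps, ← Finset.mul_prod_erase S p hi]
  calc ((p i * ∏ x ∈ S.erase i, p x) * ∏ i ∈ Sᶜ, q i) * p i
      = ((p i * p i) * ∏ x ∈ S.erase i, p x) * ∏ i ∈ Sᶜ, q i := by ring
    _ = _ := by rw [hpp]

theorem eps_mul_q (p q : κ → R) (hpq : ∀ i, p i + q i = 1) (h0 : ∀ i, p i * q i = 0)
    {S : Finset κ} {i : κ} (hi : i ∉ S) : eps p q S * q i = eps p q S := by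
  have hqq : q i * q i = q i := by
    have := congrArg (fun x => x * q i) (hpq i)
    simp only [add_mul, h0, zero_add, one_mul] at this
    exact this
  rw [eps, ← Finset.mul_prod_erase Sᶜ q (Finset.mem_compl.mpr hi)]
  calc (∏ i ∈ S, p i) * (q i * ∏ x ∈ Sᶜ.erase i, q x) * q i
      = (∏ i ∈ S, p i) * ((q i * q i) * ∏ x ∈ Sᶜ.erase i, q x) := by ring
    _ = _ := by rw [hqq]

/-- product formula for orthogonal elements -/
theorem prod_one_sub {J : Type*} [DecidableEq J] (e : J → R) (T : Finset J)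
    (h : ∀ i ∈ T, ∀ j ∈ T, i ≠ j → e i * e j = 0) :
    ∏ j ∈ T, (1 - e j) = 1 - ∑ j ∈ T, e j := by
  induction T using Finset.induction_on with
  | empty => simp
  | insert a T ha ih =>
    rw [Finset.prod_insert ha, Finset.sum_insert ha, ih fun i hi j hj hij =>
      h i (Finset.mem_insert_of_mem hi) j (Finset.mem_insert_of_mem hj) hij]
    have : e a * ∑ j ∈ T, e j = 0 := by
      rw [Finset.mul_sum]
      refine Finset.sum_eq_zero fun j hj => ?_
      exact h a (Finset.mem_insert_self a T) j (Finset.mem_insert_of_mem hj)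
        (fun haj => ha (haj ▸ hj))
    linear_combination this

end idem

section L3

variable {R : Type*} [CommRing R] {n : ℕ}

/-- If `∏ (X - t i) = G * H` with `G`, `H` monic comaximal, and the roots `t i`, `i ∈ S` are
"roots of `H`" while the others are "roots of `G`", then `H = ∏_{i ∈ S} (X - t i)`. -/
theorem prod_eq_of_roots (t : Fin n → R) (G H u v : R[X]) (hG : G.Monic) (hH : H.Monic)
    (hprod : ∏ i, (X - C (t i)) = G * H) (S : Finset (Fin n))
    (hS : ∀ i ∈ S, (u * G).eval (t i) = 1) (hS' : ∀ i ∉ S, (v * H).eval (t i) = 1) :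
    ∏ i ∈ S, (X - C (t i)) = H ∧ ∏ i ∈ Sᶜ, (X - C (t i)) = G := by
  have hcop : ∀ (P : R[X]) (w : R[X]) (a : R), (w * P).eval a = 1 → IsCoprime (X - C a) P := by
    intro P w a h
    obtain ⟨c, hc⟩ := Polynomial.X_sub_C_dvd_sub_C_eval (a := a) (p := P)
    refine ⟨-(C (w.eval a) * c), C (w.eval a), ?_⟩
    rw [eval_mul] at h
    have : C (w.eval a) * P - C (w.eval a) * (X - C a) * c = C (w.eval a * P.eval a) := by
      rw [C_mul, mul_assoc, ← mul_sub, ← hc]; ring
    rw [h, C_1] at this
    linear_combination this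
  have h1 : IsCoprime (∏ i ∈ S, (X - C (t i))) G :=
    IsCoprime.prod_left fun i hi => hcop G u (t i) (hS i hi)
  have h2 : IsCoprime (∏ i ∈ Sᶜ, (X - C (t i))) H :=
    IsCoprime.prod_left fun i hi => hcop H v (t i) (hS' i (Finset.mem_compl.mp hi))
  have hmul : (∏ i ∈ S, (X - C (t i))) * ∏ i ∈ Sᶜ, (X - C (t i)) = G * H := by
    rw [Finset.prod_mul_prod_compl, hprod]
  obtain ⟨a, ha⟩ : (∏ i ∈ S, (X - C (t i))) ∣ H :=
    h1.dvd_of_dvd_mul_left ⟨_, hmul.symm⟩
  obtain ⟨b, hb⟩ : (∏ i ∈ Sᶜ, (X - C (t i))) ∣ G :=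
    h2.dvd_of_dvd_mul_right ⟨_, by rw [← hmul, mul_comm]⟩
  have hmS : (∏ i ∈ S, (X - C (t i))).Monic := monic_prod_of_monic _ _ fun i _ => monic_X_sub_C _
  have hmS' : (∏ i ∈ Sᶜ, (X - C (t i))).Monic :=
    monic_prod_of_monic _ _ fun i _ => monic_X_sub_C _
  have ham : a.Monic := hmS.of_mul_monic_left (ha ▸ hH)
  have hbm : b.Monic := hmS'.of_mul_monic_left (hb ▸ hG)
  have hab : a * b = 1 := by
    have h3 : ((∏ i ∈ S, (X - C (t i))) * ∏ i ∈ Sᶜ, (X - C (t i))) * (a * b) =
        ((∏ i ∈ S, (X - C (t i))) * ∏ i ∈ Sᶜ, (X - C (t i))) * 1 := by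
      rw [mul_one]
      calc ((∏ i ∈ S, (X - C (t i))) * ∏ i ∈ Sᶜ, (X - C (t i))) * (a * b)
          = ((∏ i ∈ Sᶜ, (X - C (t i))) * b) * ((∏ i ∈ S, (X - C (t i))) * a) := by ring
        _ = G * H := by rw [← ha, ← hb]
        _ = _ := hmul.symm
    exact (hmS.mul hmS').isRegular.left h3
  have hdeg := congrArg natDegree hab
  rw [ham.natDegree_mul hbm, natDegree_one] at hdeg
  have ha1 : a = 1 := eq_one_of_monic_natDegree_zero ham (by omega)
  have hb1 : b = 1 := eq_one_of_monic_natDegree_zero hbm (by omega)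
  rw [ha1, mul_one] at ha
  rw [hb1, mul_one] at hb
  exact ⟨ha.symm, hb.symm⟩

end L3



section L3'

variable {R : Type*} [CommRing R] {n : ℕ}

theorem eps_idem {κ : Type*} [Fintype κ] [DecidableEq κ] (p q : κ → R) (hpq : ∀ i, p i + q i = 1)
    (h0 : ∀ i, p i * q i = 0) (S : Finset κ) : eps p q S * eps p q S = eps p q S := by
  have h1 := congrArg (fun x => eps p q S * x) (sum_eps p q hpq)
  simp only [mul_one, Finset.mul_sum] at h1
  rw [Finset.sum_eq_single S (fun S' _ hS' => eps_mul_eps p q h0 (Ne.symm hS'))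
    (fun h => absurd (Finset.mem_univ S) h)] at h1
  exact h1

theorem eval_map_mk {R' : Type*} [CommRing R'] (κ : R →+* R') (P : R[X]) (a : R) :
    (P.map κ).eval (κ a) = κ (P.eval a) := by
  rw [eval_map, eval₂_at_apply]

/-- the key local statement for the idempotents `ε_S` -/
theorem eps_props (t : Fin n → R) (G H u v : R[X]) (hG : G.Monic) (hH : H.Monic)
    (huv : u * G + v * H = 1) (hprod : ∏ i, (X - C (t i)) = G * H) :
    (∀ i, (u * G).eval (t i) + (v * H).eval (t i) = 1) ∧
    (∀ i, (u * G).eval (t i) * (v * H).eval (t i) = 0) ∧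
    ∀ S : Finset (Fin n),
      (C (eps (fun i => (u * G).eval (t i)) (fun i => (v * H).eval (t i)) S) *
          ∏ i ∈ S, (X - C (t i)) =
        C (eps (fun i => (u * G).eval (t i)) (fun i => (v * H).eval (t i)) S) * H) ∧
      (C (eps (fun i => (u * G).eval (t i)) (fun i => (v * H).eval (t i)) S) *
          ∏ i ∈ Sᶜ, (X - C (t i)) =
        C (eps (fun i => (u * G).eval (t i)) (fun i => (v * H).eval (t i)) S) * G) ∧
      (S.card ≠ H.natDegree →
        eps (fun i => (u * G).eval (t i)) (fun i => (v * H).eval (t i)) S = 0) := by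
  have hpq : ∀ i, (u * G).eval (t i) + (v * H).eval (t i) = 1 := by
    intro i
    rw [← eval_add, huv, eval_one]
  have h0 : ∀ i, (u * G).eval (t i) * (v * H).eval (t i) = 0 := by
    intro i
    rw [← eval_mul, show u * G * (v * H) = u * v * (G * H) by ring, ← hprod, eval_mul,
      eval_prod, Finset.prod_eq_zero (Finset.mem_univ i) (by simp), mul_zero]
  refine ⟨hpq, h0, fun S => ?_⟩
  set p : Fin n → R := fun i => (u * G).eval (t i) with hp
  set q : Fin n → R := fun i => (v * H).eval (t i) with hq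
  set ε := eps p q S with hε
  have hεε : ε * ε = ε := eps_idem p q hpq h0 S
  let κ : R →+* R ⧸ Ideal.span {1 - ε} := Ideal.Quotient.mk _
  have hκε : κ ε = 1 := by
    have : κ (1 - ε) = 0 := Ideal.Quotient.eq_zero_iff_mem.mpr (Ideal.subset_span rfl)
    rw [map_sub, map_one, sub_eq_zero] at this
    exact this.symm
  have hker : ∀ x, κ x = 0 → ε * x = 0 := by
    intro x hx
    obtain ⟨c, hc⟩ := Ideal.mem_span_singleton'.mp (Ideal.Quotient.eq_zero_iff_mem.mp hx)
    rw [← hc]
    linear_combination (-c) * hεε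
  have hkerP : ∀ P : R[X], P.map κ = 0 → C ε * P = 0 := by
    intro P hP
    ext k
    rw [coeff_C_mul, coeff_zero]
    exact hker _ (by rw [← coeff_map, hP, coeff_zero])
  have hmain := prod_eq_of_roots (fun i => κ (t i)) (G.map κ) (H.map κ) (u.map κ) (v.map κ)
    (hG.map κ) (hH.map κ)
    (by
      rw [← Polynomial.map_mul, ← hprod, Polynomial.map_prod]
      simp) S
    (by
      intro i hi
      rw [← Polynomial.map_mul, eval_map_mk]
      have := congrArg κ (eps_mul_p p q hpq h0 hi)
      rw [map_mul, ← hε, hκε, one_mul] at this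
      exact this)
    (by
      intro i hi
      rw [← Polynomial.map_mul, eval_map_mk]
      have := congrArg κ (eps_mul_q p q hpq h0 hi)
      rw [map_mul, ← hε, hκε, one_mul] at this
      exact this)
  have hmapS : ∀ T : Finset (Fin n), ∏ i ∈ T, (X - C (κ (t i))) =
      (∏ i ∈ T, (X - C (t i))).map κ := by
    intro T
    rw [Polynomial.map_prod]
    simp
  refine ⟨?_, ?_, ?_⟩
  · have := hkerP (∏ i ∈ S, (X - C (t i)) - H) (by
      rw [Polynomial.map_sub, ← hmapS, hmain.1, sub_self])
    rw [mul_sub, sub_eq_zero] at this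
    exact this
  · have := hkerP (∏ i ∈ Sᶜ, (X - C (t i)) - G) (by
      rw [Polynomial.map_sub, ← hmapS, hmain.2, sub_self])
    rw [mul_sub, sub_eq_zero] at this
    exact this
  · intro hcard
    by_contra hne
    have hnt : Nontrivial (R ⧸ Ideal.span {1 - ε}) := by
      rw [Ideal.Quotient.nontrivial_iff]
      intro htop
      apply hne
      have h1 : κ 1 = 0 := Ideal.Quotient.eq_zero_iff_mem.mpr (htop ▸ Submodule.mem_top)
      have := hker 1 h1
      rwa [mul_one] at this
    have h1 := congrArg natDegree hmain.1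
    rw [natDegree_prod_of_monic _ _ (fun i _ => monic_X_sub_C _), (hH.natDegree_map κ)] at h1
    simp only [natDegree_X_sub_C, Finset.sum_const, smul_eq_mul, mul_one] at h1
    exact hcard h1

end L3'




section L5

variable {D Db : Type*} [CommRing D] [CommRing Db] (π : D →+* Db) {J : Type*} [Fintype J]
  [DecidableEq J] (c : J → D) (e : J → Db) (he : ∀ j, π (c j) = e j)
  (horth : ∀ i j, i ≠ j → e i * e j = 0) (hsum : ∑ j, e j = 1) (α : D) (hα : π α = 1)

include he horth hsum hα

theorem map_prod_erase (j : J) : π (∏ j' ∈ Finset.univ.erase j, (α - c j')) = e j := by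
  rw [map_prod]
  simp only [map_sub, hα, he]
  rw [prod_one_sub e _ (fun i _ j _ hij => horth i j hij),
    Finset.sum_erase_eq_sub (Finset.mem_univ j), hsum]
  ring

theorem map_prod_univ : π (∏ j, (α - c j)) = 0 := by
  rw [map_prod]
  simp only [map_sub, hα, he]
  rw [prod_one_sub e _ (fun i _ j _ hij => horth i j hij), hsum, sub_self]

omit he horth hsum hα in
theorem prod_erase_mul_prod_erase {i j : J} (hij : i ≠ j) (h0 : ∏ j, (α - c j) = 0) :
    (∏ j' ∈ Finset.univ.erase i, (α - c j')) * (∏ j' ∈ Finset.univ.erase j, (α - c j')) = 0 := by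
  have hi : i ∈ Finset.univ.erase j := Finset.mem_erase.mpr ⟨hij, Finset.mem_univ i⟩
  rw [← Finset.mul_prod_erase _ (fun j' => α - c j') hi, ← mul_assoc, mul_comm _ (α - c i),
    Finset.mul_prod_erase Finset.univ (fun j' => α - c j') (Finset.mem_univ i), h0, zero_mul]

end L5

section symm

variable {A : Type*} [CommRing A] {n : ℕ}

theorem map_compl_equiv (σ : Equiv.Perm (Fin n)) (S : Finset (Fin n)) :
    (S.map σ.toEmbedding)ᶜ = Sᶜ.map σ.toEmbedding := by
  ext i
  simp only [Finset.mem_compl, Finset.mem_map_equiv]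

/-- the universal `ρ_S` -/
noncomputable def rhoU (φ : A[X]) (S : Finset (Fin n)) : MvPolynomial (Fin n) A :=
  (∏ i ∈ S, Polynomial.aeval (MvPolynomial.X i : MvPolynomial (Fin n) A) φ) *
    ∏ i ∈ Sᶜ, Polynomial.aeval (MvPolynomial.X i : MvPolynomial (Fin n) A) (1 - φ)

theorem rename_rhoU (φ : A[X]) (σ : Equiv.Perm (Fin n)) (S : Finset (Fin n)) :
    MvPolynomial.rename σ (rhoU φ S) = rhoU φ (S.map σ.toEmbedding) := by
  rw [rhoU, rhoU, map_mul, map_prod, map_prod, map_compl_equiv, Finset.prod_map, Finset.prod_map]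
  congr 1 <;>
  · refine Finset.prod_congr rfl fun i _ => ?_
    rw [← Polynomial.aeval_algHom_apply, MvPolynomial.rename_X]
    rfl

/-- the universal `θ_S` -/
noncomputable def thetaU (φ : A[X]) (α : A) (S : Finset (Fin n)) : MvPolynomial (Fin n) A :=
  ∏ S' ∈ Finset.univ.erase S, (MvPolynomial.C α - rhoU φ S')

theorem rename_thetaU (φ : A[X]) (α : A) (σ : Equiv.Perm (Fin n)) (S : Finset (Fin n)) :
    MvPolynomial.rename σ (thetaU φ α S) = thetaU φ α (S.map σ.toEmbedding) := by
  rw [thetaU, thetaU, map_prod]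
  refine Finset.prod_equiv (Equiv.finsetCongr σ) ?_ ?_
  · intro S'
    simp only [Finset.mem_erase, Finset.mem_univ, and_true, Equiv.finsetCongr_apply, ne_eq]
    rw [(Finset.map_injective σ.toEmbedding).eq_iff]
  · intro S' _
    rw [map_sub, MvPolynomial.rename_C, rename_rhoU]
    rfl

theorem map_rename_prod (φ : A[X]) (σ : Equiv.Perm (Fin n)) :
    (∏ S : Finset (Fin n), (X - C (rhoU φ S))).map (MvPolynomial.rename σ).toRingHom =
      ∏ S : Finset (Fin n), (X - C (rhoU φ S)) := by
  rw [Polynomial.map_prod]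
  refine Fintype.prod_equiv (Equiv.finsetCongr σ) _ _ fun S => ?_
  rw [Polynomial.map_sub, Polynomial.map_X, Polynomial.map_C]
  congr 2
  exact rename_rhoU φ σ S

theorem map_rename_sum (φ : A[X]) (α : A) (s : ℕ) (σ : Equiv.Perm (Fin n)) :
    (∑ S ∈ Finset.univ.filter (fun S : Finset (Fin n) => S.card = s),
      C (thetaU φ α S) * ∏ i ∈ S, (X - C (MvPolynomial.X i))).map (MvPolynomial.rename σ).toRingHom =
    ∑ S ∈ Finset.univ.filter (fun S : Finset (Fin n) => S.card = s),
      C (thetaU φ α S) * ∏ i ∈ S, (X - C (MvPolynomial.X i)) := by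
  rw [Polynomial.map_sum]
  refine Finset.sum_equiv (Equiv.finsetCongr σ) ?_ ?_
  · intro S
    simp [Equiv.finsetCongr_apply]
  · intro S _
    rw [Polynomial.map_mul, Polynomial.map_C, Polynomial.map_prod, Equiv.finsetCongr_apply,
      Finset.prod_map]
    congr 1
    · congr 1
      exact rename_thetaU φ α σ S
    · refine Finset.prod_congr rfl fun i _ => ?_
      rw [Polynomial.map_sub, Polynomial.map_X, Polynomial.map_C]
      congr 2
      exact MvPolynomial.rename_X _ _

theorem map_rename_sum' (φ : A[X]) (α : A) (s : ℕ) (σ : Equiv.Perm (Fin n)) :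
    (∑ S ∈ Finset.univ.filter (fun S : Finset (Fin n) => S.card = s),
      C (thetaU φ α S) * ∏ i ∈ Sᶜ, (X - C (MvPolynomial.X i))).map (MvPolynomial.rename σ).toRingHom =
    ∑ S ∈ Finset.univ.filter (fun S : Finset (Fin n) => S.card = s),
      C (thetaU φ α S) * ∏ i ∈ Sᶜ, (X - C (MvPolynomial.X i)) := by
  rw [Polynomial.map_sum]
  refine Finset.sum_equiv (Equiv.finsetCongr σ) ?_ ?_
  · intro S
    simp [Equiv.finsetCongr_apply]
  · intro S _
    rw [Polynomial.map_mul, Polynomial.map_C, Polynomial.map_prod, Equiv.finsetCongr_apply,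
      map_compl_equiv, Finset.prod_map]
    congr 1
    · congr 1
      exact rename_thetaU φ α σ S
    · refine Finset.prod_congr rfl fun i _ => ?_
      rw [Polynomial.map_sub, Polynomial.map_X, Polynomial.map_C]
      congr 2
      exact MvPolynomial.rename_X _ _

end symm




/-- **Hensel's lemma for coprime factorizations over a Henselian pair** (in Mathlib's sense:
simple roots lift). -/
theorem exists_factor_lift (A : Type u) [CommRing A] (I : Ideal A) [HenselianRing A I]
    (f : A[X]) (hf : f.Monic) (g₀ h₀ : (A ⧸ I)[X]) (hg₀ : g₀.Monic) (hh₀ : h₀.Monic)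
    (hc : IsCoprime g₀ h₀) (hfac : f.map (Ideal.Quotient.mk I) = g₀ * h₀) :
    ∃ g h : A[X], g.Monic ∧ h.Monic ∧ f = g * h ∧
      g.map (Ideal.Quotient.mk I) = g₀ ∧ h.map (Ideal.Quotient.mk I) = h₀ := by
  classical
  rcases subsingleton_or_nontrivial A with hsub | hnt
  · have : Subsingleton (A ⧸ I) := Function.Surjective.subsingleton Ideal.Quotient.mk_surjective
    exact ⟨1, 1, monic_one, monic_one, Subsingleton.elim _ _, Subsingleton.elim _ _,
      Subsingleton.elim _ _⟩
  have hIjac : I ≤ Ideal.jacobson ⊥ := HenselianRing.jac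
  have hItop : I ≠ ⊤ := by
    intro h
    have h1 : (1 : A) ∈ Ideal.jacobson (⊥ : Ideal A) := hIjac (h ▸ Submodule.mem_top)
    have := (Ideal.mem_jacobson_bot.mp h1) (-1)
    simp at this
  have hntq : Nontrivial (A ⧸ I) := Ideal.Quotient.nontrivial_iff.mpr hItop
  set s := h₀.natDegree with hs
  obtain ⟨D, _, _, r, t, hr1, hft⟩ := exists_splitting A f hf
  have hralg : ∀ a : A, r (algebraMap A D a) = a := by
    intro a
    rw [Algebra.algebraMap_eq_smul_one, map_smul, hr1, smul_eq_mul, mul_one]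
  have hinj : Function.Injective (algebraMap A D) := fun a b hab => by
    rw [← hralg a, ← hralg b, hab]
  have hntD' : Nontrivial D := hinj.nontrivial
  set ID : Ideal D := I.map (algebraMap A D) with hID
  have hrI : ∀ x ∈ ID, r x ∈ I := by
    intro x hx
    have hx' : x ∈ (I • ⊤ : Submodule A D) := by rw [Ideal.smul_top_eq_map]; exact hx
    refine Submodule.smul_induction_on hx' (fun a ha m _ => ?_) (fun x y hx hy => ?_)
    · rw [map_smul, smul_eq_mul]; exact I.mul_mem_right _ ha
    · rw [map_add]; exact I.add_mem hx hy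
  let π : D →+* D ⧸ ID := Ideal.Quotient.mk ID
  let ib : A ⧸ I →+* D ⧸ ID := Ideal.quotientMap ID (algebraMap A D) Ideal.le_comap_map
  have hib : ∀ a, ib (Ideal.Quotient.mk I a) = π (algebraMap A D a) := fun a =>
    Ideal.quotientMap_mk
  have hibinj : Function.Injective ib := by
    refine Ideal.quotientMap_injective' ?_
    intro a ha
    rw [Ideal.mem_comap] at ha
    rw [← hralg a]; exact hrI _ ha
  have hcomp : ib.comp (Ideal.Quotient.mk I) = π.comp (algebraMap A D) := RingHom.ext hib
  have hntD : Nontrivial (D ⧸ ID) := hibinj.nontrivial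
  obtain ⟨u₀, v₀, huv⟩ := hc
  obtain ⟨φ, hφ⟩ := Polynomial.map_surjective (Ideal.Quotient.mk I) Ideal.Quotient.mk_surjective
    (u₀ * g₀)
  have hψ : (1 - φ).map (Ideal.Quotient.mk I) = v₀ * h₀ := by
    rw [Polynomial.map_sub, Polynomial.map_one, hφ, ← huv]; ring
  -- the level of `D ⧸ ID`
  set tb : Fin f.natDegree → D ⧸ ID := fun i => π (t i) with htb
  have hprodb : ∏ i, (X - C (tb i)) = g₀.map ib * h₀.map ib := by
    rw [← Polynomial.map_mul, ← hfac, Polynomial.map_map, hcomp, ← Polynomial.map_map, hft,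
      Polynomial.map_prod]
    simp only [Polynomial.map_sub, Polynomial.map_X, Polynomial.map_C, htb]
  have huvb : u₀.map ib * g₀.map ib + v₀.map ib * h₀.map ib = 1 := by
    rw [← Polynomial.map_mul, ← Polynomial.map_mul, ← Polynomial.map_add, huv, Polynomial.map_one]
  obtain ⟨hpq, h0, hS⟩ := eps_props tb (g₀.map ib) (h₀.map ib) (u₀.map ib) (v₀.map ib)
    (hg₀.map ib) (hh₀.map ib) huvb hprodb
  set p : Fin f.natDegree → D ⧸ ID := fun i => (u₀.map ib * g₀.map ib).eval (tb i) with hp
  set q : Fin f.natDegree → D ⧸ ID := fun i => (v₀.map ib * h₀.map ib).eval (tb i) with hq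
  have hevalπ : ∀ (P : A[X]) (x : D), π (Polynomial.aeval x P) =
      ((P.map (Ideal.Quotient.mk I)).map ib).eval (π x) := by
    intro P x
    rw [Polynomial.map_map, hcomp, eval_map, Polynomial.aeval_def, hom_eval₂]
  have hpφ : ∀ i, π (Polynomial.aeval (t i) φ) = p i := by
    intro i
    rw [hevalπ, hφ, Polynomial.map_mul]
  have hqφ : ∀ i, π (Polynomial.aeval (t i) (1 - φ)) = q i := by
    intro i
    rw [hevalπ, hψ, Polynomial.map_mul]
  -- evaluation of the universal objects
  let ev : MvPolynomial (Fin f.natDegree) A →ₐ[A] D := MvPolynomial.aeval t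
  have hevρ : ∀ S, π (ev (rhoU φ S)) = eps p q S := by
    intro S
    rw [rhoU, map_mul, map_prod, map_prod, map_mul, map_prod, map_prod, eps]
    congr 1 <;>
    · refine Finset.prod_congr rfl fun i _ => ?_
      rw [← Polynomial.aeval_algHom_apply]
      simp only [ev, MvPolynomial.aeval_X]
      first | exact hpφ i | exact hqφ i
  have horth : ∀ S S' : Finset (Fin f.natDegree), S ≠ S' → eps p q S * eps p q S' = 0 :=
    fun S S' h => eps_mul_eps p q h0 h
  have hsum : ∑ S : Finset (Fin f.natDegree), eps p q S = 1 := sum_eps p q hpq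
  -- the polynomial `F`
  obtain ⟨FA, hFA⟩ := exists_map_eq f t hft (∏ S : Finset (Fin f.natDegree), (X - C (rhoU φ S)))
    (map_rename_prod φ)
  have hFA' : FA.map (algebraMap A D) = ∏ S : Finset (Fin f.natDegree), (X - C (ev (rhoU φ S))) := by
    rw [hFA, Polynomial.map_prod]
    refine Finset.prod_congr rfl fun S _ => ?_
    rw [Polynomial.map_sub, Polynomial.map_X, Polynomial.map_C]
    rfl
  have hFAm : FA.Monic := by
    refine Polynomial.monic_of_injective hinj ?_
    rw [hFA']
    exact monic_prod_of_monic _ _ fun S _ => monic_X_sub_C _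
  have hmk0 : ∀ a : A, π (algebraMap A D a) = 0 → a ∈ I := by
    intro a ha
    rw [← hib, ← map_zero ib] at ha
    exact Ideal.Quotient.eq_zero_iff_mem.mp (hibinj ha)
  have hπ1 : π 1 = 1 := map_one π
  have hF1 : FA.eval 1 ∈ I := by
    apply hmk0
    rw [← eval_map_mk, map_one, hFA', eval_prod]
    simp only [eval_sub, eval_X, eval_C]
    exact map_prod_univ π (fun S => ev (rhoU φ S)) (fun S => eps p q S) hevρ horth hsum 1 hπ1
  have hF1' : Ideal.Quotient.mk I (FA.derivative.eval 1) = 1 := by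
    apply hibinj
    rw [hib, map_one, ← eval_map_mk, map_one, ← derivative_map, hFA', derivative_prod_finset, eval_finsetSum,
      map_sum]
    rw [← hsum]
    refine Finset.sum_congr rfl fun S _ => ?_
    rw [derivative_sub, derivative_X, derivative_C, sub_zero, mul_one, eval_prod]
    simp only [eval_sub, eval_X, eval_C]
    exact map_prod_erase π (fun S => ev (rhoU φ S)) (fun S => eps p q S) hevρ horth hsum 1 hπ1 S
  obtain ⟨α, hαroot, hα1⟩ := HenselianRing.is_henselian FA hFAm 1 hF1
    (by rw [hF1']; exact isUnit_one)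
  set αD : D := algebraMap A D α with hαD
  have hmkα : Ideal.Quotient.mk I α = 1 := by
    rw [← sub_eq_zero, ← map_one (Ideal.Quotient.mk I), ← map_sub]
    exact Ideal.Quotient.eq_zero_iff_mem.mpr hα1
  have hπα : π αD = 1 := by
    rw [hαD, ← hib, hmkα, map_one]
  have hrootD : ∏ S : Finset (Fin f.natDegree), (αD - ev (rhoU φ S)) = 0 := by
    have h1 : (FA.map (algebraMap A D)).eval αD = 0 := by
      rw [hαD, eval_map_mk, hαroot, map_zero]
    rw [hFA', eval_prod] at h1
    simpa only [eval_sub, eval_X, eval_C] using h1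
  set θ : Finset (Fin f.natDegree) → D :=
    fun S => ∏ S' ∈ Finset.univ.erase S, (αD - ev (rhoU φ S')) with hθ
  have hθU : ∀ S, ev (thetaU φ α S) = θ S := by
    intro S
    rw [thetaU, map_prod]
    refine Finset.prod_congr rfl fun S' _ => ?_
    rw [map_sub]
    congr 1
    exact MvPolynomial.aeval_C _ _
  have hθθ : ∀ S S', S ≠ S' → θ S * θ S' = 0 := fun S S' h =>
    prod_erase_mul_prod_erase (fun S => ev (rhoU φ S)) αD h hrootD
  have hπθ : ∀ S, π (θ S) = eps p q S := fun S =>
    map_prod_erase π (fun S => ev (rhoU φ S)) (fun S => eps p q S) hevρ horth hsum αD hπα S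
  set 𝒮 := Finset.univ.filter (fun S : Finset (Fin f.natDegree) => S.card = s) with h𝒮
  obtain ⟨hA, hhA⟩ := exists_map_eq f t hft _ (map_rename_sum φ α s)
  obtain ⟨gA, hgA⟩ := exists_map_eq f t hft _ (map_rename_sum' φ α s)
  have hhA' : hA.map (algebraMap A D) = ∑ S ∈ 𝒮, C (θ S) * ∏ i ∈ S, (X - C (t i)) := by
    rw [hhA, Polynomial.map_sum]
    refine Finset.sum_congr rfl fun S _ => ?_
    rw [Polynomial.map_mul, Polynomial.map_C, Polynomial.map_prod]
    congr 1
    · congr 1
      exact hθU S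
    · refine Finset.prod_congr rfl fun i _ => ?_
      rw [Polynomial.map_sub, Polynomial.map_X, Polynomial.map_C]
      congr 2
      exact MvPolynomial.aeval_X _ _
  have hgA' : gA.map (algebraMap A D) = ∑ S ∈ 𝒮, C (θ S) * ∏ i ∈ Sᶜ, (X - C (t i)) := by
    rw [hgA, Polynomial.map_sum]
    refine Finset.sum_congr rfl fun S _ => ?_
    rw [Polynomial.map_mul, Polynomial.map_C, Polynomial.map_prod]
    congr 1
    · congr 1
      exact hθU S
    · refine Finset.prod_congr rfl fun i _ => ?_
      rw [Polynomial.map_sub, Polynomial.map_X, Polynomial.map_C]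
      congr 2
      exact MvPolynomial.aeval_X _ _
  set ΘD : D := ∑ S ∈ 𝒮, θ S with hΘD
  have hM5 : ΘD * ΘD = ∑ S ∈ 𝒮, θ S * θ S := by
    rw [hΘD, Finset.sum_mul_sum]
    refine Finset.sum_congr rfl fun S hS' => ?_
    exact Finset.sum_eq_single S (fun S' _ hne => hθθ S S' (Ne.symm hne)) (fun h => absurd hS' h)
  have hM4 : hA.map (algebraMap A D) * gA.map (algebraMap A D) =
      C (ΘD * ΘD) * f.map (algebraMap A D) := by
    rw [hhA', hgA', Finset.sum_mul_sum, hM5, map_sum, Finset.sum_mul]
    refine Finset.sum_congr rfl fun S hS' => ?_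
    rw [Finset.sum_eq_single S]
    · rw [hft, ← Finset.prod_mul_prod_compl S, C_mul]
      ring
    · intro S' _ hne
      have : C (θ S) * C (θ S') = 0 := by rw [← C_mul, hθθ S S' (Ne.symm hne), C_0]
      calc (C (θ S) * ∏ i ∈ S, (X - C (t i))) * (C (θ S') * ∏ i ∈ S'ᶜ, (X - C (t i)))
          = (C (θ S) * C (θ S')) * ((∏ i ∈ S, (X - C (t i))) * ∏ i ∈ S'ᶜ, (X - C (t i))) := by
            ring
        _ = 0 := by rw [this, zero_mul]
    · exact fun h => absurd hS' h
  -- leading coefficients
  have hcoeffS : ∀ S ∈ 𝒮, (∏ i ∈ S, (X - C (t i))).natDegree = s := by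
    intro S hS'
    rw [natDegree_prod_of_monic _ _ (fun i _ => monic_X_sub_C _)]
    simp only [natDegree_X_sub_C, Finset.sum_const, smul_eq_mul, mul_one]
    exact (Finset.mem_filter.mp hS').2
  have hcoeffS' : ∀ S ∈ 𝒮, (∏ i ∈ Sᶜ, (X - C (t i))).natDegree = f.natDegree - s := by
    intro S hS'
    rw [natDegree_prod_of_monic _ _ (fun i _ => monic_X_sub_C _)]
    simp only [natDegree_X_sub_C, Finset.sum_const, smul_eq_mul, mul_one]
    rw [Finset.card_compl, Fintype.card_fin, (Finset.mem_filter.mp hS').2]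
  have hmonS : ∀ S : Finset (Fin f.natDegree), (∏ i ∈ S, (X - C (t i))).Monic := fun S =>
    monic_prod_of_monic _ _ fun i _ => monic_X_sub_C _
  set Θ : A := hA.coeff s with hΘ
  have hΘalg : algebraMap A D Θ = ΘD := by
    rw [hΘ, ← coeff_map, hhA', finsetSum_coeff]
    refine Finset.sum_congr rfl fun S hS' => ?_
    rw [coeff_C_mul, ← hcoeffS S hS', (hmonS S).coeff_natDegree, mul_one]
  have hΘalg' : algebraMap A D (gA.coeff (f.natDegree - s)) = ΘD := by
    rw [← coeff_map, hgA', finsetSum_coeff]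
    refine Finset.sum_congr rfl fun S hS' => ?_
    rw [coeff_C_mul, ← hcoeffS' S hS', (hmonS Sᶜ).coeff_natDegree, mul_one]
  have hΘg : gA.coeff (f.natDegree - s) = Θ := hinj (hΘalg'.trans hΘalg.symm)
  have hdegH : (h₀.map ib).natDegree = s := hh₀.natDegree_map ib
  have hsum𝒮 : ∑ S ∈ 𝒮, eps p q S = 1 := by
    rw [← hsum]
    refine Finset.sum_subset (Finset.subset_univ _) fun S _ hS' => ?_
    refine (hS S).2.2 ?_
    rw [hdegH]
    intro hcard
    exact hS' (Finset.mem_filter.mpr ⟨Finset.mem_univ S, hcard⟩)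
  have hπΘ : π ΘD = 1 := by
    rw [hΘD, map_sum, ← hsum𝒮]
    exact Finset.sum_congr rfl fun S _ => hπθ S
  have hmkΘ : Ideal.Quotient.mk I Θ = 1 := by
    apply hibinj
    rw [hib, hΘalg, hπΘ, map_one]
  have hΘunit : IsUnit Θ := by
    have h1 : Θ - 1 ∈ I := by
      rw [← Ideal.Quotient.eq_zero_iff_mem, map_sub, hmkΘ, map_one, sub_self]
    have := Ideal.mem_jacobson_bot.mp (hIjac h1) 1
    simpa using this
  obtain ⟨Θi, hΘi⟩ := hΘunit.exists_right_inv
  have hmkΘi : Ideal.Quotient.mk I Θi = 1 := by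
    have := congrArg (Ideal.Quotient.mk I) hΘi
    rwa [map_mul, hmkΘ, one_mul, map_one] at this
  have hM6 : hA * gA = C (Θ * Θ) * f := by
    apply Polynomial.map_injective _ hinj
    rw [Polynomial.map_mul, hM4, Polynomial.map_mul, Polynomial.map_C, (algebraMap A D).map_mul Θ Θ,
      hΘalg]
  have hdeghA : hA.natDegree ≤ s := by
    rw [← natDegree_map_eq_of_injective hinj, hhA']
    refine natDegree_sum_le_of_forall_le _ _ fun S hS' => ?_
    exact (natDegree_C_mul_le _ _).trans (hcoeffS S hS').le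
  have hdeggA : gA.natDegree ≤ f.natDegree - s := by
    rw [← natDegree_map_eq_of_injective hinj, hgA']
    refine natDegree_sum_le_of_forall_le _ _ fun S hS' => ?_
    exact (natDegree_C_mul_le _ _).trans (hcoeffS' S hS').le
  refine ⟨C Θi * gA, C Θi * hA, ?_, ?_, ?_, ?_, ?_⟩
  · refine monic_of_natDegree_le_of_coeff_eq_one (f.natDegree - s)
      ((natDegree_C_mul_le _ _).trans hdeggA) ?_
    rw [coeff_C_mul, hΘg, mul_comm, hΘi]
  · refine monic_of_natDegree_le_of_coeff_eq_one s ((natDegree_C_mul_le _ _).trans hdeghA) ?_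
    rw [coeff_C_mul, ← hΘ, mul_comm, hΘi]
  · calc f = C ((Θ * Θi) * (Θ * Θi)) * f := by rw [hΘi, mul_one, C_1, one_mul]
      _ = C Θi * C Θi * (C (Θ * Θ) * f) := by
        have : C ((Θ * Θi) * (Θ * Θi)) = C Θi * C Θi * C (Θ * Θ) := by
          rw [← C_mul, ← C_mul]; congr 1; ring
        rw [this, mul_assoc]
      _ = C Θi * gA * (C Θi * hA) := by rw [← hM6]; ring
  · apply Polynomial.map_injective ib hibinj
    rw [Polynomial.map_map, hcomp, ← Polynomial.map_map, Polynomial.map_mul, Polynomial.map_C, hgA',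
      Polynomial.map_mul, Polynomial.map_C, Polynomial.map_sum]
    have h1 : π (algebraMap A D Θi) = 1 := by rw [← hib, hmkΘi, map_one]
    rw [h1, C_1, one_mul]
    have : ∀ S ∈ 𝒮, (C (θ S) * ∏ i ∈ Sᶜ, (X - C (t i))).map π = C (eps p q S) * g₀.map ib := by
      intro S _
      rw [Polynomial.map_mul, Polynomial.map_C, hπθ, Polynomial.map_prod, ← (hS S).2.1]
      congr 1
      refine Finset.prod_congr rfl fun i _ => ?_
      rw [Polynomial.map_sub, Polynomial.map_X, Polynomial.map_C]
    rw [Finset.sum_congr rfl this, ← Finset.sum_mul, ← map_sum, hsum𝒮, C_1, one_mul]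
  · apply Polynomial.map_injective ib hibinj
    rw [Polynomial.map_map, hcomp, ← Polynomial.map_map, Polynomial.map_mul, Polynomial.map_C, hhA',
      Polynomial.map_mul, Polynomial.map_C, Polynomial.map_sum]
    have h1 : π (algebraMap A D Θi) = 1 := by rw [← hib, hmkΘi, map_one]
    rw [h1, C_1, one_mul]
    have : ∀ S ∈ 𝒮, (C (θ S) * ∏ i ∈ S, (X - C (t i))).map π = C (eps p q S) * h₀.map ib := by
      intro S _
      rw [Polynomial.map_mul, Polynomial.map_C, hπθ, Polynomial.map_prod, ← (hS S).1]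
      congr 1
      refine Finset.prod_congr rfl fun i _ => ?_
      rw [Polynomial.map_sub, Polynomial.map_X, Polynomial.map_C]
    rw [Finset.sum_congr rfl this, ← Finset.sum_mul, ← map_sum, hsum𝒮, C_1, one_mul]

end Groth.Agent.Lib.helper3.PairFactor
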