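import Mathlib
import Groth.Agent.Lib.helper3.PairFactor

open Polynomial

namespace Groth.Agent.Lib.helper3.PairIdem

universe u

/-- For an integral extension `A → B`, the extension of an ideal contained in the Jacobson radical
is contained in the Jacobson radical. -/
theorem map_le_jacobson_of_isIntegral {A B : Type*} [CommRing A] [CommRing B] [Algebra A B]
    [Algebra.IsIntegral A B] (I : Ideal A) (hI : I ≤ Ideal.jacobson ⊥) :
    I.map (algebraMap A B) ≤ Ideal.jacobson ⊥ := by
  rw [Ideal.jacobson]
  refine le_sInf fun M hM => ?_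
  obtain ⟨-, hMmax⟩ := hM
  rw [Ideal.map_le_iff_le_comap]
  have hmax : (M.comap (algebraMap A B)).IsMaximal :=
    Ideal.isMaximal_comap_of_isIntegral_of_isMaximal M
  refine hI.trans ?_
  rw [Ideal.jacobson]
  exact sInf_le ⟨bot_le, hmax⟩

/-- two idempotents congruent modulo the Jacobson radical are equal -/
theorem idem_eq_of_sub_mem_jacobson {B : Type*} [CommRing B] {e e' : B} (he : IsIdempotentElem e)
    (he' : IsIdempotentElem e') (h : e - e' ∈ Ideal.jacobson (⊥ : Ideal B)) : e = e' := by
  have h3 : (e - e') * (1 - (e - e') * (e - e')) = 0 := by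
    have h1 : e * e = e := he
    have h2 : e' * e' = e' := he'
    linear_combination (-1 - e + 3 * e') * h1 + (1 + e' - 3 * e) * h2
  have hu : IsUnit (1 - (e - e') * (e - e')) := by
    have := Ideal.mem_jacobson_bot.mp h (-(e - e'))
    have h4 : (e - e') * -(e - e') + 1 = 1 - (e - e') * (e - e') := by ring
    rwa [h4] at this
  exact sub_eq_zero.mp (hu.mul_left_eq_zero.mp h3)

section bij

variable (A : Type u) [CommRing A] (I : Ideal A) [HenselianRing A I]
  (B : Type*) [CommRing B] [Algebra A B] [Algebra.IsIntegral A B]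

/-- **Idempotents lift uniquely along `B → B/IB` for an integral algebra over a Henselian pair.** -/
theorem bijOn_of_henselian :
    Set.BijOn (Ideal.Quotient.mk (Ideal.map (algebraMap A B) I))
      {e : B | IsIdempotentElem e} {e | IsIdempotentElem e} := by
  have hIjac : I ≤ Ideal.jacobson ⊥ := HenselianRing.jac
  set IB := Ideal.map (algebraMap A B) I with hIB
  have hIBjac : IB ≤ Ideal.jacobson ⊥ := map_le_jacobson_of_isIntegral I hIjac
  refine ⟨fun e he => he.map _, ?_, ?_⟩
  · intro e he e' he' h
    refine idem_eq_of_sub_mem_jacobson he he' (hIBjac ?_)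
    rw [← Ideal.Quotient.eq_zero_iff_mem, map_sub, h, sub_self]
  · intro eb heb
    obtain ⟨b, rfl⟩ := Ideal.Quotient.mk_surjective eb
    have heb' : Ideal.Quotient.mk IB b * Ideal.Quotient.mk IB b = Ideal.Quotient.mk IB b := heb
    rcases subsingleton_or_nontrivial B with hsub | hnt
    · exact ⟨0, IsIdempotentElem.zero, Subsingleton.elim _ _⟩
    have hz : b * b - b ∈ IB := by
      rw [← Ideal.Quotient.eq_zero_iff_mem, map_sub, map_mul, heb', sub_self]
    obtain ⟨P, hPm, hPz, hPc⟩ := Polynomial.exists_monic_aeval_eq_zero_forall_mem_of_mem_map hz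
    set d := P.natDegree with hd
    have hd0 : d ≠ 0 := by
      intro h0
      have : P = 1 := eq_one_of_monic_natDegree_zero hPm (hd ▸ h0)
      rw [this, map_one] at hPz
      exact one_ne_zero hPz
    -- reduction of P
    have hPmap : P.map (Ideal.Quotient.mk I) = X ^ d := by
      ext i
      rw [coeff_map, coeff_X_pow]
      split_ifs with hi
      · rw [hi, hd, hPm.coeff_natDegree, map_one]
      · exact Ideal.Quotient.eq_zero_iff_mem.mpr (hPc i hi)
    have hntA : Nontrivial A := by
      by_contra h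
      rw [not_nontrivial_iff_subsingleton] at h
      have h1 : (1 : B) = 0 := by
        rw [← map_one (algebraMap A B), Subsingleton.elim (1 : A) 0, map_zero]
      exact one_ne_zero h1
    set Q : A[X] := X * (X - C 1) with hQ
    have hQm : Q.Monic := monic_X.mul (monic_X_sub_C 1)
    have hQd : Q.natDegree = 2 := by
      rw [hQ, monic_X.natDegree_mul (monic_X_sub_C 1), natDegree_X, natDegree_X_sub_C]
    set f := P.comp Q with hf
    have hfm : f.Monic := hPm.comp hQm (by rw [hQd]; norm_num)
    have hfb : aeval b f = 0 := by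
      rw [hf, aeval_comp]
      have : aeval b Q = b * b - b := by
        simp only [hQ, map_mul, aeval_X, map_sub, map_one]
        ring
      rw [this, hPz]
    have hfmap : f.map (Ideal.Quotient.mk I) = X ^ d * (X - C 1) ^ d := by
      rw [hf, map_comp, hPmap, hQ, X_pow_comp, Polynomial.map_mul, Polynomial.map_sub,
        Polynomial.map_X, Polynomial.map_C, map_one, mul_pow]
    have hcop : IsCoprime (X ^ d : (A ⧸ I)[X]) ((X - C 1) ^ d) := by
      refine IsCoprime.pow ⟨1, -1, ?_⟩
      rw [C_1]; ring
    obtain ⟨g, h, hgm, hhm, hfgh, hg, hh⟩ := Groth.Agent.Lib.helper3.PairFactor.exists_factor_lift A I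
      f hfm (X ^ d) ((X - C 1) ^ d) (monic_X_pow d) ((monic_X_sub_C 1).pow d) hcop hfmap
    -- reductions
    let ι : A ⧸ I →+* B ⧸ IB := Ideal.quotientMap IB (algebraMap A B) Ideal.le_comap_map
    have hcomp' : ∀ a, ι (Ideal.Quotient.mk I a) = Ideal.Quotient.mk IB (algebraMap A B a) :=
      fun a => Ideal.quotientMap_mk
    have hcomp : ι.comp (Ideal.Quotient.mk I) = (Ideal.Quotient.mk IB).comp (algebraMap A B) :=
      RingHom.ext hcomp'
    have hev : ∀ R : A[X], Ideal.Quotient.mk IB (aeval b R) =
        (R.map (Ideal.Quotient.mk I)).eval₂ ι (Ideal.Quotient.mk IB b) := by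
      intro R
      rw [eval₂_map, hcomp, aeval_def, hom_eval₂]
    set G := aeval b g with hG
    set H := aeval b h with hH
    have hGH : G * H = 0 := by rw [hG, hH, ← map_mul, ← hfgh, hfb]
    set eb := Ideal.Quotient.mk IB b with heb0
    have hGb : Ideal.Quotient.mk IB G = eb := by
      rw [hG, hev, hg, eval₂_pow, eval₂_X]
      obtain ⟨k, hk⟩ := Nat.exists_eq_succ_of_ne_zero hd0
      rw [hk]
      exact IsIdempotentElem.pow_succ_eq k heb
    have hHb : Ideal.Quotient.mk IB H = (eb - 1) ^ d := by
      rw [hH, hev, hh, eval₂_pow, eval₂_sub, eval₂_X, eval₂_C, map_one]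
    set w := G + (-1) ^ d * H with hw
    have hwb : Ideal.Quotient.mk IB w = 1 := by
      rw [hw, map_add, map_mul, map_pow, map_neg, map_one, hGb, hHb, ← mul_pow]
      have h1 : (-1 : B ⧸ IB) * (eb - 1) = 1 - eb := by ring
      rw [h1]
      obtain ⟨k, hk⟩ := Nat.exists_eq_succ_of_ne_zero hd0
      rw [hk, IsIdempotentElem.pow_succ_eq k (IsIdempotentElem.one_sub heb)]
      ring
    have hwu : IsUnit w := by
      have h1 : w - 1 ∈ IB := by
        rw [← Ideal.Quotient.eq_zero_iff_mem, map_sub, hwb, map_one, sub_self]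
      have := Ideal.mem_jacobson_bot.mp (hIBjac h1) 1
      simpa using this
    obtain ⟨w', hw'⟩ := hwu.exists_right_inv
    have hw'b : Ideal.Quotient.mk IB w' = 1 := by
      have := congrArg (Ideal.Quotient.mk IB) hw'
      rwa [map_mul, hwb, one_mul, map_one] at this
    refine ⟨G * w', ?_, ?_⟩
    · change G * w' * (G * w') = G * w'
      have h2 : G * (G - w) = 0 := by
        rw [hw]
        linear_combination (-(-1) ^ d) * hGH
      linear_combination (w' * w') * h2 + (G * w') * hw'
    · rw [map_mul, hGb, hw'b, mul_one]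

end bij

/-- injectivity on idempotents for all residue fields forces `I ≤ jacobson ⊥` -/
theorem le_jacobson_of_injOn (A : Type u) [CommRing A] (I : Ideal A)
    (H : ∀ (m : Ideal A), m.IsMaximal →
      Set.InjOn (Ideal.Quotient.mk (Ideal.map (algebraMap A (A ⧸ m)) I))
        {e : A ⧸ m | IsIdempotentElem e}) : I ≤ Ideal.jacobson ⊥ := by
  rw [Ideal.jacobson]
  refine le_sInf fun m hm => ?_
  obtain ⟨-, hmax⟩ := hm
  intro a ha
  by_contra ham
  obtain ⟨y, i, hi, hyi⟩ := hmax.exists_inv ham
  have h1 : (1 : A ⧸ m) ∈ Ideal.map (algebraMap A (A ⧸ m)) I := by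
    have h2 : algebraMap A (A ⧸ m) a ∈ Ideal.map (algebraMap A (A ⧸ m)) I :=
      Ideal.mem_map_of_mem _ ha
    have h3 : (1 : A ⧸ m) = Ideal.Quotient.mk m y * algebraMap A (A ⧸ m) a := by
      rw [← map_one (Ideal.Quotient.mk m), ← hyi, map_add, map_mul,
        Ideal.Quotient.eq_zero_iff_mem.mpr hi, add_zero]
      rfl
    rw [h3]
    exact Ideal.mul_mem_left _ _ h2
  have h4 := H m hmax (show (1 : A ⧸ m) ∈ _ from IsIdempotentElem.one)
    (show (0 : A ⧸ m) ∈ _ from IsIdempotentElem.zero) (by
    rw [map_zero]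
    exact Ideal.Quotient.eq_zero_iff_mem.mpr h1)
  have : (1 : A) ∈ m := Ideal.Quotient.eq_zero_iff_mem.mp h4
  exact hmax.ne_top ((Ideal.eq_top_iff_one m).mpr this)

end Groth.Agent.Lib.helper3.PairIdem
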