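import Mathlib

open Polynomial

namespace Groth.Agent.Lib.helper3.PairEtale

universe u

section Z

variable {A A' : Type*} [CommRing A] [CommRing A'] [Algebra A A']

/-- the "agreement" property of an element `t` with respect to a subalgebra `S` -/
def Agree (S : Subalgebra A A') (t : A') : Prop := ∀ x : A', ∃ n : ℕ, t ^ n * x ∈ S

theorem Agree.mono {S S' : Subalgebra A A'} (h : S ≤ S') {t : A'} (ht : Agree S t) : Agree S' t :=
  fun x => (ht x).imp fun _ hn => h hn

theorem Agree.mul_left {S : Subalgebra A A'} {t : A'} (ht : Agree S t) {b : A'} (hb : b ∈ S) :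
    Agree S (b * t) := by
  intro x
  obtain ⟨n, hn⟩ := ht x
  refine ⟨n, ?_⟩
  rw [mul_pow, mul_assoc]
  exact S.mul_mem (S.pow_mem hb n) hn

theorem Agree.add {S : Subalgebra A A'} {u v : A'} (hu : Agree S u) (hv : Agree S v)
    (huS : u ∈ S) (hvS : v ∈ S) : Agree S (u + v) := by
  intro x
  obtain ⟨n, hn⟩ := hu x
  obtain ⟨m, hm⟩ := hv x
  refine ⟨n + m, ?_⟩
  rw [add_pow, Finset.sum_mul]
  refine S.sum_mem fun i hi => ?_
  have hi' : i ≤ n + m := Nat.lt_succ_iff.mp (Finset.mem_range.mp hi)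
  by_cases hin : n ≤ i
  · have : u ^ i * v ^ (n + m - i) * ((n + m).choose i : A') * x =
        ((n + m).choose i : A') * (v ^ (n + m - i) * (u ^ (i - n) * (u ^ n * x))) := by
      rw [← Nat.sub_add_cancel hin, pow_add, Nat.add_sub_cancel]; ring
    rw [this]
    exact S.mul_mem (S.natCast_mem _) (S.mul_mem (S.pow_mem hvS _) (S.mul_mem (S.pow_mem huS _) hn))
  · have hm' : m ≤ n + m - i := by omega
    have : u ^ i * v ^ (n + m - i) * ((n + m).choose i : A') * x =
        ((n + m).choose i : A') * (u ^ i * (v ^ (n + m - i - m) * (v ^ m * x))) := by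
      have h2 : v ^ (n + m - i) = v ^ (n + m - i - m) * v ^ m := by
        rw [← pow_add, Nat.sub_add_cancel hm']
      rw [h2]; ring
    rw [this]
    exact S.mul_mem (S.natCast_mem _) (S.mul_mem (S.pow_mem huS _) (S.mul_mem (S.pow_mem hvS _) hm))

theorem Agree.sum {S : Subalgebra A A'} {ι : Type*} (F : Finset ι) (u : ι → A')
    (hu : ∀ i ∈ F, Agree S (u i)) (huS : ∀ i ∈ F, u i ∈ S) (hF : F.Nonempty) :
    Agree S (∑ i ∈ F, u i) := by
  classical
  induction hF using Finset.Nonempty.cons_induction with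
  | singleton a => simpa using hu a (by simp)
  | cons a s ha hs ih =>
    rw [Finset.sum_cons]
    refine Agree.add (hu a (by simp)) (ih (fun i hi => hu i (by simp [hi]))
      (fun i hi => huS i (by simp [hi]))) (huS a (by simp)) ?_
    exact S.sum_mem fun i hi => huS i (by simp [hi])

/-- the `A`-submodule of elements `t` agreeing with some module-finite subalgebra containing `t` -/
def agreeSub (A A' : Type*) [CommRing A] [CommRing A'] [Algebra A A'] : Submodule A A' where
  carrier := {t | ∃ S : Subalgebra A A', S.toSubmodule.FG ∧ t ∈ S ∧ Agree S t}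
  zero_mem' := ⟨⊥, by
    have : Module.Finite A (⊥ : Subalgebra A A') := inferInstance
    exact (Submodule.fg_top _).mp Module.Finite.fg_top, zero_mem _, fun x => ⟨1, by simp⟩⟩
  add_mem' := by
    rintro u v ⟨S, hS, huS, hu⟩ ⟨S', hS', hvS', hv⟩
    have : Module.Finite A S := ⟨(Submodule.fg_top _).mpr hS⟩
    have : Module.Finite A S' := ⟨(Submodule.fg_top _).mpr hS'⟩
    have hfin : Module.Finite A ↥(S ⊔ S') := Subalgebra.finite_sup S S'
    refine ⟨S ⊔ S', (Submodule.fg_top _).mp hfin.fg_top, ?_, ?_⟩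
    · exact (S ⊔ S').add_mem ((le_sup_left : S ≤ S ⊔ S') huS) ((le_sup_right : S' ≤ S ⊔ S') hvS')
    · exact Agree.add (hu.mono le_sup_left) (hv.mono le_sup_right) ((le_sup_left : S ≤ S ⊔ S') huS)
        ((le_sup_right : S' ≤ S ⊔ S') hvS')
  smul_mem' := by
    rintro a u ⟨S, hS, huS, hu⟩
    refine ⟨S, hS, S.smul_mem huS a, ?_⟩
    rw [Algebra.smul_def]
    exact hu.mul_left (S.algebraMap_mem a)

theorem mem_agreeSub {t : A'} : t ∈ agreeSub A A' ↔
    ∃ S : Subalgebra A A', S.toSubmodule.FG ∧ t ∈ S ∧ Agree S t := Iff.rfl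

/-- Zariski's main theorem at a prime, in the form used here -/
theorem exists_mem_agreeSub_notMem [Algebra.FiniteType A A'] [Algebra.QuasiFinite A A']
    (q : Ideal A') [q.IsPrime] : ∃ t ∈ agreeSub A A', t ∉ q := by
  obtain ⟨S', hS', r, hrq, hbij⟩ :=
    Algebra.QuasiFiniteAt.exists_fg_and_exists_notMem_and_awayMap_bijective (R := A) q
  refine ⟨r.1, ⟨S', hS', r.2, fun x => ?_⟩, hrq⟩
  obtain ⟨y, hy⟩ := hbij.2 (algebraMap A' (Localization.Away (S'.val.toRingHom r)) x)
  obtain ⟨⟨s, ⟨_, n, rfl⟩⟩, hys⟩ := IsLocalization.surj (Submonoid.powers r) y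
  have h1 := congrArg (Localization.awayMap S'.val.toRingHom r) hys
  rw [map_mul, hy] at h1
  simp only [Localization.awayMap, IsLocalization.Away.map, IsLocalization.map_eq] at h1
  rw [← map_mul, IsLocalization.eq_iff_exists (Submonoid.powers (S'.val.toRingHom r))] at h1
  obtain ⟨⟨_, m, rfl⟩, hc⟩ := h1
  refine ⟨m + n, ?_⟩
  have h2 : r.1 ^ (m + n) * x = (r ^ m * s : S') := by
    simp only [map_pow] at hc
    rw [pow_add, mul_assoc, mul_comm (r.1 ^ n) x]
    exact hc
  rw [h2]
  exact (r ^ m * s : S').2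

/-- **Global form of Zariski's main theorem near a closed subset `V(J)` with `A → A'/J` surjective.** -/
theorem exists_subalgebra_agree [Algebra.FiniteType A A'] [Algebra.QuasiFinite A A'] (J : Ideal A')
    (hJ : ∀ x : A', ∃ a : A, x - algebraMap A A' a ∈ J) :
    ∃ (B : Subalgebra A A') (r : A'), B.toSubmodule.FG ∧ r ∈ B ∧ r - 1 ∈ J ∧ Agree B r := by
  have htop : Ideal.span (agreeSub A A' : Set A') ⊔ J = ⊤ := by
    by_contra hne
    obtain ⟨m, hm, hle⟩ := Ideal.exists_le_maximal _ hne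
    obtain ⟨t, ht, htm⟩ := exists_mem_agreeSub_notMem (A := A) m
    exact htm (hle (Ideal.mem_sup_left (Ideal.subset_span ht)))
  have h1 : (1 : A') ∈ Ideal.span (agreeSub A A' : Set A') ⊔ J := htop ▸ Submodule.mem_top
  obtain ⟨y, hy, j, hj, hyj⟩ := Submodule.mem_sup.mp h1
  have key : ∀ y ∈ Ideal.span (agreeSub A A' : Set A'), ∃ r ∈ agreeSub A A', y - r ∈ J := by
    intro y hy
    induction hy using Submodule.span_induction with
    | mem t ht => exact ⟨t, ht, by rw [sub_self]; exact J.zero_mem⟩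
    | zero => exact ⟨0, zero_mem _, by rw [sub_self]; exact J.zero_mem⟩
    | add y z _ _ ihy ihz =>
      obtain ⟨r, hr, hyr⟩ := ihy
      obtain ⟨r', hr', hzr⟩ := ihz
      refine ⟨r + r', add_mem hr hr', ?_⟩
      have : y + z - (r + r') = (y - r) + (z - r') := by ring
      rw [this]
      exact J.add_mem hyr hzr
    | smul c y _ ihy =>
      obtain ⟨r, hr, hyr⟩ := ihy
      obtain ⟨a, ha⟩ := hJ c
      refine ⟨a • r, Submodule.smul_mem _ a hr, ?_⟩
      have : c • y - a • r = c * (y - r) + (c - algebraMap A A' a) * r := by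
        rw [smul_eq_mul, Algebra.smul_def]; ring
      rw [this]
      exact J.add_mem (J.mul_mem_left _ hyr) (J.mul_mem_right _ ha)
  obtain ⟨r, ⟨B, hB, hrB, hagree⟩, hyr⟩ := key y hy
  refine ⟨B, r, hB, hrB, ?_, hagree⟩
  have : r - 1 = -(y - r) - j := by rw [← hyj]; ring
  rw [this]
  exact J.sub_mem (J.neg_mem hyr) hj

end Z

end Groth.Agent.Lib.helper3.PairEtale
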