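import Mathlib
import Groth.Agent.Lib.helper3.PairZMT
import Groth.Agent.Lib.helper3.PairIdem

open Polynomial

namespace Groth.Agent.Lib.helper3.PairEtale

universe u

/-- A section modulo `I` of an unramified algebra has kernel `J` with `J ≤ J² + IA'`. -/
theorem ker_le_sq_sup {A A' : Type*} [CommRing A] [CommRing A'] [Algebra A A']
    [Algebra.FormallyUnramified A A'] (I : Ideal A) (σ : A' →ₐ[A] A ⧸ I) :
    RingHom.ker σ ≤ RingHom.ker σ ^ 2 ⊔ I.map (algebraMap A A') := by
  set J := RingHom.ker σ with hJ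
  set n := J ^ 2 ⊔ I.map (algebraMap A A') with hn
  have hIJ : I.map (algebraMap A A') ≤ J := by
    rw [Ideal.map_le_iff_le_comap]
    intro a ha
    rw [Ideal.mem_comap, hJ, RingHom.mem_ker, AlgHom.commutes]
    exact Ideal.Quotient.eq_zero_iff_mem.mpr ha
  have hnJ : n ≤ J := sup_le (Ideal.pow_le_self two_ne_zero) hIJ
  let q : A' →ₐ[A] A' ⧸ n := Ideal.Quotient.mkₐ A n
  let f : A' ⧸ n →ₐ[A] A ⧸ I := Ideal.Quotient.liftₐ n σ fun a ha => hnJ ha
  have hfq : ∀ x, f (q x) = σ x := fun x => rfl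
  let s : A ⧸ I →ₐ[A] A' ⧸ n := Ideal.Quotient.liftₐ I (Algebra.ofId A (A' ⧸ n)) (by
    intro a ha
    change q (algebraMap A A' a) = 0
    exact Ideal.Quotient.eq_zero_iff_mem.mpr
      (Ideal.mem_sup_right (Ideal.mem_map_of_mem _ ha)))
  have hnil : IsNilpotent (RingHom.ker (f : A' ⧸ n →+* A ⧸ I)) := by
    refine ⟨2, ?_⟩
    rw [sq, Ideal.zero_eq_bot, eq_bot_iff, Ideal.mul_le]
    intro z hz w hw
    obtain ⟨x, rfl⟩ := Ideal.Quotient.mk_surjective z
    obtain ⟨y, rfl⟩ := Ideal.Quotient.mk_surjective w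
    have hx : x ∈ J := hz
    have hy : y ∈ J := hw
    rw [Ideal.mem_bot, ← map_mul, Ideal.Quotient.eq_zero_iff_mem]
    exact Ideal.mem_sup_left (by rw [sq]; exact Ideal.mul_mem_mul hx hy)
  have heq : q = s.comp σ := by
    refine Algebra.FormallyUnramified.ext' (f : A' ⧸ n →+* A ⧸ I) hnil q (s.comp σ) fun x => ?_
    obtain ⟨a, ha⟩ := Ideal.Quotient.mk_surjective (σ x)
    change f (q x) = f (s (σ x))
    rw [hfq, ← ha]
    change _ = f (s (algebraMap A (A ⧸ I) a))
    rw [AlgHom.commutes, AlgHom.commutes]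
    rfl
  intro x hx
  have h1 : q x = 0 := by
    rw [heq, AlgHom.comp_apply, (RingHom.mem_ker).mp hx, map_zero]
  exact Ideal.Quotient.eq_zero_iff_mem.mp h1

/-- **Étale lifting over a Henselian pair.** -/
theorem exists_lift (A : Type u) [CommRing A] (I : Ideal A) [HenselianRing A I]
    (A' : Type u) [CommRing A'] [Algebra A A'] [Algebra.Etale A A'] (σ : A' →ₐ[A] A ⧸ I) :
    ∃ τ : A' →ₐ[A] A, (Ideal.Quotient.mkₐ A I).comp τ = σ := by
  classical
  have hIjac : I ≤ Ideal.jacobson ⊥ := HenselianRing.jac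
  set J := RingHom.ker σ with hJ
  have hσalg : ∀ a : A, σ (algebraMap A A' a) = Ideal.Quotient.mk I a := fun a => σ.commutes a
  have hσsurj : ∀ x : A', ∃ a : A, x - algebraMap A A' a ∈ J := by
    intro x
    obtain ⟨a, ha⟩ := Ideal.Quotient.mk_surjective (σ x)
    refine ⟨a, ?_⟩
    rw [hJ, RingHom.mem_ker, map_sub, hσalg, ha, sub_self]
  haveI : Algebra.FiniteType A A' := inferInstance
  haveI : Algebra.QuasiFinite A A' := inferInstance
  obtain ⟨B, r, hBfg, hrB, hr1, hagree⟩ := exists_subalgebra_agree (A := A) J hσsurj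
  haveI : Module.Finite A B := ⟨(Submodule.fg_top _).mpr hBfg⟩
  haveI : Algebra.IsIntegral A B := Algebra.IsIntegral.of_finite A B
  have hσr : σ r = 1 := by
    have := (RingHom.mem_ker).mp hr1
    rwa [map_sub, map_one, sub_eq_zero] at this
  let β : B →ₐ[A] A ⧸ I := σ.comp B.val
  have hβ : ∀ b : B, β b = σ (b : A') := fun b => rfl
  set KB := RingHom.ker β with hKB
  set IB := I.map (algebraMap A B) with hIB
  let rB : B := ⟨r, hrB⟩
  have hβr : β rB = 1 := hσr
  have hIBKB : IB ≤ KB := by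
    rw [hIB, Ideal.map_le_iff_le_comap]
    intro a ha
    rw [Ideal.mem_comap, hKB, RingHom.mem_ker, AlgHom.commutes]
    exact Ideal.Quotient.eq_zero_iff_mem.mpr ha
  -- (K1)
  let Pz : A' → Prop := fun z => ∃ n : ℕ, ∃ b : B, b ∈ KB ^ 2 ⊔ IB ∧ (b : A') = r ^ n * z
  have hPadd : ∀ z₁ z₂, Pz z₁ → Pz z₂ → Pz (z₁ + z₂) := by
    rintro z₁ z₂ ⟨n₁, b₁, hb₁, e₁⟩ ⟨n₂, b₂, hb₂, e₂⟩
    refine ⟨n₁ + n₂, rB ^ n₂ * b₁ + rB ^ n₁ * b₂,
      Ideal.add_mem _ (Ideal.mul_mem_left _ _ hb₁) (Ideal.mul_mem_left _ _ hb₂), ?_⟩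
    push_cast
    rw [e₁, e₂]
    change r ^ n₂ * (r ^ n₁ * z₁) + r ^ n₁ * (r ^ n₂ * z₂) = _
    ring
  have hP0 : Pz 0 := ⟨0, 0, zero_mem _, by simp⟩
  have hPsq : ∀ z ∈ J ^ 2, Pz z := by
    intro z hz
    rw [sq] at hz
    refine Submodule.mul_induction_on hz ?_ hPadd
    intro y hy z' hz'
    obtain ⟨n₁, hn₁⟩ := hagree y
    obtain ⟨n₂, hn₂⟩ := hagree z'
    have hb₁ : (⟨r ^ n₁ * y, hn₁⟩ : B) ∈ KB := by
      rw [hKB, RingHom.mem_ker, hβ]
      change σ (r ^ n₁ * y) = 0
      rw [map_mul, (RingHom.mem_ker).mp hy, mul_zero]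
    have hb₂ : (⟨r ^ n₂ * z', hn₂⟩ : B) ∈ KB := by
      rw [hKB, RingHom.mem_ker, hβ]
      change σ (r ^ n₂ * z') = 0
      rw [map_mul, (RingHom.mem_ker).mp hz', mul_zero]
    refine ⟨n₁ + n₂, ⟨r ^ n₁ * y, hn₁⟩ * ⟨r ^ n₂ * z', hn₂⟩,
      Ideal.mem_sup_left (by rw [sq]; exact Ideal.mul_mem_mul hb₁ hb₂), ?_⟩
    change r ^ n₁ * y * (r ^ n₂ * z') = _
    ring
  have hPI : ∀ z ∈ I.map (algebraMap A A'), Pz z := by
    intro z hz
    have hz' : z ∈ (I • ⊤ : Submodule A A') := by rw [Ideal.smul_top_eq_map]; exact hz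
    refine Submodule.smul_induction_on hz' ?_ hPadd
    intro i hi w _
    obtain ⟨n, hn⟩ := hagree w
    refine ⟨n, i • ⟨r ^ n * w, hn⟩, Ideal.mem_sup_right ?_, ?_⟩
    · rw [Algebra.smul_def]
      exact Ideal.mul_mem_right _ _ (Ideal.mem_map_of_mem _ hi)
    · change i • (r ^ n * w) = _
      rw [mul_smul_comm]
  have hK1 : KB ≤ KB ^ 2 ⊔ IB := by
    intro x hx
    have hxJ : (x : A') ∈ J := by
      rw [hJ, RingHom.mem_ker]; exact (RingHom.mem_ker).mp hx
    obtain ⟨z₁, hz₁, z₂, hz₂, hz⟩ := Submodule.mem_sup.mp (ker_le_sq_sup I σ hxJ)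
    obtain ⟨n, b, hb, hbe⟩ := hPadd z₁ z₂ (hPsq z₁ hz₁) (hPI z₂ hz₂)
    rw [hz] at hbe
    have hb' : b = rB ^ n * x := Subtype.ext (by rw [hbe]; rfl)
    have h1 : 1 - rB ^ n ∈ KB := by
      rw [hKB, RingHom.mem_ker, map_sub, map_pow, hβr, one_pow, map_one, sub_self]
    have hx' : x = rB ^ n * x + (1 - rB ^ n) * x := by ring
    rw [hx']
    refine Ideal.add_mem _ (hb' ▸ hb) (Ideal.mem_sup_left ?_)
    rw [sq]
    exact Ideal.mul_mem_mul h1 hx
  -- (K2)
  let mkB : B →+* B ⧸ IB := Ideal.Quotient.mk IB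
  set Kq : Ideal (B ⧸ IB) := KB.map mkB with hKq
  have hKq_idem : IsIdempotentElem Kq := by
    change Kq * Kq = Kq
    refine le_antisymm Ideal.mul_le_right ?_
    calc Kq ≤ (KB ^ 2 ⊔ IB).map mkB := Ideal.map_mono hK1
      _ = Kq * Kq := by
        rw [Ideal.map_sup, Ideal.map_pow, Ideal.map_quotient_self, sup_bot_eq, sq]
  have hKq_fg : Kq.FG := by
    obtain ⟨G, hG⟩ := (Module.Finite.fg_top : (⊤ : Submodule A B).FG)
    choose a ha using fun g : B => Ideal.Quotient.mk_surjective (β g)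
    let L : Ideal B := Ideal.span ((fun g => g - algebraMap A B (a g)) '' (G : Set B))
    have hLK : L ≤ KB := by
      rw [Ideal.span_le]
      rintro _ ⟨g, _, rfl⟩
      change g - algebraMap A B (a g) ∈ KB
      rw [hKB, RingHom.mem_ker, map_sub, AlgHom.commutes, ← ha g]
      exact sub_self _
    have hKL : KB ≤ L ⊔ IB := by
      intro x hx
      have hxtop : x ∈ Submodule.span A (G : Set B) := hG ▸ Submodule.mem_top
      obtain ⟨c, hc⟩ := Submodule.mem_span_finset'.mp hxtop
      have hdecomp : x = ∑ g : G, c g • ((g : B) - algebraMap A B (a g)) +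
          algebraMap A B (∑ g : G, c g * a g) := by
        rw [← hc, map_sum, ← Finset.sum_add_distrib]
        refine Finset.sum_congr rfl fun g _ => ?_
        rw [smul_sub, map_mul, Algebra.smul_def, Algebra.smul_def]
        ring
      have hsumK : ∑ g : G, c g • ((g : B) - algebraMap A B (a g)) ∈ L :=
        Ideal.sum_mem _ fun g _ => by
          rw [Algebra.smul_def]
          exact Ideal.mul_mem_left _ _ (Ideal.subset_span ⟨g, g.2, rfl⟩)
      have hI : ∑ g : G, c g * a g ∈ I := by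
        rw [← Ideal.Quotient.eq_zero_iff_mem]
        have h1 : β (algebraMap A B (∑ g : G, c g * a g)) = 0 := by
          have h2 : algebraMap A B (∑ g : G, c g * a g) =
              x - ∑ g : G, c g • ((g : B) - algebraMap A B (a g)) := by
            rw [eq_sub_iff_add_eq, add_comm]; exact hdecomp.symm
          rw [h2, map_sub, (RingHom.mem_ker).mp hx, (RingHom.mem_ker).mp (hLK hsumK), sub_zero]
        rwa [AlgHom.commutes] at h1
      rw [hdecomp]
      exact Ideal.add_mem _ (Ideal.mem_sup_left hsumK)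
        (Ideal.mem_sup_right (Ideal.mem_map_of_mem _ hI))
    have hKqL : Kq = L.map mkB := by
      refine le_antisymm ?_ (Ideal.map_mono hLK)
      calc Kq ≤ (L ⊔ IB).map mkB := Ideal.map_mono hKL
        _ = L.map mkB := by rw [Ideal.map_sup, Ideal.map_quotient_self, sup_bot_eq]
    rw [hKqL]
    exact Ideal.FG.map ⟨G.image fun g => g - algebraMap A B (a g), by
      rw [Finset.coe_image]⟩ mkB
  obtain ⟨ε₀, hε₀, hKε⟩ := (Ideal.isIdempotentElem_iff_of_fg Kq hKq_fg).mp hKq_idem
  -- (L)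
  obtain ⟨e, he, hee⟩ := (Groth.Agent.Lib.helper3.PairIdem.bijOn_of_henselian A I B).surjOn
    (show (1 - ε₀) ∈ {x : B ⧸ IB | IsIdempotentElem x} from hε₀.one_sub)
  have he' : e * e = e := he
  have hee' : mkB e = 1 - ε₀ := hee
  have hβe : β e = 1 := by
    have h1 : mkB (1 - e) ∈ Kq := by
      rw [map_sub, map_one, hee', sub_sub_cancel, hKε]
      exact Ideal.subset_span rfl
    obtain ⟨k, hk, hke⟩ := (Ideal.mem_map_iff_of_surjective mkB Ideal.Quotient.mk_surjective).mp h1
    have h2 : (1 - e) - k ∈ IB := by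
      rw [← Ideal.Quotient.eq_zero_iff_mem, map_sub]
      change mkB (1 - e) - mkB k = 0
      rw [hke, sub_self]
    have h3 : 1 - e ∈ KB := by
      have := KB.add_mem (hIBKB h2) hk
      rwa [sub_add_cancel] at this
    have := (RingHom.mem_ker).mp h3
    rw [map_sub, map_one, sub_eq_zero] at this
    exact this.symm
  have heK : ∀ x ∈ KB, e * x ∈ IB := by
    intro x hx
    rw [← Ideal.Quotient.eq_zero_iff_mem]
    change mkB (e * x) = 0
    have h1 : mkB x ∈ Kq := Ideal.mem_map_of_mem _ hx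
    rw [hKε] at h1
    obtain ⟨c, hc⟩ := Ideal.mem_span_singleton'.mp h1
    have h2 : ε₀ * ε₀ = ε₀ := hε₀
    rw [map_mul, hee', ← hc]
    linear_combination (-c) * h2
  -- (N)
  have hN : ∀ b : B, ∃ a : A, e * b = a • e := by
    let μ : B →ₗ[A] B := LinearMap.mulLeft A e
    let N : Submodule A B := LinearMap.range μ
    have hNfg : N.FG := by
      have : N = (⊤ : Submodule A B).map μ := (Submodule.map_top μ).symm
      rw [this]
      exact Module.Finite.fg_top.map μ
    have hle : N ≤ Submodule.span A {e} ⊔ I • N := by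
      rintro _ ⟨b, rfl⟩
      obtain ⟨a, ha⟩ := Ideal.Quotient.mk_surjective (β b)
      have hbK : b - algebraMap A B a ∈ KB := by
        rw [hKB, RingHom.mem_ker, map_sub, AlgHom.commutes, ← ha]
        exact sub_self _
      have h1 : μ b = a • e + μ (e * (b - algebraMap A B a)) := by
        change e * b = a • e + e * (e * (b - algebraMap A B a))
        rw [← mul_assoc, he', Algebra.smul_def]
        ring
      rw [h1]
      refine Submodule.add_mem_sup (Submodule.smul_mem _ _ (Submodule.mem_span_singleton_self e)) ?_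
      have hx : e * (b - algebraMap A B a) ∈ (I • ⊤ : Submodule A B) := by
        rw [Ideal.smul_top_eq_map]; exact heK _ hbK
      have h4 : μ (e * (b - algebraMap A B a)) ∈ (I • (⊤ : Submodule A B)).map μ :=
        Submodule.mem_map_of_mem hx
      rw [Submodule.map_smul'', Submodule.map_top] at h4
      exact h4
    have hNle : N ≤ Submodule.span A {e} :=
      Submodule.le_of_le_smul_of_le_jacobson_bot hNfg hIjac hle
    intro b
    obtain ⟨a, ha⟩ := Submodule.mem_span_singleton.mp (hNle ⟨b, rfl⟩)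
    exact ⟨a, ha.symm⟩
  -- (E)
  obtain ⟨r₁, hr₁⟩ : ∃ r₁ : A', r₁ = (e : A') * r := ⟨_, rfl⟩
  have hσr₁ : σ r₁ = 1 := by
    rw [hr₁, map_mul, hσr, mul_one]; exact hβe
  have hagree₁ : Agree B r₁ := hr₁ ▸ hagree.mul_left e.2
  obtain ⟨ρ, hρ⟩ := hN rB
  have hr₁ρ : r₁ = ρ • (e : A') := by
    have := congrArg (Subtype.val) hρ
    rw [hr₁]
    exact this
  have hmkρ : Ideal.Quotient.mk I ρ = 1 := by
    have h1 : β (ρ • e) = 1 := by rw [← hρ, map_mul, hβe, hβr, mul_one]
    rwa [map_smul, hβe, Algebra.smul_def, mul_one] at h1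
  have hρunit : IsUnit ρ := by
    have h1 : ρ - 1 ∈ I := by
      rw [← Ideal.Quotient.eq_zero_iff_mem, map_sub, hmkρ, map_one, sub_self]
    have := Ideal.mem_jacobson_bot.mp (hIjac h1) 1
    simpa using this
  obtain ⟨ρi, hρi⟩ := hρunit.exists_right_inv
  have hr₁unit : IsUnit (algebraMap A' (Localization.Away r₁) r₁) :=
    IsLocalization.Away.algebraMap_isUnit r₁
  have he1 : algebraMap A' (Localization.Away r₁) (e : A') = 1 := by
    have h1 : r₁ * (e : A') = r₁ := by
      have : (e : A') * (e : A') = (e : A') := congrArg Subtype.val he'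
      rw [hr₁]
      calc (e : A') * r * (e : A') = ((e : A') * (e : A')) * r := by ring
        _ = _ := by rw [this]
    have h2 := congrArg (algebraMap A' (Localization.Away r₁)) h1
    rw [map_mul] at h2
    exact hr₁unit.mul_left_cancel (by rw [h2, mul_one])
  have hBim : ∀ b : B, algebraMap A' (Localization.Away r₁) (b : A') ∈
      (algebraMap A (Localization.Away r₁)).range := by
    intro b
    obtain ⟨a, ha⟩ := hN b
    refine ⟨a, ?_⟩
    have h1 : (e : A') * (b : A') = a • (e : A') := congrArg Subtype.val ha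
    have h2 := congrArg (algebraMap A' (Localization.Away r₁)) h1
    rw [map_mul, he1, one_mul, Algebra.smul_def, map_mul, he1, mul_one,
      ← IsScalarTower.algebraMap_apply] at h2
    exact h2.symm
  have hr₁im : algebraMap A' (Localization.Away r₁) r₁ = algebraMap A (Localization.Away r₁) ρ := by
    have h1 := congrArg (algebraMap A' (Localization.Away r₁)) hr₁ρ
    rw [Algebra.smul_def, map_mul, he1, mul_one, ← IsScalarTower.algebraMap_apply] at h1
    exact h1
  have hρρi : algebraMap A (Localization.Away r₁) ρ * algebraMap A (Localization.Away r₁) ρi = 1 := by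
    rw [← map_mul, hρi, map_one]
  have hsurj : Function.Surjective (algebraMap A (Localization.Away r₁)) := by
    intro z
    obtain ⟨n, x, hx⟩ := IsLocalization.Away.surj r₁ z
    obtain ⟨m, hm⟩ := hagree₁ x
    obtain ⟨a, ha⟩ := hBim ⟨r₁ ^ m * x, hm⟩
    change algebraMap A (Localization.Away r₁) a =
      algebraMap A' (Localization.Away r₁) (r₁ ^ m * x) at ha
    rw [map_mul, map_pow, hr₁im] at ha
    rw [hr₁im] at hx
    refine ⟨a * ρi ^ m * ρi ^ n, ?_⟩
    rw [map_mul, map_mul, map_pow, map_pow, ha]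
    have h3 : ∀ k : ℕ, algebraMap A (Localization.Away r₁) ρ ^ k *
        algebraMap A (Localization.Away r₁) ρi ^ k = 1 := by
      intro k; rw [← mul_pow, hρρi, one_pow]
    calc algebraMap A (Localization.Away r₁) ρ ^ m * algebraMap A' (Localization.Away r₁) x *
          algebraMap A (Localization.Away r₁) ρi ^ m * algebraMap A (Localization.Away r₁) ρi ^ n
        = (algebraMap A (Localization.Away r₁) ρ ^ m * algebraMap A (Localization.Away r₁) ρi ^ m) *
          (algebraMap A' (Localization.Away r₁) x * algebraMap A (Localization.Away r₁) ρi ^ n) := by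
          ring
      _ = z * algebraMap A (Localization.Away r₁) ρ ^ n *
          algebraMap A (Localization.Away r₁) ρi ^ n := by rw [h3, one_mul, hx]
      _ = z := by rw [mul_assoc, h3, mul_one]
  have hu : IsUnit ((σ : A' →+* A ⧸ I) r₁) := by
    change IsUnit (σ r₁)
    rw [hσr₁]; exact isUnit_one
  let σ'' : Localization.Away r₁ →ₐ[A] A ⧸ I :=
    IsLocalization.Away.liftAlgHom r₁ (f := σ) hu
  have hσ'' : ∀ x : A', σ'' (algebraMap A' (Localization.Away r₁) x) = σ x := fun x =>
    IsLocalization.Away.lift_eq r₁ hu x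
  have hinj : Function.Injective (algebraMap A (Localization.Away r₁)) := by
    rw [injective_iff_map_eq_zero]
    set K' := RingHom.ker (algebraMap A (Localization.Away r₁)) with hK'
    have hidem : IsIdempotentElem K' :=
      (Algebra.FormallyEtale.iff_of_surjective hsurj).mp inferInstance
    have hfg : K'.FG :=
      Algebra.FinitePresentation.ker_fG_of_surjective (Algebra.ofId A (Localization.Away r₁)) hsurj
    have hK'I : K' ≤ I := by
      intro a ha
      rw [← Ideal.Quotient.eq_zero_iff_mem]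
      have h1 : σ'' (algebraMap A (Localization.Away r₁) a) = 0 := by
        rw [(RingHom.mem_ker).mp ha, map_zero]
      rwa [AlgHom.commutes] at h1
    have hbot : K' = ⊥ := by
      refine Submodule.eq_bot_of_le_smul_of_le_jacobson_bot I K' hfg ?_ hIjac
      have h1 : K' * K' = K' := hidem
      rw [smul_eq_mul]
      calc K' = K' * K' := h1.symm
        _ ≤ I * K' := Ideal.mul_mono_left hK'I
    intro a ha
    have : a ∈ K' := (RingHom.mem_ker).mpr ha
    rw [hbot] at this
    exact this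
  -- (F)
  let equiv : A ≃ₐ[A] Localization.Away r₁ :=
    AlgEquiv.ofBijective (Algebra.ofId A (Localization.Away r₁)) ⟨hinj, hsurj⟩
  refine ⟨equiv.symm.toAlgHom.comp (IsScalarTower.toAlgHom A A' (Localization.Away r₁)), ?_⟩
  refine AlgHom.ext fun x => ?_
  change Ideal.Quotient.mk I (equiv.symm (algebraMap A' (Localization.Away r₁) x)) = σ x
  obtain ⟨a, ha⟩ : ∃ a, a = equiv.symm (algebraMap A' (Localization.Away r₁) x) := ⟨_, rfl⟩
  have h1 : algebraMap A (Localization.Away r₁) a = algebraMap A' (Localization.Away r₁) x := by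
    rw [ha]; exact equiv.apply_symm_apply _
  rw [← ha]
  calc Ideal.Quotient.mk I a = σ'' (algebraMap A (Localization.Away r₁) a) :=
        (σ''.commutes a).symm
    _ = σ'' (algebraMap A' (Localization.Away r₁) x) := by rw [h1]
    _ = σ x := hσ'' x

end Groth.Agent.Lib.helper3.PairEtale
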