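import Mathlib
import Groth.Agent.Lib.helper3.PairEtale
import Groth.Agent.Lib.lead.HenselLift

/-!
# Henselization of a pair, part 1: augmented ("pointed") algebras

An augmentation of an `A`-algebra `C` is an `A`-algebra map `χ : C → A/I` whose kernel is `IC`
(`IsAug`).  Existence of an augmentation is equivalent to bijectivity of `A/I → C/IC`.
-/

universe u

open TensorProduct Polynomial

namespace Groth.Agent.Lib.helper3.PairHzn

section basic

variable {A : Type*} [CommRing A] (I : Ideal A) {C : Type*} [CommRing C] [Algebra A C]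

/-- the kernel of the augmentation is `IC` -/
def IsAug (χ : C →ₐ[A] A ⧸ I) : Prop := RingHom.ker χ ≤ I.map (algebraMap A C)

theorem map_le_ker (χ : C →ₐ[A] A ⧸ I) : I.map (algebraMap A C) ≤ RingHom.ker χ := by
  rw [Ideal.map_le_iff_le_comap]
  intro a ha
  rw [Ideal.mem_comap, RingHom.mem_ker, χ.commutes]
  exact Ideal.Quotient.eq_zero_iff_mem.mpr ha

theorem exists_sub_mem (χ : C →ₐ[A] A ⧸ I) (c : C) :
    ∃ a : A, χ c = Ideal.Quotient.mk I a ∧ c - algebraMap A C a ∈ RingHom.ker χ := by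
  obtain ⟨a, ha⟩ := Ideal.Quotient.mk_surjective (χ c)
  refine ⟨a, ha.symm, ?_⟩
  rw [RingHom.mem_ker, map_sub, χ.commutes, ← ha]
  exact sub_self _

theorem aug_comp {D : Type*} [CommRing D] [Algebra A D] (χ : C →ₐ[A] A ⧸ I) (hχ : IsAug I χ)
    (χ' : D →ₐ[A] A ⧸ I) (g : C →ₐ[A] D) : χ'.comp g = χ := by
  ext c
  obtain ⟨a, ha, hc⟩ := exists_sub_mem I χ c
  have h1 : c - algebraMap A C a ∈ RingHom.ker (χ'.comp g) := map_le_ker I (χ'.comp g) (hχ hc)
  rw [RingHom.mem_ker, map_sub, AlgHom.commutes] at h1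
  rw [sub_eq_zero.mp h1, ha]
  rfl

theorem aug_unique (χ : C →ₐ[A] A ⧸ I) (hχ : IsAug I χ) (χ' : C →ₐ[A] A ⧸ I) : χ' = χ := by
  have := aug_comp I χ hχ χ' (AlgHom.id A C)
  simpa using this

/-- an augmentation from bijectivity of `A/I → C/IC` -/
theorem exists_aug_of_bijective
    (h : Function.Bijective
      (Ideal.quotientMap (I.map (algebraMap A C)) (algebraMap A C) Ideal.le_comap_map)) :
    ∃ χ : C →ₐ[A] A ⧸ I, IsAug I χ := by
  let e : (A ⧸ I) ≃+* (C ⧸ I.map (algebraMap A C)) := RingEquiv.ofBijective _ h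
  let χr : C →+* A ⧸ I := e.symm.toRingHom.comp (Ideal.Quotient.mk _)
  have he : ∀ a : A, e (Ideal.Quotient.mk I a) =
      Ideal.Quotient.mk (I.map (algebraMap A C)) (algebraMap A C a) := by
    intro a
    change Ideal.quotientMap (I.map (algebraMap A C)) (algebraMap A C) Ideal.le_comap_map
      (Ideal.Quotient.mk I a) = _
    rw [Ideal.quotientMap_mk]
  have hχr : ∀ a : A, χr (algebraMap A C a) = algebraMap A (A ⧸ I) a := by
    intro a
    change e.symm (Ideal.Quotient.mk (I.map (algebraMap A C)) (algebraMap A C a)) = _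
    rw [← he, RingEquiv.symm_apply_apply]
    rfl
  refine ⟨{ χr with commutes' := hχr }, ?_⟩
  intro c hc
  have h1 : e.symm (Ideal.Quotient.mk (I.map (algebraMap A C)) c) = 0 := hc
  have h2 : Ideal.Quotient.mk (I.map (algebraMap A C)) c = 0 := by
    have := congrArg e h1
    rwa [RingEquiv.apply_symm_apply, map_zero] at this
  exact Ideal.Quotient.eq_zero_iff_mem.mp h2

/-- bijectivity of `A/I → C/IC` from an augmentation -/
theorem bijective_of_aug (χ : C →ₐ[A] A ⧸ I) (hχ : IsAug I χ) :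
    Function.Bijective
      (Ideal.quotientMap (I.map (algebraMap A C)) (algebraMap A C) Ideal.le_comap_map) := by
  constructor
  · rw [injective_iff_map_eq_zero]
    intro x hx
    obtain ⟨a, rfl⟩ := Ideal.Quotient.mk_surjective x
    rw [Ideal.quotientMap_mk, Ideal.Quotient.eq_zero_iff_mem] at hx
    have := map_le_ker I χ hx
    rw [RingHom.mem_ker, χ.commutes] at this
    exact this
  · intro y
    obtain ⟨c, rfl⟩ := Ideal.Quotient.mk_surjective y
    obtain ⟨a, -, hc⟩ := exists_sub_mem I χ c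
    refine ⟨Ideal.Quotient.mk I a, ?_⟩
    rw [Ideal.quotientMap_mk]
    symm
    rw [Ideal.Quotient.eq]
    exact hχ hc

end basic

section loc

variable {A : Type*} [CommRing A] (I : Ideal A) {C : Type*} [CommRing C] [Algebra A C]
  (χ : C →ₐ[A] A ⧸ I)

/-- the elements with augmentation `1` -/
def M : Submonoid C := Submonoid.comap (χ : C →* A ⧸ I) ⊥

theorem mem_M {s : C} : s ∈ M I χ ↔ χ s = 1 := by
  change (χ : C →* A ⧸ I) s ∈ (⊥ : Submonoid (A ⧸ I)) ↔ _
  rw [Submonoid.mem_bot]
  rfl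

/-- the localization at `1 + IC` -/
abbrev Loc : Type _ := Localization (M I χ)

/-- the augmentation of the localization -/
noncomputable def χLoc : Loc I χ →ₐ[A] A ⧸ I :=
  IsLocalization.liftAlgHom (M := M I χ) (f := χ)
    (fun y => by rw [(mem_M I χ).mp y.2]; exact isUnit_one)

theorem χLoc_algebraMap (c : C) : χLoc I χ (algebraMap C (Loc I χ) c) = χ c := by
  simp [χLoc, IsLocalization.lift_eq]

theorem χLoc_mk' (c : C) (s : M I χ) : χLoc I χ (IsLocalization.mk' (Loc I χ) c s) = χ c := by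
  have h1 : IsLocalization.mk' (Loc I χ) c s * algebraMap C (Loc I χ) s = algebraMap C (Loc I χ) c :=
    IsLocalization.mk'_spec _ _ _
  have h2 := congrArg (χLoc I χ) h1
  rw [map_mul, χLoc_algebraMap, χLoc_algebraMap, (mem_M I χ).mp s.2, mul_one] at h2
  exact h2

theorem isAug_χLoc (hχ : IsAug I χ) : IsAug I (χLoc I χ) := by
  intro x hx
  obtain ⟨c, s, rfl⟩ := IsLocalization.exists_mk'_eq (M I χ) x
  rw [RingHom.mem_ker, χLoc_mk'] at hx
  have hc : c ∈ I.map (algebraMap A C) := hχ hx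
  have h1 : algebraMap C (Loc I χ) c ∈ I.map (algebraMap A (Loc I χ)) := by
    rw [IsScalarTower.algebraMap_eq A C (Loc I χ), ← Ideal.map_map]
    exact Ideal.mem_map_of_mem _ hc
  rw [IsLocalization.mk'_eq_mul_mk'_one]
  exact Ideal.mul_mem_right _ _ h1

theorem isUnit_of_χLoc_eq_one (w : Loc I χ) (h : χLoc I χ w = 1) : IsUnit w := by
  obtain ⟨c, s, rfl⟩ := IsLocalization.exists_mk'_eq (M I χ) w
  rw [χLoc_mk'] at h
  have hc : c ∈ M I χ := (mem_M I χ).mpr h
  have h1 : IsUnit (algebraMap C (Loc I χ) c) := IsLocalization.map_units (Loc I χ) ⟨c, hc⟩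
  rw [IsLocalization.mk'_eq_mul_mk'_one]
  refine h1.mul ?_
  have h2 : IsLocalization.mk' (Loc I χ) (1 : C) s * algebraMap C (Loc I χ) s = 1 := by
    rw [IsLocalization.mk'_spec, map_one]
  exact IsUnit.of_mul_eq_one _ h2

theorem isUnit_of_isUnit_χLoc (w : Loc I χ) (h : IsUnit (χLoc I χ w)) : IsUnit w := by
  obtain ⟨v, hv⟩ := h.exists_right_inv
  obtain ⟨a, rfl⟩ := Ideal.Quotient.mk_surjective v
  have h1 : χLoc I χ (w * algebraMap A (Loc I χ) a) = 1 := by
    rw [map_mul, AlgHom.commutes]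
    exact hv
  exact isUnit_of_mul_isUnit_left (isUnit_of_χLoc_eq_one I χ _ h1)

theorem map_le_jacobson : I.map (algebraMap A (Loc I χ)) ≤ Ideal.jacobson ⊥ := by
  intro x hx
  rw [Ideal.mem_jacobson_bot]
  intro y
  apply isUnit_of_χLoc_eq_one I χ
  have : x * y ∈ RingHom.ker (χLoc I χ) :=
    map_le_ker I (χLoc I χ) (Ideal.mul_mem_right _ _ hx)
  rw [map_add, map_one, (RingHom.mem_ker).mp this, zero_add]

end loc

section uniq

variable {A : Type*} [CommRing A] (I : Ideal A)

/-- maps out of an augmented unramified algebra into a ring with `IT ⊆ J ⊆ rad T` are unique -/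
theorem algHom_ext_of_le_jacobson {L T : Type*} [CommRing L] [Algebra A L]
    [Algebra.FormallyUnramified A L] [Algebra.EssFiniteType A L]
    (χ : L →ₐ[A] A ⧸ I) (hχ : IsAug I χ) [CommRing T] [Algebra A T] (J : Ideal T)
    (hJ : J ≤ Ideal.jacobson ⊥) (hIJ : I.map (algebraMap A T) ≤ J) (φ ψ : L →ₐ[A] T) : φ = ψ := by
  apply Groth.Agent.Lib.lead.HenselLocal.unramified_algHom_ext_of_le_jacobson J hJ
  intro x
  obtain ⟨a, -, hx⟩ := exists_sub_mem I χ x
  have hx' : x - algebraMap A L a ∈ I.map (algebraMap A L) := hχ hx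
  have key : ∀ θ : L →ₐ[A] T, θ (x - algebraMap A L a) ∈ J := by
    intro θ
    apply hIJ
    have : (I.map (algebraMap A L)).map θ.toRingHom ≤ I.map (algebraMap A T) := by
      rw [Ideal.map_map]
      have : θ.toRingHom.comp (algebraMap A L) = algebraMap A T := by
        ext a; exact θ.commutes a
      rw [this]
    exact this (Ideal.mem_map_of_mem _ hx')
  have : φ x - ψ x = φ (x - algebraMap A L a) - ψ (x - algebraMap A L a) := by
    rw [map_sub, map_sub, φ.commutes, ψ.commutes]; ring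
  rw [this]
  exact J.sub_mem (key φ) (key ψ)

end uniq

end Groth.Agent.Lib.helper3.PairHzn
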