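import Mathlib
import Groth.Agent.Lib.helper3.PairHzn1

/-!
# Henselization of a pair, part 2: operations on augmented étale algebras
-/

universe u

open TensorProduct Polynomial

namespace Groth.Agent.Lib.helper3.PairHzn

section augsurj

variable {A : Type*} [CommRing A] (I : Ideal A) {C : Type*} [CommRing C] [Algebra A C]

/-- if `A → C/IC` is surjective then any augmentation has kernel `IC` -/
theorem isAug_of_surj (χ : C →ₐ[A] A ⧸ I)
    (h : ∀ c : C, ∃ a : A, c - algebraMap A C a ∈ I.map (algebraMap A C)) : IsAug I χ := by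
  intro z hz
  obtain ⟨a, ha⟩ := h z
  have h1 : z - algebraMap A C a ∈ RingHom.ker χ := map_le_ker I χ ha
  rw [RingHom.mem_ker, map_sub, (RingHom.mem_ker).mp hz, zero_sub, neg_eq_zero, χ.commutes] at h1
  have h2 : a ∈ I := Ideal.Quotient.eq_zero_iff_mem.mp h1
  have h3 : algebraMap A C a ∈ I.map (algebraMap A C) := Ideal.mem_map_of_mem _ h2
  have : z = (z - algebraMap A C a) + algebraMap A C a := by ring
  rw [this]
  exact Ideal.add_mem _ ha h3

theorem surj_of_isAug (χ : C →ₐ[A] A ⧸ I) (hχ : IsAug I χ) (c : C) :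
    ∃ a : A, c - algebraMap A C a ∈ I.map (algebraMap A C) := by
  obtain ⟨a, -, h⟩ := exists_sub_mem I χ c
  exact ⟨a, hχ h⟩

/-- transport of ideal membership along an algebra map -/
theorem map_mem_of_mem {D : Type*} [CommRing D] [Algebra A D] (g : C →ₐ[A] D) {c : C}
    (hc : c ∈ I.map (algebraMap A C)) : g c ∈ I.map (algebraMap A D) := by
  have : (I.map (algebraMap A C)).map g.toRingHom ≤ I.map (algebraMap A D) := by
    rw [Ideal.map_map]
    have : g.toRingHom.comp (algebraMap A C) = algebraMap A D := by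
      ext a; exact g.commutes a
    rw [this]
  exact this (Ideal.mem_map_of_mem _ hc)

theorem algebraMap_mem_of_mem {D : Type*} [CommRing D] [Algebra A D] [Algebra C D]
    [IsScalarTower A C D] {c : C}
    (hc : c ∈ I.map (algebraMap A C)) : algebraMap C D c ∈ I.map (algebraMap A D) :=
  map_mem_of_mem I (IsScalarTower.toAlgHom A C D) hc

end augsurj

section tensor

variable {A : Type*} [CommRing A] (I : Ideal A) {C D : Type*} [CommRing C] [Algebra A C]
  [CommRing D] [Algebra A D]

/-- the augmentation of a tensor product -/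
noncomputable def χTensor (χ : C →ₐ[A] A ⧸ I) (χ' : D →ₐ[A] A ⧸ I) : C ⊗[A] D →ₐ[A] A ⧸ I :=
  Algebra.TensorProduct.lift χ χ' (fun _ _ => Commute.all _ _)

theorem isAug_χTensor (χ : C →ₐ[A] A ⧸ I) (hχ : IsAug I χ) (χ' : D →ₐ[A] A ⧸ I)
    (hχ' : IsAug I χ') : IsAug I (χTensor I χ χ') := by
  apply isAug_of_surj
  intro z
  induction z using TensorProduct.induction_on with
  | zero => exact ⟨0, by simp⟩
  | tmul c d =>
    obtain ⟨a, ha⟩ := surj_of_isAug I χ hχ c
    obtain ⟨a', ha'⟩ := surj_of_isAug I χ' hχ' d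
    refine ⟨a * a', ?_⟩
    have h1 : (c - algebraMap A C a) ⊗ₜ[A] d ∈ I.map (algebraMap A (C ⊗[A] D)) := by
      have := map_mem_of_mem I (Algebra.TensorProduct.includeLeft : C →ₐ[A] C ⊗[A] D) ha
      have h2 : (c - algebraMap A C a) ⊗ₜ[A] d =
          (Algebra.TensorProduct.includeLeft : C →ₐ[A] C ⊗[A] D) (c - algebraMap A C a) *
            ((1 : C) ⊗ₜ[A] d) := by
        simp [Algebra.TensorProduct.tmul_mul_tmul]
      rw [h2]
      exact Ideal.mul_mem_right _ _ this
    have h3 : (algebraMap A C a) ⊗ₜ[A] (d - algebraMap A D a') ∈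
        I.map (algebraMap A (C ⊗[A] D)) := by
      have := map_mem_of_mem I (Algebra.TensorProduct.includeRight : D →ₐ[A] C ⊗[A] D) ha'
      have h2 : (algebraMap A C a) ⊗ₜ[A] (d - algebraMap A D a') =
          ((algebraMap A C a) ⊗ₜ[A] (1 : D)) *
          (Algebra.TensorProduct.includeRight : D →ₐ[A] C ⊗[A] D) (d - algebraMap A D a') := by
        simp [Algebra.TensorProduct.tmul_mul_tmul]
      rw [h2]
      exact Ideal.mul_mem_left _ _ this
    have h4 : c ⊗ₜ[A] d - algebraMap A (C ⊗[A] D) (a * a') =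
        (c - algebraMap A C a) ⊗ₜ[A] d + (algebraMap A C a) ⊗ₜ[A] (d - algebraMap A D a') := by
      have e : algebraMap A (C ⊗[A] D) (a * a') = (algebraMap A C a) ⊗ₜ[A] (algebraMap A D a') := by
        rw [map_mul, Algebra.TensorProduct.algebraMap_apply,
          Algebra.TensorProduct.algebraMap_apply' (r := a'),
          Algebra.TensorProduct.tmul_mul_tmul, mul_one, one_mul]
      rw [e, TensorProduct.sub_tmul, TensorProduct.tmul_sub]
      abel
    rw [h4]
    exact Ideal.add_mem _ h1 h3
  | add x y hx hy =>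
    obtain ⟨a, ha⟩ := hx
    obtain ⟨a', ha'⟩ := hy
    refine ⟨a + a', ?_⟩
    have : x + y - algebraMap A (C ⊗[A] D) (a + a') =
        (x - algebraMap A (C ⊗[A] D) a) + (y - algebraMap A (C ⊗[A] D) a') := by
      rw [map_add]; ring
    rw [this]
    exact Ideal.add_mem _ ha ha'

end tensor

section away

variable {A : Type*} [CommRing A] (I : Ideal A) {C : Type*} [CommRing C] [Algebra A C]
  (χ : C →ₐ[A] A ⧸ I) (s : C) (hs : χ s = 1)

/-- the augmentation of `C[1/s]` for `χ s = 1` -/
noncomputable def χAway : Localization.Away s →ₐ[A] A ⧸ I :=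
  IsLocalization.liftAlgHom (M := Submonoid.powers s) (f := χ)
    (fun y => by
      obtain ⟨n, hn⟩ := y.2
      rw [← hn, map_pow, hs, one_pow]; exact isUnit_one)

theorem χAway_algebraMap (c : C) : χAway I χ s hs (algebraMap C (Localization.Away s) c) = χ c := by
  simp [χAway, IsLocalization.lift_eq]

theorem isAug_χAway (hχ : IsAug I χ) : IsAug I (χAway I χ s hs) := by
  intro x hx
  obtain ⟨c, t, rfl⟩ := IsLocalization.exists_mk'_eq (Submonoid.powers s) x
  have ht : χ (t : C) = 1 := by
    obtain ⟨n, hn⟩ := t.2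
    rw [← hn, map_pow, hs, one_pow]
  have h1 : IsLocalization.mk' (Localization.Away s) c t * algebraMap C (Localization.Away s) t =
      algebraMap C (Localization.Away s) c := IsLocalization.mk'_spec _ _ _
  have h2 := congrArg (χAway I χ s hs) h1
  rw [map_mul, χAway_algebraMap, χAway_algebraMap, ht, mul_one, (RingHom.mem_ker).mp hx] at h2
  have hc : c ∈ I.map (algebraMap A C) := hχ h2.symm
  have h3 : algebraMap C (Localization.Away s) c ∈ I.map (algebraMap A (Localization.Away s)) :=
    algebraMap_mem_of_mem I hc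
  rw [IsLocalization.mk'_eq_mul_mk'_one]
  exact Ideal.mul_mem_right _ _ h3

end away

end Groth.Agent.Lib.helper3.PairHzn
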