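import Mathlib
import Groth.Agent.Lib.helper3.PairHzn2

/-!
# Henselization of a pair, part 3: maps to henselian pairs, the elementary root extension
-/

universe u

open TensorProduct Polynomial

namespace Groth.Agent.Lib.helper3.PairHzn

section lift

variable {A : Type u} [CommRing A] (I : Ideal A) (C : Type u) [CommRing C] [Algebra A C]
  [Algebra.Etale A C] (χ : C →ₐ[A] A ⧸ I)
  (T : Type u) [CommRing T] [Algebra A T] (J : Ideal T) [HenselianRing T J]

/-- an augmented étale algebra maps to every henselian pair under `(A, I)` -/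
theorem exists_algHom_henselian (hIJ : I.map (algebraMap A T) ≤ J) :
    ∃ g : C →ₐ[A] T, ∀ c, χ c = 1 → IsUnit (g c) := by
  classical
  have hJjac : J ≤ Ideal.jacobson ⊥ := HenselianRing.jac
  have hIJ' : ∀ a ∈ I, (algebraMap A (T ⧸ J)) a = 0 := by
    intro a ha
    rw [IsScalarTower.algebraMap_apply A T (T ⧸ J), Ideal.Quotient.algebraMap_eq,
      Ideal.Quotient.eq_zero_iff_mem]
    exact hIJ (Ideal.mem_map_of_mem _ ha)
  let q : A ⧸ I →ₐ[A] T ⧸ J := Ideal.Quotient.liftₐ I (Algebra.ofId A (T ⧸ J)) hIJ'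
  let σ₀ : C →ₐ[A] T ⧸ J := q.comp χ
  let σ : T ⊗[A] C →ₐ[T] T ⧸ J :=
    Algebra.TensorProduct.lift (Algebra.ofId T (T ⧸ J)) σ₀ (fun _ _ => Commute.all _ _)
  obtain ⟨τ, hτ⟩ := Groth.Agent.Lib.helper3.PairEtale.exists_lift T J (T ⊗[A] C) σ
  refine ⟨(τ.restrictScalars A).comp Algebra.TensorProduct.includeRight, fun c hc => ?_⟩
  have h1 : Ideal.Quotient.mk J (τ (1 ⊗ₜ c)) = 1 := by
    have := AlgHom.congr_fun hτ (1 ⊗ₜ c)
    simp only [AlgHom.comp_apply, Ideal.Quotient.mkₐ_eq_mk] at this
    rw [this]
    simp only [σ, Algebra.TensorProduct.lift_tmul, map_one, one_mul, σ₀, AlgHom.comp_apply, hc]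
  have h2 : τ (1 ⊗ₜ c) - 1 ∈ J := by
    rw [← Ideal.Quotient.eq_zero_iff_mem, map_sub, h1, map_one, sub_self]
  have := Ideal.mem_jacobson_bot.mp (hJjac h2) 1
  simpa using this

theorem exists_algHom_loc (hIJ : I.map (algebraMap A T) ≤ J) :
    Nonempty (Loc I χ →ₐ[A] T) := by
  obtain ⟨g, hg⟩ := exists_algHom_henselian I C χ T J hIJ
  exact ⟨IsLocalization.liftAlgHom (M := M I χ) (f := g)
    (fun y => hg _ ((mem_M I χ).mp y.2))⟩

omit [HenselianRing T J] in
theorem algHom_loc_unique (hχ : IsAug I χ) (hJ : J ≤ Ideal.jacobson ⊥)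
    (hIJ : I.map (algebraMap A T) ≤ J)
    (φ ψ : Loc I χ →ₐ[A] T) : φ = ψ :=
  algHom_ext_of_le_jacobson I (χLoc I χ) (isAug_χLoc I χ hχ) J hJ hIJ φ ψ

end lift

section pres

variable {A : Type u} [CommRing A]

theorem exists_presentation (C : Type u) [CommRing C] [Algebra A C] [Algebra.FiniteType A C] :
    ∃ (n : ℕ) (J : Ideal (MvPolynomial (Fin n) A)),
      Nonempty ((MvPolynomial (Fin n) A ⧸ J) ≃ₐ[A] C) := by
  obtain ⟨n, f, hf⟩ := Algebra.FiniteType.iff_quotient_mvPolynomial''.mp
    (inferInstance : Algebra.FiniteType A C)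
  exact ⟨n, RingHom.ker f.toRingHom, ⟨Ideal.quotientKerAlgEquivOfSurjective hf⟩⟩

end pres

section rootext

variable {A : Type u} [CommRing A] (I : Ideal A) (C : Type u) [CommRing C] [Algebra A C]
  [Algebra.Etale A C] (χ : C →ₐ[A] A ⧸ I)

/-- the elementary étale extension adjoining a root of `f` near `a` -/
theorem root_ext (hχ : IsAug I χ) (f : C[X]) (hf : f.Monic) (a : C)
    (h0 : χ (f.eval a) = 0) (h1 : IsUnit (χ (f.derivative.eval a))) :
    ∃ (E : Type u) (_ : CommRing E) (_ : Algebra C E) (_ : Algebra A E) (_ : IsScalarTower A C E)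
      (_ : Algebra.Etale A E) (χE : E →ₐ[A] A ⧸ I), IsAug I χE ∧
      ∃ r : E, aeval r f = 0 ∧ χE r = χ a := by
  classical
  -- `f = (X - a) q + f(a)`
  set q : C[X] := f /ₘ (X - Polynomial.C a) with hq
  have hfq : f = (X - Polynomial.C a) * q + Polynomial.C (f.eval a) := by
    have := modByMonic_add_div f (X - Polynomial.C a)
    rw [modByMonic_X_sub_C_eq_C_eval] at this
    rw [hq, add_comm]; exact this.symm
  have hq' : f.derivative.eval a = q.eval a := by
    have h := congrArg derivative hfq
    rw [derivative_add, derivative_mul, derivative_C, add_zero, derivative_sub, derivative_X,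
      derivative_C, sub_zero, one_mul] at h
    rw [h, eval_add, eval_mul, eval_sub, eval_X, eval_C, sub_self, zero_mul, add_zero]
  let P : StandardEtalePair C := ⟨f, hf, q * derivative f, ⟨q, 0, 1, by ring⟩⟩
  let PP : StandardEtalePresentation C P.Ring :=
    ⟨P, P.X, P.hasMap_X, by
      simpa [StandardEtalePair.lift_X_left] using Function.bijective_id⟩
  letI algAE : Algebra A P.Ring := ((algebraMap C P.Ring).comp (algebraMap A C)).toAlgebra
  haveI tower : IsScalarTower A C P.Ring := IsScalarTower.of_algebraMap_eq (fun _ => rfl)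
  haveI etAE : Algebra.Etale A P.Ring := Algebra.Etale.comp A C P.Ring
  -- the augmentation
  letI algCq : Algebra C (A ⧸ I) := χ.toRingHom.toAlgebra
  haveI towerq : IsScalarTower A C (A ⧸ I) :=
    IsScalarTower.of_algebraMap_eq (fun x => (χ.commutes x).symm)
  have hmap : P.HasMap (χ a) := by
    refine ⟨?_, ?_⟩
    · change aeval (algebraMap C (A ⧸ I) a) f = 0
      rw [Polynomial.aeval_algebraMap_apply, Polynomial.coe_aeval_eq_eval]
      exact h0
    · change IsUnit (aeval (algebraMap C (A ⧸ I) a) (q * derivative f))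
      rw [Polynomial.aeval_algebraMap_apply, Polynomial.coe_aeval_eq_eval, eval_mul, ← hq']
      change IsUnit (χ (f.derivative.eval a * f.derivative.eval a))
      rw [map_mul]
      exact h1.mul h1
  let χE : P.Ring →ₐ[A] A ⧸ I := (P.lift (χ a) hmap).restrictScalars A
  have hχEX : χE P.X = χ a := P.lift_X _ hmap
  have hχEC : ∀ c : C, χE (algebraMap C P.Ring c) = χ c := fun c => (P.lift (χ a) hmap).commutes c
  -- `r = X` and the congruence `r ≡ a`
  have hroot : aeval P.X f = 0 := P.hasMap_X.1
  have hgunit : IsUnit (aeval P.X (q * derivative f)) := P.hasMap_X.2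
  have hqunit : IsUnit (aeval P.X q) := by
    rw [map_mul] at hgunit
    exact isUnit_of_mul_isUnit_left hgunit
  have hfa : algebraMap C P.Ring (f.eval a) ∈ I.map (algebraMap A P.Ring) :=
    algebraMap_mem_of_mem I (hχ h0)
  have hXa : P.X - algebraMap C P.Ring a ∈ I.map (algebraMap A P.Ring) := by
    have h2 := congrArg (aeval P.X) hfq
    rw [hroot, map_add, map_mul, map_sub, aeval_X, aeval_C] at h2
    obtain ⟨u, hu⟩ := hqunit
    have h3 : P.X - algebraMap C P.Ring a = -(algebraMap C P.Ring (f.eval a)) * ↑u⁻¹ := by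
      have h4 : (P.X - algebraMap C P.Ring a) * (u : P.Ring) = -(algebraMap C P.Ring (f.eval a)) := by
        rw [hu]
        have : (P.X - (algebraMap C P.Ring) a) * (aeval P.X) q =
            ((P.X - (algebraMap C P.Ring) a) * (aeval P.X) q + aeval P.X (Polynomial.C (eval a f))) -
              algebraMap C P.Ring (f.eval a) := by
          rw [aeval_C]; ring
        rw [this, ← h2]; ring
      rw [← h4, mul_assoc, Units.mul_inv, mul_one]
    rw [h3]
    exact Ideal.mul_mem_right _ _ (neg_mem hfa)
  -- values of polynomials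
  have hpoly : ∀ p : C[X], aeval P.X p - algebraMap C P.Ring (p.eval a) ∈
      I.map (algebraMap A P.Ring) := by
    intro p
    have hp : p = (X - Polynomial.C a) * (p /ₘ (X - Polynomial.C a)) + Polynomial.C (p.eval a) := by
      have := modByMonic_add_div p (X - Polynomial.C a)
      rw [modByMonic_X_sub_C_eq_C_eval] at this
      rw [add_comm]; exact this.symm
    have h2 := congrArg (aeval P.X) hp
    rw [map_add, map_mul, map_sub, aeval_X, aeval_C, aeval_C] at h2
    rw [h2, add_sub_cancel_right]
    exact Ideal.mul_mem_right _ _ hXa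
  refine ⟨P.Ring, inferInstance, inferInstance, algAE, tower, etAE, χE, ?_, P.X, hroot, hχEX⟩
  apply isAug_of_surj
  intro z
  obtain ⟨p, n, hpn⟩ := PP.exists_mul_aeval_x_g_pow_eq_aeval_x z
  change z * aeval P.X (q * derivative f) ^ n = aeval P.X p at hpn
  -- an inverse of `g(a)` modulo `I`
  set ga : C := (q * derivative f).eval a with hga
  have hgaunit : IsUnit (χ ga) := by
    rw [hga, eval_mul, ← hq', map_mul]
    exact h1.mul h1
  obtain ⟨vb, hvb⟩ := hgaunit.exists_right_inv
  obtain ⟨v, rfl⟩ := Ideal.Quotient.mk_surjective vb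
  have hgav : ga * algebraMap A C v - 1 ∈ I.map (algebraMap A C) := by
    apply hχ
    rw [RingHom.mem_ker, map_sub, map_mul, map_one, χ.commutes]
    rw [sub_eq_zero]; exact hvb
  set Iz := I.map (algebraMap A P.Ring) with hIz
  -- `g(X) v ≡ 1`
  have hgXv : aeval P.X (q * derivative f) * algebraMap A P.Ring v - 1 ∈ Iz := by
    have e1 : aeval P.X (q * derivative f) * algebraMap A P.Ring v - 1 =
        (aeval P.X (q * derivative f) - algebraMap C P.Ring ga) * algebraMap A P.Ring v +
          algebraMap C P.Ring (ga * algebraMap A C v - 1) := by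
      have e0 : algebraMap C P.Ring (ga * algebraMap A C v - 1) =
          algebraMap C P.Ring ga * algebraMap A P.Ring v - 1 := by
        rw [map_sub, map_mul, map_one, ← IsScalarTower.algebraMap_apply A C P.Ring]
      rw [e0]
      ring
    rw [e1]
    exact Ideal.add_mem _ (Ideal.mul_mem_right _ _ (hpoly _)) (algebraMap_mem_of_mem I hgav)
  have hpow : ∀ m : ℕ, (aeval P.X (q * derivative f) * algebraMap A P.Ring v) ^ m - 1 ∈ Iz := by
    intro m
    induction m with
    | zero => simp
    | succ m ih =>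
      have : (aeval P.X (q * derivative f) * algebraMap A P.Ring v) ^ (m + 1) - 1 =
          ((aeval P.X (q * derivative f) * algebraMap A P.Ring v) ^ m - 1) *
            (aeval P.X (q * derivative f) * algebraMap A P.Ring v) +
          (aeval P.X (q * derivative f) * algebraMap A P.Ring v - 1) := by ring
      rw [this]
      exact Ideal.add_mem _ (Ideal.mul_mem_right _ _ ih) hgXv
  -- `z ≡ p(a) v^n`
  obtain ⟨α, hα⟩ := surj_of_isAug I χ hχ (p.eval a * algebraMap A C v ^ n)
  refine ⟨α, ?_⟩
  have e2 : z - algebraMap A P.Ring α =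
      -(z * ((aeval P.X (q * derivative f) * algebraMap A P.Ring v) ^ n - 1)) +
      (aeval P.X p - algebraMap C P.Ring (p.eval a)) * algebraMap A P.Ring v ^ n +
      algebraMap C P.Ring (p.eval a * algebraMap A C v ^ n - algebraMap A C α) := by
    have e0 : algebraMap C P.Ring (p.eval a * algebraMap A C v ^ n - algebraMap A C α) =
        algebraMap C P.Ring (p.eval a) * algebraMap A P.Ring v ^ n - algebraMap A P.Ring α := by
      rw [map_sub, map_mul, map_pow, ← IsScalarTower.algebraMap_apply A C P.Ring,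
        ← IsScalarTower.algebraMap_apply A C P.Ring]
    rw [e0, ← hpn]
    ring
  rw [e2]
  refine Ideal.add_mem _ (Ideal.add_mem _ (neg_mem (Ideal.mul_mem_left _ _ (hpow n)))
    (Ideal.mul_mem_right _ _ (hpoly p))) (algebraMap_mem_of_mem I hα)

end rootext

end Groth.Agent.Lib.helper3.PairHzn
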