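import Mathlib
import Groth.Agent.Lib.helper3.PairHzn3

/-!
# Henselization of a pair, part 4: maps of localizations, the root extension at the localized level
-/

universe u

open TensorProduct Polynomial

namespace Groth.Agent.Lib.helper3.PairHzn

section locmap

variable {A : Type*} [CommRing A] (I : Ideal A) {C D : Type*} [CommRing C] [Algebra A C]
  [CommRing D] [Algebra A D] (χ : C →ₐ[A] A ⧸ I) (hχ : IsAug I χ) (χ' : D →ₐ[A] A ⧸ I)
  (g : C →ₐ[A] D)

include hχ in
theorem isUnit_locMap_aux (y : M I χ) :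
    IsUnit (((IsScalarTower.toAlgHom A D (Loc I χ')).comp g) y) := by
  have h1 : g y ∈ M I χ' := by
    rw [mem_M, ← AlgHom.comp_apply, aug_comp I χ hχ χ' g]
    exact (mem_M I χ).mp y.2
  exact IsLocalization.map_units (Loc I χ') ⟨g y, h1⟩

/-- the map of localizations induced by an algebra map of augmented algebras -/
noncomputable def locMap : Loc I χ →ₐ[A] Loc I χ' :=
  IsLocalization.liftAlgHom (M := M I χ) (f := (IsScalarTower.toAlgHom A D (Loc I χ')).comp g)
    (isUnit_locMap_aux I χ hχ χ' g)

theorem locMap_algebraMap (c : C) :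
    locMap I χ hχ χ' g (algebraMap C (Loc I χ) c) = algebraMap D (Loc I χ') (g c) := by
  simp [locMap, IsLocalization.lift_eq]

theorem χLoc_comp_locMap : (χLoc I χ').comp (locMap I χ hχ χ' g) = χLoc I χ :=
  aug_comp I (χLoc I χ) (isAug_χLoc I χ hχ) (χLoc I χ') (locMap I χ hχ χ' g)

end locmap

section stage

variable {A : Type u} [CommRing A] (I : Ideal A) (C : Type u) [CommRing C] [Algebra A C]
  [Algebra.Etale A C] (χ : C →ₐ[A] A ⧸ I)

/-- root extension for a monic polynomial over the localization `Loc I χ` -/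
theorem stage_root (hχ : IsAug I χ) (f : (Loc I χ)[X]) (hf : f.Monic) (α : A)
    (h0 : (f.map (χLoc I χ).toRingHom).eval (Ideal.Quotient.mk I α) = 0)
    (h1 : IsUnit ((f.map (χLoc I χ).toRingHom).derivative.eval (Ideal.Quotient.mk I α))) :
    ∃ (E : Type u) (_ : CommRing E) (_ : Algebra A E) (_ : Algebra.Etale A E)
      (χE : E →ₐ[A] A ⧸ I) (_ : IsAug I χE) (φ : Loc I χ →ₐ[A] Loc I χE) (x : Loc I χE),
      (f.map φ.toRingHom).eval x = 0 ∧ χLoc I χE x = Ideal.Quotient.mk I α := by
  classical
  set L := Loc I χ with hL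
  let ι : C →+* L := algebraMap C L
  let s₀ : M I χ := IsLocalization.commonDenom (M I χ) f.support f.coeff
  set s : C := (s₀ : C) with hs
  have hχs : χ s = 1 := (mem_M I χ).mp s₀.2
  set ft : L[X] := f.scaleRoots (ι s) with hft
  have h_lifts : ft ∈ lifts ι :=
    IsLocalization.scaleRoots_commonDenom_mem_lifts (M I χ) f
      (by rw [hf.leadingCoeff]; exact one_mem _)
  have hftm : ft.Monic := (monic_scaleRoots_iff _).mpr hf
  obtain ⟨fC, hfC, -, hfCm⟩ := lifts_and_natDegree_eq_and_monic h_lifts hftm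
  have hχι : χ.toRingHom = (χLoc I χ).toRingHom.comp ι := by
    ext c
    exact (χLoc_algebraMap I χ c).symm
  -- the key identity modulo `I`
  have hkey : fC.map χ.toRingHom = f.map (χLoc I χ).toRingHom := by
    rcases subsingleton_or_nontrivial (A ⧸ I) with hsub | hnt
    · exact Subsingleton.elim _ _
    · rw [hχι, ← Polynomial.map_map, hfC, hft, map_scaleRoots]
      · have : (χLoc I χ).toRingHom (ι s) = 1 := by
          change χLoc I χ (algebraMap C L s) = 1
          rw [χLoc_algebraMap, hχs]
        rw [this, scaleRoots_one]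
      · rw [hf.leadingCoeff, map_one]
        exact one_ne_zero
  set a : C := algebraMap A C α with ha
  have hχa : χ a = Ideal.Quotient.mk I α := χ.commutes α
  have hev : ∀ p : C[X], χ (p.eval a) = (p.map χ.toRingHom).eval (Ideal.Quotient.mk I α) := by
    intro p
    rw [← hχa, eval_map]
    exact (eval₂_at_apply χ.toRingHom a).symm
  have h0' : χ (fC.eval a) = 0 := by rw [hev, hkey]; exact h0
  have h1' : IsUnit (χ (fC.derivative.eval a)) := by
    rw [hev, ← derivative_map, hkey]; exact h1
  obtain ⟨E, _, _, _, _, _, χE, hχE, r, hr, hχr⟩ := root_ext I C χ hχ fC hfCm a h0' h1'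
  let φ : L →ₐ[A] Loc I χE := locMap I χ hχ χE (IsScalarTower.toAlgHom A C E)
  have hφι : ∀ c : C, φ (ι c) = algebraMap E (Loc I χE) (algebraMap C E c) :=
    fun c => locMap_algebraMap I χ hχ χE _ c
  have hχφ : ∀ z : L, χLoc I χE (φ z) = χLoc I χ z := fun z =>
    AlgHom.congr_fun (χLoc_comp_locMap I χ hχ χE (IsScalarTower.toAlgHom A C E)) z
  have hχu : χLoc I χE (φ (ι s)) = 1 := by
    rw [hχφ]
    change χLoc I χ (algebraMap C L s) = 1
    rw [χLoc_algebraMap, hχs]
  have hu : IsUnit (φ (ι s)) := isUnit_of_χLoc_eq_one I χE _ hχu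
  obtain ⟨u, hu'⟩ := hu
  set ρ : Loc I χE := algebraMap E (Loc I χE) r with hρ
  refine ⟨E, inferInstance, inferInstance, inferInstance, χE, hχE, φ, ↑u⁻¹ * ρ, ?_, ?_⟩
  · rcases subsingleton_or_nontrivial (Loc I χE) with hsub | hnt
    · exact Subsingleton.elim _ _
    · have e1 : (f.map φ.toRingHom).scaleRoots (φ (ι s)) = fC.map ((algebraMap E (Loc I χE)).comp
          (algebraMap C E)) := by
        have : (f.scaleRoots (ι s)).map φ.toRingHom =
            (f.map φ.toRingHom).scaleRoots (φ.toRingHom (ι s)) := by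
          apply map_scaleRoots
          rw [hf.leadingCoeff, map_one]
          exact one_ne_zero
        change _ = (f.map φ.toRingHom).scaleRoots (φ (ι s)) at this
        rw [← this, ← hft, ← hfC, Polynomial.map_map]
        congr 1
        ext c
        exact hφι c
      have e2 : ((f.map φ.toRingHom).scaleRoots (φ (ι s))).eval ρ = 0 := by
        rw [e1, eval_map, ← IsScalarTower.algebraMap_eq, ← aeval_def, hρ,
          aeval_algebraMap_apply, hr, map_zero]
      have e3 := scaleRoots_eval_mul (f.map φ.toRingHom) (↑u⁻¹ * ρ) (φ (ι s))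
      rw [← hu', ← mul_assoc, Units.mul_inv, one_mul, hu', e2] at e3
      have e4 : IsUnit (φ (ι s) ^ (f.map φ.toRingHom).natDegree) := by
        rw [← hu']; exact (u.isUnit).pow _
      exact (e4.mul_right_eq_zero).mp e3.symm
  · rw [map_mul, hρ]
    have e1 : χLoc I χE (algebraMap E (Loc I χE) r) = Ideal.Quotient.mk I α := by
      rw [χLoc_algebraMap, hχr, hχa]
    have e2 : χLoc I χE (↑u⁻¹ : Loc I χE) = 1 := by
      have h := congrArg (χLoc I χE) (Units.inv_mul u)
      rw [map_mul, hu', hχu, mul_one, map_one] at h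
      exact h
    rw [e1, e2, one_mul]

end stage

end Groth.Agent.Lib.helper3.PairHzn
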