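import Mathlib
import Groth.Agent.Lib.helper3.PairHzn4

/-!
# Henselization of a pair, part 5: the directed system and its colimit
-/

universe u

open TensorProduct Polynomial

namespace Groth.Agent.Lib.helper3.PairHzn

/-- Index type: presentations of augmented étale algebras. -/
structure Idx (A : Type u) [CommRing A] (I : Ideal A) : Type u where
  n : ℕ
  J : Ideal (MvPolynomial (Fin n) A)
  etale : Algebra.Etale A (MvPolynomial (Fin n) A ⧸ J)
  χ : (MvPolynomial (Fin n) A ⧸ J) →ₐ[A] A ⧸ I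
  aug : IsAug I χ

variable {A : Type u} [CommRing A] {I : Ideal A}

/-- the étale algebra of an index -/
abbrev Idx.C (i : Idx A I) : Type u := MvPolynomial (Fin i.n) A ⧸ i.J

instance (i : Idx A I) : Algebra.Etale A i.C := i.etale

/-- the localized algebra of an index -/
abbrev Idx.R (i : Idx A I) : Type u := Loc I i.χ

/-- every augmented étale algebra is isomorphic to a member of the skeleton -/
theorem exists_idx (C : Type u) [CommRing C] [Algebra A C] [Algebra.Etale A C]
    (χ : C →ₐ[A] A ⧸ I) (hχ : IsAug I χ) :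
    ∃ i : Idx A I, Nonempty (C ≃ₐ[A] i.C) := by
  obtain ⟨n, J, ⟨e⟩⟩ := exists_presentation (A := A) C
  haveI : Algebra.Etale A (MvPolynomial (Fin n) A ⧸ J) := Algebra.Etale.of_equiv e.symm
  refine ⟨⟨n, J, inferInstance, χ.comp e.toAlgHom, ?_⟩, ⟨e.symm⟩⟩
  intro x hx
  have h1 : e x ∈ I.map (algebraMap A C) := hχ hx
  have h2 := map_mem_of_mem I e.symm.toAlgHom h1
  simpa using h2

instance : Preorder (Idx A I) where
  le i j := Nonempty (i.R →ₐ[A] j.R)
  le_refl i := ⟨AlgHom.id A _⟩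
  le_trans i j k := fun ⟨f⟩ ⟨g⟩ => ⟨g.comp f⟩

/-- the transition maps -/
noncomputable def tr (i j : Idx A I) (h : i ≤ j) : i.R →ₐ[A] j.R := Classical.choice h

theorem tr_unique (i j : Idx A I) (φ ψ : i.R →ₐ[A] j.R) : φ = ψ :=
  algHom_ext_of_le_jacobson I (χLoc I i.χ) (isAug_χLoc I i.χ i.aug)
    (I.map (algebraMap A j.R)) (map_le_jacobson I j.χ) le_rfl φ ψ

/-- an augmented étale algebra with a map from `i.C` gives a larger index -/
theorem exists_ge_of_algHom (i : Idx A I) (E : Type u) [CommRing E] [Algebra A E]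
    [Algebra.Etale A E] (χE : E →ₐ[A] A ⧸ I) (hχE : IsAug I χE) (φ : i.R →ₐ[A] Loc I χE) :
    ∃ (k : Idx A I) (_ : i ≤ k) (ψ : Loc I χE →ₐ[A] k.R), True := by
  obtain ⟨k, ⟨e⟩⟩ := exists_idx E χE hχE
  let ψ : Loc I χE →ₐ[A] k.R := locMap I χE hχE k.χ e.toAlgHom
  exact ⟨k, ⟨ψ.comp φ⟩, ψ, trivial⟩

theorem etale_tensor (C D : Type u) [CommRing C] [Algebra A C] [CommRing D] [Algebra A D]
    [Algebra.Etale A C] [Algebra.Etale A D] : Algebra.Etale A (C ⊗[A] D) :=
  Algebra.Etale.comp A C (C ⊗[A] D)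

theorem exists_idx_tensor (C D : Type u) [CommRing C] [Algebra A C] [CommRing D] [Algebra A D]
    [Algebra.Etale A C] [Algebra.Etale A D] (χ : C →ₐ[A] A ⧸ I) (hχ : IsAug I χ)
    (χ' : D →ₐ[A] A ⧸ I) (hχ' : IsAug I χ') :
    ∃ k : Idx A I, Nonempty (Loc I χ →ₐ[A] k.R) ∧ Nonempty (Loc I χ' →ₐ[A] k.R) := by
  haveI : Algebra.Etale A (C ⊗[A] D) := etale_tensor C D
  obtain ⟨k, ⟨e⟩⟩ := exists_idx (C ⊗[A] D) (χTensor I χ χ') (isAug_χTensor I χ hχ χ' hχ')
  exact ⟨k, ⟨locMap I χ hχ k.χ (e.toAlgHom.comp Algebra.TensorProduct.includeLeft)⟩,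
    ⟨locMap I χ' hχ' k.χ (e.toAlgHom.comp Algebra.TensorProduct.includeRight)⟩⟩

instance : IsDirectedOrder (Idx A I) := ⟨fun i j => by
  obtain ⟨k, h1, h2⟩ := exists_idx_tensor i.C j.C i.χ i.aug j.χ j.aug
  exact ⟨k, h1, h2⟩⟩

instance : Nonempty (Idx A I) := by
  have h : IsAug I (Ideal.Quotient.mkₐ A I) := by
    intro x hx
    rw [RingHom.mem_ker, Ideal.Quotient.mkₐ_eq_mk, Ideal.Quotient.eq_zero_iff_mem] at hx
    simpa using hx
  obtain ⟨k, -⟩ := exists_idx A (Ideal.Quotient.mkₐ A I) h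
  exact ⟨k⟩

/-- transition maps as ring homomorphisms -/
noncomputable def trR (i j : Idx A I) (h : i ≤ j) : i.R →+* j.R := (tr i j h).toRingHom

instance : DirectedSystem (fun j : Idx A I => j.R) (fun i j h => trR i j h) where
  map_self i x := by
    have : tr i i le_rfl = AlgHom.id A _ := tr_unique i i _ _
    change tr i i le_rfl x = x
    rw [this]; rfl
  map_map k j i hij hjk x := by
    have : (tr j k hjk).comp (tr i j hij) = tr i k (hij.trans hjk) := tr_unique i k _ _
    change tr j k hjk (tr i j hij x) = tr i k (hij.trans hjk) x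
    rw [← this]; rfl

variable (A I)

/-- the henselization of the pair `(A, I)` -/
def Hzn : Type u := Ring.DirectLimit (fun j : Idx A I => j.R) (fun i j h => trR i j h)

noncomputable instance : CommRing (Hzn A I) :=
  inferInstanceAs (CommRing (Ring.DirectLimit (fun j : Idx A I => j.R) (fun i j h => trR i j h)))

variable {A I}

/-- canonical maps -/
noncomputable def ofIdx (i : Idx A I) : i.R →+* Hzn A I :=
  Ring.DirectLimit.of (fun j : Idx A I => j.R) (fun i j h => trR i j h) i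

theorem ofIdx_tr (i j : Idx A I) (h : i ≤ j) (x : i.R) : ofIdx j (trR i j h x) = ofIdx i x :=
  Ring.DirectLimit.of_f h x

theorem exists_ofIdx (z : Hzn A I) : ∃ i x, ofIdx i x = z := Ring.DirectLimit.exists_of z

theorem ofIdx_algebraMap (i j : Idx A I) (a : A) :
    ofIdx i (algebraMap A i.R a) = ofIdx j (algebraMap A j.R a) := by
  obtain ⟨k, hik, hjk⟩ := exists_ge_ge i j
  rw [← ofIdx_tr i k hik, ← ofIdx_tr j k hjk]
  congr 1
  exact ((tr i k hik).commutes a).trans ((tr j k hjk).commutes a).symm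

noncomputable instance : Algebra A (Hzn A I) :=
  ((ofIdx (Classical.arbitrary (Idx A I))).comp (algebraMap A _)).toAlgebra

theorem algebraMap_eq (i : Idx A I) (a : A) :
    algebraMap A (Hzn A I) a = ofIdx i (algebraMap A i.R a) :=
  ofIdx_algebraMap _ i a

/-- canonical maps as algebra maps -/
noncomputable def ofIdxₐ (i : Idx A I) : i.R →ₐ[A] Hzn A I :=
  { ofIdx i with commutes' := fun a => (algebraMap_eq i a).symm }

theorem χLoc_tr (i j : Idx A I) (hij : i ≤ j) (x : i.R) :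
    χLoc I j.χ (trR i j hij x) = χLoc I i.χ x :=
  AlgHom.congr_fun
    (aug_comp I (χLoc I i.χ) (isAug_χLoc I i.χ i.aug) (χLoc I j.χ) (tr i j hij)) x

/-- the augmentation of the colimit, as a ring map -/
noncomputable def χHr : Hzn A I →+* A ⧸ I :=
  Ring.DirectLimit.lift (fun j : Idx A I => j.R) (fun i j h => trR i j h) (A ⧸ I)
    (fun i => (χLoc I i.χ).toRingHom) (fun i j hij x => χLoc_tr i j hij x)

theorem χHr_ofIdx (i : Idx A I) (x : i.R) : χHr (ofIdx i x) = χLoc I i.χ x :=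
  Ring.DirectLimit.lift_of _ _ _ _ _

/-- the augmentation of the colimit -/
noncomputable def χH : Hzn A I →ₐ[A] A ⧸ I :=
  { χHr with
    commutes' := fun a => by
      change χHr (algebraMap A (Hzn A I) a) = _
      rw [algebraMap_eq (Classical.arbitrary (Idx A I)) a, χHr_ofIdx]
      exact (χLoc I _).commutes a }

theorem χH_ofIdx (i : Idx A I) (x : i.R) : χH (ofIdx i x) = χLoc I i.χ x := χHr_ofIdx i x

theorem isAug_χH : IsAug I (χH (A := A) (I := I)) := by
  intro z hz
  obtain ⟨i, x, rfl⟩ := exists_ofIdx z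
  rw [RingHom.mem_ker, χH_ofIdx] at hz
  have hx : x ∈ I.map (algebraMap A i.R) := isAug_χLoc I i.χ i.aug hz
  exact map_mem_of_mem I (ofIdxₐ i) hx

theorem isUnit_of_χH_eq_one (w : Hzn A I) (h : χH w = 1) : IsUnit w := by
  obtain ⟨i, x, rfl⟩ := exists_ofIdx w
  rw [χH_ofIdx] at h
  exact (isUnit_of_χLoc_eq_one I i.χ x h).map (ofIdx i)

theorem map_le_jacobson_H : I.map (algebraMap A (Hzn A I)) ≤ Ideal.jacobson ⊥ := by
  intro x hx
  rw [Ideal.mem_jacobson_bot]
  intro y
  apply isUnit_of_χH_eq_one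
  have : x * y ∈ RingHom.ker (χH (A := A) (I := I)) :=
    map_le_ker I χH (Ideal.mul_mem_right _ _ hx)
  rw [map_add, map_one, (RingHom.mem_ker).mp this, zero_add]

end Groth.Agent.Lib.helper3.PairHzn
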