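import Mathlib
import Groth.Prelude.Def_Hens2
import Groth.Agent.Lib.helper3.PairHzn5

/-!
# Henselization of a pair, part 6: the colimit is henselian and universal
-/

universe u

open TensorProduct Polynomial

namespace Groth.Agent.Lib.helper3.PairHzn

variable {A : Type u} [CommRing A] {I : Ideal A}

theorem exists_poly_of (f : (Hzn A I)[X]) : ∃ (i : Idx A I) (p : i.R[X]), p.map (ofIdx i) = f :=
  Ring.DirectLimit.Polynomial.exists_of f

theorem henselian_H : HenselianRing (Hzn A I) (I.map (algebraMap A (Hzn A I))) := by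
  refine ⟨map_le_jacobson_H, ?_⟩
  intro f hf a₀ h₁ h₂
  obtain ⟨α, hα, -⟩ := exists_sub_mem I (χH (A := A) (I := I)) a₀
  obtain ⟨i, fi', hfi'⟩ := exists_poly_of f
  have hlifts : f ∈ lifts (ofIdx i) := (mem_lifts _).mpr ⟨fi', hfi'⟩
  obtain ⟨fi, hfi, -, hfim⟩ := lifts_and_natDegree_eq_and_monic hlifts hf
  have hχmap : fi.map (χLoc I i.χ).toRingHom = f.map (χH (A := A) (I := I)).toRingHom := by
    rw [← hfi, Polynomial.map_map]
    congr 1
    ext x
    exact (χH_ofIdx i x).symm
  have hev : ∀ p : (Hzn A I)[X], (p.map (χH (A := A) (I := I)).toRingHom).eval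
      (Ideal.Quotient.mk I α) = χH (p.eval a₀) := by
    intro p
    rw [← hα, eval_map]
    exact eval₂_at_apply (χH (A := A) (I := I)).toRingHom a₀
  have h0 : (fi.map (χLoc I i.χ).toRingHom).eval (Ideal.Quotient.mk I α) = 0 := by
    rw [hχmap, hev]
    exact map_le_ker I χH h₁
  have h1 : IsUnit ((fi.map (χLoc I i.χ).toRingHom).derivative.eval (Ideal.Quotient.mk I α)) := by
    rw [hχmap, derivative_map, hev]
    let q : (Hzn A I ⧸ I.map (algebraMap A (Hzn A I))) →+* A ⧸ I :=
      Ideal.Quotient.lift _ (χH (A := A) (I := I)).toRingHom (fun x hx => map_le_ker I χH hx)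
    have := h₂.map q
    exact this
  obtain ⟨E, _, _, _, χE, hχE, φ, x, hx, hχx⟩ := stage_root I i.C i.χ i.aug fi hfim α h0 h1
  obtain ⟨k, hik, ψ, -⟩ := exists_ge_of_algHom i E χE hχE φ
  have htr : tr i k hik = ψ.comp φ := tr_unique i k _ _
  refine ⟨ofIdx k (ψ x), ?_, ?_⟩
  · change f.eval (ofIdx k (ψ x)) = 0
    have e1 : f = (fi.map φ.toRingHom).map ((ofIdx k).comp ψ.toRingHom) := by
      rw [Polynomial.map_map, ← hfi]
      congr 1
      ext y
      have := ofIdx_tr i k hik y
      rw [← this]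
      change ofIdx k (tr i k hik y) = _
      rw [htr]
      rfl
    rw [e1, eval_map]
    have e2 : ofIdx k (ψ x) = ((ofIdx k).comp ψ.toRingHom) x := rfl
    rw [e2, eval₂_at_apply, hx, map_zero]
  · have h3 : ofIdx k (ψ x) - a₀ ∈ RingHom.ker (χH (A := A) (I := I)) := by
      rw [RingHom.mem_ker, map_sub, χH_ofIdx, hα]
      have := AlgHom.congr_fun
        (aug_comp I (χLoc I χE) (isAug_χLoc I χE hχE) (χLoc I k.χ) ψ) x
      change χLoc I k.χ (ψ x) = _ at this
      rw [this, hχx, sub_self]
    exact isAug_χH h3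

/-- the universal property -/
theorem universal (T : Type u) [CommRing T] (J : Ideal T) (g : A →+* T) (hT : HenselianRing T J)
    (hg : I.map g ≤ J) : ∃! G : Hzn A I →+* T, G.comp (algebraMap A (Hzn A I)) = g := by
  classical
  letI : Algebra A T := g.toAlgebra
  have hJ : J ≤ Ideal.jacobson ⊥ := hT.jac
  have hg' : I.map (algebraMap A T) ≤ J := hg
  let ψ : ∀ i : Idx A I, i.R →ₐ[A] T := fun i =>
    Classical.choice (exists_algHom_loc I i.C i.χ T J hg')
  have hψu : ∀ i (θ : i.R →ₐ[A] T), θ = ψ i := fun i θ =>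
    algHom_loc_unique I i.C i.χ T J i.aug hJ hg' θ (ψ i)
  have hcompat : ∀ i j (hij : i ≤ j) x, (ψ j).toRingHom (trR i j hij x) = (ψ i).toRingHom x := by
    intro i j hij x
    have : (ψ j).comp (tr i j hij) = ψ i := hψu i _
    exact AlgHom.congr_fun this x
  let G : Hzn A I →+* T :=
    Ring.DirectLimit.lift (fun j : Idx A I => j.R) (fun i j h => trR i j h) T
      (fun i => (ψ i).toRingHom) hcompat
  have hG : ∀ i x, G (ofIdx i x) = ψ i x := fun i x => Ring.DirectLimit.lift_of _ _ _ _ _
  refine ⟨G, ?_, ?_⟩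
  · ext a
    simp only [RingHom.comp_apply]
    rw [algebraMap_eq (Classical.arbitrary (Idx A I)) a, hG]
    exact (ψ _).commutes a
  · intro G' hG'
    apply Ring.DirectLimit.hom_ext
    intro i
    have h1 : G'.comp (ofIdx i) = (ψ i).toRingHom := by
      let θ : i.R →ₐ[A] T :=
        { G'.comp (ofIdx i) with
          commutes' := fun a => by
            change G' (ofIdx i (algebraMap A i.R a)) = g a
            rw [← algebraMap_eq i a]
            exact RingHom.congr_fun hG' a }
      have := hψu i θ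
      rw [← this]
    have h2 : G.comp (ofIdx i) = (ψ i).toRingHom := by
      ext x
      exact hG i x
    exact h1.trans h2.symm

theorem isPairHenselization : Hens2.IsPairHenselization A I (Hzn A I) :=
  ⟨henselian_H, fun T _ J g hT hg => universal T J g hT hg⟩

end Groth.Agent.Lib.helper3.PairHzn
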