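import Mathlib
import Groth.Agent.Lib.helper3.PairHzn6

/-!
# Henselization of a pair, part 7: flatness and the étale neighbourhoods
-/

universe u

open TensorProduct Polynomial

namespace Groth.Agent.Lib.helper3.PairHzn

variable {A : Type u} [CommRing A] {I : Ideal A}

theorem ofIdx_zero_exact (i : Idx A I) (x : i.R) (hx : ofIdx i x = 0) :
    ∃ (j : Idx A I) (hij : i ≤ j), trR i j hij x = 0 :=
  Ring.DirectLimit.of.zero_exact (f' := fun i j h => trR i j h) hx

theorem exists_ofIdx_fin {l : ℕ} (x : Fin l → Hzn A I) :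
    ∃ (k : Idx A I) (x' : Fin l → k.R), ∀ i, ofIdx k (x' i) = x i := by
  choose j y hy using fun i => exists_ofIdx (x i)
  obtain ⟨k, hk⟩ := Finite.exists_le j
  exact ⟨k, fun i => trR (j i) k (hk i) (y i), fun i => by rw [ofIdx_tr, hy]⟩

instance flat_H : Module.Flat A (Hzn A I) := by
  apply Module.Flat.of_forall_isTrivialRelation
  intro l f x hfx
  obtain ⟨k, x', hx'⟩ := exists_ofIdx_fin x
  have h1 : ofIdx k (∑ i, algebraMap A k.R (f i) * x' i) = 0 := by
    rw [← hfx, map_sum]
    refine Finset.sum_congr rfl fun i _ => ?_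
    rw [← hx' i, map_mul, Algebra.smul_def, algebraMap_eq k]
  obtain ⟨k', hkk', h2⟩ := ofIdx_zero_exact k _ h1
  have h3 : ∑ i, algebraMap A k'.R (f i) * (tr k k' hkk' (x' i)) = 0 := by
    rw [← h2]
    change _ = tr k k' hkk' _
    rw [map_sum]
    refine Finset.sum_congr rfl fun i _ => ?_
    rw [map_mul, AlgHom.commutes]
  have h4 : Module.IsTrivialRelation f (fun i => tr k k' hkk' (x' i)) := by
    apply Module.Flat.isTrivialRelation_of_sum_smul_eq_zero
    rw [← h3]
    refine Finset.sum_congr rfl fun i _ => ?_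
    rw [Algebra.smul_def]
  obtain ⟨m, a, y, hy1, hy2⟩ := h4
  refine ⟨m, a, fun j => ofIdx k' (y j), fun i => ?_, hy2⟩
  rw [← hx' i, ← ofIdx_tr k k' hkk']
  change ofIdx k' (tr k k' hkk' (x' i)) = _
  have hy1' : tr k k' hkk' (x' i) = ∑ j, a i j • y j := hy1 i
  rw [hy1', map_sum]
  refine Finset.sum_congr rfl fun j _ => ?_
  rw [Algebra.smul_def, Algebra.smul_def, map_mul, algebraMap_eq k']

/-- every element of the henselization comes from an augmented étale algebra -/
theorem exists_etale_nbhd (x : Hzn A I) :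
    ∃ (C : Type u) (_ : CommRing C) (_ : Algebra A C) (_ : Algebra.Etale A C)
      (χ : C →ₐ[A] A ⧸ I) (_ : IsAug I χ) (φ : C →ₐ[A] Hzn A I) (c : C), φ c = x := by
  obtain ⟨i, y, rfl⟩ := exists_ofIdx x
  obtain ⟨c, s, rfl⟩ := IsLocalization.exists_mk'_eq (M I i.χ) y
  have hs : i.χ (s : i.C) = 1 := (mem_M I i.χ).mp s.2
  haveI : Algebra.Etale A (Localization.Away (s : i.C)) :=
    Algebra.Etale.comp A i.C (Localization.Away (s : i.C))
  -- the map `C[1/s] → R_i`
  have hunit : ∀ t : Submonoid.powers (s : i.C),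
      IsUnit ((IsScalarTower.toAlgHom A i.C i.R) t) := by
    intro t
    obtain ⟨n, hn⟩ := t.2
    have : (t : i.C) ∈ M I i.χ := by
      rw [mem_M, ← hn, map_pow, hs, one_pow]
    exact IsLocalization.map_units i.R ⟨(t : i.C), this⟩
  let θ : Localization.Away (s : i.C) →ₐ[A] i.R :=
    IsLocalization.liftAlgHom (M := Submonoid.powers (s : i.C))
      (f := IsScalarTower.toAlgHom A i.C i.R) hunit
  refine ⟨Localization.Away (s : i.C), inferInstance, inferInstance, inferInstance,
    χAway I i.χ s hs, isAug_χAway I i.χ s hs i.aug, (ofIdxₐ i).comp θ,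
    IsLocalization.mk' (Localization.Away (s : i.C)) c
      (⟨s, Submonoid.mem_powers _⟩ : Submonoid.powers (s : i.C)), ?_⟩
  change ofIdx i (θ _) = ofIdx i _
  congr 1
  change IsLocalization.lift hunit _ = _
  rw [IsLocalization.lift_mk'_spec]
  change algebraMap i.C i.R c = algebraMap i.C i.R s * _
  rw [mul_comm, IsLocalization.mk'_spec]

/-- elements of `A` dying in the henselization die in an augmented étale algebra -/
theorem exists_etale_nbhd_of_algebraMap_eq_zero (a : A) (ha : algebraMap A (Hzn A I) a = 0) :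
    ∃ (C : Type u) (_ : CommRing C) (_ : Algebra A C) (_ : Algebra.Etale A C)
      (χ : C →ₐ[A] A ⧸ I) (_ : IsAug I χ), algebraMap A C a = 0 := by
  rw [algebraMap_eq (Classical.arbitrary (Idx A I)) a] at ha
  obtain ⟨j, hij, h0⟩ := ofIdx_zero_exact _ _ ha
  have h1 : algebraMap A j.R a = 0 := by
    rw [← h0]
    exact ((tr _ j hij).commutes a).symm
  rw [IsScalarTower.algebraMap_apply A j.C j.R, IsLocalization.map_eq_zero_iff (M I j.χ)] at h1
  obtain ⟨s, hs0⟩ := h1
  have hs : j.χ (s : j.C) = 1 := (mem_M I j.χ).mp s.2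
  haveI : Algebra.Etale A (Localization.Away (s : j.C)) :=
    Algebra.Etale.comp A j.C (Localization.Away (s : j.C))
  refine ⟨Localization.Away (s : j.C), inferInstance, inferInstance, inferInstance,
    χAway I j.χ s hs, isAug_χAway I j.χ s hs j.aug, ?_⟩
  rw [IsScalarTower.algebraMap_apply A j.C (Localization.Away (s : j.C)),
    IsLocalization.map_eq_zero_iff (Submonoid.powers (s : j.C))]
  exact ⟨⟨s, Submonoid.mem_powers _⟩, hs0⟩

end Groth.Agent.Lib.helper3.PairHzn
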