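import Mathlib
import Groth.Agent.Lib.helper3.PairHzn7
import Groth.Agent.Lib.lead.PairHz
import Groth.Agent.S0526

/-!
# Henselization of a pair, part 8: quotients, change of base along isomorphisms, common neighbourhoods
-/

universe u

open TensorProduct Polynomial

namespace Groth.Agent.Lib.helper3.PairHzn

/-- a quotient of a henselian pair is a henselian pair -/
theorem henselian_quot (P : Type u) [CommRing P] (K : Ideal P) [HenselianRing P K] (𝔞 : Ideal P) :
    HenselianRing (P ⧸ 𝔞) (K.map (Ideal.Quotient.mk 𝔞)) := by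
  haveI : Module.Finite P (P ⧸ 𝔞) :=
    Module.Finite.of_surjective (Algebra.linearMap P (P ⧸ 𝔞)) Ideal.Quotient.mk_surjective
  haveI : Algebra.IsIntegral P (P ⧸ 𝔞) := Algebra.IsIntegral.of_finite P (P ⧸ 𝔞)
  exact Groth.Agent.S0526.result P K (P ⧸ 𝔞)

/-- the henselization of a quotient pair is the quotient of the henselization -/
theorem isPairHenselization_quot (C : Type u) [CommRing C] (K : Ideal C) (P : Type u) [CommRing P]
    [Algebra C P] (hP : Hens2.IsPairHenselization C K P) (𝔠 : Ideal C) :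
    Hens2.IsPairHenselization (C ⧸ 𝔠) (K.map (Ideal.Quotient.mk 𝔠))
      (P ⧸ 𝔠.map (algebraMap C P)) := by
  have hcomm : (algebraMap (C ⧸ 𝔠) (P ⧸ 𝔠.map (algebraMap C P))).comp (Ideal.Quotient.mk 𝔠) =
      (Ideal.Quotient.mk (𝔠.map (algebraMap C P))).comp (algebraMap C P) := by
    ext c; rfl
  refine ⟨?_, ?_⟩
  · haveI := hP.1
    have := henselian_quot P (K.map (algebraMap C P)) (𝔠.map (algebraMap C P))
    rwa [Ideal.map_map, ← hcomm, ← Ideal.map_map] at this
  · intro T _ L f hT hfL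
    have hfL' : K.map (f.comp (Ideal.Quotient.mk 𝔠)) ≤ L := by
      rw [← Ideal.map_map]; exact hfL
    obtain ⟨g, hg, hgu⟩ := hP.2 T L (f.comp (Ideal.Quotient.mk 𝔠)) hT hfL'
    have hgker : ∀ x ∈ 𝔠.map (algebraMap C P), g x = 0 := by
      intro x hx
      have h1 : g x ∈ (𝔠.map (algebraMap C P)).map g := Ideal.mem_map_of_mem _ hx
      rw [Ideal.map_map, hg, ← Ideal.map_map, Ideal.map_quotient_self, Ideal.map_bot,
        Ideal.mem_bot] at h1
      exact h1
    refine ⟨Ideal.Quotient.lift _ g hgker, ?_, ?_⟩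
    · apply Ideal.Quotient.ringHom_ext
      ext c
      change Ideal.Quotient.lift _ g hgker
        ((algebraMap (C ⧸ 𝔠) (P ⧸ 𝔠.map (algebraMap C P))) (Ideal.Quotient.mk 𝔠 c)) = _
      have : (algebraMap (C ⧸ 𝔠) (P ⧸ 𝔠.map (algebraMap C P))) (Ideal.Quotient.mk 𝔠 c) =
          Ideal.Quotient.mk _ (algebraMap C P c) := RingHom.congr_fun hcomm c
      rw [this, Ideal.Quotient.lift_mk]
      exact RingHom.congr_fun hg c
    · intro g' hg'
      have h1 : g'.comp (Ideal.Quotient.mk (𝔠.map (algebraMap C P))) = g := by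
        apply hgu
        rw [RingHom.comp_assoc, ← hcomm, ← RingHom.comp_assoc, hg']
      apply Ideal.Quotient.ringHom_ext
      rw [h1]
      ext x
      simp

/-- change of the base ring along an isomorphism -/
theorem isPairHenselization_of_ringEquiv_base {S' R : Type u} [CommRing S'] [CommRing R]
    (ε : S' ≃+* R) (J' : Ideal S') (J : Ideal R) (hJ : J'.map (ε : S' →+* R) = J)
    (B : Type u) [CommRing B] [Algebra R B] [Algebra S' B]
    (hcomp : algebraMap S' B = (algebraMap R B).comp (ε : S' →+* R))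
    (hB : Hens2.IsPairHenselization R J B) : Hens2.IsPairHenselization S' J' B := by
  refine ⟨?_, ?_⟩
  · have := hB.1
    rwa [← hJ, Ideal.map_map, ← hcomp] at this
  · intro T _ L f hT hfL
    have hε : ((ε.symm : R →+* S').comp (ε : S' →+* R)) = RingHom.id S' := by
      ext x; simp
    have hfL' : J.map (f.comp (ε.symm : R →+* S')) ≤ L := by
      rw [← hJ, Ideal.map_map, RingHom.comp_assoc, hε, RingHom.comp_id]
      exact hfL
    obtain ⟨g, hg, hgu⟩ := hB.2 T L (f.comp (ε.symm : R →+* S')) hT hfL'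
    refine ⟨g, ?_, ?_⟩
    · change g.comp (algebraMap S' B) = f
      rw [hcomp, ← RingHom.comp_assoc, hg, RingHom.comp_assoc, hε, RingHom.comp_id]
    · intro g' hg'
      apply hgu
      change g'.comp (algebraMap S' B) = f at hg'
      rw [hcomp, ← RingHom.comp_assoc] at hg'
      rw [← hg', RingHom.comp_assoc]
      have hε' : ((ε : S' →+* R).comp (ε.symm : R →+* S')) = RingHom.id R := by
        ext x; simp
      rw [hε', RingHom.comp_id]

/-- finitely many elements of a henselization come from a common étale neighbourhood -/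
theorem exists_common_nbhd (S : Type u) [CommRing S] (J : Ideal S) (P : Type u) [CommRing P]
    [Algebra S P] (hP : Hens2.IsPairHenselization S J P) (F : Finset P) :
    ∃ (C : Type u) (_ : CommRing C) (_ : Algebra S C) (_ : Algebra.Etale S C)
      (χ : C →ₐ[S] S ⧸ J) (_ : IsAug J χ) (ψ : C →ₐ[S] P), ∀ x ∈ F, ∃ c : C, ψ c = x := by
  classical
  obtain ⟨e⟩ := Groth.Agent.Lib.lead.PairHz.algEquiv_of_isPairHenselization hP
    (isPairHenselization (A := S) (I := J))
  induction F using Finset.induction_on with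
  | empty =>
    have h : IsAug J (Ideal.Quotient.mkₐ S J) := by
      intro x hx
      rw [RingHom.mem_ker, Ideal.Quotient.mkₐ_eq_mk, Ideal.Quotient.eq_zero_iff_mem] at hx
      simpa using hx
    exact ⟨S, inferInstance, inferInstance, inferInstance, Ideal.Quotient.mkₐ S J, h,
      Algebra.ofId S P, fun x hx => absurd hx (Finset.notMem_empty x)⟩
  | insert x F hx ih =>
    obtain ⟨C₁, _, _, _, χ₁, hχ₁, ψ₁, h₁⟩ := ih
    obtain ⟨C₂, _, _, _, χ₂, hχ₂, φ₂, c₂, hc₂⟩ := exists_etale_nbhd (A := S) (I := J) (e x)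
    let ψ₂ : C₂ →ₐ[S] P := e.symm.toAlgHom.comp φ₂
    have hψ₂ : ψ₂ c₂ = x := by
      change e.symm (φ₂ c₂) = x
      rw [hc₂, AlgEquiv.symm_apply_apply]
    haveI : Algebra.Etale S (C₁ ⊗[S] C₂) := etale_tensor C₁ C₂
    refine ⟨C₁ ⊗[S] C₂, inferInstance, inferInstance, inferInstance, χTensor J χ₁ χ₂,
      isAug_χTensor J χ₁ hχ₁ χ₂ hχ₂, Algebra.TensorProduct.productMap ψ₁ ψ₂, ?_⟩
    intro y hy
    rcases Finset.mem_insert.mp hy with rfl | hy
    · exact ⟨1 ⊗ₜ c₂, by simp [hψ₂]⟩
    · obtain ⟨c, hc⟩ := h₁ y hy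
      exact ⟨c ⊗ₜ 1, by simp [hc]⟩

end Groth.Agent.Lib.helper3.PairHzn
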