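import Mathlib
import Groth.Agent.Lib.helper3.PairHzn8
import Groth.Agent.S19568

/-!
# Henselization of a pair, part 9: composition of neighbourhoods, killing elements, factoring maps
from finitely presented algebras, base change
-/

universe u

open TensorProduct Polynomial

namespace Groth.Agent.Lib.helper3.PairHzn

/-- a neighbourhood of a neighbourhood is a neighbourhood -/
theorem nbhd_comp (S₀ : Type u) [CommRing S₀] (J₀ : Ideal S₀)
    (S₁ : Type u) [CommRing S₁] [Algebra S₀ S₁] [Algebra.Etale S₀ S₁]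
    (χ₁ : S₁ →ₐ[S₀] S₀ ⧸ J₀) (hχ₁ : IsAug J₀ χ₁)
    (S₂ : Type u) [CommRing S₂] [Algebra S₁ S₂] [Algebra.Etale S₁ S₂]
    (χ₂ : S₂ →ₐ[S₁] S₁ ⧸ J₀.map (algebraMap S₀ S₁)) (hχ₂ : IsAug (J₀.map (algebraMap S₀ S₁)) χ₂)
    [Algebra S₀ S₂] [IsScalarTower S₀ S₁ S₂] :
    Algebra.Etale S₀ S₂ ∧ ∃ χ : S₂ →ₐ[S₀] S₀ ⧸ J₀, IsAug J₀ χ := by
  refine ⟨Algebra.Etale.comp S₀ S₁ S₂, ?_⟩
  let q : S₁ ⧸ J₀.map (algebraMap S₀ S₁) →ₐ[S₀] S₀ ⧸ J₀ :=
    Ideal.Quotient.liftₐ _ χ₁ (fun a ha => map_le_ker J₀ χ₁ ha)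
  refine ⟨q.comp (χ₂.restrictScalars S₀), ?_⟩
  apply isAug_of_surj
  intro c
  obtain ⟨a', ha'⟩ := surj_of_isAug _ χ₂ hχ₂ c
  obtain ⟨a, ha⟩ := surj_of_isAug J₀ χ₁ hχ₁ a'
  refine ⟨a, ?_⟩
  have e1 : (J₀.map (algebraMap S₀ S₁)).map (algebraMap S₁ S₂) = J₀.map (algebraMap S₀ S₂) := by
    rw [Ideal.map_map, ← IsScalarTower.algebraMap_eq]
  have e2 : c - algebraMap S₀ S₂ a =
      (c - algebraMap S₁ S₂ a') + algebraMap S₁ S₂ (a' - algebraMap S₀ S₁ a) := by
    rw [map_sub, ← IsScalarTower.algebraMap_apply S₀ S₁ S₂]; ring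
  rw [e2]
  refine Ideal.add_mem _ (e1 ▸ ha') ?_
  exact algebraMap_mem_of_mem J₀ ha

/-- finitely many elements dying in the henselization die in a common neighbourhood -/
theorem kill_finset (S₀ : Type u) [CommRing S₀] (J₀ : Ideal S₀) (C : Type u) [CommRing C]
    [Algebra S₀ C] (hC : Hens2.IsPairHenselization S₀ J₀ C) (Z : Finset S₀)
    (hZ : ∀ z ∈ Z, algebraMap S₀ C z = 0) :
    ∃ (S₁ : Type u) (_ : CommRing S₁) (_ : Algebra S₀ S₁) (_ : Algebra.Etale S₀ S₁)
      (χ : S₁ →ₐ[S₀] S₀ ⧸ J₀) (_ : IsAug J₀ χ), ∀ z ∈ Z, algebraMap S₀ S₁ z = 0 := by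
  classical
  induction Z using Finset.induction_on with
  | empty =>
    have h : IsAug J₀ (Ideal.Quotient.mkₐ S₀ J₀) := by
      intro x hx
      rw [RingHom.mem_ker, Ideal.Quotient.mkₐ_eq_mk, Ideal.Quotient.eq_zero_iff_mem] at hx
      simpa using hx
    exact ⟨S₀, inferInstance, inferInstance, inferInstance, Ideal.Quotient.mkₐ S₀ J₀, h,
      fun z hz => absurd hz (Finset.notMem_empty z)⟩
  | insert z Z hzZ ih =>
    obtain ⟨S₁, _, _, _, χ₁, hχ₁, h₁⟩ := ih (fun y hy => hZ y (Finset.mem_insert_of_mem hy))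
    haveI := hC.1
    obtain ⟨ψ₁, -⟩ := exists_algHom_henselian J₀ S₁ χ₁ C (J₀.map (algebraMap S₀ C)) le_rfl
    letI algS₁C : Algebra S₁ C := ψ₁.toRingHom.toAlgebra
    haveI : IsScalarTower S₀ S₁ C := IsScalarTower.of_algebraMap_eq (fun s => (ψ₁.commutes s).symm)
    have hC₁ := Groth.Agent.S19568.isPairHenselization_of_nbhd S₀ J₀ C hC S₁ χ₁ hχ₁
    set J₁ : Ideal S₁ := J₀.map (algebraMap S₀ S₁) with hJ₁
    obtain ⟨e⟩ := Groth.Agent.Lib.lead.PairHz.algEquiv_of_isPairHenselization hC₁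
      (isPairHenselization (A := S₁) (I := J₁))
    have hz' : algebraMap S₁ (Hzn S₁ J₁) (algebraMap S₀ S₁ z) = 0 := by
      rw [← e.commutes, ← IsScalarTower.algebraMap_apply S₀ S₁ C, hZ z (Finset.mem_insert_self z Z),
        map_zero]
    obtain ⟨S₂, _, _, _, χ₂, hχ₂, h₂⟩ :=
      exists_etale_nbhd_of_algebraMap_eq_zero (algebraMap S₀ S₁ z) hz'
    letI algS₀S₂ : Algebra S₀ S₂ := ((algebraMap S₁ S₂).comp (algebraMap S₀ S₁)).toAlgebra
    haveI : IsScalarTower S₀ S₁ S₂ := IsScalarTower.of_algebraMap_eq (fun _ => rfl)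
    obtain ⟨het, χ, hχ⟩ := nbhd_comp S₀ J₀ S₁ χ₁ hχ₁ S₂ χ₂ hχ₂
    refine ⟨S₂, inferInstance, algS₀S₂, het, χ, hχ, ?_⟩
    intro y hy
    rcases Finset.mem_insert.mp hy with rfl | hy
    · exact h₂
    · change algebraMap S₁ S₂ (algebraMap S₀ S₁ y) = 0
      rw [h₁ y hy, map_zero]

/-- base change: if `B` is a henselization of `(R, K)` and `C` is a henselization of `(S', KS')`
for an `R`-algebra `S'`, compatibly, then `C` is a henselization of `(B ⊗_R S', K(B ⊗_R S'))` -/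
theorem isPairHenselization_baseChange (R : Type u) [CommRing R] (K : Ideal R)
    (B : Type u) [CommRing B] [Algebra R B] (hB : Hens2.IsPairHenselization R K B)
    (S' : Type u) [CommRing S'] [Algebra R S']
    (C : Type u) [CommRing C] [Algebra S' C] [Algebra B C] [Algebra R C] [IsScalarTower R S' C]
    [IsScalarTower R B C] (hC : Hens2.IsPairHenselization S' (K.map (algebraMap R S')) C)
    [Algebra (B ⊗[R] S') C]
    (hμ : ∀ (b : B) (s : S'), algebraMap (B ⊗[R] S') C (b ⊗ₜ s) = algebraMap B C b * algebraMap S' C s) :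
    Hens2.IsPairHenselization (B ⊗[R] S') (K.map (algebraMap R (B ⊗[R] S'))) C := by
  have hμL : ∀ b : B, algebraMap (B ⊗[R] S') C (b ⊗ₜ 1) = algebraMap B C b := by
    intro b; rw [hμ, map_one, mul_one]
  have hμR : ∀ s : S', algebraMap (B ⊗[R] S') C (1 ⊗ₜ s) = algebraMap S' C s := by
    intro s; rw [hμ, map_one, one_mul]
  have hμA : ∀ r : R, algebraMap (B ⊗[R] S') C (algebraMap R (B ⊗[R] S') r) = algebraMap R C r := by
    intro r
    rw [Algebra.TensorProduct.algebraMap_apply, hμL, ← IsScalarTower.algebraMap_apply]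
  refine ⟨?_, ?_⟩
  · have := hC.1
    rw [Ideal.map_map, ← IsScalarTower.algebraMap_eq] at this
    rw [Ideal.map_map]
    have e : (algebraMap (B ⊗[R] S') C).comp (algebraMap R (B ⊗[R] S')) = algebraMap R C := by
      ext r; exact hμA r
    rw [e]; exact this
  · intro U _ L h hU hhL
    -- `σ : S' → U`
    let σ : S' →+* U := h.comp (Algebra.TensorProduct.includeRight : S' →ₐ[R] B ⊗[R] S').toRingHom
    have hσ : ∀ s, σ s = h (1 ⊗ₜ s) := fun s => rfl
    have hσR : ∀ r : R, σ (algebraMap R S' r) = h (algebraMap R (B ⊗[R] S') r) := by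
      intro r
      rw [hσ, Algebra.TensorProduct.algebraMap_apply, Algebra.algebraMap_eq_smul_one,
        Algebra.algebraMap_eq_smul_one (A := B), TensorProduct.smul_tmul]
    have hσL : (K.map (algebraMap R S')).map σ ≤ L := by
      rw [Ideal.map_map]
      have : σ.comp (algebraMap R S') = h.comp (algebraMap R (B ⊗[R] S')) := by
        ext r; exact hσR r
      rw [this, ← Ideal.map_map]
      exact hhL
    obtain ⟨γ, hγ, hγu⟩ := hC.2 U L σ hU hσL
    -- the two maps `B → U`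
    let β₁ : B →+* U := γ.comp (algebraMap B C)
    let β₂ : B →+* U := h.comp (Algebra.TensorProduct.includeLeft : B →ₐ[R] B ⊗[R] S').toRingHom
    have hKL : K.map (h.comp (algebraMap R (B ⊗[R] S'))) ≤ L := by
      rw [← Ideal.map_map]; exact hhL
    obtain ⟨β, -, hβu⟩ := hB.2 U L (h.comp (algebraMap R (B ⊗[R] S'))) hU hKL
    have hβ₁ : β₁ = β := by
      apply hβu
      ext r
      change γ (algebraMap B C (algebraMap R B r)) = h (algebraMap R (B ⊗[R] S') r)
      rw [← IsScalarTower.algebraMap_apply R B C, IsScalarTower.algebraMap_apply R S' C]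
      have := RingHom.congr_fun hγ (algebraMap R S' r)
      change γ (algebraMap S' C (algebraMap R S' r)) = σ (algebraMap R S' r) at this
      rw [this, hσR]
    have hβ₂ : β₂ = β := by
      apply hβu
      ext r
      change h ((algebraMap R B r) ⊗ₜ 1) = h (algebraMap R (B ⊗[R] S') r)
      rw [Algebra.TensorProduct.algebraMap_apply]
    have hβ12 : ∀ b, γ (algebraMap B C b) = h (b ⊗ₜ 1) := fun b =>
      RingHom.congr_fun (hβ₁.trans hβ₂.symm) b
    have hγh : γ.comp (algebraMap (B ⊗[R] S') C) = h := by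
      apply RingHom.ext
      intro t
      induction t using TensorProduct.induction_on with
      | zero => simp
      | tmul b s =>
        change γ (algebraMap (B ⊗[R] S') C (b ⊗ₜ s)) = h (b ⊗ₜ s)
        rw [hμ, map_mul, hβ12]
        have := RingHom.congr_fun hγ s
        change γ (algebraMap S' C s) = h (1 ⊗ₜ s) at this
        rw [this, ← map_mul, Algebra.TensorProduct.tmul_mul_tmul, mul_one, one_mul]
      | add x y hx hy =>
        rw [map_add, map_add, hx, hy]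
    refine ⟨γ, hγh, ?_⟩
    intro γ' hγ'
    apply hγu
    ext s
    change γ' (algebraMap S' C s) = h (1 ⊗ₜ s)
    rw [← hμR]
    exact RingHom.congr_fun hγ' (1 ⊗ₜ s)

end Groth.Agent.Lib.helper3.PairHzn
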