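import Mathlib
import Groth.Agent.Lib.helper3.PairHzn9

/-!
# Henselization of a pair, part 10: maps from finitely presented algebras into the henselization
factor through an étale neighbourhood
-/

universe u

open TensorProduct Polynomial

namespace Groth.Agent.Lib.helper3.PairHzn

theorem fp_factor (A : Type u) [CommRing A] (S : Type u) [CommRing S] [Algebra A S] (J : Ideal S)
    (C : Type u) [CommRing C] [Algebra S C] [Algebra A C] [IsScalarTower A S C]
    (hC : Hens2.IsPairHenselization S J C)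
    (R : Type u) [CommRing R] [Algebra A R] [Algebra.FinitePresentation A R] (θ : R →ₐ[A] C) :
    ∃ (S' : Type u) (_ : CommRing S') (_ : Algebra S S') (_ : Algebra.Etale S S')
      (χ : S' →ₐ[S] S ⧸ J) (_ : IsAug J χ) (_ : Algebra A S') (_ : IsScalarTower A S S')
      (ψ : S' →ₐ[S] C) (ρ : R →ₐ[A] S'), ∀ r, ψ (ρ r) = θ r := by
  classical
  obtain ⟨n, π, hπ, G, hG⟩ := Algebra.FinitePresentation.out (R := A) (A := R)
  haveI hCh : HenselianRing C (J.map (algebraMap S C)) := hC.1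
  have hCjac : J.map (algebraMap S C) ≤ Ideal.jacobson ⊥ := hCh.jac
  let F : Finset C := Finset.univ.image (fun i : Fin n => θ (π (MvPolynomial.X i)))
  obtain ⟨S₀, _, _, _, χ₀, hχ₀, ψ₀, hψ₀⟩ := exists_common_nbhd S J C hC F
  have hc : ∀ i : Fin n, ∃ c : S₀, ψ₀ c = θ (π (MvPolynomial.X i)) := fun i =>
    hψ₀ _ (Finset.mem_image_of_mem _ (Finset.mem_univ i))
  choose c hc using hc
  letI algAS₀ : Algebra A S₀ := ((algebraMap S S₀).comp (algebraMap A S)).toAlgebra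
  haveI towerASS₀ : IsScalarTower A S S₀ := IsScalarTower.of_algebraMap_eq (fun _ => rfl)
  let ρ₀ : MvPolynomial (Fin n) A →ₐ[A] S₀ := MvPolynomial.aeval c
  have h1 : (ψ₀.restrictScalars A).comp ρ₀ = θ.comp π := by
    apply MvPolynomial.algHom_ext
    intro i
    change ψ₀ (MvPolynomial.aeval c (MvPolynomial.X i)) = θ (π (MvPolynomial.X i))
    rw [MvPolynomial.aeval_X, hc]
  letI algS₀C : Algebra S₀ C := ψ₀.toRingHom.toAlgebra
  haveI towerSS₀C : IsScalarTower S S₀ C :=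
    IsScalarTower.of_algebraMap_eq (fun s => (ψ₀.commutes s).symm)
  have hC₀ := Groth.Agent.S19568.isPairHenselization_of_nbhd S J C hC S₀ χ₀ hχ₀
  let Z : Finset S₀ := G.image ρ₀
  have hZ : ∀ z ∈ Z, algebraMap S₀ C z = 0 := by
    intro z hz
    obtain ⟨g, hg, rfl⟩ := Finset.mem_image.mp hz
    change ψ₀ (ρ₀ g) = 0
    have h2 := AlgHom.congr_fun h1 g
    change ψ₀ (ρ₀ g) = θ (π g) at h2
    rw [h2]
    have : g ∈ RingHom.ker π.toRingHom := by rw [← hG]; exact Ideal.subset_span hg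
    have h3 : π g = 0 := this
    rw [h3, map_zero]
  obtain ⟨S₁, _, _, _, χ₁, hχ₁, hkill⟩ := kill_finset S₀ _ C hC₀ Z hZ
  letI algSS₁ : Algebra S S₁ := ((algebraMap S₀ S₁).comp (algebraMap S S₀)).toAlgebra
  haveI towerSS₀S₁ : IsScalarTower S S₀ S₁ := IsScalarTower.of_algebraMap_eq (fun _ => rfl)
  obtain ⟨het, χ, hχ⟩ := nbhd_comp S J S₀ χ₀ hχ₀ S₁ χ₁ hχ₁
  letI algAS₁ : Algebra A S₁ := ((algebraMap S S₁).comp (algebraMap A S)).toAlgebra
  haveI towerASS₁ : IsScalarTower A S S₁ := IsScalarTower.of_algebraMap_eq (fun _ => rfl)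
  haveI towerAS₀S₁ : IsScalarTower A S₀ S₁ := IsScalarTower.of_algebraMap_eq (fun _ => rfl)
  let ρ₁ : MvPolynomial (Fin n) A →ₐ[A] S₁ := (IsScalarTower.toAlgHom A S₀ S₁).comp ρ₀
  have hker : ∀ g ∈ RingHom.ker π.toRingHom, ρ₁ g = 0 := by
    intro g hg
    rw [← hG] at hg
    have hle : Ideal.span (G : Set (MvPolynomial (Fin n) A)) ≤ RingHom.ker ρ₁.toRingHom := by
      rw [Ideal.span_le]
      intro g' hg'
      change algebraMap S₀ S₁ (ρ₀ g') = 0
      exact hkill _ (Finset.mem_image_of_mem _ hg')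
    exact hle hg
  let ρq : (MvPolynomial (Fin n) A ⧸ RingHom.ker π.toRingHom) →ₐ[A] S₁ :=
    Ideal.Quotient.liftₐ _ ρ₁ hker
  let ρ : R →ₐ[A] S₁ := ρq.comp (Ideal.quotientKerAlgEquivOfSurjective hπ).symm.toAlgHom
  have hρ : ∀ p, ρ (π p) = ρ₁ p := by
    intro p
    change ρq ((Ideal.quotientKerAlgEquivOfSurjective hπ).symm (π p)) = _
    have : (Ideal.quotientKerAlgEquivOfSurjective hπ).symm (π p) = Ideal.Quotient.mk _ p := by
      apply (Ideal.quotientKerAlgEquivOfSurjective hπ).injective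
      rw [AlgEquiv.apply_symm_apply]
      rfl
    rw [this]
    rfl
  obtain ⟨ψ, -⟩ := exists_algHom_henselian J S₁ χ C (J.map (algebraMap S C)) le_rfl
  have hψψ₀ : ∀ s : S₀, ψ (algebraMap S₀ S₁ s) = ψ₀ s := by
    intro s
    have := algHom_ext_of_le_jacobson J χ₀ hχ₀ (J.map (algebraMap S C)) hCjac le_rfl
      (ψ.comp (IsScalarTower.toAlgHom S S₀ S₁)) ψ₀
    exact AlgHom.congr_fun this s
  refine ⟨S₁, inferInstance, algSS₁, het, χ, hχ, algAS₁, towerASS₁, ψ, ρ, ?_⟩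
  intro r
  obtain ⟨p, rfl⟩ := hπ r
  rw [hρ]
  change ψ (algebraMap S₀ S₁ (ρ₀ p)) = _
  rw [hψψ₀]
  exact AlgHom.congr_fun h1 p

end Groth.Agent.Lib.helper3.PairHzn
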