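import Mathlib
import Groth.Agent.Lib.helper3.PairEtale
import Groth.Agent.Lib.helper3.PairHzn10
import Groth.Agent.S19568
import Groth.Agent.Lib.helper3.AdicIso

/-!
# Henselian finitely presented maps: lifting étale maps, base change to a henselization
-/

universe u

open TensorProduct

namespace Groth.Agent.Lib.helper3.HFP

open Groth.Agent.Lib.helper3

/-- maps from an étale `A`-algebra to `B/J` lift to `B` for a henselian pair `(B, J)` -/
theorem exists_lift_etale (A : Type u) [CommRing A] (B : Type u) [CommRing B] [Algebra A B]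
    (J : Ideal B) [HenselianRing B J] (R : Type u) [CommRing R] [Algebra A R] [Algebra.Etale A R]
    (ψ : R →ₐ[A] B ⧸ J) : ∃ φ : R →ₐ[A] B, ∀ r, Ideal.Quotient.mk J (φ r) = ψ r := by
  let σ : B ⊗[A] R →ₐ[B] B ⧸ J :=
    Algebra.TensorProduct.lift (Algebra.ofId B (B ⧸ J)) ψ (fun _ _ => Commute.all _ _)
  obtain ⟨τ, hτ⟩ := PairEtale.exists_lift B J (B ⊗[A] R) σ
  refine ⟨(τ.restrictScalars A).comp Algebra.TensorProduct.includeRight, fun r => ?_⟩
  have := AlgHom.congr_fun hτ (1 ⊗ₜ r)
  simpa [σ] using this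

/-- Let `B` be a henselization of `(R₀, IR₀)` with `R₀` finitely presented over `A`, let `H` be a
henselization of `(R, IR)` with `R` finitely presented over `A`, and let `θ : H → B` be an
`A`-algebra map. Then `B` is a henselization of a finitely presented `H`-algebra. -/
theorem exists_fp_over_hens (A : Type u) [CommRing A] (I : Ideal A)
    (R₀ : Type u) [CommRing R₀] [Algebra A R₀] [Algebra.FinitePresentation A R₀]
    (B : Type u) [CommRing B] [Algebra R₀ B] [Algebra A B] [IsScalarTower A R₀ B]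
    (hB : Hens2.IsPairHenselization R₀ (I.map (algebraMap A R₀)) B)
    (R : Type u) [CommRing R] [Algebra A R] [Algebra.FinitePresentation A R]
    (H : Type u) [CommRing H] [Algebra R H] [Algebra A H] [IsScalarTower A R H]
    (hH : Hens2.IsPairHenselization R (I.map (algebraMap A R)) H)
    [Algebra H B] [IsScalarTower A H B] :
    ∃ (T : Type u) (_ : CommRing T) (_ : Algebra H T) (_ : Algebra.FinitePresentation H T)
      (_ : Algebra T B) (_ : IsScalarTower H T B),
      Hens2.IsPairHenselization T ((I.map (algebraMap A H)).map (algebraMap H T)) B := by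
  let φR : R →ₐ[A] B := (IsScalarTower.toAlgHom A H B).comp (IsScalarTower.toAlgHom A R H)
  obtain ⟨S', _, _, hS'et, χ, hχ, algAS', towerAR₀S', ψ', ρ, hρ⟩ :=
    PairHzn.fp_factor A R₀ (I.map (algebraMap A R₀)) B hB R φR
  letI : Algebra S' B := ψ'.toRingHom.toAlgebra
  haveI : IsScalarTower R₀ S' B := IsScalarTower.of_algebraMap_eq (fun s => (ψ'.commutes s).symm)
  have hS'B := Groth.Agent.S19568.isPairHenselization_of_nbhd R₀ (I.map (algebraMap A R₀)) B hB
    S' χ hχ
  letI : Algebra R S' := ρ.toRingHom.toAlgebra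
  haveI : IsScalarTower A R S' := IsScalarTower.of_algebraMap_eq (fun a => (ρ.commutes a).symm)
  letI : Algebra R B := φR.toRingHom.toAlgebra
  haveI : IsScalarTower R H B := IsScalarTower.of_algebraMap_eq (fun r => rfl)
  haveI : IsScalarTower R S' B := IsScalarTower.of_algebraMap_eq (fun r => (hρ r).symm)
  haveI : IsScalarTower A S' B := IsScalarTower.of_algebraMap_eq (fun a => by
    rw [IsScalarTower.algebraMap_apply A R₀ B, IsScalarTower.algebraMap_apply A R₀ S',
      IsScalarTower.algebraMap_apply R₀ S' B])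
  haveI : Algebra.FinitePresentation A S' := Algebra.FinitePresentation.trans A R₀ S'
  haveI : Algebra.FinitePresentation R S' :=
    Algebra.FinitePresentation.of_restrict_scalars_finitePresentation A R S'
  have hC : Hens2.IsPairHenselization S' ((I.map (algebraMap A R)).map (algebraMap R S')) B := by
    have e : (I.map (algebraMap A R)).map (algebraMap R S') =
        (I.map (algebraMap A R₀)).map (algebraMap R₀ S') := by
      rw [Ideal.map_map, Ideal.map_map, ← IsScalarTower.algebraMap_eq,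
        ← IsScalarTower.algebraMap_eq]
    rw [e]; exact hS'B
  let μ : H ⊗[R] S' →ₐ[R] B :=
    Algebra.TensorProduct.productMap (IsScalarTower.toAlgHom R H B) (IsScalarTower.toAlgHom R S' B)
  letI : Algebra (H ⊗[R] S') B := μ.toRingHom.toAlgebra
  have hμ : ∀ (h : H) (s : S'), algebraMap (H ⊗[R] S') B (h ⊗ₜ s)
      = algebraMap H B h * algebraMap S' B s := by
    intro h s
    change μ (h ⊗ₜ s) = _
    simp [μ]
  have h1 := PairHzn.isPairHenselization_baseChange R (I.map (algebraMap A R)) H hH S' B hC hμ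
  haveI : IsScalarTower H (H ⊗[R] S') B := by
    refine IsScalarTower.of_algebraMap_eq (R := H) (S := H ⊗[R] S') (A := B) (fun h => ?_)
    have h0 : algebraMap H (H ⊗[R] S') h = h ⊗ₜ[R] (1 : S') := by
      rw [Algebra.TensorProduct.algebraMap_apply, Algebra.algebraMap_self, RingHom.id_apply]
    rw [h0, hμ, map_one, mul_one]
  refine ⟨H ⊗[R] S', inferInstance, inferInstance, inferInstance, inferInstance, inferInstance, ?_⟩
  have e2 : (I.map (algebraMap A H)).map (algebraMap H (H ⊗[R] S')) =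
      (I.map (algebraMap A R)).map (algebraMap R (H ⊗[R] S')) := by
    rw [Ideal.map_map, Ideal.map_map]
    congr 1
    ext a
    simp only [RingHom.comp_apply, Algebra.TensorProduct.algebraMap_apply, Algebra.algebraMap_self,
      RingHom.id_apply]
    rw [IsScalarTower.algebraMap_apply A R H]
  rw [e2]; exact h1

section quot

variable (A : Type u) [CommRing A] (I : Ideal A)

/-- the class of an element of `IM` lies in `(I A_n) • ⊤` -/
theorem mk_mem_smul_top (n : ℕ) (B : Type u) [CommRing B] [Algebra A B] (b : B)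
    (hb : b ∈ I.map (algebraMap A B)) :
    Ideal.Quotient.mk ((I ^ n).map (algebraMap A B)) b ∈
      ((I.map (Ideal.Quotient.mk (I ^ n))) • ⊤ :
        Submodule (A ⧸ I ^ n) (B ⧸ (I ^ n).map (algebraMap A B))) := by
  have hb' : b ∈ (I • ⊤ : Submodule A B) := by rw [Ideal.smul_top_eq_map]; exact hb
  refine Submodule.smul_induction_on hb' ?_ ?_
  · intro i hi b' _
    have : Ideal.Quotient.mk ((I ^ n).map (algebraMap A B)) (i • b') =
        (Ideal.Quotient.mk (I ^ n) i) • Ideal.Quotient.mk ((I ^ n).map (algebraMap A B)) b' := by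
      rw [Algebra.smul_def, map_mul, Algebra.smul_def,
        Ideal.Quotient.algebraMap_quotient_map_quotient]
    rw [this]
    exact Submodule.smul_mem_smul (Ideal.mem_map_of_mem _ hi) Submodule.mem_top
  · intro x y hx hy
    rw [map_add]
    exact Submodule.add_mem _ hx hy

/-- elements of `(I A_n) • ⊤ ⊆ B/I^n B` are classes of elements of `IB` -/
theorem exists_rep_of_mem_smul_top (n : ℕ) (B : Type u) [CommRing B] [Algebra A B]
    (y : B ⧸ (I ^ n).map (algebraMap A B))
    (hy : y ∈ ((I.map (Ideal.Quotient.mk (I ^ n))) • ⊤ :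
        Submodule (A ⧸ I ^ n) (B ⧸ (I ^ n).map (algebraMap A B)))) :
    ∃ b ∈ I.map (algebraMap A B), Ideal.Quotient.mk ((I ^ n).map (algebraMap A B)) b = y := by
  refine Submodule.smul_induction_on hy ?_ ?_
  · intro a ha q _
    obtain ⟨i, hi, rfl⟩ := (Ideal.mem_map_iff_of_surjective _ Ideal.Quotient.mk_surjective).mp ha
    obtain ⟨b', rfl⟩ := Ideal.Quotient.mk_surjective q
    refine ⟨algebraMap A B i * b', Ideal.mul_mem_right _ _ (Ideal.mem_map_of_mem _ hi), ?_⟩
    rw [Algebra.smul_def, map_mul, Ideal.Quotient.algebraMap_quotient_map_quotient]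
  · rintro x y ⟨b, hb, rfl⟩ ⟨b', hb', rfl⟩
    exact ⟨b + b', Ideal.add_mem _ hb hb', map_add _ _ _⟩

/-- a map `R → B` which is bijective modulo `I` is injective modulo `I^n` when `B/I^nB` is
flat over `A/I^n` -/
theorem mem_pow_of_map_mem (R : Type u) [CommRing R] [Algebra A R] (B : Type u) [CommRing B]
    [Algebra A B] (φ : R →ₐ[A] B) (n : ℕ) (hn : 1 ≤ n)
    [Module.Flat (A ⧸ I ^ n) (B ⧸ (I ^ n).map (algebraMap A B))]
    (hs : ∀ b : B, ∃ r : R, b - φ r ∈ I.map (algebraMap A B))
    (hk : ∀ r : R, φ r ∈ I.map (algebraMap A B) → r ∈ I.map (algebraMap A R))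
    (r : R) (hr : φ r ∈ (I ^ n).map (algebraMap A B)) : r ∈ (I ^ n).map (algebraMap A R) := by
  set IR := (I ^ n).map (algebraMap A R) with hIR
  set IB := (I ^ n).map (algebraMap A B) with hIB
  have hle : IR ≤ IB.comap φ.toRingHom := by
    rw [hIR, Ideal.map_le_iff_le_comap]
    intro a ha
    rw [Ideal.mem_comap, Ideal.mem_comap]
    change φ (algebraMap A R a) ∈ IB
    rw [φ.commutes]
    exact Ideal.mem_map_of_mem _ ha
  let f₀ : R ⧸ IR →+* B ⧸ IB := Ideal.quotientMap IB φ.toRingHom hle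
  have hf₀ : ∀ x : R, f₀ (Ideal.Quotient.mk IR x) = Ideal.Quotient.mk IB (φ x) := fun x => by
    simp [f₀]
  let f : (R ⧸ IR) →ₗ[A ⧸ I ^ n] (B ⧸ IB) :=
    { toFun := f₀
      map_add' := map_add f₀
      map_smul' := by
        intro a x
        obtain ⟨a, rfl⟩ := Ideal.Quotient.mk_surjective a
        obtain ⟨x, rfl⟩ := Ideal.Quotient.mk_surjective x
        simp only [RingHom.id_apply]
        rw [Algebra.smul_def, Algebra.smul_def, Ideal.Quotient.algebraMap_quotient_map_quotient,
          Ideal.Quotient.algebraMap_quotient_map_quotient, map_mul, hf₀, hf₀, φ.commutes] }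
  have hf : ∀ x : R, f (Ideal.Quotient.mk IR x) = Ideal.Quotient.mk IB (φ x) := hf₀
  have hIle : IB ≤ I.map (algebraMap A B) := Ideal.map_mono (Ideal.pow_le_self (by omega))
  have hs' : ∀ y : B ⧸ IB, ∃ x : R ⧸ IR, y - f x ∈
      ((I.map (Ideal.Quotient.mk (I ^ n))) • ⊤ : Submodule (A ⧸ I ^ n) (B ⧸ IB)) := by
    intro y
    obtain ⟨b, rfl⟩ := Ideal.Quotient.mk_surjective y
    obtain ⟨r', hr'⟩ := hs b
    refine ⟨Ideal.Quotient.mk IR r', ?_⟩
    rw [hf, ← map_sub]
    exact mk_mem_smul_top A I n B _ hr'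
  have hi' : ∀ x : R ⧸ IR, f x ∈
      ((I.map (Ideal.Quotient.mk (I ^ n))) • ⊤ : Submodule (A ⧸ I ^ n) (B ⧸ IB)) →
      x ∈ ((I.map (Ideal.Quotient.mk (I ^ n))) • ⊤ : Submodule (A ⧸ I ^ n) (R ⧸ IR)) := by
    intro x hx
    obtain ⟨r', rfl⟩ := Ideal.Quotient.mk_surjective x
    rw [hf] at hx
    obtain ⟨b₀, hb₀, hb₀e⟩ := exists_rep_of_mem_smul_top A I n B _ hx
    have h1 : φ r' - b₀ ∈ IB := by
      rw [← Ideal.Quotient.eq_zero_iff_mem, map_sub, hb₀e, sub_self]
    have h2 : φ r' ∈ I.map (algebraMap A B) := by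
      have : φ r' = (φ r' - b₀) + b₀ := by ring
      rw [this]
      exact Ideal.add_mem _ (hIle h1) hb₀
    exact mk_mem_smul_top A I n R _ (hk r' h2)
  have h0 : f (Ideal.Quotient.mk IR r) ∈
      ((I.map (Ideal.Quotient.mk (I ^ n))) ^ n • ⊤ : Submodule (A ⧸ I ^ n) (B ⧸ IB)) := by
    rw [hf, Ideal.Quotient.eq_zero_iff_mem.mpr hr]
    exact Submodule.zero_mem _
  have h3 := AdicIso.mem_pow_smul_of_map_mem (I.map (Ideal.Quotient.mk (I ^ n))) f hs' hi' n _ h0
  rw [← Ideal.map_pow, Ideal.map_quotient_self, Submodule.bot_smul, Submodule.mem_bot] at h3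
  exact Ideal.Quotient.eq_zero_iff_mem.mp h3

end quot

end Groth.Agent.Lib.helper3.HFP
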