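import Mathlib
import Groth.Prelude.Def_Hens2

/-!
# h-smoothness: auxiliary lemmas (local fibre criterion, flat descent, henselization of a localization)
-/

universe u
open TensorProduct IsLocalRing

namespace Groth.Agent.Lib.helper3.HSmooth


/-- local form of `Algebra.IsSmoothAt.of_formallySmooth_fiber`: only flatness of the local ring at `q`
is needed -/
theorem isSmoothAt_of_fiber {R S : Type*} [CommRing R] [CommRing S] [Algebra R S]
    [Algebra.FinitePresentation R S] (p : Ideal R) (q : Ideal S)
    [p.IsPrime] [q.IsPrime] [q.LiesOver p] [Algebra.FormallySmooth p.ResidueField (p.Fiber S)]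
    [Module.Flat R (Localization.AtPrime q)] :
    Algebra.IsSmoothAt R q := by
  let Rp := Localization.AtPrime p
  let Sp := Localization (Algebra.algebraMapSubmonoid S p.primeCompl)
  let Sq := Localization.AtPrime q
  let := Localization.AtPrime.algebraOfLiesOver p q
  let f : Sp →ₐ[S] Sq := IsLocalization.liftAlgHom (M := Algebra.algebraMapSubmonoid S p.primeCompl)
        (f := Algebra.ofId _ _) (by
      rintro ⟨_, x, hx, rfl⟩
      simpa using! IsLocalization.map_units (M := q.primeCompl) Sq ⟨algebraMap _ _ x,
        by simp_all [q.over_def p]⟩)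
  algebraize [f.toRingHom]
  have : IsScalarTower R Sp Sq := .to₁₃₄ _ S _ _
  have : IsScalarTower Rp Sp Sq := .of_algebraMap_eq' <| by
    apply IsLocalization.ringHom_ext p.primeCompl
    simp only [RingHom.comp_assoc, ← IsScalarTower.algebraMap_eq]
  have : IsLocalization (Algebra.algebraMapSubmonoid Sp q.primeCompl) Sq :=
    .isLocalization_of_submonoid_le _ _ (Algebra.algebraMapSubmonoid S p.primeCompl) _
    (by rintro _ ⟨x, hx, rfl⟩; simp_all [q.over_def p])
  have : Algebra.FinitePresentation Rp Sp := by
    have : Algebra.IsPushout R Rp S Sp :=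
      .symm <| Algebra.isPushout_of_isLocalization p.primeCompl _ _ _
    exact .equiv (Algebra.IsPushout.equiv R Rp S Sp)
  have : Algebra.FormallySmooth (ResidueField Rp) ((ResidueField Rp) ⊗[Rp] Sq) := by
    let : Algebra S ((ResidueField Rp) ⊗[R] S) := Algebra.TensorProduct.rightAlgebra
    have : Algebra.FormallySmooth (ResidueField Rp) (((ResidueField Rp) ⊗[R] S) ⊗[S] Sq) :=
      .comp _ ((ResidueField Rp) ⊗[R] S) _
    let e : (ResidueField Rp) ⊗[R] S ≃ₐ[S] S ⊗[R] (ResidueField Rp) :=
      { __ := Algebra.TensorProduct.comm _ _ _, commutes' _ := rfl }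
    let e' : ((ResidueField Rp) ⊗[R] S) ⊗[S] Sq ≃ₐ[R] (ResidueField Rp) ⊗[Rp] Sq :=
      ((Algebra.TensorProduct.comm _ _ _).restrictScalars R).trans <|
      ((Algebra.TensorProduct.congr (.refl (R := S)) e).restrictScalars R).trans <|
      ((Algebra.TensorProduct.cancelBaseChange _ _ S _ _).restrictScalars R).trans <|
      (Algebra.TensorProduct.comm _ _ _).trans (Algebra.TensorProduct.equivOfCompatibleSMul ..)
    have : e'.toAlgHom.comp (IsScalarTower.toAlgHom R p.ResidueField _) =
        IsScalarTower.toAlgHom _ _ _ := by ext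
    let e'' : ((ResidueField Rp) ⊗[R] S) ⊗[S] Sq ≃ₐ[(ResidueField Rp)] (ResidueField Rp) ⊗[Rp] Sq :=
      { __ := e', commutes' r := congr($this r) }
    exact .of_equiv e''
  have : Module.Flat Rp Sq :=
    (Module.flat_iff_of_isLocalization Rp p.primeCompl Sq).mpr inferInstance
  have := Algebra.FormallySmooth.of_formallySmooth_residueField_tensor
    (R := Rp) (S := Sq) (P := Sp) (Algebra.algebraMapSubmonoid _ q.primeCompl)
  exact .comp R Rp Sq



/-- flatness descends along a faithfully flat ring map -/
theorem flat_descent (A S T : Type u) [CommRing A] [CommRing S] [CommRing T] [Algebra A S]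
    [Algebra S T] [Algebra A T] [IsScalarTower A S T] [Module.Flat A T]
    [Module.FaithfullyFlat S T] : Module.Flat A S := by
  rw [Module.Flat.iff_lTensor_injectiveₛ]
  intro P _ _ N
  let hS : S ⊗[A] N →ₗ[S] S ⊗[A] P := TensorProduct.AlgebraTensorModule.lTensor S S N.subtype
  have hcoe : ⇑(N.subtype.lTensor S) = ⇑hS := rfl
  rw [hcoe, ← Module.FaithfullyFlat.lTensor_injective_iff_injective S T hS]
  let e₁ : T ⊗[S] (S ⊗[A] N) ≃ₗ[T] T ⊗[A] N :=
    TensorProduct.AlgebraTensorModule.cancelBaseChange A S T T N
  let e₂ : T ⊗[S] (S ⊗[A] P) ≃ₗ[T] T ⊗[A] P :=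
    TensorProduct.AlgebraTensorModule.cancelBaseChange A S T T P
  have hcomm : ∀ x, e₂ (hS.lTensor T x) = N.subtype.lTensor T (e₁ x) := by
    intro x
    induction x using TensorProduct.induction_on with
    | zero => simp
    | add x y hx hy => simp only [map_add, hx, hy]
    | tmul t y =>
      induction y using TensorProduct.induction_on with
      | zero => simp
      | add x y hx hy => simp only [TensorProduct.tmul_add, map_add, hx, hy]
      | tmul s n =>
        simp [e₁, e₂, hS]
  have hinj : Function.Injective (N.subtype.lTensor T) :=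
    Module.Flat.lTensor_preserves_injective_linearMap _ N.injective_subtype
  intro x y hxy
  apply e₁.injective
  apply hinj
  rw [← hcomm, ← hcomm, hxy]



theorem henselian_bot (R : Type*) [CommRing R] : HenselianRing R ⊥ where
  jac := bot_le
  is_henselian := by
    intro f _ a₀ h₁ _
    exact ⟨a₀, Ideal.mem_bot.mp h₁, by rw [sub_self]; exact Ideal.zero_mem _⟩

/-- an element congruent to `1` modulo an ideal inside the Jacobson radical is a unit -/
theorem isUnit_of_sub_one_mem {B : Type*} [CommRing B] (K : Ideal B) (hK : K ≤ Ideal.jacobson ⊥)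
    (b : B) (hb : b - 1 ∈ K) : IsUnit b := by
  have h1 := Ideal.mem_jacobson_bot.mp (hK hb) 1
  have : (b - 1) * 1 + 1 = b := by ring
  rwa [this] at h1

/-- the henselization of `(R₀, J)` is also the henselization of `((R₀)_f, J (R₀)_f)` for `f ≡ 1 mod J` -/
theorem isPairHenselization_away (R₀ : Type u) [CommRing R₀] (J : Ideal R₀) (B : Type u)
    [CommRing B] [Algebra R₀ B] (hB : Hens2.IsPairHenselization R₀ J B) (f : R₀)
    [Algebra (Localization.Away f) B] [IsScalarTower R₀ (Localization.Away f) B] :
    Hens2.IsPairHenselization (Localization.Away f) (J.map (algebraMap R₀ (Localization.Away f))) B := by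
  refine ⟨?_, ?_⟩
  · have := hB.1
    rwa [Ideal.map_map, ← IsScalarTower.algebraMap_eq]
  · intro C _ JC g hC hg
    have hg' : J.map (g.comp (algebraMap R₀ (Localization.Away f))) ≤ JC := by
      rw [← Ideal.map_map]; exact hg
    obtain ⟨h, hh, huniq⟩ := hB.2 C JC (g.comp (algebraMap R₀ (Localization.Away f))) hC hg'
    refine ⟨h, ?_, ?_⟩
    · apply IsLocalization.ringHom_ext (Submonoid.powers f)
      rw [RingHom.comp_assoc, ← IsScalarTower.algebraMap_eq, hh]
    · intro h' hh'
      apply huniq
      rw [IsScalarTower.algebraMap_eq R₀ (Localization.Away f) B, ← RingHom.comp_assoc, hh']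

end Groth.Agent.Lib.helper3.HSmooth
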