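import Mathlib
import Groth.Agent.Lib.helper3.HSmooth1
import Groth.Agent.Lib.helper3.PairHzn7
import Groth.Agent.Lib.lead.PairHz
import Groth.Agent.Lib.lead.PairHzQuot

universe u
open TensorProduct IsLocalRing

namespace Groth.Agent.Lib.helper3.HSmooth

/-- a henselization is flat over the base -/
theorem flat_of_isPairHenselization (R₀ : Type u) [CommRing R₀] (J : Ideal R₀) (B : Type u)
    [CommRing B] [Algebra R₀ B] (hB : Hens2.IsPairHenselization R₀ J B) : Module.Flat R₀ B := by
  obtain ⟨e⟩ := Groth.Agent.Lib.lead.PairHz.algEquiv_of_isPairHenselization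
    (Groth.Agent.Lib.helper3.PairHzn.isPairHenselization (A := R₀) (I := J)) hB
  exact Module.Flat.of_linearEquiv e.toLinearEquiv.symm

/-- the retraction `B → R₀/J` and its kernel -/
theorem exists_retraction (R₀ : Type u) [CommRing R₀] (J : Ideal R₀) (B : Type u)
    [CommRing B] [Algebra R₀ B] (hB : Hens2.IsPairHenselization R₀ J B) :
    ∃ π : B →+* R₀ ⧸ J, π.comp (algebraMap R₀ B) = Ideal.Quotient.mk J ∧
      RingHom.ker π = J.map (algebraMap R₀ B) := by
  obtain ⟨π, hπ, -⟩ := hB.2 (R₀ ⧸ J) ⊥ (Ideal.Quotient.mk J) (henselian_bot _) (by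
    rw [Ideal.map_quotient_self])
  refine ⟨π, hπ, le_antisymm ?_ ?_⟩
  · intro b hb
    obtain ⟨r, hr⟩ := Groth.Agent.Lib.lead.PairHzQuot.exists_sub_mem hB b
    have h1 : J.map (algebraMap R₀ B) ≤ RingHom.ker π := by
      rw [Ideal.map_le_iff_le_comap]
      intro j hj
      rw [Ideal.mem_comap, RingHom.mem_ker]
      have := RingHom.congr_fun hπ j
      rw [RingHom.comp_apply] at this
      rw [this]
      exact Ideal.Quotient.eq_zero_iff_mem.mpr hj
    have h2 : π (b - algebraMap R₀ B r) = 0 := h1 hr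
    rw [map_sub, (RingHom.mem_ker).mp hb, zero_sub, neg_eq_zero] at h2
    have h3 := RingHom.congr_fun hπ r
    rw [RingHom.comp_apply, h2] at h3
    have hrJ : r ∈ J := Ideal.Quotient.eq_zero_iff_mem.mp h3.symm
    have : b = (b - algebraMap R₀ B r) + algebraMap R₀ B r := by ring
    rw [this]
    exact Ideal.add_mem _ hr (Ideal.mem_map_of_mem _ hrJ)
  · rw [Ideal.map_le_iff_le_comap]
    intro j hj
    rw [Ideal.mem_comap, RingHom.mem_ker]
    have := RingHom.congr_fun hπ j
    rw [RingHom.comp_apply] at this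
    rw [this]
    exact Ideal.Quotient.eq_zero_iff_mem.mpr hj

end Groth.Agent.Lib.helper3.HSmooth
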