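import Mathlib
import Groth.Agent.Lib.helper3.HSmooth2

/-!
# h-smoothness, part 3: smooth reduction, flat local rings, smooth fibres
-/

universe u
open TensorProduct IsLocalRing

namespace Groth.Agent.Lib.helper3.HSmooth


set_option maxHeartbeats 800000 in
/-- the reduction of `R₀` is smooth when that of its henselization is -/
theorem smooth_quot (A : Type u) [CommRing A] (I : Ideal A) (R₀ : Type u) [CommRing R₀]
    [Algebra A R₀] (B : Type u) [CommRing B] [Algebra R₀ B] [Algebra A B] [IsScalarTower A R₀ B]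
    (hB : Hens2.IsPairHenselization R₀ (I.map (algebraMap A R₀)) B)
    (hsm : Algebra.Smooth (A ⧸ I) (B ⧸ I.map (algebraMap A B))) :
    Algebra.Smooth (A ⧸ I) (R₀ ⧸ I.map (algebraMap A R₀)) := by
  obtain ⟨π, hπ, hker⟩ := exists_retraction R₀ (I.map (algebraMap A R₀)) B hB
  have hIB : (I.map (algebraMap A R₀)).map (algebraMap R₀ B) = I.map (algebraMap A B) := by
    rw [Ideal.map_map, ← IsScalarTower.algebraMap_eq]
  rw [hIB] at hker
  let πb : B ⧸ I.map (algebraMap A B) →+* R₀ ⧸ I.map (algebraMap A R₀) :=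
    Ideal.Quotient.lift _ π (fun b hb => by rw [← RingHom.mem_ker, hker]; exact hb)
  have hπb : ∀ b, πb (Ideal.Quotient.mk _ b) = π b := fun b => rfl
  have hbij : Function.Bijective πb := by
    constructor
    · rw [injective_iff_map_eq_zero]
      intro x hx
      obtain ⟨b, rfl⟩ := Ideal.Quotient.mk_surjective x
      rw [hπb] at hx
      rw [Ideal.Quotient.eq_zero_iff_mem, ← hker]
      exact (RingHom.mem_ker).mpr hx
    · intro y
      obtain ⟨r, rfl⟩ := Ideal.Quotient.mk_surjective y
      refine ⟨Ideal.Quotient.mk _ (algebraMap R₀ B r), ?_⟩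
      rw [hπb]
      exact RingHom.congr_fun hπ r
  let e : (B ⧸ I.map (algebraMap A B)) ≃ₐ[A ⧸ I] (R₀ ⧸ I.map (algebraMap A R₀)) :=
    AlgEquiv.ofRingEquiv (f := RingEquiv.ofBijective πb hbij) (by
      intro x
      obtain ⟨a, rfl⟩ := Ideal.Quotient.mk_surjective x
      change πb (Ideal.Quotient.mk _ (algebraMap A B a)) = Ideal.Quotient.mk _ (algebraMap A R₀ a)
      rw [hπb, IsScalarTower.algebraMap_apply A R₀ B]
      exact RingHom.congr_fun hπ _)
  exact Algebra.Smooth.of_equiv e



set_option maxHeartbeats 800000 in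
/-- flatness of `B` over `A` descends to the local rings of `R₀` along `V(IR₀)` -/
theorem flat_localization (A : Type u) [CommRing A] (I : Ideal A) (R₀ : Type u) [CommRing R₀]
    [Algebra A R₀] (B : Type u) [CommRing B] [Algebra R₀ B] [Algebra A B] [IsScalarTower A R₀ B]
    (hB : Hens2.IsPairHenselization R₀ (I.map (algebraMap A R₀)) B) [Module.Flat A B]
    (q : Ideal R₀) [q.IsPrime] (hq : I.map (algebraMap A R₀) ≤ q) :
    Module.Flat A (Localization.AtPrime q) := by
  obtain ⟨π, hπ, -⟩ := exists_retraction R₀ (I.map (algebraMap A R₀)) B hB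
  let πq : B →+* R₀ ⧸ q := (Ideal.Quotient.factor hq).comp π
  have hπq : πq.comp (algebraMap R₀ B) = Ideal.Quotient.mk q := by
    change ((Ideal.Quotient.factor hq).comp π).comp (algebraMap R₀ B) = _
    rw [RingHom.comp_assoc, hπ]
    ext r
    rfl
  let 𝔮 : Ideal B := RingHom.ker πq
  haveI h𝔮prime : 𝔮.IsPrime := RingHom.ker_isPrime πq
  haveI h𝔮over : 𝔮.LiesOver q := ⟨by
    change q = Ideal.comap (algebraMap R₀ B) (RingHom.ker πq)
    rw [RingHom.comap_ker, hπq, Ideal.mk_ker]⟩
  haveI : Module.Flat R₀ B := flat_of_isPairHenselization R₀ _ B hB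
  letI := Localization.AtPrime.algebraOfLiesOver q 𝔮
  haveI : IsLocalHom (algebraMap (Localization.AtPrime q) (Localization.AtPrime 𝔮)) := by
    rw [Localization.AtPrime.IsLiesOverAlgebra.algebraMap_eq (p := q) (P := 𝔮)]
    exact Localization.isLocalHom_localRingHom _ _ _ _
  haveI : Module.FaithfullyFlat (Localization.AtPrime q) (Localization.AtPrime 𝔮) :=
    Module.FaithfullyFlat.of_flat_of_isLocalHom
  haveI : Module.Flat A (Localization.AtPrime 𝔮) := Module.Flat.trans A B (Localization.AtPrime 𝔮)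
  exact flat_descent A (Localization.AtPrime q) (Localization.AtPrime 𝔮)



set_option maxHeartbeats 800000 in
/-- the fibre of `R₀` over a prime `p ⊇ I` is smooth when `R₀/IR₀` is smooth over `A/I` -/
theorem fiber_smooth (A : Type u) [CommRing A] (I : Ideal A) (R₀ : Type u) [CommRing R₀]
    [Algebra A R₀] (hsm : Algebra.Smooth (A ⧸ I) (R₀ ⧸ I.map (algebraMap A R₀)))
    (p : Ideal A) [p.IsPrime] (hp : I ≤ p) :
    Algebra.FormallySmooth p.ResidueField (p.Fiber R₀) := by
  letI algk : Algebra (A ⧸ I) p.ResidueField :=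
    (Ideal.Quotient.lift I (algebraMap A p.ResidueField) (fun a ha => by
      rw [Ideal.algebraMap_residueField_eq_zero]; exact hp ha)).toAlgebra
  haveI tow : IsScalarTower A (A ⧸ I) p.ResidueField := IsScalarTower.of_algebraMap_eq (fun _ => rfl)
  haveI h1 : Algebra.Smooth (A ⧸ I) ((A ⧸ I) ⊗[A] R₀) :=
    Algebra.Smooth.of_equiv (Algebra.TensorProduct.quotIdealMapEquivQuotTensor R₀ I)
  haveI h2 : Algebra.FormallySmooth p.ResidueField (p.ResidueField ⊗[A ⧸ I] ((A ⧸ I) ⊗[A] R₀)) :=
    inferInstance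
  exact Algebra.FormallySmooth.of_equiv
    (Algebra.TensorProduct.cancelBaseChange A (A ⧸ I) p.ResidueField p.ResidueField R₀)

end Groth.Agent.Lib.helper3.HSmooth
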