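import Mathlib

/-!
# Principal open neighbourhoods of `V(J)`

If `U ⊆ Spec R` is open and contains `V(J)`, there is `g ≡ 1 mod J` with `D(g) ⊆ U`; the
localisation `R_g` is then étale over `R` with `R/J ≃ R_g/JR_g`.
-/

universe u

namespace Groth.Agent.Lib.helper3.OpenNbhd

open PrimeSpectrum

theorem exists_basicOpen {R : Type u} [CommRing R] (J : Ideal R) (U : Set (PrimeSpectrum R))
    (hU : IsOpen U) (hJ : zeroLocus (J : Set R) ⊆ U) :
    ∃ g : R, g - 1 ∈ J ∧ (basicOpen g : Set (PrimeSpectrum R)) ⊆ U := by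
  obtain ⟨s, hs⟩ := (isClosed_iff_zeroLocus _).mp hU.isClosed_compl
  have htop : Ideal.span s ⊔ J = ⊤ := by
    by_contra hne
    obtain ⟨m, hm, hle⟩ := Ideal.exists_le_maximal _ hne
    have hmJ : (⟨m, hm.isPrime⟩ : PrimeSpectrum R) ∈ U := hJ (by
      rw [mem_zeroLocus]; exact fun x hx => hle (Ideal.mem_sup_right hx))
    have : (⟨m, hm.isPrime⟩ : PrimeSpectrum R) ∈ Uᶜ := by
      rw [hs, mem_zeroLocus]
      exact fun x hx => hle (Ideal.mem_sup_left (Ideal.subset_span hx))
    exact this hmJ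
  obtain ⟨k, hk, j, hj, hkj⟩ := Submodule.mem_sup.mp ((Ideal.eq_top_iff_one _).mp htop)
  refine ⟨k, ?_, ?_⟩
  · have : k - 1 = -j := by rw [← hkj]; ring
    rw [this]; exact J.neg_mem hj
  · intro p hp
    by_contra hpU
    have hp' : p ∈ Uᶜ := hpU
    rw [hs, ← zeroLocus_span, mem_zeroLocus] at hp'
    exact hp (hp' hk)

theorem away_bijective {R : Type u} [CommRing R] (J : Ideal R) (g : R) (hg : g - 1 ∈ J)
    (R' : Type u) [CommRing R'] [Algebra R R'] [IsLocalization.Away g R'] :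
    Function.Bijective (Ideal.quotientMap (J.map (algebraMap R R'))
      (algebraMap R R') Ideal.le_comap_map) := by
  have hpow : ∀ n : ℕ, g ^ n - 1 ∈ J := by
    intro n
    induction n with
    | zero => simp
    | succ n ih =>
      have : g ^ (n + 1) - 1 = g ^ n * (g - 1) + (g ^ n - 1) := by ring
      rw [this]; exact J.add_mem (J.mul_mem_left _ hg) ih
  constructor
  · rw [injective_iff_map_eq_zero]
    intro x hx
    obtain ⟨x, rfl⟩ := Ideal.Quotient.mk_surjective x
    rw [Ideal.quotientMap_mk, Ideal.Quotient.eq_zero_iff_mem,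
      IsLocalization.mem_map_algebraMap_iff (Submonoid.powers g)] at hx
    obtain ⟨⟨⟨j, hj⟩, ⟨_, n, rfl⟩⟩, hjx⟩ := hx
    simp only at hjx
    rw [← map_mul] at hjx
    obtain ⟨⟨_, m, rfl⟩, hm⟩ := (IsLocalization.eq_iff_exists (Submonoid.powers g) R').mp hjx
    simp only at hm
    rw [Ideal.Quotient.eq_zero_iff_mem]
    have h1 : g ^ m * (x * g ^ n) ∈ J := by rw [hm]; exact J.mul_mem_left _ hj
    have h2 : x = g ^ m * (x * g ^ n) - x * (g ^ (m + n) - 1) := by ring
    rw [h2]; exact J.sub_mem h1 (J.mul_mem_left _ (hpow _))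
  · intro y
    obtain ⟨y, rfl⟩ := Ideal.Quotient.mk_surjective y
    obtain ⟨a, ⟨_, n, rfl⟩, rfl⟩ := IsLocalization.exists_mk'_eq (Submonoid.powers g) y
    refine ⟨Ideal.Quotient.mk _ a, ?_⟩
    rw [Ideal.quotientMap_mk, Ideal.Quotient.eq]
    have : algebraMap R R' a - IsLocalization.mk' R' a (⟨g ^ n, n, rfl⟩ : Submonoid.powers g)
        = IsLocalization.mk' R' a (⟨g ^ n, n, rfl⟩ : Submonoid.powers g)
          * algebraMap R R' (g ^ n - 1) := by
      rw [map_sub, map_one, mul_sub, mul_one, IsLocalization.mk'_spec]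
    rw [this]
    exact Ideal.mul_mem_left _ _ (Ideal.mem_map_of_mem _ (hpow n))

end Groth.Agent.Lib.helper3.OpenNbhd
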