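import Mathlib
import Groth.Agent.Lib.helper3.HSmooth3
import Groth.Agent.Lib.helper3.OpenNbhd

universe u
open TensorProduct IsLocalRing

namespace Groth.Agent.Lib.helper3.HSmooth

set_option maxHeartbeats 800000 in
/-- a flat henselian finitely presented `B` with smooth reduction is the henselization of a smooth
algebra (a principal localization of the given finitely presented model) -/
theorem main (A : Type u) [CommRing A] (I : Ideal A) (R₀ : Type u) [CommRing R₀]
    [Algebra A R₀] [Algebra.FinitePresentation A R₀]
    (B : Type u) [CommRing B] [Algebra R₀ B] [Algebra A B] [IsScalarTower A R₀ B]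
    (hB : Hens2.IsPairHenselization R₀ (I.map (algebraMap A R₀)) B) [Module.Flat A B]
    (hsm : Algebra.Smooth (A ⧸ I) (B ⧸ I.map (algebraMap A B))) :
    ∃ (R : Type u) (_ : CommRing R) (_ : Algebra A R) (_ : Algebra R B) (_ : IsScalarTower A R B),
      Algebra.Smooth A R ∧ Hens2.IsPairHenselization R (I.map (algebraMap A R)) B := by
  have hsm₀ := smooth_quot A I R₀ B hB hsm
  have hlocus : PrimeSpectrum.zeroLocus ((I.map (algebraMap A R₀) : Ideal R₀) : Set R₀) ⊆
      Algebra.smoothLocus A R₀ := by
    intro q hq
    rw [PrimeSpectrum.mem_zeroLocus] at hq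
    have hJq : I.map (algebraMap A R₀) ≤ q.asIdeal := hq
    have hp : I ≤ q.asIdeal.under A := by
      intro a ha
      exact hJq (Ideal.mem_map_of_mem _ ha)
    haveI := fiber_smooth A I R₀ hsm₀ (q.asIdeal.under A) hp
    haveI := flat_localization A I R₀ B hB q.asIdeal hJq
    exact isSmoothAt_of_fiber (q.asIdeal.under A) q.asIdeal
  obtain ⟨f, hf, hfU⟩ := Groth.Agent.Lib.helper3.OpenNbhd.exists_basicOpen
    (I.map (algebraMap A R₀)) (Algebra.smoothLocus A R₀) Algebra.isOpen_smoothLocus hlocus
  have hsmf : Algebra.Smooth A (Localization.Away f) :=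
    Algebra.basicOpen_subset_smoothLocus_iff_smooth.mp hfU
  have hunit : IsUnit (algebraMap R₀ B f) := by
    apply isUnit_of_sub_one_mem _ hB.1.jac
    rw [← map_one (algebraMap R₀ B), ← map_sub]
    exact Ideal.mem_map_of_mem _ hf
  letI algRB : Algebra (Localization.Away f) B :=
    (IsLocalization.Away.lift f hunit).toAlgebra
  haveI tow1 : IsScalarTower R₀ (Localization.Away f) B := IsScalarTower.of_algebraMap_eq (fun r => by
    change algebraMap R₀ B r = IsLocalization.Away.lift f hunit (algebraMap R₀ _ r)
    rw [IsLocalization.Away.lift_eq])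
  haveI tow2 : IsScalarTower A (Localization.Away f) B := IsScalarTower.of_algebraMap_eq (fun a => by
    rw [IsScalarTower.algebraMap_apply A R₀ (Localization.Away f),
      ← IsScalarTower.algebraMap_apply R₀ (Localization.Away f) B,
      ← IsScalarTower.algebraMap_apply A R₀ B])
  refine ⟨Localization.Away f, inferInstance, inferInstance, algRB, tow2, hsmf, ?_⟩
  have := isPairHenselization_away R₀ (I.map (algebraMap A R₀)) B hB f
  rwa [Ideal.map_map, ← IsScalarTower.algebraMap_eq] at this

end Groth.Agent.Lib.helper3.HSmooth
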