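import Mathlib
import Groth.Agent.Lib.helper3.PairHzn10
import Groth.Agent.S19568

/-!
# Henselization of `(P, IP)` for an `A`-algebra `P`, viewed as an `A`-algebra

`HA A I P` is a henselization of the pair `(P, IP)` with its `A`-algebra structure and the
universal property expressed with `A`-algebra maps.
-/

universe u

namespace Groth.Agent.Lib.helper3.HensFP

open Groth.Agent.Lib.helper3.PairHzn

section HA

variable (A : Type u) [CommRing A] (I : Ideal A) (P : Type u) [CommRing P] [Algebra A P]

/-- the henselization of `(P, IP)` -/
def HA : Type u := Hzn P (I.map (algebraMap A P))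

noncomputable instance : CommRing (HA A I P) := inferInstanceAs (CommRing (Hzn P (I.map (algebraMap A P))))

noncomputable instance : Algebra P (HA A I P) :=
  inferInstanceAs (Algebra P (Hzn P (I.map (algebraMap A P))))

noncomputable instance HA.algebraBase : Algebra A (HA A I P) :=
  ((algebraMap P (HA A I P)).comp (algebraMap A P)).toAlgebra

instance : IsScalarTower A P (HA A I P) := IsScalarTower.of_algebraMap_eq (fun _ => rfl)

theorem HA.isPH : Hens2.IsPairHenselization P (I.map (algebraMap A P)) (HA A I P) :=
  isPairHenselization (A := P) (I := I.map (algebraMap A P))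

instance HA.hens : HenselianRing (HA A I P) (I.map (algebraMap A (HA A I P))) := by
  have := (HA.isPH A I P).1
  rwa [Ideal.map_map, ← IsScalarTower.algebraMap_eq] at this

variable {A I P}

/-- universal property with `A`-algebra maps -/
theorem HA.exists_lift {C : Type u} [CommRing C] [Algebra A C]
    [hC : HenselianRing C (I.map (algebraMap A C))] (f : P →ₐ[A] C) :
    ∃ g : HA A I P →ₐ[A] C, ∀ p, g (algebraMap P (HA A I P) p) = f p := by
  have hle : (I.map (algebraMap A P)).map f.toRingHom ≤ I.map (algebraMap A C) := by
    rw [Ideal.map_map]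
    have : f.toRingHom.comp (algebraMap A P) = algebraMap A C := by
      ext a; exact f.commutes a
    rw [this]
  obtain ⟨g, hg, -⟩ := (HA.isPH A I P).2 C (I.map (algebraMap A C)) f.toRingHom hC hle
  refine ⟨{ g with commutes' := fun a => ?_ }, fun p => RingHom.congr_fun hg p⟩
  have := RingHom.congr_fun hg (algebraMap A P a)
  simp only [RingHom.coe_comp, Function.comp_apply] at this
  change g (algebraMap A (HA A I P) a) = _
  rw [IsScalarTower.algebraMap_apply A P (HA A I P), this]
  exact f.commutes a

theorem HA.hom_ext {C : Type u} [CommRing C] [Algebra A C]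
    [hC : HenselianRing C (I.map (algebraMap A C))] (g₁ g₂ : HA A I P →ₐ[A] C)
    (h : ∀ p, g₁ (algebraMap P (HA A I P) p) = g₂ (algebraMap P (HA A I P) p)) : g₁ = g₂ := by
  let f : P →ₐ[A] C := g₂.comp (IsScalarTower.toAlgHom A P (HA A I P))
  have hle : (I.map (algebraMap A P)).map f.toRingHom ≤ I.map (algebraMap A C) := by
    rw [Ideal.map_map]
    have : f.toRingHom.comp (algebraMap A P) = algebraMap A C := by
      ext a; exact f.commutes a
    rw [this]
  obtain ⟨g, -, hgu⟩ := (HA.isPH A I P).2 C (I.map (algebraMap A C)) f.toRingHom hC hle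
  have h1 : g₁.toRingHom = g := hgu _ (by ext p; exact h p)
  have h2 : g₂.toRingHom = g := hgu _ (by ext p; rfl)
  ext x
  have := RingHom.congr_fun (h1.trans h2.symm) x
  exact this

/-- the chosen lift -/
noncomputable def HA.lift {C : Type u} [CommRing C] [Algebra A C]
    [HenselianRing C (I.map (algebraMap A C))] (f : P →ₐ[A] C) : HA A I P →ₐ[A] C :=
  (HA.exists_lift f).choose

theorem HA.lift_algebraMap {C : Type u} [CommRing C] [Algebra A C]
    [HenselianRing C (I.map (algebraMap A C))] (f : P →ₐ[A] C) (p : P) :
    HA.lift f (algebraMap P (HA A I P) p) = f p :=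
  (HA.exists_lift f).choose_spec p

end HA

/-- a surjective image of a henselian pair (over `A`, along `I`) is henselian -/
theorem henselian_of_surjective {A : Type u} [CommRing A] (I : Ideal A)
    {H C : Type u} [CommRing H] [Algebra A H] [CommRing C] [Algebra A C]
    [hH : HenselianRing H (I.map (algebraMap A H))] (g : H →ₐ[A] C) (hg : Function.Surjective g) :
    HenselianRing C (I.map (algebraMap A C)) := by
  have h1 := henselian_quot H (I.map (algebraMap A H)) (RingHom.ker g.toRingHom)
  let e : (H ⧸ RingHom.ker g.toRingHom) ≃+* C := RingHom.quotientKerEquivOfSurjective hg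
  have h2 := Groth.Agent.Lib.lead.PairHz.henselianRing_map_equiv e h1
  have h3 : ((I.map (algebraMap A H)).map (Ideal.Quotient.mk (RingHom.ker g.toRingHom))).map
      (e : (H ⧸ RingHom.ker g.toRingHom) →+* C) = I.map (algebraMap A C) := by
    rw [Ideal.map_map, Ideal.map_map]
    congr 1
    ext a
    change e (Ideal.Quotient.mk _ (algebraMap A H a)) = _
    have : e (Ideal.Quotient.mk _ (algebraMap A H a)) = g (algebraMap A H a) := rfl
    rw [this, g.commutes]
  rwa [h3] at h2

end Groth.Agent.Lib.helper3.HensFP
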