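import Mathlib
import Groth.Agent.Lib.helper3.HensFP1

/-!
# A quotient of a henselization of a finitely presented algebra by a finitely generated ideal
is a henselization of a finitely presented algebra
-/

universe u

namespace Groth.Agent.Lib.helper3.HensFP

open Groth.Agent.Lib.helper3.PairHzn

theorem fp_of_fg_ker (A : Type u) [CommRing A] (I : Ideal A)
    (P : Type u) [CommRing P] [Algebra A P] [Algebra.FinitePresentation A P]
    (H : Type u) [CommRing H] [Algebra P H] [Algebra A H] [IsScalarTower A P H]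
    (hH : Hens2.IsPairHenselization P (I.map (algebraMap A P)) H)
    (B : Type u) [CommRing B] [Algebra A B] (π : H →ₐ[A] B) (hπ : Function.Surjective π)
    (hker : (RingHom.ker π.toRingHom).FG) :
    ∃ (R : Type u) (_ : CommRing R) (_ : Algebra A R) (_ : Algebra R B) (_ : IsScalarTower A R B),
      Algebra.FinitePresentation A R ∧ Hens2.IsPairHenselization R (I.map (algebraMap A R)) B := by
  classical
  obtain ⟨F, hF⟩ := hker
  obtain ⟨S₀, _, _, _, χ₀, hχ₀, ψ₀, hψ₀⟩ := exists_common_nbhd P (I.map (algebraMap A P)) H hH F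
  letI : Algebra A S₀ := ((algebraMap P S₀).comp (algebraMap A P)).toAlgebra
  haveI : IsScalarTower A P S₀ := IsScalarTower.of_algebraMap_eq (fun _ => rfl)
  letI : Algebra S₀ H := ψ₀.toRingHom.toAlgebra
  haveI : IsScalarTower P S₀ H := IsScalarTower.of_algebraMap_eq (fun p => (ψ₀.commutes p).symm)
  haveI : IsScalarTower A S₀ H := IsScalarTower.of_algebraMap_eq (fun a => by
    rw [IsScalarTower.algebraMap_apply A P H, IsScalarTower.algebraMap_apply A P S₀,
      ← IsScalarTower.algebraMap_apply P S₀ H])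
  have hS₀H := Groth.Agent.S19568.isPairHenselization_of_nbhd P (I.map (algebraMap A P)) H hH
    S₀ χ₀ hχ₀
  choose c hc using hψ₀
  let 𝔠 : Ideal S₀ := Ideal.span (Set.range (fun x : F => c x.1 x.2))
  have h𝔠fg : 𝔠.FG := by
    refine ⟨Finset.univ.image (fun x : F => c x.1 x.2), ?_⟩
    simp [𝔠]
  have h𝔠 : 𝔠.map (algebraMap S₀ H) = RingHom.ker π.toRingHom := by
    rw [Ideal.map_span, ← hF]
    congr 1
    ext y
    constructor
    · rintro ⟨_, ⟨x, rfl⟩, rfl⟩
      have : algebraMap S₀ H (c x.1 x.2) = x.1 := hc x.1 x.2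
      rw [this]
      exact x.2
    · intro hy
      exact ⟨c y hy, ⟨⟨y, hy⟩, rfl⟩, hc y hy⟩
  have hQ := isPairHenselization_quot S₀ _ H hS₀H 𝔠
  have hvan : ∀ s ∈ 𝔠, (π.toRingHom.comp (algebraMap S₀ H)) s = 0 := by
    intro s hs
    have : algebraMap S₀ H s ∈ RingHom.ker π.toRingHom := by
      rw [← h𝔠]; exact Ideal.mem_map_of_mem _ hs
    exact this
  letI : Algebra (S₀ ⧸ 𝔠) B := (Ideal.Quotient.lift 𝔠 (π.toRingHom.comp (algebraMap S₀ H)) hvan).toAlgebra
  haveI : IsScalarTower A (S₀ ⧸ 𝔠) B := IsScalarTower.of_algebraMap_eq (fun a => by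
    change _ = Ideal.Quotient.lift 𝔠 (π.toRingHom.comp (algebraMap S₀ H)) hvan
      (Ideal.Quotient.mk 𝔠 (algebraMap A S₀ a))
    rw [Ideal.Quotient.lift_mk]
    change _ = π (algebraMap S₀ H (algebraMap A S₀ a))
    rw [← IsScalarTower.algebraMap_apply A S₀ H, π.commutes])
  haveI : Algebra.FinitePresentation A S₀ := Algebra.FinitePresentation.trans A P S₀
  have hfp : Algebra.FinitePresentation A (S₀ ⧸ 𝔠) := Algebra.FinitePresentation.quotient h𝔠fg
  have hvan' : ∀ x ∈ 𝔠.map (algebraMap S₀ H), π.toRingHom x = 0 := by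
    intro x hx
    rw [h𝔠] at hx
    exact hx
  let e₀ : (H ⧸ 𝔠.map (algebraMap S₀ H)) →+* B := Ideal.Quotient.lift _ π.toRingHom hvan'
  have he₀bij : Function.Bijective e₀ := by
    constructor
    · rw [injective_iff_map_eq_zero]
      intro x hx
      obtain ⟨h, rfl⟩ := Ideal.Quotient.mk_surjective x
      rw [Ideal.Quotient.eq_zero_iff_mem, h𝔠]
      exact hx
    · intro b
      obtain ⟨h, rfl⟩ := hπ b
      exact ⟨Ideal.Quotient.mk _ h, rfl⟩
  let e₁ : (H ⧸ 𝔠.map (algebraMap S₀ H)) →ₐ[S₀ ⧸ 𝔠] B :=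
    { e₀ with
      commutes' := fun r => by
        obtain ⟨s, rfl⟩ := Ideal.Quotient.mk_surjective r
        rfl }
  let e : (H ⧸ 𝔠.map (algebraMap S₀ H)) ≃ₐ[S₀ ⧸ 𝔠] B := AlgEquiv.ofBijective e₁ he₀bij
  have hfin := Groth.Agent.Lib.lead.PairHz.isPairHenselization_of_algEquiv hQ e
  refine ⟨S₀ ⧸ 𝔠, inferInstance, inferInstance, inferInstance, inferInstance, hfp, ?_⟩
  have hI : I.map (algebraMap A (S₀ ⧸ 𝔠)) =
      ((I.map (algebraMap A P)).map (algebraMap P S₀)).map (Ideal.Quotient.mk 𝔠) := by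
    rw [Ideal.map_map, Ideal.map_map]
    rfl
  rw [hI]
  exact hfin

end Groth.Agent.Lib.helper3.HensFP
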