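import Mathlib
import Groth.Agent.Lib.helper3.HensFP2

/-!
# Using the colimit hypothesis
-/

universe u

namespace Groth.Agent.Lib.helper3.HensFP

open Groth.Agent.Lib.helper3.PairHzn

/-- the (existence half of the) colimit-preservation hypothesis -/
def Hyp (A : Type u) [CommRing A] (I : Ideal A) (B : Type u) [CommRing B] [Algebra A B] : Prop :=
  ∀ (κ : Type u) [Preorder κ] [IsDirectedOrder κ] [Nonempty κ]
    (Ra : κ → Type u) [∀ a, CommRing (Ra a)] [∀ a, Algebra A (Ra a)]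
    [∀ a, HenselianRing (Ra a) (I.map (algebraMap A (Ra a)))]
    (t : ∀ a b : κ, a ≤ b → (Ra a →+* Ra b)) [DirectedSystem Ra (fun a b hab => t a b hab)],
    (∀ (a b : κ) (hab : a ≤ b), (t a b hab).comp (algebraMap A (Ra a)) = algebraMap A (Ra b)) →
    ∀ [Algebra A (DirectLimit Ra t)],
    (∀ (a : κ) (x : A), algebraMap A (DirectLimit Ra t) x =
      DirectLimit.Ring.of Ra t a (algebraMap A (Ra a) x)) →
    (∀ χ : B →ₐ[A] DirectLimit Ra t, ∃ (a : κ) (φ : B →ₐ[A] Ra a),
        ∀ x : B, DirectLimit.Ring.of Ra t a (φ x) = χ x)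

theorem use_hyp {A : Type u} [CommRing A] {I : Ideal A} {B : Type u} [CommRing B] [Algebra A B]
    (h : Hyp A I B)
    (κ : Type u) [Preorder κ] [IsDirectedOrder κ] [Nonempty κ]
    (Ra : κ → Type u) [∀ a, CommRing (Ra a)] [∀ a, Algebra A (Ra a)]
    [∀ a, HenselianRing (Ra a) (I.map (algebraMap A (Ra a)))]
    (t : ∀ a b : κ, a ≤ b → (Ra a →+* Ra b)) [DirectedSystem Ra (fun a b hab => t a b hab)]
    (ht : ∀ (a b : κ) (hab : a ≤ b), (t a b hab).comp (algebraMap A (Ra a)) = algebraMap A (Ra b))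
    (p : ∀ a, Ra a →ₐ[A] B) (hp : ∀ a b (hab : a ≤ b) x, p b (t a b hab x) = p a x)
    (hsurj : ∀ b : B, ∃ a x, p a x = b)
    (hinj : ∀ a (x : Ra a), p a x = 0 → ∃ b, ∃ hab : a ≤ b, t a b hab x = 0) :
    ∃ a, ∃ φ : B →ₐ[A] Ra a, ∀ x, p a (φ x) = x := by
  classical
  obtain ⟨a₀⟩ := ‹Nonempty κ›
  letI : Algebra A (DirectLimit Ra t) :=
    ((DirectLimit.Ring.of Ra t a₀).comp (algebraMap A (Ra a₀))).toAlgebra
  have halg : ∀ (a : κ) (x : A), algebraMap A (DirectLimit Ra t) x =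
      DirectLimit.Ring.of Ra t a (algebraMap A (Ra a) x) := by
    intro a x
    obtain ⟨c, hac, ha₀c⟩ := exists_ge_ge a a₀
    change DirectLimit.Ring.of Ra t a₀ (algebraMap A (Ra a₀) x) = _
    rw [← DirectLimit.Ring.of_f ha₀c, ← DirectLimit.Ring.of_f hac]
    have h1 := RingHom.congr_fun (ht a₀ c ha₀c) x
    have h2 := RingHom.congr_fun (ht a c hac) x
    simp only [RingHom.comp_apply] at h1 h2
    rw [h1, h2]
  let πL : DirectLimit Ra t →+* B :=
    DirectLimit.Ring.lift Ra t B (fun a => (p a).toRingHom) (fun a b hab x => hp a b hab x)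
  have hbij : Function.Bijective πL := by
    constructor
    · rw [injective_iff_map_eq_zero]
      intro z hz
      induction z using DirectLimit.induction with | _ a x
      have hx : p a x = 0 := hz
      obtain ⟨b, hab, hb⟩ := hinj a x hx
      change DirectLimit.Ring.of Ra t a x = 0
      rw [← DirectLimit.Ring.of_f hab, hb, map_zero]
    · intro b
      obtain ⟨a, x, rfl⟩ := hsurj b
      exact ⟨DirectLimit.Ring.of Ra t a x, rfl⟩
  let eL : DirectLimit Ra t ≃+* B := RingEquiv.ofBijective πL hbij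
  let χ : B →ₐ[A] DirectLimit Ra t :=
    { eL.symm.toRingHom with
      commutes' := fun r => by
        apply eL.injective
        change eL (eL.symm (algebraMap A B r)) = eL (algebraMap A _ r)
        rw [RingEquiv.apply_symm_apply, halg a₀ r]
        change _ = p a₀ (algebraMap A (Ra a₀) r)
        rw [(p a₀).commutes] }
  obtain ⟨a, φ, hφ⟩ := h κ Ra t ht halg χ
  refine ⟨a, φ, fun x => ?_⟩
  have := congrArg eL (hφ x)
  change p a (φ x) = eL (eL.symm x) at this
  rw [this, RingEquiv.apply_symm_apply]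

/-- stage 2a: a surjection from a henselian `A`-algebra `H` onto `B` has a section after dividing
`H` by a finitely generated subideal of the kernel -/
theorem exists_section_quot {A : Type u} [CommRing A] {I : Ideal A} {B : Type u} [CommRing B]
    [Algebra A B] (h : Hyp A I B)
    (H : Type u) [CommRing H] [Algebra A H] [hH : HenselianRing H (I.map (algebraMap A H))]
    (π : H →ₐ[A] B) (hπ : Function.Surjective π) :
    ∃ (K' : Ideal H) (_ : K'.FG) (hK' : ∀ x ∈ K', π x = 0) (φ : B →ₐ[A] H ⧸ K'),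
      ∀ x, Ideal.Quotient.liftₐ K' π hK' (φ x) = x := by
  classical
  let κ := {K' : Ideal H // K'.FG ∧ ∀ x ∈ K', π x = 0}
  haveI : IsDirectedOrder κ := ⟨fun a b => ⟨⟨a.1 ⊔ b.1, Submodule.FG.sup a.2.1 b.2.1, by
    intro x hx
    obtain ⟨y, hy, z, hz, rfl⟩ := Submodule.mem_sup.mp hx
    rw [map_add, a.2.2 y hy, b.2.2 z hz, add_zero]⟩, le_sup_left (a := a.1), le_sup_right (b := b.1)⟩⟩
  haveI : Nonempty κ := ⟨⟨⊥, Submodule.fg_bot, fun x hx => by
    rw [Ideal.mem_bot] at hx; rw [hx, map_zero]⟩⟩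
  let Ra : κ → Type u := fun a => H ⧸ a.1
  haveI : ∀ a : κ, HenselianRing (Ra a) (I.map (algebraMap A (Ra a))) := fun a =>
    henselian_of_surjective I (Ideal.Quotient.mkₐ A a.1) (Ideal.Quotient.mkₐ_surjective A a.1)
  let t : ∀ a b : κ, a ≤ b → (Ra a →+* Ra b) := fun a b hab => Ideal.Quotient.factor hab
  haveI : DirectedSystem Ra (fun a b hab => t a b hab) := by
    refine ⟨?_, ?_⟩
    · intro i x
      obtain ⟨y, rfl⟩ := Ideal.Quotient.mk_surjective x
      rfl
    · intro k j i hij hjk x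
      obtain ⟨y, rfl⟩ := Ideal.Quotient.mk_surjective x
      rfl
  have ht : ∀ (a b : κ) (hab : a ≤ b), (t a b hab).comp (algebraMap A (Ra a)) = algebraMap A (Ra b) := by
    intro a b hab
    ext x
    rfl
  let p : ∀ a : κ, Ra a →ₐ[A] B := fun a => Ideal.Quotient.liftₐ a.1 π a.2.2
  have hp : ∀ a b (hab : a ≤ b) x, p b (t a b hab x) = p a x := by
    intro a b hab x
    obtain ⟨y, rfl⟩ := Ideal.Quotient.mk_surjective x
    rfl
  have hsurj : ∀ b : B, ∃ a x, p a x = b := by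
    intro b
    obtain ⟨y, rfl⟩ := hπ b
    exact ⟨Classical.arbitrary κ, Ideal.Quotient.mk _ y, rfl⟩
  have hinj : ∀ a (x : Ra a), p a x = 0 → ∃ b, ∃ hab : a ≤ b, t a b hab x = 0 := by
    intro a x hx
    obtain ⟨y, rfl⟩ := Ideal.Quotient.mk_surjective x
    have hy : π y = 0 := hx
    let b : κ := ⟨a.1 ⊔ Ideal.span {y}, Submodule.FG.sup a.2.1 ⟨{y}, by simp⟩, by
      intro x hx
      obtain ⟨u, hu, v, hv, rfl⟩ := Submodule.mem_sup.mp hx
      obtain ⟨w, rfl⟩ := Ideal.mem_span_singleton'.mp hv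
      rw [map_add, a.2.2 u hu, map_mul, hy, mul_zero, add_zero]⟩
    refine ⟨b, le_sup_left (a := a.1), ?_⟩
    change Ideal.Quotient.factor _ (Ideal.Quotient.mk _ y) = 0
    rw [Ideal.Quotient.factor_mk, Ideal.Quotient.eq_zero_iff_mem]
    exact Ideal.mem_sup_right (Ideal.subset_span rfl)
  obtain ⟨a, φ, hφ⟩ := use_hyp h κ Ra t ht p hp hsurj hinj
  exact ⟨a.1, a.2.1, a.2.2, φ, hφ⟩

end Groth.Agent.Lib.helper3.HensFP
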