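import Mathlib
import Groth.Agent.Lib.helper3.HensFP3

/-!
# Stage 2b: the kernel is finitely generated
-/

universe u

namespace Groth.Agent.Lib.helper3.HensFP

open Groth.Agent.Lib.helper3.PairHzn

theorem ker_fg {A : Type u} [CommRing A] {I : Ideal A} {B : Type u} [CommRing B]
    [Algebra A B] (h : Hyp A I B)
    (H : Type u) [CommRing H] [Algebra A H] [hH : HenselianRing H (I.map (algebraMap A H))]
    (π : H →ₐ[A] B) (hπ : Function.Surjective π) {ι : Type*} [Finite ι] (x : ι → H)
    (hgen : ∀ (C : Type u) [CommRing C] [Algebra A C] [HenselianRing C (I.map (algebraMap A C))]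
      (u v : H →ₐ[A] C), (∀ i, u (x i) = v (x i)) → u = v) :
    (RingHom.ker π.toRingHom).FG := by
  classical
  obtain ⟨K', hK'fg, hK', φ, hφ⟩ := exists_section_quot h H π hπ
  let π' : H ⧸ K' →ₐ[A] B := Ideal.Quotient.liftₐ K' π hK'
  let q : H →ₐ[A] H ⧸ K' := Ideal.Quotient.mkₐ A K'
  have hqsurj : Function.Surjective q := Ideal.Quotient.mkₐ_surjective A K'
  haveI hH' : HenselianRing (H ⧸ K') (I.map (algebraMap A (H ⧸ K'))) :=
    henselian_of_surjective I q hqsurj
  let ε : H ⧸ K' →ₐ[A] H ⧸ K' := φ.comp π'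
  let J' : Ideal (H ⧸ K') := Ideal.span (Set.range fun i => ε (q (x i)) - q (x i))
  haveI hC : HenselianRing ((H ⧸ K') ⧸ J') (I.map (algebraMap A ((H ⧸ K') ⧸ J'))) :=
    henselian_of_surjective I (Ideal.Quotient.mkₐ A J') (Ideal.Quotient.mkₐ_surjective A J')
  let u : H →ₐ[A] (H ⧸ K') ⧸ J' := (Ideal.Quotient.mkₐ A J').comp q
  let v : H →ₐ[A] (H ⧸ K') ⧸ J' := (Ideal.Quotient.mkₐ A J').comp (ε.comp q)
  have huv : u = v := by
    apply hgen
    intro i
    change Ideal.Quotient.mk J' (q (x i)) = Ideal.Quotient.mk J' (ε (q (x i)))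
    rw [eq_comm, Ideal.Quotient.eq]
    exact Ideal.subset_span ⟨i, rfl⟩
  have hker : RingHom.ker π'.toRingHom = J' := by
    apply le_antisymm
    · intro y hy
      obtain ⟨h', rfl⟩ := hqsurj y
      have h1 : u h' = v h' := by rw [huv]
      have h2 : v h' = 0 := by
        change Ideal.Quotient.mk J' (φ (π' (q h'))) = 0
        have : π' (q h') = 0 := hy
        rw [this, map_zero, map_zero]
      have h3 : Ideal.Quotient.mk J' (q h') = 0 := h1.trans h2
      exact Ideal.Quotient.eq_zero_iff_mem.mp h3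
    · rw [Ideal.span_le]
      rintro _ ⟨i, rfl⟩
      change π' (φ (π' (q (x i))) - q (x i)) = 0
      rw [map_sub, hφ, sub_self]
  have hfg' : (RingHom.ker π'.toRingHom).FG := by
    rw [hker]
    exact Submodule.fg_span (Set.finite_range _)
  have hqker : (RingHom.ker q.toRingHom).FG := by
    have : RingHom.ker q.toRingHom = K' := Ideal.mk_ker
    rw [this]; exact hK'fg
  have := Ideal.fg_ker_comp q.toRingHom π'.toRingHom hqker hfg' hqsurj
  have hcomp : π'.toRingHom.comp q.toRingHom = π.toRingHom := by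
    ext y; rfl
  rwa [hcomp] at this

end Groth.Agent.Lib.helper3.HensFP
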