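import Mathlib
import Groth.Agent.Lib.helper3.HensFP4

/-!
# Stage 1 (finite generation) and the main theorem
-/

universe u

namespace Groth.Agent.Lib.helper3.HensFP

open Groth.Agent.Lib.helper3.PairHzn

section stage1

variable (A : Type u) [CommRing A] (I : Ideal A) (B : Type u) [CommRing B] [Algebra A B]

/-- evaluation `A[X_s : s ∈ S] → B` -/
noncomputable def evS (S : Finset B) : MvPolynomial ↥S A →ₐ[A] B :=
  MvPolynomial.aeval (fun s => (s : B))

variable [hB : HenselianRing B (I.map (algebraMap A B))]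

/-- the canonical map from the henselization of `A[X_s : s ∈ S]` to `B` -/
noncomputable def canS (S : Finset B) : HA A I (MvPolynomial ↥S A) →ₐ[A] B :=
  HA.lift (evS A B S)

theorem canS_algebraMap (S : Finset B) (p : MvPolynomial ↥S A) :
    canS A I B S (algebraMap _ _ p) = evS A B S p :=
  HA.lift_algebraMap _ p

/-- the image of `canS` -/
noncomputable def Bsub (S : Finset B) : Subalgebra A B := (canS A I B S).range

theorem Bsub_mono {S S' : Finset B} (hSS' : S ≤ S') : Bsub A I B S ≤ Bsub A I B S' := by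
  let r : MvPolynomial ↥S A →ₐ[A] MvPolynomial ↥S' A :=
    MvPolynomial.rename (fun s => (⟨s.1, hSS' s.2⟩ : ↥S'))
  let u : HA A I (MvPolynomial ↥S A) →ₐ[A] HA A I (MvPolynomial ↥S' A) :=
    HA.lift ((IsScalarTower.toAlgHom A (MvPolynomial ↥S' A) (HA A I (MvPolynomial ↥S' A))).comp r)
  have hu : (canS A I B S').comp u = canS A I B S := by
    apply HA.hom_ext
    intro p
    change canS A I B S' (u (algebraMap _ _ p)) = canS A I B S (algebraMap _ _ p)
    have h1 : u (algebraMap _ _ p) = algebraMap _ _ (r p) := HA.lift_algebraMap _ p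
    rw [h1, canS_algebraMap, canS_algebraMap]
    change MvPolynomial.aeval _ (MvPolynomial.rename _ p) = MvPolynomial.aeval _ p
    rw [MvPolynomial.aeval_rename]
    rfl
  rintro _ ⟨y, rfl⟩
  exact ⟨u y, AlgHom.congr_fun hu y⟩

theorem mem_Bsub_singleton (b : B) : b ∈ Bsub A I B {b} := by
  let s : ↥({b} : Finset B) := ⟨b, Finset.mem_singleton_self b⟩
  refine ⟨algebraMap (MvPolynomial ↥({b} : Finset B) A) _ (MvPolynomial.X s), ?_⟩
  change canS A I B {b} _ = b
  rw [canS_algebraMap]
  change MvPolynomial.aeval _ (MvPolynomial.X s) = b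
  rw [MvPolynomial.aeval_X]

theorem exists_finite_surj (h : Hyp A I B) : ∃ S : Finset B, Function.Surjective (canS A I B S) := by
  classical
  let Ra : Finset B → Type u := fun S => ↥(Bsub A I B S)
  haveI : ∀ S : Finset B, HenselianRing (Ra S) (I.map (algebraMap A (Ra S))) := fun S =>
    henselian_of_surjective I (canS A I B S).rangeRestrict (AlgHom.rangeRestrict_surjective _)
  let t : ∀ S S' : Finset B, S ≤ S' → (Ra S →+* Ra S') := fun S S' hSS' =>
    (Subalgebra.inclusion (Bsub_mono A I B hSS')).toRingHom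
  haveI : DirectedSystem Ra (fun a b hab => t a b hab) := by
    refine ⟨?_, ?_⟩
    · intro i x; rfl
    · intro k j i hij hjk x; rfl
  have ht : ∀ (a b : Finset B) (hab : a ≤ b),
      (t a b hab).comp (algebraMap A (Ra a)) = algebraMap A (Ra b) := by
    intro a b hab
    ext x
    rfl
  let p : ∀ S : Finset B, Ra S →ₐ[A] B := fun S => (Bsub A I B S).val
  have hp : ∀ a b (hab : a ≤ b) x, p b (t a b hab x) = p a x := fun a b hab x => rfl
  have hsurj : ∀ b : B, ∃ a x, p a x = b := fun b => ⟨{b}, ⟨b, mem_Bsub_singleton A I B b⟩, rfl⟩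
  have hinj : ∀ a (x : Ra a), p a x = 0 → ∃ b, ∃ hab : a ≤ b, t a b hab x = 0 := by
    intro a x hx
    refine ⟨a, le_refl a, ?_⟩
    have : x = 0 := Subtype.ext hx
    rw [this, map_zero]
  obtain ⟨S, φ, hφ⟩ := use_hyp h (Finset B) Ra t ht p hp hsurj hinj
  refine ⟨S, fun b => ?_⟩
  have hb : b ∈ Bsub A I B S := by
    have := (φ b).2
    rwa [show ((φ b : Ra S) : B) = b from hφ b] at this
  exact hb

end stage1

theorem main (A : Type u) [CommRing A] (I : Ideal A) (B : Type u) [CommRing B] [Algebra A B]
    [hB : HenselianRing B (I.map (algebraMap A B))] (h : Hyp A I B) :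
    ∃ (R : Type u) (_ : CommRing R) (_ : Algebra A R) (_ : Algebra R B) (_ : IsScalarTower A R B),
      Algebra.FinitePresentation A R ∧ Hens2.IsPairHenselization R (I.map (algebraMap A R)) B := by
  classical
  obtain ⟨S, hS⟩ := exists_finite_surj A I B h
  let P := MvPolynomial ↥S A
  let H := HA A I P
  have hgen : ∀ (C : Type u) [CommRing C] [Algebra A C] [HenselianRing C (I.map (algebraMap A C))]
      (u v : H →ₐ[A] C), (∀ s : ↥S, u (algebraMap P H (MvPolynomial.X s)) =
        v (algebraMap P H (MvPolynomial.X s))) → u = v := by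
    intro C _ _ _ u v huv
    apply HA.hom_ext
    have : u.comp (IsScalarTower.toAlgHom A P H) = v.comp (IsScalarTower.toAlgHom A P H) := by
      apply MvPolynomial.algHom_ext
      intro s
      exact huv s
    intro p
    exact AlgHom.congr_fun this p
  have hker := ker_fg h H (canS A I B S) hS (fun s : ↥S => algebraMap P H (MvPolynomial.X s)) hgen
  exact fp_of_fg_ker A I P H (HA.isPH A I P) B (canS A I B S) hS hker

end Groth.Agent.Lib.helper3.HensFP
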