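import Mathlib

/-!
# Sections of étale algebras over Henselian local rings

If `A` is a Henselian local ring, `B` an étale `A`-algebra and `q` a prime of `B` over the maximal
ideal with trivial residue field extension, there is an `A`-algebra map `B → A` whose kernel-preimage
of the maximal ideal is `q`.
-/

set_option autoImplicit false
universe u

open Polynomial

namespace Groth.Agent.Lib.helper3.HensSec

variable {A B : Type u} [CommRing A] [CommRing B] [Algebra A B]

theorem exists_section [IsLocalRing A] [HenselianRing A (IsLocalRing.maximalIdeal A)]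
    [Algebra.Etale A B] (q : Ideal B) [q.IsPrime]
    (hq : q.comap (algebraMap A B) = IsLocalRing.maximalIdeal A)
    (hres : Function.Surjective (algebraMap A q.ResidueField)) :
    ∃ φ : B →ₐ[A] A, (IsLocalRing.maximalIdeal A).comap φ.toRingHom = q := by
  classical
  let K := q.ResidueField
  -- kernel of `A → K`
  have hker : ∀ a : A, algebraMap A K a = 0 ↔ a ∈ IsLocalRing.maximalIdeal A := by
    intro a
    rw [IsScalarTower.algebraMap_apply A B K, Ideal.algebraMap_residueField_eq_zero, ← hq]
    rfl
  haveI : Algebra.IsEtaleAt A q := inferInstance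
  obtain ⟨f, hfq, hstd⟩ := Algebra.IsEtaleAt.exists_isStandardEtale (R := A) q
  obtain ⟨P⟩ := hstd.nonempty_standardEtalePresentation
  -- the residue map on `B_f`
  have hfu : IsUnit (algebraMap B K f) := by
    rw [isUnit_iff_ne_zero, Ne, Ideal.algebraMap_residueField_eq_zero]
    exact hfq
  let ψ : Localization.Away f →ₐ[A] K :=
    IsLocalization.liftAlgHom (M := Submonoid.powers f) (f := IsScalarTower.toAlgHom A B K)
      (by
        rintro ⟨_, n, rfl⟩
        show IsUnit (algebraMap B K (f ^ n))
        rw [map_pow]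
        exact hfu.pow n)
  have hψ : ∀ b : B, ψ (algebraMap B (Localization.Away f) b) = algebraMap B K b := by
    intro b
    simp [ψ]
  obtain ⟨a₀, ha₀⟩ := hres (ψ P.x)
  have hmap : ∀ p : A[X], algebraMap A K (p.eval a₀) = ψ (aeval P.x p) := by
    intro p
    rw [← Polynomial.aeval_algHom_apply, ← ha₀, Polynomial.aeval_algebraMap_apply,
      Polynomial.coe_aeval_eq_eval]
  have h1 : P.f.eval a₀ ∈ IsLocalRing.maximalIdeal A := by
    rw [← hker, hmap, P.hasMap.1, map_zero]
  have h2 : IsUnit (P.f.derivative.eval a₀) := by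
    by_contra h
    have : P.f.derivative.eval a₀ ∈ IsLocalRing.maximalIdeal A := h
    rw [← hker, hmap] at this
    exact (P.hasMap.isUnit_derivative_f.map ψ).ne_zero this
  obtain ⟨a, hroot, haa⟩ := HenselianRing.is_henselian (I := IsLocalRing.maximalIdeal A)
    P.f P.monic_f a₀ h1 (h2.map _)
  have haK : algebraMap A K a = algebraMap A K a₀ := by
    rw [← sub_eq_zero, ← map_sub, hker]
    exact haa
  have hga : IsUnit (P.g.eval a) := by
    by_contra h
    have h' : P.g.eval a ∈ IsLocalRing.maximalIdeal A := h
    have hdvd : a - a₀ ∣ P.g.eval a - P.g.eval a₀ := Polynomial.sub_dvd_eval_sub a a₀ P.g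
    have h'' : P.g.eval a₀ ∈ IsLocalRing.maximalIdeal A := by
      have h3 : P.g.eval a - P.g.eval a₀ ∈ IsLocalRing.maximalIdeal A :=
        Ideal.mem_of_dvd _ hdvd haa
      have := Ideal.sub_mem _ h' h3
      simpa using this
    rw [← hker, hmap] at h''
    exact (P.hasMap.2.map ψ).ne_zero h''
  have hmapa : P.HasMap a := ⟨by rw [Polynomial.coe_aeval_eq_eval]; exact hroot,
    by rw [Polynomial.coe_aeval_eq_eval]; exact hga⟩
  let φ₀ : P.Ring →ₐ[A] A := P.lift a hmapa
  let φ' : Localization.Away f →ₐ[A] A := φ₀.comp P.equivRing.toAlgHom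
  have hφ'x : φ' P.x = a := by
    simp only [φ', AlgHom.comp_apply, φ₀]
    erw [P.equivRing_x]
    exact StandardEtalePair.lift_X _ _ _
  have hcomp : ψ = (Algebra.ofId A K).comp φ' := by
    apply P.hom_ext
    rw [AlgHom.comp_apply, hφ'x, ← ha₀]
    exact haK.symm
  refine ⟨φ'.comp (IsScalarTower.toAlgHom A B (Localization.Away f)), ?_⟩
  ext b
  simp only [Ideal.mem_comap]
  show φ' (algebraMap B (Localization.Away f) b) ∈ IsLocalRing.maximalIdeal A ↔ b ∈ q
  rw [← hker]
  have : algebraMap A K (φ' (algebraMap B (Localization.Away f) b)) =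
      ψ (algebraMap B (Localization.Away f) b) := by
    rw [hcomp]; rfl
  rw [this, hψ, Ideal.algebraMap_residueField_eq_zero]

end Groth.Agent.Lib.helper3.HensSec
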