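import Mathlib
import Groth.Agent.Lib.helper3.HensSec
import Groth.Agent.Lib.helper3.QFLoc

/-!
# Sections of elementary étale neighbourhoods of a Henselian local scheme
-/

set_option autoImplicit false
universe u

open CategoryTheory CategoryTheory.Limits AlgebraicGeometry

namespace Groth.Agent.Lib.helper3.HensSec

section Ring

variable {A B : Type u} [CommRing A] [CommRing B] (α : A →+* B)

/-- the residue field map of `Spec.map α`, transported to `Ideal.ResidueField` (converse direction). -/
theorem exists_residueFieldMap_transport' (q : Spec (CommRingCat.of B)) :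
    ∃ ρ : (Spec.map (CommRingCat.ofHom α) q).asIdeal.ResidueField →+* q.asIdeal.ResidueField,
      ρ.comp (algebraMap A _) = (algebraMap B _).comp α ∧
      (Function.Surjective ((Spec.map (CommRingCat.ofHom α)).residueFieldMap q) →
        Function.Surjective ρ) := by
  let isoP := Scheme.Spec.residueFieldIso (CommRingCat.of A) (Spec.map (CommRingCat.ofHom α) q)
  let isoQ := Scheme.Spec.residueFieldIso (CommRingCat.of B) q
  let ρ₀ := (Spec.map (CommRingCat.ofHom α)).residueFieldMap q
  let ρ'' : CommRingCat.of (Spec.map (CommRingCat.ofHom α) q).asIdeal.ResidueField ⟶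
      CommRingCat.of q.asIdeal.ResidueField :=
    isoP.inv ≫ ρ₀ ≫ isoQ.hom
  have key : CommRingCat.ofHom
      (algebraMap A (Spec.map (CommRingCat.ofHom α) q).asIdeal.ResidueField) ≫ ρ'' =
      CommRingCat.ofHom α ≫ CommRingCat.ofHom (algebraMap B q.asIdeal.ResidueField) := by
    apply Spec.map_injective
    simp only [Spec.map_comp, ρ'', ρ₀, Category.assoc]
    rw [Scheme.Spec.map_residueFieldIso_inv_eq_fromSpecResidueField,
      Scheme.Hom.SpecMap_residueFieldMap_fromSpecResidueField,
      ← Scheme.Spec.map_residueFieldIso_inv_eq_fromSpecResidueField, ← Category.assoc,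
      ← Category.assoc, ← Spec.map_comp, Iso.inv_hom_id, Spec.map_id, Category.id_comp]
  refine ⟨ρ''.hom, ?_, fun hsurj => ?_⟩
  · exact congrArg CommRingCat.Hom.hom key
  · have e1 : Function.Bijective isoP.inv := ConcreteCategory.bijective_of_isIso isoP.inv
    have e2 : Function.Bijective isoQ.hom := ConcreteCategory.bijective_of_isIso isoQ.hom
    intro z
    obtain ⟨z₁, rfl⟩ := e2.surjective z
    obtain ⟨z₂, rfl⟩ := hsurj z₁
    obtain ⟨z₃, rfl⟩ := e1.surjective z₂
    exact ⟨z₃, rfl⟩

end Ring

set_option backward.defeqAttrib.useBackward true in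
set_option backward.isDefEq.respectTransparency false in
theorem exists_section_scheme {A : Type u} [CommRing A] [IsLocalRing A]
    [HenselianRing A (IsLocalRing.maximalIdeal A)] {Y' : Scheme.{u}}
    (g : Y' ⟶ Spec (CommRingCat.of A)) [Etale g] (y' : Y')
    (hy : g y' = IsLocalRing.closedPoint A)
    (hres : Function.Surjective (g.residueFieldMap y')) :
    ∃ σ : Spec (CommRingCat.of A) ⟶ Y', σ ≫ g = 𝟙 _ ∧ σ (IsLocalRing.closedPoint A) = y' := by
  obtain ⟨_, ⟨W, hW, rfl⟩, hyW, -⟩ := Y'.isBasis_affineOpens.exists_subset_of_mem_open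
    (Set.mem_univ y') isOpen_univ
  obtain ⟨z, rfl⟩ : ∃ z, hW.fromSpec z = y' :=
    ⟨hW.primeIdealOf ⟨y', hyW⟩, hW.fromSpec_primeIdealOf ⟨y', hyW⟩⟩
  let g'' : Spec Γ(Y', W) ⟶ Spec (CommRingCat.of A) := hW.fromSpec ≫ g
  let α₀ : CommRingCat.of A ⟶ Γ(Y', W) := Spec.preimage g''
  have hα₀ : Spec.map α₀ = g'' := Spec.map_preimage g''
  haveI : Etale g'' := by dsimp only [g'']; infer_instance
  have hαet : α₀.hom.Etale := by
    have : Etale (Spec.map α₀) := by rw [hα₀]; infer_instance
    exact HasRingHomProperty.Spec_iff.mp this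
  let α : A →+* Γ(Y', W) := α₀.hom
  algebraize [α]
  have hcomap : (Spec.map (CommRingCat.ofHom α) z) = IsLocalRing.closedPoint A := by
    have : Spec.map (CommRingCat.ofHom α) = g'' := hα₀
    rw [this]
    exact hy
  have hq : z.asIdeal.comap (algebraMap A Γ(Y', W)) = IsLocalRing.maximalIdeal A :=
    congrArg PrimeSpectrum.asIdeal hcomap
  obtain ⟨ρ, hρ, hρs⟩ := exists_residueFieldMap_transport' α z
  have hs0 : Function.Surjective (g''.residueFieldMap z) :=
    QFLoc.surj_comp hW.fromSpec g z (QFLoc.surj_of_isIso _ _) hres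
  have hs1 : Function.Surjective ((Spec.map (CommRingCat.ofHom α)).residueFieldMap z) :=
    QFLoc.surj_congr (show g'' = Spec.map (CommRingCat.ofHom α) from hα₀.symm) z hs0
  have hρsurj := hρs hs1
  haveI hmax : (Spec.map (CommRingCat.ofHom α) z).asIdeal.IsMaximal := by
    rw [hcomap]
    exact inferInstanceAs (IsLocalRing.maximalIdeal A).IsMaximal
  have hA : Function.Surjective
      (algebraMap A (Spec.map (CommRingCat.ofHom α) z).asIdeal.ResidueField) :=
    Ideal.algebraMap_residueField_surjective _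
  have hresA : Function.Surjective (algebraMap A z.asIdeal.ResidueField) := by
    have e : (algebraMap A z.asIdeal.ResidueField) =
        ρ.comp (algebraMap A (Spec.map (CommRingCat.ofHom α) z).asIdeal.ResidueField) := by
      rw [hρ]
      exact IsScalarTower.algebraMap_eq A Γ(Y', W) z.asIdeal.ResidueField
    rw [e]
    exact hρsurj.comp hA
  obtain ⟨φ, hφ⟩ := exists_section (A := A) (B := Γ(Y', W)) z.asIdeal hq hresA
  refine ⟨Spec.map (CommRingCat.ofHom φ.toRingHom) ≫ hW.fromSpec, ?_, ?_⟩
  · rw [Category.assoc]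
    show Spec.map (CommRingCat.ofHom φ.toRingHom) ≫ g'' = 𝟙 _
    rw [← hα₀, ← Spec.map_comp]
    have : α₀ ≫ CommRingCat.ofHom φ.toRingHom = 𝟙 _ := by
      ext a
      exact φ.commutes a
    rw [this, Spec.map_id]
  · rw [Scheme.Hom.comp_apply]
    congr 1
    exact PrimeSpectrum.ext hφ

end Groth.Agent.Lib.helper3.HensSec
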