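import Mathlib

set_option autoImplicit false
universe u

namespace Groth.Agent.Lib.helper3.IdemCompl

open Polynomial

theorem idem_sub_cube {R : Type*} [CommRing R] {e₁ e₂ : R} (h₁ : IsIdempotentElem e₁)
    (h₂ : IsIdempotentElem e₂) : (e₁ - e₂) ^ 3 = e₁ - e₂ := by
  have h1 : e₁ * e₁ = e₁ := h₁
  have h2 : e₂ * e₂ = e₂ := h₂
  linear_combination (e₁ + 1 - 3 * e₂) * h1 + (3 * e₁ - e₂ - 1) * h2

theorem idem_sub_sq {R : Type*} [CommRing R] {e₁ e₂ : R} (h₁ : IsIdempotentElem e₁)
    (h₂ : IsIdempotentElem e₂) : IsIdempotentElem ((e₁ - e₂) ^ 2) := by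
  show (e₁ - e₂) ^ 2 * (e₁ - e₂) ^ 2 = (e₁ - e₂) ^ 2
  have h := idem_sub_cube h₁ h₂
  calc (e₁ - e₂) ^ 2 * (e₁ - e₂) ^ 2 = (e₁ - e₂) ^ 3 * (e₁ - e₂) := by ring
    _ = (e₁ - e₂) * (e₁ - e₂) := by rw [h]
    _ = (e₁ - e₂) ^ 2 := by ring

theorem eq_of_sq_eq_zero {R : Type*} [CommRing R] {e₁ e₂ : R} (h₁ : IsIdempotentElem e₁)
    (h₂ : IsIdempotentElem e₂) (h : (e₁ - e₂) ^ 2 = 0) : e₁ = e₂ := by
  have h3 := idem_sub_cube h₁ h₂
  have : (e₁ - e₂) ^ 3 = 0 := by rw [pow_succ, h, zero_mul]
  rw [this] at h3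
  exact sub_eq_zero.mp h3.symm

/-- An idempotent of `R[1/s]` which is the image of a multiple of `s`, `s` in the Jacobson radical,
vanishes. -/
theorem idem_eq_zero {R : Type*} [CommRing R] (s : R) (hs : s ∈ (⊥ : Ideal R).jacobson)
    (L : Type*) [CommRing L] [Algebra R L] [IsLocalization.Away s L]
    (u : L) (hu : IsIdempotentElem u) (x : R) (hx : u = algebraMap R L (s * x)) : u = 0 := by
  have h1 : algebraMap R L ((s * x) * (s * x)) = algebraMap R L (s * x) := by
    rw [map_mul, ← hx]; exact hu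
  obtain ⟨j, hj⟩ := IsLocalization.Away.exists_of_eq s h1
  have hunit : IsUnit (s * (-x) + 1) := (Ideal.mem_jacobson_bot.mp hs) (-x)
  have h2 : s ^ (j + 1) * x * (s * (-x) + 1) = 0 := by
    linear_combination (-1 : R) * hj
  have h3 : s ^ (j + 1) * x = 0 := by
    have := hunit.mul_left_eq_zero.mp h2
    exact this
  have h4 : algebraMap R L s ^ (j + 1) * algebraMap R L x = 0 := by
    rw [← map_pow, ← map_mul, h3, map_zero]
  have hsu : IsUnit (algebraMap R L s) := IsLocalization.Away.algebraMap_isUnit s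
  have h5 : algebraMap R L x = 0 := (hsu.pow (j + 1)).mul_right_eq_zero.mp h4
  rw [hx, map_mul, h5, mul_zero]

theorem awayMap_alg {R P : Type*} [CommRing R] [CommRing P] (f : R →+* P) (r x : R) :
    Localization.awayMap f r (algebraMap R (Localization.Away r) x) =
      algebraMap P (Localization.Away (f r)) (f x) := by
  simp [Localization.awayMap, IsLocalization.Away.map, IsLocalization.map_eq]

theorem cancel_pow {R : Type*} [CommRing R] (s : R) (L : Type*) [CommRing L] [Algebra R L]
    [IsLocalization.Away s L] {x y : L} (n : ℕ)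
    (h : x * algebraMap R L s ^ n = y * algebraMap R L s ^ n) : x = y :=
  ((IsLocalization.Away.algebraMap_isUnit (S := L) s).pow n).mul_left_inj.mp h

theorem fg_span (A : Type u) [CommRing A] (t : A) : (Ideal.span {t}).FG :=
  ⟨{t}, by simp⟩

/-- Elements of `A` killed in the completion lie in all powers of the ideal. -/
theorem mem_pow_of_map_eq_zero (A : Type u) [CommRing A] (I : Ideal A) (a : A)
    (h : algebraMap A (AdicCompletion I A) a = 0) (n : ℕ) : a ∈ I ^ n := by
  have h1 : AdicCompletion.evalₐ I n (AdicCompletion.of I A a) = 0 := by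
    have : AdicCompletion.of I A a = algebraMap A (AdicCompletion I A) a := rfl
    rw [this, h, map_zero]
  rw [AdicCompletion.evalₐ_of] at h1
  exact Ideal.Quotient.eq_zero_iff_mem.mp h1

theorem unique_part (A : Type u) [CommRing A] (t : A) (htJ : t ∈ (⊥ : Ideal A).jacobson)
    (u : Localization.Away t) (hu : IsIdempotentElem u)
    (hφ : Localization.awayMap (algebraMap A (AdicCompletion (Ideal.span {t}) A)) t u = 0) :
    u = 0 := by
  obtain ⟨m, b, hb⟩ := IsLocalization.Away.surj t u
  have h1 : algebraMap (AdicCompletion (Ideal.span {t}) A) (Localization.Away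
      (algebraMap A (AdicCompletion (Ideal.span {t}) A) t))
      (algebraMap A (AdicCompletion (Ideal.span {t}) A) b) = 0 := by
    have := congrArg (Localization.awayMap (algebraMap A (AdicCompletion (Ideal.span {t}) A)) t) hb
    rw [map_mul, hφ, zero_mul, awayMap_alg] at this
    exact this.symm
  obtain ⟨k, hk⟩ := IsLocalization.Away.exists_of_eq
    (algebraMap A (AdicCompletion (Ideal.span {t}) A) t) (h1.trans (map_zero _).symm)
  have h2 : algebraMap A (AdicCompletion (Ideal.span {t}) A) (t ^ k * b) = 0 := by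
    rw [map_mul, map_pow, hk, mul_zero]
  have h3 := mem_pow_of_map_eq_zero A (Ideal.span {t}) _ h2 (m + k + 1)
  rw [Ideal.span_singleton_pow, Ideal.mem_span_singleton'] at h3
  obtain ⟨c₁, hc₁⟩ := h3
  refine idem_eq_zero t htJ (Localization.Away t) u hu c₁ ?_
  apply cancel_pow t (Localization.Away t) (m + k)
  rw [pow_add, ← mul_assoc, hb, ← map_pow, ← map_pow, ← map_mul, ← map_mul, ← map_mul]
  congr 1
  rw [mul_comm b, ← hc₁]
  ring

theorem exists_approx (A : Type u) [CommRing A] (t : A)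
    (x : AdicCompletion (Ideal.span {t}) A) (N : ℕ) :
    ∃ (a : A) (s : AdicCompletion (Ideal.span {t}) A),
      x = algebraMap A (AdicCompletion (Ideal.span {t}) A) a +
        (algebraMap A (AdicCompletion (Ideal.span {t}) A) t) ^ N * s := by
  obtain ⟨a, ha⟩ := Ideal.Quotient.mk_surjective (AdicCompletion.evalₐ (Ideal.span {t}) N x)
  have h0 : AdicCompletion.evalₐ (Ideal.span {t}) N
      (x - AdicCompletion.of (Ideal.span {t}) A a) = 0 := by
    rw [map_sub, AdicCompletion.evalₐ_of, ha, sub_self]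
  have hle : (Ideal.span {t}) ^ N ≤ ((Ideal.span {t}) ^ N • ⊤ : Ideal A) := by simp
  have hker : x - AdicCompletion.of (Ideal.span {t}) A a ∈
      LinearMap.ker (AdicCompletion.eval (Ideal.span {t}) A N) := by
    rw [LinearMap.mem_ker, ← AdicCompletion.factor_evalₐ_eq_eval _ _ hle, h0, map_zero]
  rw [← AdicCompletion.pow_smul_top_eq_ker_eval (fg_span A t), Ideal.span_singleton_pow,
    Submodule.ideal_span_singleton_smul, Submodule.mem_smul_pointwise_iff_exists] at hker
  obtain ⟨s, -, hs⟩ := hker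
  refine ⟨a, s, ?_⟩
  have h1 : AdicCompletion.of (Ideal.span {t}) A a =
      algebraMap A (AdicCompletion (Ideal.span {t}) A) a := rfl
  rw [← map_pow, ← Algebra.smul_def, hs, h1]
  ring

theorem exists_eq_pow_mul_of_map (A : Type u) [CommRing A] (t : A) (a : A) (N : ℕ)
    (s : AdicCompletion (Ideal.span {t}) A)
    (h : algebraMap A (AdicCompletion (Ideal.span {t}) A) a =
      (algebraMap A (AdicCompletion (Ideal.span {t}) A) t) ^ N * s) : ∃ r, a = t ^ N * r := by
  have h1 : AdicCompletion.of (Ideal.span {t}) A a =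
      algebraMap A (AdicCompletion (Ideal.span {t}) A) a := rfl
  have h2 : AdicCompletion.evalₐ (Ideal.span {t}) N (AdicCompletion.of (Ideal.span {t}) A a) = 0 := by
    rw [h1, h, map_mul]
    have h3 : AdicCompletion.evalₐ (Ideal.span {t}) N
        ((algebraMap A (AdicCompletion (Ideal.span {t}) A) t) ^ N) = 0 := by
      have : (algebraMap A (AdicCompletion (Ideal.span {t}) A) t) ^ N =
          AdicCompletion.of (Ideal.span {t}) A (t ^ N) := by
        rw [← map_pow (algebraMap A (AdicCompletion (Ideal.span {t}) A))]; rfl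
      rw [this, AdicCompletion.evalₐ_of, Ideal.Quotient.eq_zero_iff_mem]
      exact Ideal.pow_mem_pow (Ideal.subset_span (Set.mem_singleton t)) N
    rw [h3, zero_mul]
  rw [AdicCompletion.evalₐ_of, Ideal.Quotient.eq_zero_iff_mem, Ideal.span_singleton_pow,
    Ideal.mem_span_singleton'] at h2
  obtain ⟨r, hr⟩ := h2
  exact ⟨r, by rw [← hr, mul_comm]⟩

/-- Newton step for the equation `x² = tⁿ x` over a Henselian pair `(A, tA)`. -/
theorem exists_root (A : Type u) [CommRing A] (t : A) [HenselianRing A (Ideal.span {t})] (n : ℕ)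
    (a₀ r : A) (h : a₀ * a₀ - t ^ n * a₀ = t ^ (2 * n + 1) * r) :
    ∃ (a y₁ w : A), a * a = t ^ n * a ∧ a = a₀ + (2 * a₀ - t ^ n) * (t * y₁) ∧
      (2 * a₀ - t ^ n) * (2 * a₀ - t ^ n) = t ^ (2 * n) * w := by
  have htJ : t ∈ (⊥ : Ideal A).jacobson :=
    HenselianRing.jac (Ideal.subset_span (Set.mem_singleton t))
  have hwu : IsUnit (t * (4 * r) + 1) := (Ideal.mem_jacobson_bot.mp htJ) (4 * r)
  obtain ⟨w', hw'⟩ := isUnit_iff_exists_inv.mp hwu
  set d := 2 * a₀ - t ^ n with hd
  set w := t * (4 * r) + 1 with hw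
  set c := t * r * w' with hc
  have hdd : d * d = t ^ (2 * n) * w := by
    rw [hd, hw]
    linear_combination 4 * h
  have hfa : a₀ * a₀ - t ^ n * a₀ = d * d * c := by
    rw [hdd, hc, h]
    linear_combination (-(t ^ (2 * n) * t * r)) * hw'
  let p : A[X] := X ^ 2 + (X + C c)
  have hdeg : (X + C c : A[X]).degree < ((2 : ℕ) : WithBot ℕ) := by
    refine lt_of_le_of_lt ((degree_add_le _ _).trans (max_le degree_X_le
      (degree_C_le.trans zero_le_one))) ?_
    norm_num
  have hmonic : p.Monic := monic_X_pow_add hdeg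
  have hev : p.eval 0 ∈ Ideal.span {t} := by
    have : p.eval 0 = c := by simp [p]
    rw [this, hc, mul_assoc]
    exact Ideal.mul_mem_right _ _ (Ideal.subset_span (Set.mem_singleton t))
  have hder : IsUnit (Ideal.Quotient.mk (Ideal.span {t}) (p.derivative.eval 0)) := by
    have : p.derivative.eval 0 = 1 := by simp [p]
    rw [this, map_one]
    exact isUnit_one
  obtain ⟨y, hy1, hy2⟩ := HenselianRing.is_henselian p hmonic 0 hev hder
  rw [sub_zero, Ideal.mem_span_singleton'] at hy2
  obtain ⟨y₁, hy₁⟩ := hy2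
  have hy : y ^ 2 + (y + c) = 0 := by
    have := hy1
    simpa [p, IsRoot] using this
  refine ⟨a₀ + d * (t * y₁), y₁, w, ?_, rfl, hdd⟩
  have hty : t * y₁ = y := by rw [mul_comm, hy₁]
  rw [hty]
  have hd' : 2 * a₀ - t ^ n = d := rfl
  linear_combination hfa + (d * d) * hy + (d * y) * hd'

theorem exists_part_abs (A : Type u) [CommRing A] (t : A) [HenselianRing A (Ideal.span {t})]
    (B : Type u) [CommRing B] (ι : A →+* B)
    (hJ : ι t ∈ (⊥ : Ideal B).jacobson)
    (happrox : ∀ (x : B) (N : ℕ), ∃ (a : A) (s : B), x = ι a + (ι t) ^ N * s)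
    (hdesc : ∀ (a : A) (N : ℕ) (s : B), ι a = (ι t) ^ N * s → ∃ r, a = t ^ N * r)
    (e : Localization.Away (ι t)) (he : IsIdempotentElem e) :
    ∃ e₀ : Localization.Away t, IsIdempotentElem e₀ ∧ Localization.awayMap ι t e₀ = e := by
  -- Step 1: write `e = â / t'ⁿ` with `â² = t'ⁿ â`.
  obtain ⟨n₀, a'₀, h₀⟩ := IsLocalization.Away.surj (ι t) e
  have hee : e * e = e := he
  have h1 : (algebraMap B (Localization.Away (ι t))) (a'₀ * a'₀) = (algebraMap B (Localization.Away (ι t))) ((ι t) ^ n₀ * a'₀) := by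
    rw [map_mul, map_mul, map_pow, ← h₀]
    linear_combination ((algebraMap B (Localization.Away (ι t))) (ι t) ^ n₀ * (algebraMap B (Localization.Away (ι t))) (ι t) ^ n₀) * hee
  obtain ⟨k, hk⟩ := IsLocalization.Away.exists_of_eq (ι t) h1
  obtain ⟨a', ha'⟩ : ∃ a', a' = (ι t) ^ k * a'₀ := ⟨_, rfl⟩
  obtain ⟨n, hn⟩ : ∃ n, n = n₀ + k := ⟨_, rfl⟩
  have ha'a' : a' * a' = (ι t) ^ n * a' := by
    rw [ha', hn, pow_add]
    linear_combination ((ι t) ^ k) * hk
  have hea' : e * (algebraMap B (Localization.Away (ι t))) (ι t) ^ n = (algebraMap B (Localization.Away (ι t))) a' := by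
    rw [ha', hn, pow_add, map_mul, map_pow, ← h₀]
    ring
  -- Step 2: approximate.
  obtain ⟨a₀, s, has⟩ := happrox a' (2 * n + 1)
  -- Step 3
  have hf : ι (a₀ * a₀ - t ^ n * a₀) = (ι t) ^ (2 * n + 1) *
      (-(2 * ι a₀ * s) - (ι t) ^ (2 * n + 1) * s * s + (ι t) ^ n * s) := by
    rw [map_sub, map_mul, map_mul, map_pow]
    have h2 : ι a₀ = a' - (ι t) ^ (2 * n + 1) * s := by rw [has]; ring
    rw [h2]
    linear_combination ha'a'
  obtain ⟨r, hr⟩ := hdesc _ _ _ hf
  -- Step 4
  obtain ⟨a, y₁, w, haa, hay, hdd⟩ := exists_root A t n a₀ r hr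
  -- Step 5
  obtain ⟨inv, hti⟩ : ∃ inv : Localization.Away t, (algebraMap A (Localization.Away t)) t * inv = 1 :=
    ⟨_, IsLocalization.Away.mul_invSelf t⟩
  have htin : (algebraMap A (Localization.Away t)) t ^ n * inv ^ n = 1 := by
    rw [← mul_pow, hti, one_pow]
  obtain ⟨e₀, he₀def⟩ : ∃ e₀ : Localization.Away t, e₀ = (algebraMap A (Localization.Away t)) a * inv ^ n := ⟨_, rfl⟩
  have he₀ : IsIdempotentElem e₀ := by
    show e₀ * e₀ = e₀
    have h3 : (algebraMap A (Localization.Away t)) a * (algebraMap A (Localization.Away t)) a = (algebraMap A (Localization.Away t)) t ^ n * (algebraMap A (Localization.Away t)) a := by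
      rw [← map_mul, haa, map_mul, map_pow]
    rw [he₀def]
    linear_combination (inv ^ n * inv ^ n) * h3 + ((algebraMap A (Localization.Away t)) a * inv ^ n) * htin
  have hφe₀ : Localization.awayMap ι t e₀ * (algebraMap B (Localization.Away (ι t))) (ι t) ^ n = (algebraMap B (Localization.Away (ι t))) (ι a) := by
    have h4 : e₀ * (algebraMap A (Localization.Away t)) t ^ n = (algebraMap A (Localization.Away t)) a := by
      rw [he₀def]
      linear_combination ((algebraMap A (Localization.Away t)) a) * htin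
    have := congrArg (Localization.awayMap ι t) h4
    rwa [map_mul, map_pow, awayMap_alg, awayMap_alg] at this
  refine ⟨e₀, he₀, ?_⟩
  -- Step 6
  have he' : IsIdempotentElem (Localization.awayMap ι t e₀) := he₀.map _
  apply eq_of_sq_eq_zero he' he
  have hz : ι a - a' = ι (2 * a₀ - t ^ n) * ((ι t) * ι y₁) - (ι t) ^ (2 * n + 1) * s := by
    rw [hay, has, map_add, map_mul, map_mul]
    ring
  obtain ⟨D, hD⟩ : ∃ D, D = ι (2 * a₀ - t ^ n) := ⟨_, rfl⟩
  have hDD : D * D = (ι t) ^ (2 * n) * ι w := by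
    rw [hD, ← map_mul, hdd, map_mul, map_pow]
  rw [← hD] at hz
  obtain ⟨x', hx'⟩ : ∃ x', x' = ι w * (ι t) * (ι y₁ * ι y₁) - 2 * D * ι y₁ * (ι t) * s +
      (ι t) ^ (2 * n + 1) * s * s := ⟨_, rfl⟩
  have hzz : (ι a - a') * (ι a - a') = (ι t) ^ (2 * n) * ((ι t) * x') := by
    rw [hz, hx']
    linear_combination ((ι t) * ι y₁ * ((ι t) * ι y₁)) * hDD
  refine idem_eq_zero (ι t) hJ (Localization.Away (ι t)) _ (idem_sub_sq he' he) x' ?_
  apply cancel_pow (ι t) (Localization.Away (ι t)) (2 * n)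
  have h5 : (Localization.awayMap ι t e₀ - e) * (algebraMap B (Localization.Away (ι t))) (ι t) ^ n = (algebraMap B (Localization.Away (ι t))) (ι a - a') := by
    rw [sub_mul, hφe₀, hea', map_sub]
  calc (Localization.awayMap ι t e₀ - e) ^ 2 * (algebraMap B (Localization.Away (ι t))) (ι t) ^ (2 * n)
      = ((Localization.awayMap ι t e₀ - e) * (algebraMap B (Localization.Away (ι t))) (ι t) ^ n) *
        ((Localization.awayMap ι t e₀ - e) * (algebraMap B (Localization.Away (ι t))) (ι t) ^ n) := by ring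
    _ = (algebraMap B (Localization.Away (ι t))) ((ι a - a') * (ι a - a')) := by rw [h5, map_mul]
    _ = (algebraMap B (Localization.Away (ι t))) ((ι t) * x') * (algebraMap B (Localization.Away (ι t))) (ι t) ^ (2 * n) := by rw [hzz, map_mul, map_pow]; ring

theorem exists_part (A : Type u) [CommRing A] (t : A) [HenselianRing A (Ideal.span {t})]
    (e : Localization.Away (algebraMap A (AdicCompletion (Ideal.span {t}) A) t))
    (he : IsIdempotentElem e) :
    ∃ e₀ : Localization.Away t, IsIdempotentElem e₀ ∧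
      Localization.awayMap (algebraMap A (AdicCompletion (Ideal.span {t}) A)) t e₀ = e := by
  refine exists_part_abs A t (AdicCompletion (Ideal.span {t}) A)
    (algebraMap A (AdicCompletion (Ideal.span {t}) A)) ?_ (exists_approx A t)
    (fun a N s h => exists_eq_pow_mul_of_map A t a N s h) e he
  haveI := AdicCompletion.isAdicComplete_self (Ideal.span {t}) (fg_span A t)
  exact IsAdicComplete.le_jacobson_bot
    ((Ideal.span {t}).map (algebraMap A (AdicCompletion (Ideal.span {t}) A)))
    (Ideal.mem_map_of_mem _ (Ideal.subset_span (Set.mem_singleton t)))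

end Groth.Agent.Lib.helper3.IdemCompl
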