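import Mathlib
import Groth.Agent.Lib.helper3.PairZMT
import Groth.Agent.Lib.helper3.PairIdem

/-!
# Zariski's main theorem near `V(J)` with `A'/J` integral over `A`; the finite part of a
quasi-finite algebra over a henselian pair.
-/

universe u

namespace Groth.Agent.Lib.helper3.PairFin

open Groth.Agent.Lib.helper3.PairEtale

section Z

variable {A A' : Type*} [CommRing A] [CommRing A'] [Algebra A A']

/-- Zariski's main theorem at a prime: an agreeing element of the integral closure outside `q` -/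
theorem exists_agree_integralClosure_notMem [Algebra.FiniteType A A']
    (q : Ideal A') [q.IsPrime] [Algebra.QuasiFiniteAt A q] :
    ∃ t ∈ integralClosure A A', Agree (integralClosure A A') t ∧ t ∉ q := by
  obtain ⟨S', hS', r, hrq, hbij⟩ :=
    Algebra.QuasiFiniteAt.exists_fg_and_exists_notMem_and_awayMap_bijective (R := A) q
  have hle : S' ≤ integralClosure A A' := fun x hx => IsIntegral.of_mem_of_fg S' hS' x hx
  refine ⟨r.1, hle r.2, Agree.mono hle (fun x => ?_), hrq⟩
  obtain ⟨y, hy⟩ := hbij.2 (algebraMap A' (Localization.Away (S'.val.toRingHom r)) x)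
  obtain ⟨⟨s, ⟨_, n, rfl⟩⟩, hys⟩ := IsLocalization.surj (Submonoid.powers r) y
  have h1 := congrArg (Localization.awayMap S'.val.toRingHom r) hys
  rw [map_mul, hy] at h1
  simp only [Localization.awayMap, IsLocalization.Away.map, IsLocalization.map_eq] at h1
  rw [← map_mul, IsLocalization.eq_iff_exists (Submonoid.powers (S'.val.toRingHom r))] at h1
  obtain ⟨⟨_, m, rfl⟩, hc⟩ := h1
  refine ⟨m + n, ?_⟩
  have h2 : r.1 ^ (m + n) * x = (r ^ m * s : S') := by
    simp only [map_pow] at hc
    rw [pow_add, mul_assoc, mul_comm (r.1 ^ n) x]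
    exact hc
  rw [h2]
  exact (r ^ m * s : S').2

/-- global form near `V(J)` when `A'/J` is integral over `A` -/
theorem exists_agree_integralClosure [Algebra.FiniteType A A'] (J : Ideal A')
    (hq : ∀ (q : Ideal A') [q.IsPrime], J ≤ q → Algebra.QuasiFiniteAt A q)
    (hint : ∀ x : A', IsIntegral A (Ideal.Quotient.mk J x)) :
    ∃ t ∈ integralClosure A A', Agree (integralClosure A A') t ∧ t - 1 ∈ J := by
  set Ah : Subalgebra A A' := integralClosure A A' with hAh
  let 𝔠 : Ideal Ah := Ideal.span {t : Ah | Agree Ah t.1}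
  let 𝔧 : Ideal Ah := J.comap (algebraMap Ah A')
  have key : ∀ y ∈ 𝔠, Agree Ah (y : A') := by
    intro y hy
    induction hy using Submodule.span_induction with
    | mem t ht => exact ht
    | zero => exact fun x => ⟨1, by simp⟩
    | add y z _ _ ihy ihz => exact Agree.add ihy ihz y.2 z.2
    | smul c y _ ihy => exact Agree.mul_left ihy c.2
  have htop : 𝔠 ⊔ 𝔧 = ⊤ := by
    by_contra hne
    obtain ⟨m, hm, hle⟩ := Ideal.exists_le_maximal _ hne
    have hmp := hm.isPrime
    haveI : Algebra.IsIntegral Ah (A' ⧸ J) := ⟨fun y => by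
      obtain ⟨x, rfl⟩ := Ideal.Quotient.mk_surjective y
      exact (hint x).tower_top⟩
    obtain ⟨Q, -, hQp, hQ⟩ := Ideal.exists_ideal_over_prime_of_isIntegral m (⊥ : Ideal (A' ⧸ J)) (by
      intro x hx
      rw [Ideal.mem_comap, Ideal.mem_bot] at hx
      apply hle
      apply Ideal.mem_sup_right
      change algebraMap Ah A' x ∈ J
      rw [← Ideal.Quotient.eq_zero_iff_mem]
      exact hx)
    let q : Ideal A' := Q.comap (Ideal.Quotient.mk J)
    have hJq : J ≤ q := by
      intro j hj
      change Ideal.Quotient.mk J j ∈ Q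
      rw [Ideal.Quotient.eq_zero_iff_mem.mpr hj]
      exact Q.zero_mem
    haveI : q.IsPrime := Ideal.comap_isPrime _ _
    have hqm : q.comap (algebraMap Ah A') = m := by
      rw [← hQ]
      rfl
    haveI := hq q hJq
    obtain ⟨t, htA, htag, htq⟩ := exists_agree_integralClosure_notMem (A := A) q
    apply htq
    have h1 : (⟨t, htA⟩ : Ah) ∈ m := hle (Ideal.mem_sup_left (Ideal.subset_span htag))
    rw [← hqm] at h1
    exact h1
  obtain ⟨c, hc, j, hj, hcj⟩ := Submodule.mem_sup.mp ((Ideal.eq_top_iff_one _).mp htop)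
  refine ⟨c.1, c.2, key c hc, ?_⟩
  have h1 : (c : A') + (j : A') = 1 := by
    have := congrArg (Subtype.val) hcj
    simpa using this
  have h2 : (c : A') - 1 = -(j : A') := by rw [← h1]; ring
  rw [h2]
  exact J.neg_mem hj

/-- a module-finite subalgebra agreeing at `t` -/
theorem exists_fg_subalgebra_agree [Algebra.FiniteType A A'] (t : A')
    (ht : t ∈ integralClosure A A') (hag : Agree (integralClosure A A') t) :
    ∃ B : Subalgebra A A', B.toSubmodule.FG ∧ t ∈ B ∧ Agree B t := by
  classical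
  obtain ⟨s, hs⟩ := (inferInstance : Algebra.FiniteType A A').out
  choose n hn using hag
  let T : Set A' := insert t ((fun x => t ^ n x * x) '' (s : Set A'))
  have hTfin : T.Finite := (s.finite_toSet.image _).insert t
  have hTint : ∀ x ∈ T, IsIntegral A x := by
    rintro x (rfl | ⟨y, -, rfl⟩)
    · exact ht
    · exact hn y
  refine ⟨Algebra.adjoin A T, fg_adjoin_of_finite hTfin hTint,
    Algebra.subset_adjoin (Set.mem_insert _ _), ?_⟩
  have htB : t ∈ Algebra.adjoin A T := Algebra.subset_adjoin (Set.mem_insert _ _)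
  intro x
  have hx : x ∈ Algebra.adjoin A (s : Set A') := by rw [hs]; exact Algebra.mem_top
  induction hx using Algebra.adjoin_induction with
  | mem y hy =>
    exact ⟨n y, Algebra.subset_adjoin (Set.mem_insert_of_mem _ ⟨y, hy, rfl⟩)⟩
  | algebraMap a => exact ⟨0, by simpa using Subalgebra.algebraMap_mem _ a⟩
  | add y z _ _ ihy ihz =>
    obtain ⟨k, hk⟩ := ihy
    obtain ⟨l, hl⟩ := ihz
    refine ⟨k + l, ?_⟩
    have : t ^ (k + l) * (y + z) = t ^ l * (t ^ k * y) + t ^ k * (t ^ l * z) := by ring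
    rw [this]
    exact Subalgebra.add_mem _ (Subalgebra.mul_mem _ (Subalgebra.pow_mem _ htB _) hk)
      (Subalgebra.mul_mem _ (Subalgebra.pow_mem _ htB _) hl)
  | mul y z _ _ ihy ihz =>
    obtain ⟨k, hk⟩ := ihy
    obtain ⟨l, hl⟩ := ihz
    refine ⟨k + l, ?_⟩
    have : t ^ (k + l) * (y * z) = (t ^ k * y) * (t ^ l * z) := by ring
    rw [this]
    exact Subalgebra.mul_mem _ hk hl

end Z

section F

variable (A : Type u) [CommRing A] (I : Ideal A) [HenselianRing A I]
  (R : Type u) [CommRing R] [Algebra A R]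

/-- **The finite part.** If a module-finite subalgebra `S` agrees with `R` at `t ≡ 1 mod IR`,
then some localisation `R_g` with `g ≡ 1 mod IR` is module-finite over the henselian base. -/
theorem exists_away_finite (S : Subalgebra A R) (hS : S.toSubmodule.FG) (t : R) (ht : t ∈ S)
    (hag : Agree S t) (ht1 : t - 1 ∈ I.map (algebraMap A R)) :
    ∃ g : R, g - 1 ∈ I.map (algebraMap A R) ∧ Module.Finite A (Localization.Away g) := by
  classical
  haveI : Module.Finite A S := ⟨(Submodule.fg_top _).mpr hS⟩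
  haveI : Algebra.IsIntegral A S := Algebra.IsIntegral.of_finite A S
  have hIjac : I ≤ Ideal.jacobson ⊥ := HenselianRing.jac
  set J := I.map (algebraMap A R) with hJ
  set IS := I.map (algebraMap A S) with hIS
  have hISjac : IS ≤ Ideal.jacobson ⊥ :=
    Groth.Agent.Lib.helper3.PairIdem.map_le_jacobson_of_isIntegral I hIjac
  have hISJ : ∀ b : S, b ∈ IS → (b : R) ∈ J := by
    intro b hb
    have h1 : S.val b ∈ IS.map S.val.toRingHom := Ideal.mem_map_of_mem _ hb
    rw [hIS, Ideal.map_map] at h1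
    exact h1
  let tS : S := ⟨t, ht⟩
  -- step 1: `t^n (1 - t) ∈ IS`
  let Pz : R → Prop := fun z => ∃ n : ℕ, ∃ b : S, b ∈ IS ∧ (b : R) = t ^ n * z
  have hPadd : ∀ z₁ z₂, Pz z₁ → Pz z₂ → Pz (z₁ + z₂) := by
    rintro z₁ z₂ ⟨n₁, b₁, hb₁, e₁⟩ ⟨n₂, b₂, hb₂, e₂⟩
    refine ⟨n₁ + n₂, tS ^ n₂ * b₁ + tS ^ n₁ * b₂,
      Ideal.add_mem _ (Ideal.mul_mem_left _ _ hb₁) (Ideal.mul_mem_left _ _ hb₂), ?_⟩
    push_cast
    rw [e₁, e₂]
    change t ^ n₂ * (t ^ n₁ * z₁) + t ^ n₁ * (t ^ n₂ * z₂) = _
    ring
  have hPJ : ∀ z ∈ J, Pz z := by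
    intro z hz
    have hz' : z ∈ (I • ⊤ : Submodule A R) := by rw [Ideal.smul_top_eq_map]; exact hz
    refine Submodule.smul_induction_on hz' ?_ hPadd
    intro i hi w _
    obtain ⟨n, hn⟩ := hag w
    refine ⟨n, i • ⟨t ^ n * w, hn⟩, ?_, ?_⟩
    · rw [Algebra.smul_def]
      exact Ideal.mul_mem_right _ _ (Ideal.mem_map_of_mem _ hi)
    · change i • (t ^ n * w) = _
      rw [mul_smul_comm]
  obtain ⟨n, b, hb, hbe⟩ := hPJ (t - 1) ht1
  have hb' : tS ^ n * (tS - 1) ∈ IS := by
    have : tS ^ n * (tS - 1) = b := Subtype.ext hbe.symm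
    rw [this]; exact hb
  -- step 2: the idempotent `t̄^n`
  let mk := Ideal.Quotient.mk IS
  have hmk1 : mk tS ^ (n + 1) = mk tS ^ n := by
    have h0 : mk (tS ^ n * (tS - 1)) = 0 := Ideal.Quotient.eq_zero_iff_mem.mpr hb'
    rw [map_mul, map_sub, map_one, map_pow, mul_sub, mul_one, sub_eq_zero] at h0
    rw [pow_succ]; exact h0
  have hmkk : ∀ k : ℕ, mk tS ^ (n + k) = mk tS ^ n := by
    intro k
    induction k with
    | zero => rfl
    | succ k ih =>
      rw [← add_assoc, pow_succ, ih, ← pow_succ, hmk1]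
  have hidem : IsIdempotentElem (mk tS ^ n) := by
    change mk tS ^ n * mk tS ^ n = mk tS ^ n
    rw [← pow_add, hmkk]
  obtain ⟨e, he, hemk⟩ := (Groth.Agent.Lib.helper3.PairIdem.bijOn_of_henselian A I S).surjOn hidem
  have he' : e * e = e := he
  -- step 3: `t e = e u` with `u` a unit
  have hy : tS * e - e ∈ IS := by
    rw [← Ideal.Quotient.eq_zero_iff_mem, map_sub, map_mul]
    change mk tS * mk e - mk e = 0
    rw [hemk, ← pow_succ', hmk1, sub_self]
  obtain ⟨u, hu⟩ : IsUnit (1 + (tS * e - e)) := by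
    have := Ideal.mem_jacobson_bot.mp (hISjac hy) 1
    rwa [mul_one, add_comm] at this
  have hteu : tS * e = e * u := by
    rw [hu]
    have : e * (1 + (tS * e - e)) = tS * (e * e) + (e - e * e) := by ring
    rw [this, he', sub_self, add_zero]
  let s : S := ((u⁻¹ : Sˣ) : S)
  have hste : s * tS * e = e := by
    rw [mul_assoc, hteu, mul_comm e, ← mul_assoc]
    change ((u⁻¹ : Sˣ) : S) * (u : S) * e = e
    rw [Units.inv_mul, one_mul]
  -- step 4: `g = t e`
  have htn1 : ∀ k : ℕ, t ^ k - 1 ∈ J := by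
    intro k
    induction k with
    | zero => simp
    | succ k ih =>
      have : t ^ (k + 1) - 1 = t ^ k * (t - 1) + (t ^ k - 1) := by ring
      rw [this]; exact J.add_mem (J.mul_mem_left _ ht1) ih
  have he1 : (e : R) - 1 ∈ J := by
    have h1 : e - tS ^ n ∈ IS := by
      rw [← Ideal.Quotient.eq_zero_iff_mem, map_sub, map_pow]
      change mk e - mk tS ^ n = 0
      rw [hemk, sub_self]
    have h2 := hISJ _ h1
    have h3 : (e : R) - 1 = ((e - tS ^ n : S) : R) + (t ^ n - 1) := by
      push_cast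
      change (e : R) - 1 = (e : R) - t ^ n + (t ^ n - 1)
      ring
    rw [h3]; exact J.add_mem h2 (htn1 n)
  obtain ⟨g, hg⟩ : ∃ g : R, g = t * e := ⟨_, rfl⟩
  refine ⟨g, ?_, ?_⟩
  · have : g - 1 = (t - 1) * e + ((e : R) - 1) := by rw [hg]; ring
    rw [this]; exact J.add_mem (J.mul_mem_right _ ht1) he1
  · let φ := algebraMap R (Localization.Away g)
    have hφg : IsUnit (φ g) := IsLocalization.Away.algebraMap_isUnit g
    have heR : (e : R) * e = e := congrArg Subtype.val he'
    have hφe : φ e = 1 := by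
      have h0 : g * (1 - (e : R)) = 0 := by
        have : g * (1 - (e : R)) = t * ((e : R) - e * e) := by rw [hg]; ring
        rw [this, heR, sub_self, mul_zero]
      have h1 : φ g * φ (1 - (e : R)) = 0 := by rw [← map_mul, h0, map_zero]
      have h2 := hφg.mul_right_eq_zero.mp h1
      rw [map_sub, map_one, sub_eq_zero] at h2
      exact h2.symm
    have hφst : φ s * φ t = 1 := by
      have h1 : (s : R) * t * e = e := congrArg Subtype.val hste
      have h2 := congrArg φ h1
      rw [map_mul, map_mul, hφe, mul_one] at h2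
      exact h2
    have hφgt : φ g = φ t := (congrArg φ hg).trans (by rw [map_mul, hφe, mul_one])
    let f : S →ₗ[A] Localization.Away g :=
      ((IsScalarTower.toAlgHom A R (Localization.Away g)).comp S.val).toLinearMap
    have hf : ∀ b : S, f b = φ b := fun b => rfl
    refine Module.Finite.of_surjective f ?_
    intro z
    obtain ⟨x, ⟨_, m, rfl⟩, rfl⟩ := IsLocalization.exists_mk'_eq (Submonoid.powers g) z
    obtain ⟨k, hk⟩ := hag x
    refine ⟨s ^ (m + k) * ⟨t ^ k * x, hk⟩, ?_⟩
    rw [hf]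
    push_cast
    rw [IsLocalization.eq_mk'_iff_mul_eq]
    change φ ((s : R) ^ (m + k) * (t ^ k * x)) * φ (g ^ m) = φ x
    rw [map_mul, map_mul, map_pow, map_pow, map_pow, hφgt, pow_add]
    have : φ s ^ m * φ s ^ k * (φ t ^ k * φ x) * φ t ^ m
        = (φ s * φ t) ^ m * (φ s * φ t) ^ k * φ x := by ring
    rw [this, hφst, one_pow, one_pow, one_mul, one_mul]

end F

section Q

open TensorProduct

variable {A : Type u} [CommRing A] (I : Ideal A) {R : Type u} [CommRing R] [Algebra A R]

/-- if `R/IR` is generated as a module by the finite set `X`, the fibres over primes `p ⊇ I`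
are finite-dimensional -/
theorem finite_fiber {ι : Type*} (X : Finset ι) (v : ι → R)
    (hX : ∀ r : R, ∃ a : ι → A, r - ∑ x ∈ X, a x • v x ∈ I.map (algebraMap A R))
    (p : Ideal A) [p.IsPrime] (hIp : I ≤ p) : Module.Finite p.ResidueField (p.Fiber R) := by
  classical
  refine ⟨⟨X.image (fun x => (1 : p.ResidueField) ⊗ₜ[A] v x), ?_⟩⟩
  rw [eq_top_iff]
  rintro z -
  set N : Submodule p.ResidueField (p.Fiber R) :=
    Submodule.span p.ResidueField (↑(X.image (fun x => (1 : p.ResidueField) ⊗ₜ[A] v x)) : Set _)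
    with hN
  have hIzero : ∀ z ∈ I.map (algebraMap A R), (1 : p.ResidueField) ⊗ₜ[A] z = 0 := by
    intro z hz
    have hz' : z ∈ (I • ⊤ : Submodule A R) := by rw [Ideal.smul_top_eq_map]; exact hz
    refine Submodule.smul_induction_on hz' ?_ ?_
    · intro i hi w _
      rw [← TensorProduct.smul_tmul, Algebra.smul_def, mul_one]
      have : algebraMap A p.ResidueField i = 0 := by
        rw [Ideal.algebraMap_residueField_eq_zero]
        exact hIp hi
      rw [this, TensorProduct.zero_tmul]
    · intro z₁ z₂ h₁ h₂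
      rw [TensorProduct.tmul_add, h₁, h₂, add_zero]
  have h1 : ∀ r : R, (1 : p.ResidueField) ⊗ₜ[A] r ∈ N := by
    intro r
    obtain ⟨a, ha⟩ := hX r
    have h2 : (1 : p.ResidueField) ⊗ₜ[A] r
        = (1 : p.ResidueField) ⊗ₜ[A] (r - ∑ x ∈ X, a x • v x)
          + ∑ x ∈ X, (algebraMap A p.ResidueField (a x)) • ((1 : p.ResidueField) ⊗ₜ[A] v x) := by
      rw [TensorProduct.tmul_sub, TensorProduct.tmul_sum]
      have : ∀ x ∈ X, (1 : p.ResidueField) ⊗ₜ[A] (a x • v x)
          = (algebraMap A p.ResidueField (a x)) • ((1 : p.ResidueField) ⊗ₜ[A] v x) := by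
        intro x _
        rw [TensorProduct.tmul_smul, TensorProduct.smul_tmul', TensorProduct.smul_tmul',
          Algebra.smul_def, smul_eq_mul]
      rw [Finset.sum_congr rfl this]
      abel
    rw [h2, hIzero _ ha, zero_add]
    refine Submodule.sum_mem _ fun x hx => Submodule.smul_mem _ _ (Submodule.subset_span ?_)
    exact Finset.mem_coe.mpr (Finset.mem_image_of_mem _ hx)
  induction z using TensorProduct.induction_on with
  | zero => exact N.zero_mem
  | add z₁ z₂ h₁ h₂ => exact N.add_mem h₁ h₂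
  | tmul k r =>
    have : k ⊗ₜ[A] r = k • ((1 : p.ResidueField) ⊗ₜ[A] r) := by
      rw [TensorProduct.smul_tmul', smul_eq_mul, mul_one]
    rw [this]
    exact N.smul_mem _ (h1 r)

/-- quasi-finiteness at the primes containing `IR` -/
theorem quasiFiniteAt_of_finite_quotient [Algebra.FiniteType A R] {ι : Type*} (X : Finset ι)
    (v : ι → R)
    (hX : ∀ r : R, ∃ a : ι → A, r - ∑ x ∈ X, a x • v x ∈ I.map (algebraMap A R))
    (q : Ideal R) [hqp : q.IsPrime] (hq : I.map (algebraMap A R) ≤ q) :
    Algebra.QuasiFiniteAt A q := by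
  let q' : PrimeSpectrum R := ⟨q, hqp⟩
  let p := q'.comap (algebraMap A R)
  have hIp : I ≤ p.asIdeal := by
    intro i hi
    change algebraMap A R i ∈ q
    exact hq (Ideal.mem_map_of_mem _ hi)
  haveI : Module.Finite p.asIdeal.ResidueField (p.asIdeal.Fiber R) :=
    finite_fiber I X v hX p.asIdeal hIp
  let e := PrimeSpectrum.preimageHomeomorphFiber A R p
  have : Algebra.QuasiFiniteAt p.asIdeal.ResidueField (e ⟨q', rfl⟩).asIdeal := inferInstance
  haveI : q'.asIdeal.LiesOver p.asIdeal := ⟨rfl⟩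
  exact .of_quasiFiniteAt_residueField p.asIdeal q'.asIdeal (e ⟨q', rfl⟩).asIdeal
      congr($(e.symm_apply_apply ⟨q', rfl⟩).1.asIdeal)

end Q

section G

variable (A : Type u) [CommRing A] (I : Ideal A) [HenselianRing A I]
  (R : Type u) [CommRing R] [Algebra A R]

/-- **Finite part over a henselian pair.** If `R` is of finite type over `A` and `R/IR` is a
finite `A`-module, some localisation `R_g` with `g ≡ 1 mod IR` is module-finite over `A`. -/
theorem exists_away_finite_of_finite_quotient [Algebra.FiniteType A R] {ι : Type*} (X : Finset ι)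
    (v : ι → R)
    (hX : ∀ r : R, ∃ a : ι → A, r - ∑ x ∈ X, a x • v x ∈ I.map (algebraMap A R)) :
    ∃ g : R, g - 1 ∈ I.map (algebraMap A R) ∧ Module.Finite A (Localization.Away g) := by
  classical
  set J := I.map (algebraMap A R) with hJ
  have hfin : Module.Finite A (R ⧸ J) := by
    refine ⟨⟨X.image (fun x => Ideal.Quotient.mk J (v x)), ?_⟩⟩
    rw [eq_top_iff]
    rintro z -
    obtain ⟨r, rfl⟩ := Ideal.Quotient.mk_surjective z
    obtain ⟨a, ha⟩ := hX r
    have h1 : Ideal.Quotient.mk J r = ∑ x ∈ X, a x • Ideal.Quotient.mk J (v x) := by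
      have h2 : Ideal.Quotient.mk J (r - ∑ x ∈ X, a x • v x) = 0 :=
        Ideal.Quotient.eq_zero_iff_mem.mpr ha
      rw [map_sub, sub_eq_zero, map_sum] at h2
      rw [h2]
      refine Finset.sum_congr rfl fun x _ => ?_
      rw [Algebra.smul_def, map_mul, Algebra.smul_def]
      rfl
    rw [h1]
    refine Submodule.sum_mem _ fun x hx => Submodule.smul_mem _ _ (Submodule.subset_span ?_)
    exact Finset.mem_coe.mpr (Finset.mem_image_of_mem _ hx)
  haveI : Algebra.IsIntegral A (R ⧸ J) := Algebra.IsIntegral.of_finite A (R ⧸ J)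
  have hint : ∀ x : R, IsIntegral A (Ideal.Quotient.mk J x) := fun x =>
    Algebra.IsIntegral.isIntegral _
  have hq : ∀ (q : Ideal R) [q.IsPrime], J ≤ q → Algebra.QuasiFiniteAt A q := fun q _ hJq =>
    quasiFiniteAt_of_finite_quotient I X v hX q hJq
  obtain ⟨t, htA, htag, ht1⟩ := exists_agree_integralClosure (A := A) J hq hint
  obtain ⟨S, hS, htS, hag⟩ := exists_fg_subalgebra_agree (A := A) t htA htag
  exact exists_away_finite A I R S hS t htS hag ht1

end G

end Groth.Agent.Lib.helper3.PairFin
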