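import Mathlib
import Groth.Agent.Lib.helper3.PairFin

/-!
# Lifting an idempotent with finite factor into the integral closure
-/

open PrimeSpectrum

namespace Groth.Agent.Lib.helper3.IdemIC

open Groth.Agent.Lib.helper3.PairEtale

universe u

section T

variable {A B : Type*} [CommRing A] [CommRing B] [Algebra A B]

/-- elements of `IB` land in `IS` after multiplication by a power of an agreeing element -/
theorem exists_pow_mul_mem (I : Ideal A) (S : Subalgebra A B) (t : B) (htS : t ∈ S)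
    (hag : Agree S t) (y : B) (hy : y ∈ I.map (algebraMap A B)) :
    ∃ (m : ℕ) (w : S), w ∈ I.map (algebraMap A S) ∧ (w : B) = t ^ m * y := by
  have hy' : y ∈ (I • ⊤ : Submodule A B) := by rw [Ideal.smul_top_eq_map]; exact hy
  refine Submodule.smul_induction_on hy' ?_ ?_
  · intro i hi b _
    obtain ⟨m, hm⟩ := hag b
    refine ⟨m, algebraMap A S i * ⟨t ^ m * b, hm⟩,
      Ideal.mul_mem_right _ _ (Ideal.mem_map_of_mem _ hi), ?_⟩
    simp only [MulMemClass.coe_mul, Subalgebra.coe_algebraMap]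
    rw [Algebra.smul_def]
    ring
  · rintro y₁ y₂ ⟨m₁, w₁, hw₁, e₁⟩ ⟨m₂, w₂, hw₂, e₂⟩
    refine ⟨m₁ + m₂, (⟨t, htS⟩ : S) ^ m₂ * w₁ + (⟨t, htS⟩ : S) ^ m₁ * w₂,
      Ideal.add_mem _ (Ideal.mul_mem_left _ _ hw₁) (Ideal.mul_mem_left _ _ hw₂), ?_⟩
    simp only [AddMemClass.coe_add, MulMemClass.coe_mul, SubmonoidClass.coe_pow, e₁, e₂]
    ring

end T

/-- idempotent from torsion relations -/
theorem isIdempotentElem_of_torsion {D : Type*} [CommRing D] (τ σ : D) (N : ℕ)
    (h1 : τ ^ N * (σ * σ - σ) = 0) (h2 : τ ^ N * ((1 - τ) * σ) = 0) :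
    IsIdempotentElem (σ * τ ^ N) := by
  have h2' : τ ^ (N + 1) * σ = τ ^ N * σ := by
    rw [pow_succ]
    linear_combination -h2
  have hk : ∀ k : ℕ, τ ^ (N + k) * σ = τ ^ N * σ := by
    intro k
    induction k with
    | zero => rfl
    | succ k ih =>
      have : τ ^ (N + (k + 1)) * σ = τ ^ k * (τ ^ (N + 1) * σ) := by
        rw [← mul_assoc, ← pow_add]
        congr 2
        omega
      rw [this, h2', ← mul_assoc, ← pow_add, add_comm k N, ih]
  have a := hk N
  change σ * τ ^ N * (σ * τ ^ N) = σ * τ ^ N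
  rw [pow_add] at a
  linear_combination (τ ^ N) * h1 + a

section Q

variable {A B : Type u} [CommRing A] [CommRing B] [Algebra A B] [Algebra.FiniteType A B]

/-- quasi-finiteness at the primes of a finite closed piece which is open in `V(IB)` -/
theorem quasiFiniteAt_of_quotient_finite (I : Ideal A) (J : Ideal B) [Module.Finite A (B ⧸ J)]
    (hIJ : I.map (algebraMap A B) ≤ J) (b₀ : B)
    (hloc : ∀ q : PrimeSpectrum B, I.map (algebraMap A B) ≤ q.asIdeal → b₀ ∉ q.asIdeal →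
      J ≤ q.asIdeal)
    (q₀ : PrimeSpectrum B) (hJq : J ≤ q₀.asIdeal) (hb : b₀ ∉ q₀.asIdeal) :
    Algebra.QuasiFiniteAt A q₀.asIdeal := by
  let ι : PrimeSpectrum (B ⧸ J) → PrimeSpectrum B := comap (Ideal.Quotient.mk J)
  have hι : Topology.IsClosedEmbedding ι :=
    isClosedEmbedding_comap_of_surjective _ _ Ideal.Quotient.mk_surjective
  have hr : Set.range ι = zeroLocus (J : Set B) := by
    rw [range_comap_of_surjective _ _ Ideal.Quotient.mk_surjective, Ideal.mk_ker]
  have hcomp : ∀ x : PrimeSpectrum (B ⧸ J),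
      comap (algebraMap A (B ⧸ J)) x = comap (algebraMap A B) (ι x) := fun x => rfl
  obtain ⟨qb₀, hqb₀⟩ : q₀ ∈ Set.range ι := by
    rw [hr]
    exact hJq
  have hqf : Algebra.QuasiFiniteAt A qb₀.asIdeal := inferInstance
  have hopen := (Algebra.quasiFiniteAt_iff_isOpen_singleton_fiber (R := A) qb₀).mp hqf
  rw [isOpen_induced_iff] at hopen
  obtain ⟨O', hO', hO'eq⟩ := hopen
  obtain ⟨O₁, hO₁, rfl⟩ := hι.isInducing.isOpen_iff.mp hO'
  have hIq₀ : I ≤ (comap (algebraMap A B) q₀).asIdeal := by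
    intro i hi
    exact hJq (hIJ (Ideal.mem_map_of_mem _ hi))
  apply Algebra.QuasiFiniteAt.of_isOpen_singleton_fiber
  rw [isOpen_induced_iff]
  refine ⟨O₁ ∩ (basicOpen b₀ : Set (PrimeSpectrum B)), hO₁.inter (basicOpen b₀).isOpen, ?_⟩
  ext ⟨q, hq⟩
  simp only [Set.mem_preimage, Set.mem_inter_iff, Set.mem_singleton_iff, Subtype.mk.injEq]
  constructor
  · rintro ⟨hqO, hqb⟩
    have hq' : comap (algebraMap A B) q = comap (algebraMap A B) q₀ := hq
    have hIq : I.map (algebraMap A B) ≤ q.asIdeal := by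
      rw [Ideal.map_le_iff_le_comap]
      intro i hi
      have : i ∈ (comap (algebraMap A B) q).asIdeal := by rw [hq']; exact hIq₀ hi
      exact this
    have hJq' : J ≤ q.asIdeal := hloc q hIq hqb
    obtain ⟨qb, rfl⟩ : q ∈ Set.range ι := by
      rw [hr]
      exact hJq'
    have hfib : comap (algebraMap A (B ⧸ J)) qb = comap (algebraMap A (B ⧸ J)) qb₀ := by
      rw [hcomp, hcomp, hqb₀]
      exact hq'
    have hmem : (⟨qb, hfib⟩ : (comap (algebraMap A (B ⧸ J))) ⁻¹'
        {comap (algebraMap A (B ⧸ J)) qb₀}) ∈ Subtype.val ⁻¹' (ι ⁻¹' O₁) := hqO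
    rw [hO'eq] at hmem
    have : qb = qb₀ := congrArg Subtype.val hmem
    rw [this, hqb₀]
  · rintro rfl
    refine ⟨?_, hb⟩
    have hmem : (⟨qb₀, rfl⟩ : (comap (algebraMap A (B ⧸ J))) ⁻¹'
        {comap (algebraMap A (B ⧸ J)) qb₀}) ∈ Subtype.val ⁻¹' (ι ⁻¹' O₁) := by
      rw [hO'eq]
      rfl
    have h2 : ι qb₀ ∈ O₁ := hmem
    rwa [hqb₀] at h2

end Q

end Groth.Agent.Lib.helper3.IdemIC
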