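import Mathlib
import Groth.Agent.Lib.helper3.IdemIC

/-!
# Lifting an idempotent with finite factor into the integral closure: main theorem
-/

namespace Groth.Agent.Lib.helper3.IdemIC

open Groth.Agent.Lib.helper3.PairEtale Groth.Agent.Lib.helper3.PairFin

universe u

section

variable (A B : Type u) [CommRing A] [CommRing B] [Algebra A B] (I : Ideal A)

local notation "IB" => Ideal.map (algebraMap A B) I
local notation "B'" => integralClosure A B
local notation "IB'" => Ideal.map (algebraMap A (integralClosure A B)) I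

theorem main [Algebra.FiniteType A B] (e : B ⧸ Ideal.map (algebraMap A B) I)
    (he : IsIdempotentElem e)
    (hfin : Module.Finite (A ⧸ I) ((B ⧸ Ideal.map (algebraMap A B) I) ⧸ Ideal.span {1 - e})) :
    ∃ g : integralClosure A B,
      IsIdempotentElem (Ideal.Quotient.mk (Ideal.map (algebraMap A (integralClosure A B)) I) g) ∧
      Ideal.Quotient.mk (Ideal.map (algebraMap A B) I) (g : B) = e ∧
      Function.Bijective (algebraMap (Localization.Away g)
        (Localization (Algebra.algebraMapSubmonoid B (Submonoid.powers g)))) := by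
  let π : B →+* B ⧸ IB := Ideal.Quotient.mk IB
  obtain ⟨b₀, hb₀⟩ := Ideal.Quotient.mk_surjective e
  have hee : e * e = e := he
  -- the map to the finite factor
  let ψ : B →ₐ[A] (B ⧸ IB) ⧸ Ideal.span {1 - e} :=
    (Ideal.Quotient.mkₐ A (Ideal.span {1 - e})).comp (Ideal.Quotient.mkₐ A IB)
  let J : Ideal B := RingHom.ker ψ
  have hJmem : ∀ x : B, x ∈ J ↔ ∃ c : B ⧸ IB, π x = c * (1 - e) := by
    intro x
    change ψ x = 0 ↔ _
    change Ideal.Quotient.mk (Ideal.span {1 - e}) (π x) = 0 ↔ _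
    rw [Ideal.Quotient.eq_zero_iff_mem, Ideal.mem_span_singleton']
    exact ⟨fun ⟨c, hc⟩ => ⟨c, hc.symm⟩, fun ⟨c, hc⟩ => ⟨c, hc.symm⟩⟩
  have hIJ : IB ≤ J := by
    intro x hx
    rw [hJmem]
    exact ⟨0, by rw [zero_mul]; exact Ideal.Quotient.eq_zero_iff_mem.mpr hx⟩
  have h1b₀ : 1 - b₀ ∈ J := by
    rw [hJmem]
    exact ⟨1, by rw [one_mul, map_sub, map_one]; exact congrArg (1 - ·) hb₀⟩
  have hb₀b₀ : b₀ * (1 - b₀) ∈ IB := by
    rw [← Ideal.Quotient.eq_zero_iff_mem, map_mul, map_sub, map_one]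
    change π b₀ * (1 - π b₀) = 0
    rw [show π b₀ = e from hb₀]
    linear_combination -hee
  have hloc : ∀ q : PrimeSpectrum B, IB ≤ q.asIdeal → b₀ ∉ q.asIdeal → J ≤ q.asIdeal := by
    intro q hIq hbq x hx
    obtain ⟨c, hc⟩ := (hJmem x).mp hx
    obtain ⟨y, rfl⟩ := Ideal.Quotient.mk_surjective c
    have h1 : x - y * (1 - b₀) ∈ IB := by
      rw [← Ideal.Quotient.eq_zero_iff_mem, map_sub, map_mul, map_sub, map_one]
      change π x - π y * (1 - π b₀) = 0
      rw [show π b₀ = e from hb₀, hc]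
      exact sub_self _
    have h2 : 1 - b₀ ∈ q.asIdeal :=
      (q.isPrime.mem_or_mem (hIq hb₀b₀)).resolve_left hbq
    have h3 : x = (x - y * (1 - b₀)) + y * (1 - b₀) := by ring
    rw [h3]
    exact q.asIdeal.add_mem (hIq h1) (q.asIdeal.mul_mem_left _ h2)
  have hbJ : ∀ q : PrimeSpectrum B, J ≤ q.asIdeal → b₀ ∉ q.asIdeal := by
    intro q hJq hbq
    apply q.isPrime.ne_top
    rw [Ideal.eq_top_iff_one]
    have : (1 : B) = b₀ + (1 - b₀) := by ring
    rw [this]
    exact q.asIdeal.add_mem hbq (hJq h1b₀)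
  -- integrality of `B ⧸ J`
  have hint : ∀ x : B, IsIntegral A (Ideal.Quotient.mk J x) := by
    intro x
    haveI : Algebra.IsIntegral (A ⧸ I) ((B ⧸ IB) ⧸ Ideal.span {1 - e}) :=
      Algebra.IsIntegral.of_finite _ _
    haveI : Algebra.IsIntegral A (A ⧸ I) :=
      Algebra.isIntegral_of_surjective Ideal.Quotient.mk_surjective
    haveI : Algebra.IsIntegral A ((B ⧸ IB) ⧸ Ideal.span {1 - e}) :=
      Algebra.IsIntegral.trans (A ⧸ I)
    have h1 : IsIntegral A (ψ x) := Algebra.IsIntegral.isIntegral _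
    have h2 : Ideal.kerLiftAlg ψ (Ideal.Quotient.mk J x) = ψ x := rfl
    rw [← h2] at h1
    exact (isIntegral_algHom_iff _ (Ideal.kerLiftAlg_injective ψ)).mp h1
  haveI hintJ : Algebra.IsIntegral A (B ⧸ J) := ⟨fun y => by
    obtain ⟨x, rfl⟩ := Ideal.Quotient.mk_surjective y
    exact hint x⟩
  haveI : Algebra.FiniteType A (B ⧸ J) :=
    Algebra.FiniteType.of_surjective (Ideal.Quotient.mkₐ A J) Ideal.Quotient.mk_surjective
  haveI : Module.Finite A (B ⧸ J) := Algebra.IsIntegral.finite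
  have hq : ∀ (q : Ideal B) [q.IsPrime], J ≤ q → Algebra.QuasiFiniteAt A q := by
    intro q hqp hJq
    exact quasiFiniteAt_of_quotient_finite I J hIJ b₀ hloc ⟨q, hqp⟩ hJq (hbJ ⟨q, hqp⟩ hJq)
  obtain ⟨t, htB', hag, htJ⟩ := exists_agree_integralClosure (A := A) J hq hint
  -- `π t * e = e`
  have hte : π t * e = e := by
    obtain ⟨c, hc⟩ := (hJmem (t - 1)).mp htJ
    rw [map_sub, map_one] at hc
    have : π t = 1 + c * (1 - e) := by rw [← hc]; ring
    rw [this]
    linear_combination (-c) * hee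
  have htne : ∀ n : ℕ, π t ^ n * e = e := by
    intro n
    induction n with
    | zero => rw [pow_zero, one_mul]
    | succ n ih => rw [pow_succ, mul_assoc, hte, ih]
  obtain ⟨n, hn⟩ := hag b₀
  let s : B' := ⟨t ^ n * b₀, hn⟩
  let T : B' := ⟨t, htB'⟩
  have hπs : π (s : B) = e := by
    change π (t ^ n * b₀) = e
    rw [map_mul, map_pow, show π b₀ = e from hb₀, htne]
  have hs1 : ((s * s - s : B') : B) ∈ IB := by
    rw [← Ideal.Quotient.eq_zero_iff_mem]
    change π ((s * s - s : B') : B) = 0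
    simp only [AddSubgroupClass.coe_sub, MulMemClass.coe_mul, map_sub, map_mul, hπs]
    rw [hee, sub_self]
  have hs2 : (((1 - T) * s : B') : B) ∈ IB := by
    rw [← Ideal.Quotient.eq_zero_iff_mem]
    change π (((1 - T) * s : B') : B) = 0
    simp only [AddSubgroupClass.coe_sub, MulMemClass.coe_mul, OneMemClass.coe_one, map_sub,
      map_mul, map_one, hπs]
    change (1 - π t) * e = 0
    rw [sub_mul, one_mul, hte, sub_self]
  obtain ⟨m₁, w₁, hw₁, e₁⟩ := exists_pow_mul_mem I B' t htB' hag _ hs1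
  obtain ⟨m₂, w₂, hw₂, e₂⟩ := exists_pow_mul_mem I B' t htB' hag _ hs2
  have hw₁' : T ^ m₁ * (s * s - s) ∈ IB' := by
    have : T ^ m₁ * (s * s - s) = w₁ := Subtype.ext (by rw [e₁]; rfl)
    rw [this]; exact hw₁
  have hw₂' : T ^ m₂ * ((1 - T) * s) ∈ IB' := by
    have : T ^ m₂ * ((1 - T) * s) = w₂ := Subtype.ext (by rw [e₂]; rfl)
    rw [this]; exact hw₂
  set N := m₁ + m₂ + 1 with hN
  have hN1 : T ^ N * (s * s - s) ∈ IB' := by
    have : T ^ N * (s * s - s) = T ^ (m₂ + 1) * (T ^ m₁ * (s * s - s)) := by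
      have hNN : N = (m₂ + 1) + m₁ := by omega
      rw [hNN, pow_add]; ring
    rw [this]; exact Ideal.mul_mem_left _ _ hw₁'
  have hN2 : T ^ N * ((1 - T) * s) ∈ IB' := by
    have : T ^ N * ((1 - T) * s) = T ^ (m₁ + 1) * (T ^ m₂ * ((1 - T) * s)) := by
      have hNN : N = (m₁ + 1) + m₂ := by omega
      rw [hNN, pow_add]; ring
    rw [this]; exact Ideal.mul_mem_left _ _ hw₂'
  let g : B' := s * T ^ N
  refine ⟨g, ?_, ?_, ?_⟩
  · have h1 := Ideal.Quotient.eq_zero_iff_mem.mpr hN1
    have h2 := Ideal.Quotient.eq_zero_iff_mem.mpr hN2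
    simp only [map_mul, map_pow, map_sub, map_one] at h1 h2
    have := isIdempotentElem_of_torsion (Ideal.Quotient.mk IB' T) (Ideal.Quotient.mk IB' s) N h1 h2
    simpa only [g, map_mul, map_pow] using this
  · change π ((s * T ^ N : B') : B) = e
    simp only [MulMemClass.coe_mul, SubmonoidClass.coe_pow, map_mul, map_pow, hπs]
    change e * π t ^ N = e
    rw [mul_comm, htne]
  · -- agreement at `g`
    have hagg : Agree B' (g : B) := by
      have : (g : B) = ((s * T ^ (m₁ + m₂) : B') : B) * t := by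
        change ((s * T ^ N : B') : B) = _
        simp only [MulMemClass.coe_mul, SubmonoidClass.coe_pow, hN, pow_succ]
        change (s : B) * (t ^ (m₁ + m₂) * t) = (s : B) * t ^ (m₁ + m₂) * t
        ring
      rw [this]
      exact hag.mul_left (s * T ^ (m₁ + m₂) : B').2
    constructor
    · exact localizationAlgebra_injective _ _ Subtype.val_injective
    · intro z
      obtain ⟨⟨b, ⟨_, ⟨_, ⟨k, rfl⟩, rfl⟩⟩⟩, rfl⟩ :=
        IsLocalization.mk'_surjective (Algebra.algebraMapSubmonoid B (Submonoid.powers g)) z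
      obtain ⟨l, hl⟩ := hagg b
      refine ⟨IsLocalization.mk' (Localization.Away g) (⟨(g : B) ^ l * b, hl⟩ : B')
        (⟨g ^ (l + k), ⟨l + k, rfl⟩⟩ : Submonoid.powers g), ?_⟩
      rw [localizationAlgebraMap_def, IsLocalization.map_mk']
      apply IsLocalization.mk'_eq_of_eq
      change ((g ^ (l + k) : B') : B) * b = ((g ^ k : B') : B) * ((g : B) ^ l * b)
      simp only [SubmonoidClass.coe_pow, pow_add, MulMemClass.coe_mul]
      ring

end

end Groth.Agent.Lib.helper3.IdemIC
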