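import Mathlib

/-!
# Smooth lifting over henselian pairs, part 1: a Cayley–Hamilton/Nakayama lemma

An endomorphism `φ` of a finite module with `(1 - φ) M ⊆ J M` is invertible up to an element
`h ≡ 1 mod J`.
-/

universe u

namespace Groth.Agent.Lib.helper3.SmoothLift

open Polynomial

theorem exists_quasi_inverse {R M : Type*} [CommRing R] [AddCommGroup M] [Module R M]
    [Module.Finite R M] (φ : Module.End R M) (J : Ideal R)
    (hφ : LinearMap.range (1 - φ) ≤ J • ⊤) :
    ∃ (h : R) (r : Module.End R M), h - 1 ∈ J ∧ φ * r = h • (1 : Module.End R M) ∧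
      r * φ = h • (1 : Module.End R M) := by
  obtain ⟨p, hmonic, -, hcoeff, hp⟩ :=
    LinearMap.exists_monic_and_natDegree_eq_and_coeff_mem_pow_and_aeval_eq_zero R (1 - φ) J hφ
  obtain ⟨q, hq⟩ := Polynomial.X_sub_C_dvd_sub_C_eval (a := (1 : R)) (p := p)
  refine ⟨p.eval 1, aeval (1 - φ) q, ?_, ?_, ?_⟩
  · rw [Polynomial.eval_eq_sum_range, Finset.sum_range_succ]
    simp only [one_pow, mul_one]
    rw [hmonic.coeff_natDegree, add_sub_cancel_right]
    apply Ideal.sum_mem
    intro k hk
    have hk' : k < p.natDegree := Finset.mem_range.mp hk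
    have := hcoeff k
    exact Ideal.pow_le_self (by omega) this
  · have h1 := congrArg (aeval (1 - φ)) hq
    rw [map_sub, hp, map_mul, map_sub, aeval_X, aeval_C, aeval_C, map_one] at h1
    have h2 : (1 - φ - 1 : Module.End R M) = -φ := by abel
    rw [h2, zero_sub, neg_mul, neg_inj] at h1
    rw [← h1, Algebra.algebraMap_eq_smul_one]
  · have h1 := congrArg (aeval (1 - φ)) hq
    rw [map_sub, hp, mul_comm, map_mul, map_sub, aeval_X, aeval_C, aeval_C, map_one] at h1
    have h2 : (1 - φ - 1 : Module.End R M) = -φ := by abel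
    rw [h2, zero_sub, mul_neg, neg_inj] at h1
    rw [← h1, Algebra.algebraMap_eq_smul_one]

end Groth.Agent.Lib.helper3.SmoothLift
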