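import Mathlib
import Groth.Agent.Lib.helper3.SmoothLift1

/-!
# Smooth lifting over henselian pairs, part 2: a transversal slice

For a smooth `A`-algebra `S` and a section `σ : S → A/I` with kernel `𝔮`, we construct an
`S`-linear map `w : Ω[S/A] → 𝔮` with `d (w ω) ≡ ω mod 𝔮 Ω`.
-/

universe u v

namespace Groth.Agent.Lib.helper3.SmoothLift

open KaehlerDifferential

section dbar

variable {A : Type u} {S : Type v} [CommRing A] [CommRing S] [Algebra A S]

/-- `𝔮 → Ω/𝔮Ω`, `z ↦ [dz]` -/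
noncomputable def dbar (𝔮 : Ideal S) :
    𝔮 →ₗ[S] (Ω[S⁄A] ⧸ (𝔮 • (⊤ : Submodule S Ω[S⁄A]))) where
  toFun z := Submodule.Quotient.mk (D A S z.1)
  map_add' x y := by
    simp only [Submodule.coe_add, map_add, Submodule.Quotient.mk_add]
  map_smul' s z := by
    simp only [SetLike.val_smul, smul_eq_mul, RingHom.id_apply]
    rw [Derivation.leibniz, Submodule.Quotient.mk_add, Submodule.Quotient.mk_smul]
    have : (Submodule.Quotient.mk (z.1 • (D A S s)) :
        Ω[S⁄A] ⧸ (𝔮 • (⊤ : Submodule S Ω[S⁄A]))) = 0 := by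
      rw [Submodule.Quotient.mk_eq_zero]
      exact Submodule.smul_mem_smul z.2 trivial
    rw [this, add_zero]

theorem dbar_surjective (𝔮 : Ideal S) (h𝔮 : ∀ s : S, ∃ a : A, s - algebraMap A S a ∈ 𝔮) :
    Function.Surjective (dbar (A := A) 𝔮) := by
  rw [← LinearMap.range_eq_top]
  have h1 : Submodule.span S (Set.range (D A S)) ≤ (LinearMap.range (dbar (A := A) 𝔮)).comap
      (Submodule.mkQ (𝔮 • (⊤ : Submodule S Ω[S⁄A]))) := by
    rw [Submodule.span_le]
    rintro _ ⟨s, rfl⟩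
    obtain ⟨a, ha⟩ := h𝔮 s
    refine ⟨⟨s - algebraMap A S a, ha⟩, ?_⟩
    change Submodule.Quotient.mk (D A S (s - algebraMap A S a)) = _
    rw [map_sub, Derivation.map_algebraMap, sub_zero]
    rfl
  rw [eq_top_iff]
  intro y _
  obtain ⟨x, rfl⟩ := Submodule.mkQ_surjective _ y
  have hx : x ∈ Submodule.span S (Set.range (D A S)) := by
    rw [KaehlerDifferential.span_range_derivation]; trivial
  exact h1 hx

theorem exists_w [Module.Projective S Ω[S⁄A]] (𝔮 : Ideal S)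
    (h𝔮 : ∀ s : S, ∃ a : A, s - algebraMap A S a ∈ 𝔮) :
    ∃ w : Ω[S⁄A] →ₗ[S] S, (∀ ω, w ω ∈ 𝔮) ∧
      ∀ ω, D A S (w ω) - ω ∈ 𝔮 • (⊤ : Submodule S Ω[S⁄A]) := by
  obtain ⟨w', hw'⟩ := Module.projective_lifting_property (dbar (A := A) 𝔮)
    (Submodule.mkQ (𝔮 • (⊤ : Submodule S Ω[S⁄A]))) (dbar_surjective 𝔮 h𝔮)
  refine ⟨𝔮.subtype ∘ₗ w', fun ω => (w' ω).2, fun ω => ?_⟩
  have := LinearMap.congr_fun hw' ω
  change Submodule.Quotient.mk (D A S (w' ω).1) = Submodule.Quotient.mk ω at this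
  rw [Submodule.Quotient.eq] at this
  exact this

end dbar

end Groth.Agent.Lib.helper3.SmoothLift
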