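import Mathlib
import Groth.Agent.Lib.helper3.SmoothLift6

/-!
# Smooth algebras have a smooth retract-cover that is standard smooth (Stacks 07CF-style)
`main`: `A` smooth over `R` ⟹ ∃ smooth `A`-algebra `B` with `A`-retraction, `B` standard smooth over `R`.
-/


universe u
open KaehlerDifferential TensorProduct

namespace Groth.Agent.Lib.helper3.SmoothRetract

theorem mvPoly_std (R : Type u) [CommRing R] (n : ℕ) :
    Algebra.IsStandardSmooth R (MvPolynomial (Fin n) R) := by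
  apply Algebra.IsStandardSmooth.of_basis_kaehlerDifferential
    (KaehlerDifferential.mvPolynomialBasis R (Fin n))
  rintro _ ⟨i, rfl⟩
  exact ⟨MvPolynomial.X i, by simp⟩

section
variable {R A : Type u} [CommRing R] [CommRing A] [Algebra R A] {n : ℕ}
  (π : MvPolynomial (Fin n) R →ₐ[R] A)

theorem D_mem_span (hπ : Function.Surjective π) (a : A) :
    D R A a ∈ Submodule.span A (Set.range fun i : Fin n => D R A (π (MvPolynomial.X i))) := by
  obtain ⟨p, rfl⟩ := hπ a
  induction p using MvPolynomial.induction_on with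
  | C r =>
    rw [MvPolynomial.algHom_C, Derivation.map_algebraMap]
    exact Submodule.zero_mem _
  | add p q hp hq =>
    rw [map_add, map_add]
    exact Submodule.add_mem _ hp hq
  | mul_X p i hp =>
    rw [map_mul, Derivation.leibniz]
    refine Submodule.add_mem _ (Submodule.smul_mem _ _ (Submodule.subset_span ⟨i, rfl⟩))
      (Submodule.smul_mem _ _ hp)

theorem exists_splitting [Algebra.Smooth R A] (hπ : Function.Surjective π) :
    ∃ s : Ω[A⁄R] →ₗ[A] (Fin n → A),
      ∀ ω, ∑ i, s ω i • D R A (π (MvPolynomial.X i)) = ω := by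
  let p : (Fin n → A) →ₗ[A] Ω[A⁄R] :=
    Fintype.linearCombination A (fun i : Fin n => D R A (π (MvPolynomial.X i)))
  have hp : Function.Surjective p := by
    rw [← LinearMap.range_eq_top, Fintype.range_linearCombination, eq_top_iff,
      ← KaehlerDifferential.span_range_derivation, Submodule.span_le]
    rintro _ ⟨a, rfl⟩
    exact D_mem_span π hπ a
  obtain ⟨s, hs⟩ := Module.projective_lifting_property p LinearMap.id hp
  refine ⟨s, fun ω => ?_⟩
  have := LinearMap.congr_fun hs ω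
  simpa [p, Fintype.linearCombination_apply] using this

end


section
attribute [local instance] Algebra.TensorProduct.rightAlgebra

variable {R A : Type u} [CommRing R] [CommRing A] [Algebra R A] {n : ℕ}
  (π : MvPolynomial (Fin n) R →ₐ[R] A)

/-- the coordinate differences `xᵢ ⊗ 1 - 1 ⊗ Xᵢ` -/
noncomputable def Y (i : Fin n) : A ⊗[R] MvPolynomial (Fin n) R :=
  π (MvPolynomial.X i) ⊗ₜ 1 - 1 ⊗ₜ MvPolynomial.X i

/-- the retraction `A ⊗ P → A` -/
noncomputable def rho : A ⊗[R] MvPolynomial (Fin n) R →ₐ[A] A :=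
  Algebra.TensorProduct.lift (AlgHom.id A A) π (fun _ _ => Commute.all _ _)

theorem rho_Y (i : Fin n) : rho π (Y π i) = 0 := by
  unfold rho Y
  rw [map_sub, Algebra.TensorProduct.lift_tmul, Algebra.TensorProduct.lift_tmul]
  simp

variable (s : Ω[A⁄R] →ₗ[A] (Fin n → A))

/-- the linear forms -/
noncomputable def ell : Ω[A⁄R] →ₗ[A] A ⊗[R] MvPolynomial (Fin n) R :=
  ∑ i, ((LinearMap.proj i).comp s).smulRight (Y π i)

theorem ell_apply (ω : Ω[A⁄R]) : ell π s ω = ∑ i, s ω i • Y π i := by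
  unfold ell
  rw [LinearMap.sum_apply]
  rfl

theorem rho_ell (ω : Ω[A⁄R]) : rho π (ell π s ω) = 0 := by
  rw [ell_apply, map_sum]
  refine Finset.sum_eq_zero fun i _ => ?_
  rw [map_smul, rho_Y, smul_zero]

/-- the linear map `w` -/
noncomputable def w : Ω[(A ⊗[R] MvPolynomial (Fin n) R)⁄(MvPolynomial (Fin n) R)] →ₗ[A ⊗[R] MvPolynomial (Fin n) R]
    A ⊗[R] MvPolynomial (Fin n) R :=
  ((ell π s).liftBaseChange (A ⊗[R] MvPolynomial (Fin n) R)) ∘ₗ
    (tensorKaehlerEquiv R (MvPolynomial (Fin n) R) A (A ⊗[R] MvPolynomial (Fin n) R)).symm.toLinearMap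

theorem w_equiv_tmul (b : A ⊗[R] MvPolynomial (Fin n) R) (ω : Ω[A⁄R]) :
    w π s (tensorKaehlerEquiv R (MvPolynomial (Fin n) R) A (A ⊗[R] MvPolynomial (Fin n) R) (b ⊗ₜ ω)) =
      b * ell π s ω := by
  unfold w
  rw [LinearMap.comp_apply, LinearEquiv.coe_coe, LinearEquiv.symm_apply_apply,
    LinearMap.liftBaseChange_tmul, smul_eq_mul]

theorem w_mem (ω) : w π s ω ∈ RingHom.ker (rho π) := by
  obtain ⟨t, rfl⟩ := (tensorKaehlerEquiv R (MvPolynomial (Fin n) R) A
    (A ⊗[R] MvPolynomial (Fin n) R)).surjective ω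
  induction t using TensorProduct.induction_on with
  | zero => simp
  | add x y hx hy => rw [map_add, map_add]; exact Ideal.add_mem _ hx hy
  | tmul b ω =>
    rw [w_equiv_tmul]
    refine Ideal.mul_mem_left _ _ ?_
    rw [RingHom.mem_ker]
    exact rho_ell π s ω

theorem D_Y (i : Fin n) :
    D (MvPolynomial (Fin n) R) (A ⊗[R] MvPolynomial (Fin n) R) (Y π i) =
      D (MvPolynomial (Fin n) R) (A ⊗[R] MvPolynomial (Fin n) R)
        (algebraMap A (A ⊗[R] MvPolynomial (Fin n) R) (π (MvPolynomial.X i))) := by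
  unfold Y
  rw [map_sub]
  have h1 : (1 : A) ⊗ₜ[R] (MvPolynomial.X i : MvPolynomial (Fin n) R) =
      algebraMap (MvPolynomial (Fin n) R) (A ⊗[R] MvPolynomial (Fin n) R) (MvPolynomial.X i) := by
    rw [Algebra.TensorProduct.right_algebraMap_apply]
  rw [h1, Derivation.map_algebraMap, sub_zero]
  rfl

theorem D_w_sub (hs : ∀ ω, ∑ i, s ω i • D R A (π (MvPolynomial.X i)) = ω) (ω) :
    D (MvPolynomial (Fin n) R) (A ⊗[R] MvPolynomial (Fin n) R) (w π s ω) - ω ∈
      RingHom.ker (rho π) • (⊤ : Submodule (A ⊗[R] MvPolynomial (Fin n) R)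
        Ω[(A ⊗[R] MvPolynomial (Fin n) R)⁄(MvPolynomial (Fin n) R)]) := by
  set 𝔮 := RingHom.ker (rho π) with h𝔮
  obtain ⟨t, rfl⟩ := (tensorKaehlerEquiv R (MvPolynomial (Fin n) R) A
    (A ⊗[R] MvPolynomial (Fin n) R)).surjective ω
  induction t using TensorProduct.induction_on with
  | zero => simp
  | add x y hx hy =>
    rw [map_add, map_add, map_add, add_sub_add_comm]
    exact Submodule.add_mem _ hx hy
  | tmul b ω =>
    rw [w_equiv_tmul, Derivation.leibniz]
    have hell : ell π s ω ∈ 𝔮 := by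
      rw [h𝔮, RingHom.mem_ker]; exact rho_ell π s ω
    have h2 : ell π s ω • D (MvPolynomial (Fin n) R) (A ⊗[R] MvPolynomial (Fin n) R) b ∈
        𝔮 • (⊤ : Submodule (A ⊗[R] MvPolynomial (Fin n) R)
          Ω[(A ⊗[R] MvPolynomial (Fin n) R)⁄(MvPolynomial (Fin n) R)]) :=
      Submodule.smul_mem_smul hell trivial
    -- main computation
    have h3 : D (MvPolynomial (Fin n) R) (A ⊗[R] MvPolynomial (Fin n) R) (ell π s ω) -
        tensorKaehlerEquiv R (MvPolynomial (Fin n) R) A (A ⊗[R] MvPolynomial (Fin n) R) (1 ⊗ₜ ω) ∈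
        𝔮 • (⊤ : Submodule (A ⊗[R] MvPolynomial (Fin n) R)
          Ω[(A ⊗[R] MvPolynomial (Fin n) R)⁄(MvPolynomial (Fin n) R)]) := by
      have hω : (1 : A ⊗[R] MvPolynomial (Fin n) R) ⊗ₜ[A] ω =
          ∑ i, (algebraMap A (A ⊗[R] MvPolynomial (Fin n) R) (s ω i)) ⊗ₜ[A]
            D R A (π (MvPolynomial.X i)) := by
        conv_lhs => rw [← hs ω]
        rw [TensorProduct.tmul_sum]
        refine Finset.sum_congr rfl fun i _ => ?_
        rw [TensorProduct.tmul_smul, TensorProduct.smul_tmul', Algebra.algebraMap_eq_smul_one]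
      rw [hω, map_sum, ell_apply, map_sum, ← Finset.sum_sub_distrib]
      refine Submodule.sum_mem _ fun i _ => ?_
      rw [tensorKaehlerEquiv_tmul_D, Algebra.smul_def (s ω i) (Y π i), Derivation.leibniz, D_Y,
        add_sub_cancel_left]
      refine Submodule.smul_mem_smul ?_ trivial
      rw [h𝔮, RingHom.mem_ker]; exact rho_Y π i
    have h4 : tensorKaehlerEquiv R (MvPolynomial (Fin n) R) A (A ⊗[R] MvPolynomial (Fin n) R) (b ⊗ₜ ω) =
        b • tensorKaehlerEquiv R (MvPolynomial (Fin n) R) A (A ⊗[R] MvPolynomial (Fin n) R) (1 ⊗ₜ ω) := by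
      rw [← map_smul, TensorProduct.smul_tmul', smul_eq_mul, mul_one]
    rw [h4, add_sub_right_comm, ← smul_sub]
    exact Submodule.add_mem _ (Submodule.smul_mem _ _ h3) h2

/-- the algebra endomorphism killing the linear forms -/
noncomputable def theta : A ⊗[R] MvPolynomial (Fin n) R →ₐ[A] A ⊗[R] MvPolynomial (Fin n) R :=
  Algebra.TensorProduct.lift (Algebra.ofId A (A ⊗[R] MvPolynomial (Fin n) R))
    (MvPolynomial.aeval (fun j : Fin n =>
      (1 : A) ⊗ₜ[R] (MvPolynomial.X j : MvPolynomial (Fin n) R) +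
        ell π s (D R A (π (MvPolynomial.X j)))))
    (fun _ _ => Commute.all _ _)

theorem theta_X (j : Fin n) :
    theta π s ((1 : A) ⊗ₜ[R] (MvPolynomial.X j : MvPolynomial (Fin n) R)) =
      (1 : A) ⊗ₜ[R] (MvPolynomial.X j : MvPolynomial (Fin n) R) +
        ell π s (D R A (π (MvPolynomial.X j))) := by
  unfold theta
  rw [Algebra.TensorProduct.lift_tmul, map_one, one_mul, MvPolynomial.aeval_X]

theorem theta_Y (j : Fin n) :
    theta π s (Y π j) = Y π j - ell π s (D R A (π (MvPolynomial.X j))) := by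
  have h1 : π (MvPolynomial.X j) ⊗ₜ[R] (1 : MvPolynomial (Fin n) R) =
      algebraMap A (A ⊗[R] MvPolynomial (Fin n) R) (π (MvPolynomial.X j)) := rfl
  unfold Y
  rw [map_sub, theta_X, h1, AlgHom.commutes]
  ring

theorem theta_ell (hs : ∀ ω, ∑ i, s ω i • D R A (π (MvPolynomial.X i)) = ω) (ω : Ω[A⁄R]) :
    theta π s (ell π s ω) = 0 := by
  rw [ell_apply, map_sum]
  simp_rw [map_smul, theta_Y, smul_sub]
  rw [Finset.sum_sub_distrib, ← ell_apply]
  simp_rw [← map_smul]
  rw [← map_sum, hs ω, sub_self]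

theorem theta_w (hs : ∀ ω, ∑ i, s ω i • D R A (π (MvPolynomial.X i)) = ω) (ω) :
    theta π s (w π s ω) = 0 := by
  obtain ⟨t, rfl⟩ := (tensorKaehlerEquiv R (MvPolynomial (Fin n) R) A
    (A ⊗[R] MvPolynomial (Fin n) R)).surjective ω
  induction t using TensorProduct.induction_on with
  | zero => simp
  | add x y hx hy => rw [map_add, map_add, map_add, hx, hy, add_zero]
  | tmul b ω => rw [w_equiv_tmul, map_mul, theta_ell π s hs, mul_zero]

theorem ell_mem_range (ω : Ω[A⁄R]) : ell π s ω ∈ (LinearMap.range (w π s) : Ideal _) := by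
  refine ⟨tensorKaehlerEquiv R (MvPolynomial (Fin n) R) A (A ⊗[R] MvPolynomial (Fin n) R) (1 ⊗ₜ ω), ?_⟩
  rw [w_equiv_tmul, one_mul]

theorem mk_comp_theta :
    (Ideal.Quotient.mkₐ A (LinearMap.range (w π s) : Ideal (A ⊗[R] MvPolynomial (Fin n) R))).comp
      (theta π s) = Ideal.Quotient.mkₐ A (LinearMap.range (w π s) : Ideal _) := by
  apply Algebra.TensorProduct.ext
  · ext
  · apply MvPolynomial.algHom_ext
    intro j
    change Ideal.Quotient.mk _ (theta π s ((1 : A) ⊗ₜ[R] MvPolynomial.X j)) =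
      Ideal.Quotient.mk _ ((1 : A) ⊗ₜ[R] MvPolynomial.X j)
    rw [theta_X, map_add, add_eq_left, Ideal.Quotient.eq_zero_iff_mem]
    exact ell_mem_range π s _

theorem formallySmooth_quot (hs : ∀ ω, ∑ i, s ω i • D R A (π (MvPolynomial.X i)) = ω) :
    Algebra.FormallySmooth A
      ((A ⊗[R] MvPolynomial (Fin n) R) ⧸ (LinearMap.range (w π s) : Ideal _)) := by
  set 𝔍 : Ideal (A ⊗[R] MvPolynomial (Fin n) R) := LinearMap.range (w π s) with h𝔍
  let f : A ⊗[R] MvPolynomial (Fin n) R →ₐ[A] (A ⊗[R] MvPolynomial (Fin n) R) ⧸ 𝔍 :=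
    Ideal.Quotient.mkₐ A 𝔍
  let g : (A ⊗[R] MvPolynomial (Fin n) R) ⧸ 𝔍 →ₐ[A] A ⊗[R] MvPolynomial (Fin n) R :=
    Ideal.Quotient.liftₐ 𝔍 (theta π s) (by
      rintro _ ⟨ω, rfl⟩
      exact theta_w π s hs ω)
  refine Algebra.FormallySmooth.of_split f
    ((Ideal.Quotient.mkₐ A (RingHom.ker f.toRingHom ^ 2)).comp g) ?_
  apply Ideal.Quotient.algHom_ext
  refine AlgHom.ext fun b => ?_
  change f.kerSquareLift (Ideal.Quotient.mk _ (g (Ideal.Quotient.mk 𝔍 b))) = Ideal.Quotient.mk 𝔍 b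
  rw [AlgHom.kerSquareLift_mk]
  change f (theta π s b) = _
  exact AlgHom.congr_fun (mk_comp_theta π s) b

end

section
attribute [local instance] Algebra.TensorProduct.rightAlgebra

set_option maxHeartbeats 1000000 in
theorem main {R A : Type u} [CommRing R] [CommRing A] [Algebra R A] [Algebra.Smooth R A] :
    ∃ (B : Type u) (_ : CommRing B) (_ : Algebra R B) (_ : Algebra A B) (_ : IsScalarTower R A B),
      Algebra.Smooth A B ∧ Nonempty (B →ₐ[A] A) ∧ Algebra.IsStandardSmooth R B := by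
  classical
  obtain ⟨n, π, hπ⟩ :=
    (Algebra.FiniteType.iff_quotient_mvPolynomial'' (R := R) (S := A)).mp inferInstance
  obtain ⟨s, hs⟩ := exists_splitting π hπ
  haveI : Algebra.Smooth R (MvPolynomial (Fin n) R) := {}
  haveI : Algebra.Smooth (MvPolynomial (Fin n) R) (A ⊗[R] MvPolynomial (Fin n) R) :=
    Algebra.Smooth.of_equiv (Algebra.TensorProduct.commRight R (MvPolynomial (Fin n) R) A)
  obtain ⟨f, hf, hE⟩ := SmoothLift.etale_slice_of_w (A := MvPolynomial (Fin n) R)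
    (S := A ⊗[R] MvPolynomial (Fin n) R)
    (RingHom.ker (rho π)) (w π s) (w_mem π s) (D_w_sub π s hs)
  set 𝔍 : Ideal (A ⊗[R] MvPolynomial (Fin n) R) := LinearMap.range (w π s) with h𝔍
  have h𝔍fg : 𝔍.FG := by
    have h1 : (⊤ : Submodule (A ⊗[R] MvPolynomial (Fin n) R)
        Ω[(A ⊗[R] MvPolynomial (Fin n) R)⁄(MvPolynomial (Fin n) R)]).FG := Module.Finite.fg_top
    have h2 := h1.map (w π s)
    rwa [Submodule.map_top] at h2
  haveI : Algebra.FinitePresentation A ((A ⊗[R] MvPolynomial (Fin n) R) ⧸ 𝔍) :=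
    Algebra.FinitePresentation.quotient h𝔍fg
  haveI : Algebra.FormallySmooth A ((A ⊗[R] MvPolynomial (Fin n) R) ⧸ 𝔍) :=
    formallySmooth_quot π s hs
  haveI : Algebra.Smooth A ((A ⊗[R] MvPolynomial (Fin n) R) ⧸ 𝔍) := {}
  haveI : Algebra.Smooth ((A ⊗[R] MvPolynomial (Fin n) R) ⧸ 𝔍)
      (Localization.Away (Ideal.Quotient.mk 𝔍 f)) :=
    Algebra.Smooth.of_isLocalization_Away (Ideal.Quotient.mk 𝔍 f)
  refine ⟨Localization.Away (Ideal.Quotient.mk 𝔍 f), inferInstance, inferInstance, inferInstance,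
    inferInstance, ?_, ?_, ?_⟩
  · exact Algebra.Smooth.comp A ((A ⊗[R] MvPolynomial (Fin n) R) ⧸ 𝔍) _
  · let ρ' : (A ⊗[R] MvPolynomial (Fin n) R) ⧸ 𝔍 →ₐ[A] A :=
      Ideal.Quotient.liftₐ 𝔍 (rho π) (by
        rintro _ ⟨ω, rfl⟩
        exact w_mem π s ω)
    have hρf : ρ' (Ideal.Quotient.mk 𝔍 f) = 1 := by
      change rho π f = 1
      have : rho π (f - 1) = 0 := hf
      rwa [map_sub, map_one, sub_eq_zero] at this
    refine ⟨IsLocalization.liftAlgHom (M := Submonoid.powers (Ideal.Quotient.mk 𝔍 f)) (f := ρ') ?_⟩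
    rintro ⟨_, k, rfl⟩
    rw [map_pow, hρf, one_pow]
    exact isUnit_one
  · haveI : Algebra.IsStandardSmooth R (MvPolynomial (Fin n) R) := mvPoly_std R n
    haveI : Algebra.IsStandardSmooth (MvPolynomial (Fin n) R)
        (Localization.Away (Ideal.Quotient.mk 𝔍 f)) := by
      have := Algebra.Etale.iff_isStandardSmoothOfRelativeDimension_zero.mp hE
      exact this.isStandardSmooth
    exact Algebra.IsStandardSmooth.trans R (MvPolynomial (Fin n) R) _

end

end Groth.Agent.Lib.helper3.SmoothRetract
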