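import Mathlib

universe u
open TensorProduct

namespace Groth.Agent.Lib.helper3.SqZeroFactor

/-- congruence of polynomial evaluation modulo an ideal -/
theorem aeval_sub_mem {R B : Type*} [CommRing R] [CommRing B] [Algebra R B] {σ : Type*}
    (K : Ideal B) (x y : σ → B) (hxy : ∀ i, x i - y i ∈ K) (p : MvPolynomial σ R) :
    MvPolynomial.aeval x p - MvPolynomial.aeval y p ∈ K := by
  rw [← Ideal.Quotient.eq]
  have h1 : ∀ z : σ → B, Ideal.Quotient.mk K (MvPolynomial.aeval z p) =
      MvPolynomial.aeval (fun i => Ideal.Quotient.mk K (z i)) p := by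
    intro z
    have := MvPolynomial.comp_aeval (R := R) z (Ideal.Quotient.mkₐ R K)
    exact AlgHom.congr_fun this p
  rw [h1, h1]
  have : (fun i => Ideal.Quotient.mk K (x i)) = fun i => Ideal.Quotient.mk K (y i) :=
    funext fun i => Ideal.Quotient.eq.mpr (hxy i)
  rw [this]

set_option maxHeartbeats 800000 in
/-- core gluing step: a smooth `B₀` with a map to `Λ`, and approximate images `b i` of the generators
of the finitely presented `A`; after adjoining finitely many variables, `A → Λ` factors through `B/J`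
with `J ≤ IB` finitely generated. (No hypothesis on `I` is needed here.) -/
theorem core {R Λ A : Type u} [CommRing R] [CommRing Λ] [Algebra R Λ] (I : Ideal R)
    [CommRing A] [Algebra R A] (φ : A →ₐ[R] Λ)
    (B₀ : Type u) [CommRing B₀] [Algebra R B₀] [Algebra.Smooth R B₀] (ψΛ : B₀ →ₐ[R] Λ)
    (n : ℕ) (f : MvPolynomial (Fin n) R →ₐ[R] A) (hf : Function.Surjective f)
    (hfg : (RingHom.ker f.toRingHom).FG) (b : Fin n → B₀)
    (h1 : ∀ p ∈ RingHom.ker f.toRingHom, MvPolynomial.aeval b p ∈ I.map (algebraMap R B₀))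
    (h2 : ∀ i, φ (f (MvPolynomial.X i)) - ψΛ (b i) ∈ I.map (algebraMap R Λ)) :
    ∃ (B : Type u) (_ : CommRing B) (_ : Algebra R B), Algebra.Smooth R B ∧
      ∃ J : Ideal B, J ≤ I.map (algebraMap R B) ∧ J.FG ∧
        ∃ (g : A →ₐ[R] B ⧸ J) (k : (B ⧸ J) →ₐ[R] Λ), k.comp g = φ := by
  classical
  -- decompose the differences
  have hdec : ∀ i : Fin n, ∃ (m : ℕ) (c : Fin m → Λ) (ι : Fin m → R), (∀ k, ι k ∈ I) ∧
      ∑ k, c k * algebraMap R Λ (ι k) = φ (f (MvPolynomial.X i)) - ψΛ (b i) := by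
    intro i
    obtain ⟨m, c, g, hg⟩ := Submodule.mem_span_set'.mp (h2 i)
    choose ι hι hιg using fun k => (g k).2
    refine ⟨m, c, ι, hι, ?_⟩
    rw [← hg]
    refine Finset.sum_congr rfl fun k _ => ?_
    rw [hιg k, smul_eq_mul]
  choose m c ι hι hsum using hdec
  let σ := Σ i : Fin n, Fin (m i)
  let B := MvPolynomial σ B₀
  haveI : Algebra.Smooth B₀ B := {}
  haveI : Algebra.Smooth R B := Algebra.Smooth.comp R B₀ B
  let ψ' : B →ₐ[R] Λ := MvPolynomial.aevalTower ψΛ (fun x : σ => c x.1 x.2)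
  let b' : Fin n → B := fun i =>
    MvPolynomial.C (b i) + ∑ k : Fin (m i), MvPolynomial.C (algebraMap R B₀ (ι i k)) *
      MvPolynomial.X (⟨i, k⟩ : σ)
  have hψ'b' : ∀ i, ψ' (b' i) = φ (f (MvPolynomial.X i)) := by
    intro i
    change ψ' (MvPolynomial.C (b i) + ∑ k : Fin (m i), MvPolynomial.C (algebraMap R B₀ (ι i k)) *
      MvPolynomial.X (⟨i, k⟩ : σ)) = _
    rw [map_add, map_sum, MvPolynomial.aevalTower_C]
    have : ∀ k : Fin (m i), ψ' (MvPolynomial.C (algebraMap R B₀ (ι i k)) *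
        MvPolynomial.X (⟨i, k⟩ : σ)) = c i k * algebraMap R Λ (ι i k) := by
      intro k
      rw [map_mul, MvPolynomial.aevalTower_C, MvPolynomial.aevalTower_X, AlgHom.commutes, mul_comm]
    simp_rw [this]
    rw [hsum i]
    ring
  have hb'b : ∀ i, b' i - MvPolynomial.C (b i) ∈ I.map (algebraMap R B) := by
    intro i
    change MvPolynomial.C (b i) + ∑ k : Fin (m i), MvPolynomial.C (algebraMap R B₀ (ι i k)) *
      MvPolynomial.X (⟨i, k⟩ : σ) - MvPolynomial.C (b i) ∈ _
    rw [add_sub_cancel_left]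
    refine Ideal.sum_mem _ fun k _ => Ideal.mul_mem_right _ _ ?_
    have : (MvPolynomial.C (algebraMap R B₀ (ι i k)) : B) = algebraMap R B (ι i k) := by
      rw [IsScalarTower.algebraMap_apply R B₀ B, MvPolynomial.algebraMap_eq]
    rw [this]
    exact Ideal.mem_map_of_mem _ (hι i k)
  let g₀ : MvPolynomial (Fin n) R →ₐ[R] B := MvPolynomial.aeval b'
  let J : Ideal B := (RingHom.ker f.toRingHom).map g₀.toRingHom
  have hJfg : J.FG := hfg.map _
  have hJI : J ≤ I.map (algebraMap R B) := by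
    rw [Ideal.map_le_iff_le_comap]
    intro p hp
    rw [Ideal.mem_comap]
    change MvPolynomial.aeval b' p ∈ _
    have e1 := aeval_sub_mem (R := R) (I.map (algebraMap R B)) b' (fun i => MvPolynomial.C (b i)) hb'b p
    have e2 : MvPolynomial.aeval (fun i => (MvPolynomial.C (b i) : B)) p =
        MvPolynomial.C (MvPolynomial.aeval b p) := by
      have := MvPolynomial.comp_aeval (R := R) b (IsScalarTower.toAlgHom R B₀ B)
      have h3 := AlgHom.congr_fun this p
      rw [AlgHom.comp_apply] at h3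
      exact h3.symm
    have e3 : (MvPolynomial.C (MvPolynomial.aeval b p) : B) ∈ I.map (algebraMap R B) := by
      have := Ideal.mem_map_of_mem (algebraMap B₀ B) (h1 p hp)
      rwa [Ideal.map_map, ← IsScalarTower.algebraMap_eq] at this
    rw [e2] at e1
    have : MvPolynomial.aeval b' p = (MvPolynomial.aeval b' p - MvPolynomial.C (MvPolynomial.aeval b p)) +
        MvPolynomial.C (MvPolynomial.aeval b p) := by ring
    rw [this]
    exact Ideal.add_mem _ e1 e3
  have hψ'g₀ : ψ'.comp g₀ = φ.comp f := by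
    apply MvPolynomial.algHom_ext
    intro i
    rw [AlgHom.comp_apply, AlgHom.comp_apply]
    change ψ' (MvPolynomial.aeval b' (MvPolynomial.X i)) = _
    rw [MvPolynomial.aeval_X, hψ'b']
  have hJker : ∀ a ∈ J, ψ' a = 0 := by
    have : J ≤ RingHom.ker ψ'.toRingHom := by
      rw [Ideal.map_le_iff_le_comap]
      intro p hp
      rw [Ideal.mem_comap, RingHom.mem_ker]
      change (ψ'.comp g₀) p = 0
      rw [hψ'g₀, AlgHom.comp_apply]
      have : f p = 0 := hp
      rw [this, map_zero]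
    exact fun a ha => this ha
  have hkerle : RingHom.ker f.toRingHom ≤ RingHom.ker ((Ideal.Quotient.mkₐ R J).comp g₀).toRingHom := by
    intro p hp
    rw [RingHom.mem_ker]
    change Ideal.Quotient.mk J (g₀ p) = 0
    rw [Ideal.Quotient.eq_zero_iff_mem]
    exact Ideal.mem_map_of_mem _ hp
  let g : A →ₐ[R] B ⧸ J := AlgHom.liftOfSurjective f hf ((Ideal.Quotient.mkₐ R J).comp g₀) hkerle
  let k : (B ⧸ J) →ₐ[R] Λ := Ideal.Quotient.liftₐ J ψ' hJker
  refine ⟨B, inferInstance, inferInstance, inferInstance, J, hJI, hJfg, g, k, ?_⟩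
  refine AlgHom.ext fun a => ?_
  obtain ⟨p, rfl⟩ := hf a
  rw [AlgHom.comp_apply]
  have hg : g (f p) = Ideal.Quotient.mk J (g₀ p) :=
    AlgHom.liftOfSurjective_apply f hf _ hkerle p
  rw [hg]
  change ψ' (g₀ p) = _
  exact AlgHom.congr_fun hψ'g₀ p

set_option maxHeartbeats 800000 in
/-- exact lifting step: `B` formally smooth with a map `ψ` to `Λ`; `D₀` smooth with `δ₀ : D₀ → Λ` and
approximate images `d i` of the generators of `B`; after adjoining finitely many variables to `D₀`
there is an honest algebra map `β' : B → D'` with `δ' ∘ β' = ψ` and `β' ≡ d` modulo `K`. -/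
theorem core2 {R Λ : Type u} [CommRing R] [CommRing Λ] [Algebra R Λ] (K : Ideal R) (hK : K ^ 2 = ⊥)
    (B : Type u) [CommRing B] [Algebra R B] [Algebra.FormallySmooth R B] (ψ : B →ₐ[R] Λ)
    (D₀ : Type u) [CommRing D₀] [Algebra R D₀] [Algebra.Smooth R D₀] (δ₀ : D₀ →ₐ[R] Λ)
    (n : ℕ) (f : MvPolynomial (Fin n) R →ₐ[R] B) (hf : Function.Surjective f) (d : Fin n → D₀)
    (h1 : ∀ p ∈ RingHom.ker f.toRingHom, MvPolynomial.aeval d p ∈ K.map (algebraMap R D₀))
    (h2 : ∀ i, ψ (f (MvPolynomial.X i)) - δ₀ (d i) ∈ K.map (algebraMap R Λ)) :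
    ∃ (D' : Type u) (_ : CommRing D') (_ : Algebra R D') (_ : Algebra D₀ D')
      (_ : IsScalarTower R D₀ D'),
      Algebra.Smooth R D' ∧ ∃ (β' : B →ₐ[R] D') (δ' : D' →ₐ[R] Λ), δ'.comp β' = ψ ∧
        ∀ i, β' (f (MvPolynomial.X i)) - algebraMap D₀ D' (d i) ∈ K.map (algebraMap R D') := by
  classical
  have hdec : ∀ i : Fin n, ∃ (m : ℕ) (c : Fin m → Λ) (ι : Fin m → R), (∀ k, ι k ∈ K) ∧
      ∑ k, c k * algebraMap R Λ (ι k) = ψ (f (MvPolynomial.X i)) - δ₀ (d i) := by
    intro i
    obtain ⟨m, c, g, hg⟩ := Submodule.mem_span_set'.mp (h2 i)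
    choose ι hι hιg using fun k => (g k).2
    refine ⟨m, c, ι, hι, ?_⟩
    rw [← hg]
    refine Finset.sum_congr rfl fun k _ => ?_
    rw [hιg k, smul_eq_mul]
  choose m c ι hι hsum using hdec
  let σ := Σ i : Fin n, Fin (m i)
  let D' := MvPolynomial σ D₀
  haveI : Algebra.Smooth D₀ D' := {}
  haveI : Algebra.Smooth R D' := Algebra.Smooth.comp R D₀ D'
  let δ' : D' →ₐ[R] Λ := MvPolynomial.aevalTower δ₀ (fun x : σ => c x.1 x.2)
  let d' : Fin n → D' := fun i =>
    MvPolynomial.C (d i) + ∑ k : Fin (m i), MvPolynomial.C (algebraMap R D₀ (ι i k)) *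
      MvPolynomial.X (⟨i, k⟩ : σ)
  have hδ'd' : ∀ i, δ' (d' i) = ψ (f (MvPolynomial.X i)) := by
    intro i
    change δ' (MvPolynomial.C (d i) + ∑ k : Fin (m i), MvPolynomial.C (algebraMap R D₀ (ι i k)) *
      MvPolynomial.X (⟨i, k⟩ : σ)) = _
    rw [map_add, map_sum, MvPolynomial.aevalTower_C]
    have : ∀ k : Fin (m i), δ' (MvPolynomial.C (algebraMap R D₀ (ι i k)) *
        MvPolynomial.X (⟨i, k⟩ : σ)) = c i k * algebraMap R Λ (ι i k) := by
      intro k
      rw [map_mul, MvPolynomial.aevalTower_C, MvPolynomial.aevalTower_X, AlgHom.commutes, mul_comm]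
    simp_rw [this]
    rw [hsum i]
    ring
  have hd'd : ∀ i, d' i - MvPolynomial.C (d i) ∈ K.map (algebraMap R D') := by
    intro i
    change MvPolynomial.C (d i) + ∑ k : Fin (m i), MvPolynomial.C (algebraMap R D₀ (ι i k)) *
      MvPolynomial.X (⟨i, k⟩ : σ) - MvPolynomial.C (d i) ∈ _
    rw [add_sub_cancel_left]
    refine Ideal.sum_mem _ fun k _ => Ideal.mul_mem_right _ _ ?_
    have : (MvPolynomial.C (algebraMap R D₀ (ι i k)) : D') = algebraMap R D' (ι i k) := by
      rw [IsScalarTower.algebraMap_apply R D₀ D', MvPolynomial.algebraMap_eq]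
    rw [this]
    exact Ideal.mem_map_of_mem _ (hι i k)
  let g₀ : MvPolynomial (Fin n) R →ₐ[R] D' := MvPolynomial.aeval d'
  let N : Ideal D' := K.map (algebraMap R D') ⊓ RingHom.ker δ'.toRingHom
  have hN : N ^ 2 = ⊥ := by
    have h3 : N ^ 2 ≤ (K.map (algebraMap R D')) ^ 2 := Ideal.pow_right_mono inf_le_left 2
    rw [← Ideal.map_pow, hK, Ideal.map_bot] at h3
    exact le_bot_iff.mp h3
  have hδ'g₀ : δ'.comp g₀ = ψ.comp f := by
    apply MvPolynomial.algHom_ext
    intro i
    rw [AlgHom.comp_apply, AlgHom.comp_apply]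
    change δ' (MvPolynomial.aeval d' (MvPolynomial.X i)) = _
    rw [MvPolynomial.aeval_X, hδ'd']
  have hg₀N : ∀ p ∈ RingHom.ker f.toRingHom, g₀ p ∈ N := by
    intro p hp
    refine ⟨?_, ?_⟩
    · change MvPolynomial.aeval d' p ∈ _
      have e1 := aeval_sub_mem (R := R) (K.map (algebraMap R D')) d'
        (fun i => MvPolynomial.C (d i)) hd'd p
      have e2 : MvPolynomial.aeval (fun i => (MvPolynomial.C (d i) : D')) p =
          MvPolynomial.C (MvPolynomial.aeval d p) := by
        have := MvPolynomial.comp_aeval (R := R) d (IsScalarTower.toAlgHom R D₀ D')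
        have h3 := AlgHom.congr_fun this p
        rw [AlgHom.comp_apply] at h3
        exact h3.symm
      have e3 : (MvPolynomial.C (MvPolynomial.aeval d p) : D') ∈ K.map (algebraMap R D') := by
        have := Ideal.mem_map_of_mem (algebraMap D₀ D') (h1 p hp)
        rwa [Ideal.map_map, ← IsScalarTower.algebraMap_eq] at this
      rw [e2] at e1
      have : MvPolynomial.aeval d' p = (MvPolynomial.aeval d' p -
          MvPolynomial.C (MvPolynomial.aeval d p)) + MvPolynomial.C (MvPolynomial.aeval d p) := by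
        ring
      rw [this]
      exact Ideal.add_mem _ e1 e3
    · change (δ'.comp g₀) p = 0
      rw [hδ'g₀, AlgHom.comp_apply]
      have : f p = 0 := hp
      rw [this, map_zero]
  have hkerle : RingHom.ker f.toRingHom ≤
      RingHom.ker ((Ideal.Quotient.mkₐ R N).comp g₀).toRingHom := by
    intro p hp
    rw [RingHom.mem_ker]
    change Ideal.Quotient.mk N (g₀ p) = 0
    rw [Ideal.Quotient.eq_zero_iff_mem]
    exact hg₀N p hp
  let β₀ : B →ₐ[R] D' ⧸ N := AlgHom.liftOfSurjective f hf ((Ideal.Quotient.mkₐ R N).comp g₀) hkerle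
  obtain ⟨β', hβ'⟩ := Algebra.FormallySmooth.comp_surjective (R := R) (A := B) N hN β₀
  have hβ'X : ∀ i, β' (f (MvPolynomial.X i)) - d' i ∈ N := by
    intro i
    rw [← Ideal.Quotient.eq]
    have e1 : Ideal.Quotient.mk N (β' (f (MvPolynomial.X i))) = β₀ (f (MvPolynomial.X i)) :=
      AlgHom.congr_fun hβ' _
    rw [e1]
    have e2 : β₀ (f (MvPolynomial.X i)) = Ideal.Quotient.mk N (g₀ (MvPolynomial.X i)) :=
      AlgHom.liftOfSurjective_apply f hf _ hkerle _
    rw [e2]
    change Ideal.Quotient.mk N (MvPolynomial.aeval d' (MvPolynomial.X i)) = _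
    rw [MvPolynomial.aeval_X]
  refine ⟨D', inferInstance, inferInstance, inferInstance, inferInstance, inferInstance, β', δ', ?_, ?_⟩
  · have : (δ'.comp β').comp f = ψ.comp f := by
      apply MvPolynomial.algHom_ext
      intro i
      rw [AlgHom.comp_apply, AlgHom.comp_apply, AlgHom.comp_apply]
      have h3 : δ' (β' (f (MvPolynomial.X i)) - d' i) = 0 := (hβ'X i).2
      rw [map_sub, sub_eq_zero] at h3
      rw [h3, hδ'd']
    refine AlgHom.ext fun b => ?_
    obtain ⟨p, rfl⟩ := hf b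
    exact AlgHom.congr_fun this p
  · intro i
    have : β' (f (MvPolynomial.X i)) - algebraMap D₀ D' (d i) =
        (β' (f (MvPolynomial.X i)) - d' i) + (d' i - MvPolynomial.C (d i)) := by
      rw [MvPolynomial.algebraMap_eq]; ring
    rw [this]
    exact Ideal.add_mem _ (hβ'X i).1 (hd'd i)

end Groth.Agent.Lib.helper3.SqZeroFactor
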