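import Mathlib
import Groth.Agent.S2023
import Groth.Agent.Lib.helper3.SqZeroFactor
import Groth.Agent.Lib.helper3.SmoothRetract
import Groth.Agent.Lib.helper3.StdSmoothLift

universe u
open TensorProduct

namespace Groth.Agent.Lib.helper3.IndSmoothNilp

theorem smul_mem_eq_zero {R D : Type*} [CommRing R] [CommRing D] [Algebra R D] (K : Ideal R)
    (hK : K ^ 2 = ⊥) (κ : R) (hκ : κ ∈ K) (e : D) (he : e ∈ K.map (algebraMap R D)) : κ • e = 0 := by
  have h1 : algebraMap R D κ * e ∈ (K.map (algebraMap R D)) ^ 2 := by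
    rw [pow_two]
    exact Ideal.mul_mem_mul (Ideal.mem_map_of_mem _ hκ) he
  rw [← Ideal.map_pow, hK, Ideal.map_bot, Ideal.mem_bot] at h1
  rw [Algebra.smul_def, h1]

set_option maxHeartbeats 800000 in
/-- a map from a finitely presented algebra to `Λ` factors, modulo `K`, through the reduction of a
smooth `R`-algebra `D₀` which itself maps to `Λ`. -/
theorem factor_mod {R Λ : Type u} [CommRing R] [CommRing Λ] [Algebra R Λ] (K : Ideal R)
    (hK : K ^ 2 = ⊥) (h : Smoothing.IndSmooth (R ⧸ K) (Λ ⧸ K.map (algebraMap R Λ)))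
    (E : Type u) [CommRing E] [Algebra R E] [Algebra.FinitePresentation R E] (ε : E →ₐ[R] Λ) :
    ∃ (D₀ : Type u) (_ : CommRing D₀) (_ : Algebra R D₀) (_ : Algebra.Smooth R D₀)
      (D' : Type u) (_ : CommRing D') (_ : Algebra R D') (ψD : D₀ →ₐ[R] D') (γE : E →ₐ[R] D')
      (δ₀ : D₀ →ₐ[R] Λ), Function.Surjective ψD ∧ RingHom.ker ψD ≤ K.map (algebraMap R D₀) ∧
        ∀ (e : E) (x : D₀), ψD x = γE e → δ₀ x - ε e ∈ K.map (algebraMap R Λ) := by
  classical
  let ε' : (R ⧸ K) ⊗[R] E →ₐ[R ⧸ K] Λ ⧸ K.map (algebraMap R Λ) :=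
    Algebra.TensorProduct.lift (Algebra.ofId (R ⧸ K) (Λ ⧸ K.map (algebraMap R Λ)))
      ((Ideal.Quotient.mkₐ R (K.map (algebraMap R Λ))).comp ε) (fun _ _ => Commute.all _ _)
  obtain ⟨D1, _, _, hD1, g1, h1, hcomp⟩ := h (TensorProduct R (R ⧸ K) E) inferInstance ε'
  obtain ⟨D', _, _, _, _, hD's, ⟨r⟩, hD'std⟩ :=
    Groth.Agent.Lib.helper3.SmoothRetract.main (R := R ⧸ K) (A := D1)
  letI algRD' : Algebra R D' := ((algebraMap (R ⧸ K) D').comp (algebraMap R (R ⧸ K))).toAlgebra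
  haveI towRD' : IsScalarTower R (R ⧸ K) D' := IsScalarTower.of_algebraMap_eq (fun _ => rfl)
  obtain ⟨D₀, _, _, hD₀, ψD, hψDs, hψDk⟩ :=
    Groth.Agent.Lib.helper3.StdSmoothLift.exists_stdSmooth_lift R K D'
  let χ : D' →ₐ[R ⧸ K] Λ ⧸ K.map (algebraMap R Λ) := h1.comp (r.restrictScalars (R ⧸ K))
  let χ₀ : D₀ →ₐ[R] Λ ⧸ K.map (algebraMap R Λ) := (χ.restrictScalars R).comp ψD
  have hsq : (K.map (algebraMap R Λ)) ^ 2 = ⊥ := by rw [← Ideal.map_pow, hK, Ideal.map_bot]
  haveI : Algebra.Smooth R D₀ := inferInstance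
  obtain ⟨δ₀, hδ₀⟩ := Algebra.FormallySmooth.comp_surjective (R := R) (A := D₀)
    (K.map (algebraMap R Λ)) hsq χ₀
  let γE : E →ₐ[R] D' :=
    { toFun := fun e => algebraMap D1 D' (g1 (TensorProduct.tmul R (1 : R ⧸ K) e))
      map_one' := by
        rw [← Algebra.TensorProduct.one_def, map_one, map_one]
      map_mul' := fun x y => by
        rw [← map_mul, ← map_mul, Algebra.TensorProduct.tmul_mul_tmul, one_mul]
      map_zero' := by
        rw [TensorProduct.tmul_zero, map_zero, map_zero]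
      map_add' := fun x y => by
        rw [TensorProduct.tmul_add, map_add, map_add]
      commutes' := fun x => by
        have e1 : TensorProduct.tmul R (1 : R ⧸ K) (algebraMap R E x) =
            algebraMap (R ⧸ K) (TensorProduct R (R ⧸ K) E) (Ideal.Quotient.mk K x) := by
          rw [Algebra.TensorProduct.algebraMap_apply, Algebra.algebraMap_eq_smul_one,
            TensorProduct.tmul_smul, TensorProduct.smul_tmul', Algebra.smul_def, mul_one]
          rfl
        change algebraMap D1 D' (g1 (TensorProduct.tmul R (1 : R ⧸ K) (algebraMap R E x))) = _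
        rw [e1, AlgHom.commutes, ← IsScalarTower.algebraMap_apply]
        rfl }
  have hγE : ∀ e, γE e = algebraMap D1 D' (g1 (TensorProduct.tmul R (1 : R ⧸ K) e)) := fun e => rfl
  refine ⟨D₀, inferInstance, inferInstance, inferInstance, D', inferInstance, inferInstance,
    ψD, γE, δ₀, hψDs, hψDk, ?_⟩
  intro e x hx
  rw [← Ideal.Quotient.eq]
  have e1 : Ideal.Quotient.mk (K.map (algebraMap R Λ)) (δ₀ x) = χ₀ x := AlgHom.congr_fun hδ₀ x
  rw [e1]
  change h1 (r (ψD x)) = _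
  rw [hx, hγE, AlgHom.commutes]
  change h1 (g1 (TensorProduct.tmul R (1 : R ⧸ K) e)) = _
  have e2 := AlgHom.congr_fun hcomp (TensorProduct.tmul R (1 : R ⧸ K) e)
  rw [AlgHom.comp_apply] at e2
  rw [e2]
  change Algebra.TensorProduct.lift _ _ _ _ = _
  rw [Algebra.TensorProduct.lift_tmul, map_one, one_mul]
  rfl

set_option maxHeartbeats 800000 in
/-- adjoin the witnesses of finitely many trivialised relations -/
theorem exists_E {R Λ : Type u} [CommRing R] [CommRing Λ] [Algebra R Λ]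
    (B : Type u) [CommRing B] [Algebra R B] [Algebra.FinitePresentation R B] (ψ : B →ₐ[R] Λ)
    (t : ℕ) (m p : Fin t → ℕ) (c : ∀ k, Fin (m k) → B) (a : ∀ k, Fin (m k) → Fin (p k) → R)
    (y : ∀ k, Fin (p k) → Λ) (hy : ∀ k l, ψ (c k l) = ∑ q, a k l q • y k q) :
    ∃ (E : Type u) (_ : CommRing E) (_ : Algebra R E) (_ : Algebra.FinitePresentation R E)
      (ιB : B →ₐ[R] E) (ε : E →ₐ[R] Λ) (z : ∀ k, Fin (p k) → E),
      ε.comp ιB = ψ ∧ ∀ k l, ιB (c k l) = ∑ q, a k l q • z k q := by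
  classical
  let τ := Σ k : Fin t, Fin (p k)
  let rel : (Σ k : Fin t, Fin (m k)) → MvPolynomial τ B := fun x =>
    MvPolynomial.C (c x.1 x.2) - ∑ q : Fin (p x.1), a x.1 x.2 q • MvPolynomial.X (⟨x.1, q⟩ : τ)
  let 𝔢 : Ideal (MvPolynomial τ B) := Ideal.span (Set.range rel)
  have h𝔢fg : 𝔢.FG := ⟨(Set.finite_range rel).toFinset, by rw [Set.Finite.coe_toFinset]⟩
  haveI : Algebra.FinitePresentation R (MvPolynomial τ B) :=
    Algebra.FinitePresentation.trans R B (MvPolynomial τ B)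
  haveI : Algebra.FinitePresentation R (MvPolynomial τ B ⧸ 𝔢) :=
    Algebra.FinitePresentation.quotient h𝔢fg
  let ε₀ : MvPolynomial τ B →ₐ[R] Λ := MvPolynomial.aevalTower ψ (fun x : τ => y x.1 x.2)
  have hε₀ : ∀ x ∈ 𝔢, ε₀ x = 0 := by
    have : 𝔢 ≤ RingHom.ker ε₀.toRingHom := by
      rw [Ideal.span_le]
      rintro _ ⟨x, rfl⟩
      change ε₀ (MvPolynomial.C (c x.1 x.2) -
        ∑ q : Fin (p x.1), a x.1 x.2 q • MvPolynomial.X (⟨x.1, q⟩ : τ)) = 0
      rw [map_sub, map_sum, MvPolynomial.aevalTower_C, hy x.1 x.2, sub_eq_zero]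
      refine Finset.sum_congr rfl fun q _ => ?_
      rw [map_smul, MvPolynomial.aevalTower_X]
    exact fun x hx => this hx
  let ε : (MvPolynomial τ B ⧸ 𝔢) →ₐ[R] Λ := Ideal.Quotient.liftₐ 𝔢 ε₀ hε₀
  let ιB : B →ₐ[R] (MvPolynomial τ B ⧸ 𝔢) :=
    (Ideal.Quotient.mkₐ R 𝔢).comp (IsScalarTower.toAlgHom R B (MvPolynomial τ B))
  refine ⟨MvPolynomial τ B ⧸ 𝔢, inferInstance, inferInstance, inferInstance, ιB, ε,
    fun k q => Ideal.Quotient.mk 𝔢 (MvPolynomial.X (⟨k, q⟩ : τ)), ?_, ?_⟩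
  · refine AlgHom.ext fun b => ?_
    change ε₀ (MvPolynomial.C b) = _
    rw [MvPolynomial.aevalTower_C]
  · intro k l
    change Ideal.Quotient.mk 𝔢 (MvPolynomial.C (c k l)) = _
    have h1 : rel ⟨k, l⟩ ∈ 𝔢 := Ideal.subset_span ⟨⟨k, l⟩, rfl⟩
    have h2 : Ideal.Quotient.mk 𝔢 (rel ⟨k, l⟩) = 0 := Ideal.Quotient.eq_zero_iff_mem.mpr h1
    change Ideal.Quotient.mk 𝔢 (MvPolynomial.C (c k l) -
        ∑ q : Fin (p k), a k l q • MvPolynomial.X (⟨k, q⟩ : τ)) = 0 at h2
    rw [map_sub, sub_eq_zero, map_sum] at h2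
    rw [h2]
    refine Finset.sum_congr rfl fun q _ => ?_
    rw [Algebra.smul_def, Algebra.smul_def, map_mul]
    rfl

set_option maxHeartbeats 1600000 in
theorem sqzero_step {R Λ : Type u} [CommRing R] [CommRing Λ] [Algebra R Λ] (K : Ideal R)
    (hK : K ^ 2 = ⊥) [Module.Flat R Λ]
    (h : Smoothing.IndSmooth (R ⧸ K) (Λ ⧸ K.map (algebraMap R Λ))) :
    Smoothing.IndSmooth R Λ := by
  classical
  intro A _ _ hA φ
  haveI := hA
  obtain ⟨B, _, _, hBs, J, hJK, hJfg, g, k, hkg⟩ := Groth.Agent.S2023.result K hK h φ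
  let ψ : B →ₐ[R] Λ := k.comp (Ideal.Quotient.mkₐ R J)
  have hψJ : ∀ j ∈ J, ψ j = 0 := by
    intro j hj
    change k (Ideal.Quotient.mk J j) = 0
    rw [Ideal.Quotient.eq_zero_iff_mem.mpr hj, map_zero]
  obtain ⟨t, jj, hjj⟩ := Submodule.fg_iff_exists_fin_generating_family.mp hJfg
  have hjjJ : ∀ k, jj k ∈ J := fun k => hjj ▸ Submodule.subset_span ⟨k, rfl⟩
  have hdec : ∀ k : Fin t, ∃ (m : ℕ) (c : Fin m → B) (κ : Fin m → R), (∀ l, κ l ∈ K) ∧
      ∑ l, κ l • c l = jj k := by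
    intro k
    obtain ⟨m, c, g, hg⟩ := Submodule.mem_span_set'.mp (hJK (hjjJ k))
    choose κ hκ hκg using fun l => (g l).2
    refine ⟨m, c, κ, hκ, ?_⟩
    rw [← hg]
    refine Finset.sum_congr rfl fun l _ => ?_
    rw [← hκg l, smul_eq_mul, Algebra.smul_def, mul_comm]
  choose m c κ hκ hsum using hdec
  have hflat : ∀ k : Fin t, ∃ (p : ℕ) (a : Fin (m k) → Fin p → R) (y : Fin p → Λ),
      (∀ l, ψ (c k l) = ∑ q, a l q • y q) ∧ ∀ q, ∑ l, κ k l * a l q = 0 := by
    intro k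
    have h0 : ∑ l, κ k l • ψ (c k l) = 0 := by
      simp_rw [← map_smul]
      rw [← map_sum, hsum, hψJ _ (hjjJ k)]
    exact Module.Flat.isTrivialRelation_of_sum_smul_eq_zero (R := R) (M := Λ) (f := κ k)
      (x := fun l => ψ (c k l)) h0
  choose p a y hy ha using hflat
  obtain ⟨E, _, _, hEfp, ιB, ε, z, hειB, hιBc⟩ := exists_E B ψ t m p c a y hy
  obtain ⟨D₀, _, _, hD₀s, D', _, _, ψD, γE, δ₀, hψDs, hψDk, hmod⟩ := factor_mod K hK h E ε
  let γ : B →ₐ[R] D' := γE.comp ιB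
  obtain ⟨n, f, hf, hffg⟩ := Algebra.FinitePresentation.out (R := R) (A := B)
  choose d hd using fun i : Fin n => hψDs (γ (f (MvPolynomial.X i)))
  have hψDd : ψD.comp (MvPolynomial.aeval d) = γ.comp f := by
    apply MvPolynomial.algHom_ext
    intro i
    rw [AlgHom.comp_apply, AlgHom.comp_apply, MvPolynomial.aeval_X, hd]
  have h1' : ∀ q ∈ RingHom.ker f.toRingHom, MvPolynomial.aeval d q ∈ K.map (algebraMap R D₀) := by
    intro q hq
    apply hψDk
    rw [RingHom.mem_ker]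
    have hfq : f q = 0 := hq
    have := AlgHom.congr_fun hψDd q
    rw [AlgHom.comp_apply, AlgHom.comp_apply, hfq, map_zero] at this
    exact this
  have h2' : ∀ i, ψ (f (MvPolynomial.X i)) - δ₀ (d i) ∈ K.map (algebraMap R Λ) := by
    intro i
    have h3 := hmod (ιB (f (MvPolynomial.X i))) (d i) (hd i)
    have h4 : ε (ιB (f (MvPolynomial.X i))) = ψ (f (MvPolynomial.X i)) :=
      AlgHom.congr_fun hειB _
    rw [h4] at h3
    rw [← neg_sub]
    exact Ideal.neg_mem_iff _ |>.mpr h3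
  obtain ⟨D'', _, _, _, _, hD''s, β', δ', hδβ, hβd⟩ :=
    Groth.Agent.Lib.helper3.SqZeroFactor.core2 K hK B ψ D₀ δ₀ n f hf d h1' h2'
  -- comparison modulo `K`
  let KD : Ideal D'' := K.map (algebraMap R D'')
  have hkerψD : RingHom.ker ψD.toRingHom ≤
      RingHom.ker ((Ideal.Quotient.mkₐ R KD).comp (IsScalarTower.toAlgHom R D₀ D'')).toRingHom := by
    intro x hx
    rw [RingHom.mem_ker]
    change Ideal.Quotient.mk KD (algebraMap D₀ D'' x) = 0
    rw [Ideal.Quotient.eq_zero_iff_mem]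
    have := Ideal.mem_map_of_mem (algebraMap D₀ D'') (hψDk hx)
    rwa [Ideal.map_map, ← IsScalarTower.algebraMap_eq] at this
  let ιbar : D' →ₐ[R] D'' ⧸ KD := AlgHom.liftOfSurjective ψD hψDs
    ((Ideal.Quotient.mkₐ R KD).comp (IsScalarTower.toAlgHom R D₀ D'')) hkerψD
  have hιbar : ∀ x : D₀, ιbar (ψD x) = Ideal.Quotient.mk KD (algebraMap D₀ D'' x) := fun x =>
    AlgHom.liftOfSurjective_apply ψD hψDs _ hkerψD x
  have hΦ : ((Ideal.Quotient.mkₐ R KD).comp β').comp f = (ιbar.comp γ).comp f := by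
    apply MvPolynomial.algHom_ext
    intro i
    rw [AlgHom.comp_apply, AlgHom.comp_apply, AlgHom.comp_apply, AlgHom.comp_apply, ← hd i, hιbar]
    exact Ideal.Quotient.eq.mpr (hβd i)
  have hkey : ∀ (b : B) (x : D₀), ψD x = γ b → β' b - algebraMap D₀ D'' x ∈ KD := by
    intro b x hx
    obtain ⟨q, rfl⟩ := hf b
    rw [← Ideal.Quotient.eq, ← hιbar, hx]
    exact AlgHom.congr_fun hΦ q
  -- `β'` kills `J`
  choose ζ hζ using fun k : Fin t => fun q : Fin (p k) => hψDs (γE (z k q))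
  have hβ'jj : ∀ k, β' (jj k) = 0 := by
    intro k
    have hx : ∀ l, ψD (∑ q, a k l q • ζ k q) = γ (c k l) := by
      intro l
      change _ = γE (ιB (c k l))
      rw [hιBc, map_sum, map_sum]
      refine Finset.sum_congr rfl fun q _ => ?_
      rw [map_smul, map_smul, hζ]
    have he : ∀ l, κ k l • β' (c k l) = κ k l • algebraMap D₀ D'' (∑ q, a k l q • ζ k q) := by
      intro l
      have h5 := smul_mem_eq_zero K hK (κ k l) (hκ k l) _ (hkey (c k l) _ (hx l))
      rw [smul_sub, sub_eq_zero] at h5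
      exact h5
    rw [← hsum k, map_sum]
    have h6 : ∑ l, κ k l • ∑ q, a k l q • ζ k q = 0 := by
      simp_rw [Finset.smul_sum, smul_smul]
      rw [Finset.sum_comm]
      refine Finset.sum_eq_zero fun q _ => ?_
      rw [← Finset.sum_smul, ha k q, zero_smul]
    have h8 : ∀ l, β' (κ k l • c k l) = algebraMap D₀ D'' (κ k l • ∑ q, a k l q • ζ k q) := by
      intro l
      rw [map_smul, he, Algebra.smul_def, Algebra.smul_def (κ k l) (∑ q, a k l q • ζ k q), map_mul,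
        ← IsScalarTower.algebraMap_apply]
    rw [Finset.sum_congr rfl (fun l _ => h8 l), ← map_sum, h6, map_zero]
  have hβ'J : ∀ j ∈ J, β' j = 0 := by
    have : J ≤ RingHom.ker β'.toRingHom := by
      rw [← hjj]
      change Ideal.span (Set.range jj) ≤ _
      rw [Ideal.span_le]
      rintro _ ⟨k, rfl⟩
      exact hβ'jj k
    exact fun j hj => this hj
  refine ⟨D'', inferInstance, inferInstance, hD''s,
    (Ideal.Quotient.liftₐ J β' hβ'J).comp g, δ', ?_⟩
  have h7 : δ'.comp (Ideal.Quotient.liftₐ J β' hβ'J) = k := by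
    apply Ideal.Quotient.algHom_ext
    refine AlgHom.ext fun b => ?_
    change δ' (β' b) = k (Ideal.Quotient.mk J b)
    exact AlgHom.congr_fun hδβ b
  rw [← AlgHom.comp_assoc, h7, hkg]

end Groth.Agent.Lib.helper3.IndSmoothNilp
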