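import Mathlib
import Groth.Prelude.Def_Smoothing

universe u
open TensorProduct

namespace Groth.Agent.Lib.helper3.IndSmoothNilp

set_option maxHeartbeats 800000 in
/-- transport of ind-smoothness along compatible ring isomorphisms -/
theorem indSmooth_of_equiv {R₁ Λ₁ R₂ Λ₂ : Type u} [CommRing R₁] [CommRing Λ₁] [Algebra R₁ Λ₁]
    [CommRing R₂] [CommRing Λ₂] [Algebra R₂ Λ₂] (e : R₁ ≃+* R₂) (eΛ : Λ₁ ≃+* Λ₂)
    (hcompat : ∀ r, eΛ (algebraMap R₁ Λ₁ r) = algebraMap R₂ Λ₂ (e r))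
    (h : Smoothing.IndSmooth R₁ Λ₁) : Smoothing.IndSmooth R₂ Λ₂ := by
  intro A₂ _ _ hA₂ φ₂
  letI algR₁R₂ : Algebra R₁ R₂ := e.toRingHom.toAlgebra
  letI algR₁A₂ : Algebra R₁ A₂ := ((algebraMap R₂ A₂).comp e.toRingHom).toAlgebra
  haveI tow1 : IsScalarTower R₁ R₂ A₂ := IsScalarTower.of_algebraMap_eq (fun _ => rfl)
  letI algR₁Λ₂ : Algebra R₁ Λ₂ := ((algebraMap R₂ Λ₂).comp e.toRingHom).toAlgebra
  haveI tow2 : IsScalarTower R₁ R₂ Λ₂ := IsScalarTower.of_algebraMap_eq (fun _ => rfl)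
  haveI fpR₂ : Algebra.FinitePresentation R₁ R₂ :=
    Algebra.FinitePresentation.of_surjective (f := Algebra.ofId R₁ R₂) e.surjective (by
      have : RingHom.ker (Algebra.ofId R₁ R₂).toRingHom = ⊥ :=
        (RingHom.injective_iff_ker_eq_bot _).mp e.injective
      rw [this]
      exact Submodule.fg_bot)
  haveI fpA₂ : Algebra.FinitePresentation R₁ A₂ := Algebra.FinitePresentation.trans R₁ R₂ A₂
  let φ₁ : A₂ →ₐ[R₁] Λ₁ :=
    { toFun := fun a => eΛ.symm (φ₂ a)
      map_one' := by rw [map_one, map_one]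
      map_mul' := fun x y => by rw [map_mul, map_mul]
      map_zero' := by rw [map_zero, map_zero]
      map_add' := fun x y => by rw [map_add, map_add]
      commutes' := fun r => by
        change eΛ.symm (φ₂ (algebraMap R₂ A₂ (e r))) = _
        rw [AlgHom.commutes, ← hcompat, RingEquiv.symm_apply_apply] }
  obtain ⟨B₁, _, _, hB₁, g₁, k₁, hk₁g₁⟩ := h A₂ fpA₂ φ₁
  let g₂ : A₂ →ₐ[R₂] R₂ ⊗[R₁] B₁ :=
    { toFun := fun a => (1 : R₂) ⊗ₜ[R₁] g₁ a
      map_one' := by rw [map_one]; rfl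
      map_mul' := fun x y => by rw [map_mul, Algebra.TensorProduct.tmul_mul_tmul, one_mul]
      map_zero' := by rw [map_zero, TensorProduct.tmul_zero]
      map_add' := fun x y => by rw [map_add, TensorProduct.tmul_add]
      commutes' := fun s => by
        obtain ⟨r, rfl⟩ := e.surjective s
        have h1 : algebraMap R₂ A₂ (e r) = algebraMap R₁ A₂ r := rfl
        change (1 : R₂) ⊗ₜ[R₁] g₁ (algebraMap R₂ A₂ (e r)) = _
        rw [h1, AlgHom.commutes, Algebra.algebraMap_eq_smul_one, TensorProduct.tmul_smul,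
          TensorProduct.smul_tmul', Algebra.TensorProduct.algebraMap_apply, Algebra.smul_def, mul_one]
        rfl }
  let k₁' : B₁ →ₐ[R₁] Λ₂ :=
    { toFun := fun b => eΛ (k₁ b)
      map_one' := by rw [map_one, map_one]
      map_mul' := fun x y => by rw [map_mul, map_mul]
      map_zero' := by rw [map_zero, map_zero]
      map_add' := fun x y => by rw [map_add, map_add]
      commutes' := fun r => by
        rw [AlgHom.commutes, hcompat]
        rfl }
  let k₂ : R₂ ⊗[R₁] B₁ →ₐ[R₂] Λ₂ :=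
    Algebra.TensorProduct.lift (Algebra.ofId R₂ Λ₂) k₁'
      (fun x y => Commute.all (Algebra.ofId R₂ Λ₂ x) (k₁' y))
  refine ⟨R₂ ⊗[R₁] B₁, inferInstance, inferInstance, inferInstance, g₂, k₂, ?_⟩
  refine AlgHom.ext fun a => ?_
  have hk₂ : ∀ (s : R₂) (b : B₁), k₂ (s ⊗ₜ[R₁] b) = algebraMap R₂ Λ₂ s * eΛ (k₁ b) :=
    fun s b => Algebra.TensorProduct.lift_tmul _ _ _ s b
  change k₂ ((1 : R₂) ⊗ₜ[R₁] g₁ a) = _
  rw [hk₂, map_one, one_mul]
  have := AlgHom.congr_fun hk₁g₁ a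
  rw [AlgHom.comp_apply] at this
  rw [this]
  exact eΛ.apply_symm_apply _

end Groth.Agent.Lib.helper3.IndSmoothNilp
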