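import Mathlib
import Groth.Agent.Lib.helper3.IndSmoothNilp
import Groth.Agent.Lib.helper3.IndSmoothTransport

universe u
open TensorProduct

namespace Groth.Agent.Lib.helper3.IndSmoothNilp

theorem flat_quot {R Λ : Type u} [CommRing R] [CommRing Λ] [Algebra R Λ] [Module.Flat R Λ]
    (K : Ideal R) : Module.Flat (R ⧸ K) (Λ ⧸ K.map (algebraMap R Λ)) :=
  Module.Flat.of_linearEquiv
    (Algebra.TensorProduct.quotIdealMapEquivQuotTensor Λ K).toLinearEquiv

set_option maxHeartbeats 800000 in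
/-- ind-smoothness of `Λ/IΛ` over `R/I` passes to the double quotient by `K ≤ I` -/
theorem indSmooth_doubleQuot {R Λ : Type u} [CommRing R] [CommRing Λ] [Algebra R Λ]
    (K I : Ideal R) (hKI : K ≤ I)
    (h : Smoothing.IndSmooth (R ⧸ I) (Λ ⧸ I.map (algebraMap R Λ))) :
    Smoothing.IndSmooth ((R ⧸ K) ⧸ I.map (Ideal.Quotient.mk K))
      ((Λ ⧸ K.map (algebraMap R Λ)) ⧸
        (I.map (Ideal.Quotient.mk K)).map (algebraMap (R ⧸ K) (Λ ⧸ K.map (algebraMap R Λ)))) := by
  have hKIΛ : K.map (algebraMap R Λ) ≤ I.map (algebraMap R Λ) := Ideal.map_mono hKI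
  have hid : (I.map (Ideal.Quotient.mk K)).map (algebraMap (R ⧸ K) (Λ ⧸ K.map (algebraMap R Λ))) =
      (I.map (algebraMap R Λ)).map (Ideal.Quotient.mk (K.map (algebraMap R Λ))) := by
    rw [Ideal.map_map, Ideal.map_map]
    congr 1
  let eΛ : (Λ ⧸ I.map (algebraMap R Λ)) ≃+*
      ((Λ ⧸ K.map (algebraMap R Λ)) ⧸
        (I.map (Ideal.Quotient.mk K)).map (algebraMap (R ⧸ K) (Λ ⧸ K.map (algebraMap R Λ)))) :=
    (DoubleQuot.quotQuotEquivQuotOfLE hKIΛ).symm.trans (Ideal.quotEquivOfEq hid.symm)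
  refine indSmooth_of_equiv (DoubleQuot.quotQuotEquivQuotOfLE hKI).symm eΛ ?_ h
  intro r
  obtain ⟨r, rfl⟩ := Ideal.Quotient.mk_surjective r
  rfl

theorem nilp {R Λ : Type u} [CommRing R] [CommRing Λ] [Algebra R Λ] (n : ℕ) (I : Ideal R)
    (hI : I ^ n = ⊥) [Module.Flat R Λ]
    (h : Smoothing.IndSmooth (R ⧸ I) (Λ ⧸ I.map (algebraMap R Λ))) :
    Smoothing.IndSmooth R Λ := by
  induction n generalizing R Λ with
  | zero =>
    refine sqzero_step I ?_ h
    rw [← le_bot_iff, ← hI]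
    exact Ideal.pow_le_pow_right (Nat.zero_le 2)
  | succ n' ih =>
    by_cases hn : n' + 1 ≤ 2
    · refine sqzero_step I ?_ h
      rw [← le_bot_iff, ← hI]
      exact Ideal.pow_le_pow_right hn
    · have hn' : 2 ≤ n' := by omega
      have hK : (I ^ n') ^ 2 = ⊥ := by
        rw [← pow_mul, ← le_bot_iff, ← hI]
        exact Ideal.pow_le_pow_right (by omega)
      have hKI : I ^ n' ≤ I := Ideal.pow_le_self (by omega)
      refine sqzero_step (I ^ n') hK ?_
      haveI := flat_quot (Λ := Λ) (I ^ n')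
      refine ih (I.map (Ideal.Quotient.mk (I ^ n'))) ?_ (indSmooth_doubleQuot (I ^ n') I hKI h)
      rw [← Ideal.map_pow, Ideal.map_quotient_self]

end Groth.Agent.Lib.helper3.IndSmoothNilp
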