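import Mathlib
import Groth.Prelude.Def_Found
import Groth.Prelude.Def_CAlgX

/-!
# Mittag-Leffler modules (product characterization) — helper lemmas (helper3)

`CAlg.IsMittagLeffler R M` is defined by injectivity of `M ⊗ ∏ Qᵢ → ∏ (M ⊗ Qᵢ)`
(`TensorProduct.piRightHom`).  This file has naturality of `piRightHom`, its surjectivity for
finitely generated modules and bijectivity for finitely presented modules.
-/

set_option autoImplicit false
universe u v w

open TensorProduct

namespace Groth.Agent.Lib.helper3.ML

variable {R : Type u} [CommRing R]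

/-- naturality of `piRightHom` in the left factor. -/
theorem piRightHom_rTensor {M : Type v} {M' : Type w} [AddCommGroup M] [Module R M]
    [AddCommGroup M'] [Module R M'] (f : M →ₗ[R] M') {ι : Type*} (Q : ι → Type*)
    [∀ i, AddCommGroup (Q i)] [∀ i, Module R (Q i)] (x : M ⊗[R] (∀ i, Q i)) :
    TensorProduct.piRightHom R R M' Q (f.rTensor _ x) =
      fun i => f.rTensor (Q i) (TensorProduct.piRightHom R R M Q x i) := by
  induction x using TensorProduct.induction_on with
  | zero => simp only [map_zero]; rfl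
  | tmul m q => rfl
  | add a b ha hb =>
    simp only [map_add, ha, hb]
    funext i
    simp only [Pi.add_apply, map_add]

/-- naturality of `piRightHom` in the family. -/
theorem piRightHom_lTensor {M : Type v} [AddCommGroup M] [Module R M]
    {ι : Type*} (Q Q' : ι → Type*)
    [∀ i, AddCommGroup (Q i)] [∀ i, Module R (Q i)] [∀ i, AddCommGroup (Q' i)] [∀ i, Module R (Q' i)]
    (g : ∀ i, Q i →ₗ[R] Q' i) (x : M ⊗[R] (∀ i, Q i)) :
    TensorProduct.piRightHom R R M Q' ((LinearMap.pi fun i => g i ∘ₗ LinearMap.proj i).lTensor M x) =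
      fun i => (g i).lTensor M (TensorProduct.piRightHom R R M Q x i) := by
  induction x using TensorProduct.induction_on with
  | zero => simp only [map_zero]; rfl
  | tmul m q => rfl
  | add a b ha hb =>
    simp only [map_add, ha, hb]
    funext i
    simp only [Pi.add_apply, map_add]

/-- `(Fin n → R) ⊗ N ≃ (Fin n → N)`. -/
noncomputable def finTensor (n : ℕ) (N : Type v) [AddCommGroup N] [Module R N] :
    (Fin n → R) ⊗[R] N ≃ₗ[R] (Fin n → N) :=
  (TensorProduct.comm R (Fin n → R) N) ≪≫ₗ TensorProduct.piScalarRight R R N (Fin n)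

theorem finTensor_tmul (n : ℕ) (N : Type v) [AddCommGroup N] [Module R N] (f : Fin n → R) (x : N) :
    finTensor n N (f ⊗ₜ[R] x) = fun k => f k • x := by
  simp [finTensor]

theorem piRightHom_bijective_fin (n : ℕ) {ι : Type w} (Q : ι → Type v)
    [∀ i, AddCommGroup (Q i)] [∀ i, Module R (Q i)] :
    Function.Bijective (TensorProduct.piRightHom R R (Fin n → R) Q) := by
  -- the two vertical equivalences and the swap
  let e1 : (Fin n → R) ⊗[R] (∀ i, Q i) ≃ₗ[R] (Fin n → ∀ i, Q i) := finTensor n _
  let e2 : (∀ i, (Fin n → R) ⊗[R] Q i) ≃ₗ[R] (∀ i, Fin n → Q i) :=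
    LinearEquiv.piCongrRight (fun i => finTensor n (Q i))
  let sw : (Fin n → ∀ i, Q i) ≃ (∀ i, Fin n → Q i) :=
    ⟨fun a i k => a k i, fun b k i => b i k, fun _ => rfl, fun _ => rfl⟩
  have hcomm : ∀ x, e2 (TensorProduct.piRightHom R R (Fin n → R) Q x) = sw (e1 x) := by
    intro x
    induction x using TensorProduct.induction_on with
    | zero => simp only [map_zero]; rfl
    | tmul f q =>
      funext i k
      simp only [e2, e1, sw, TensorProduct.piRightHom_tmul, LinearEquiv.piCongrRight_apply,
        finTensor_tmul, Equiv.coe_fn_mk, Pi.smul_apply]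
    | add a b ha hb =>
      simp only [map_add, ha, hb]
      rfl
  have : (TensorProduct.piRightHom R R (Fin n → R) Q : _ → _) = e2.symm ∘ sw ∘ e1 := by
    funext x
    simp only [Function.comp_apply]
    rw [← hcomm, LinearEquiv.symm_apply_apply]
  rw [this]
  exact e2.symm.bijective.comp (sw.bijective.comp e1.bijective)

theorem piRightHom_surjective_of_finite (M : Type v) [AddCommGroup M] [Module R M]
    [Module.Finite R M] {ι : Type w} (Q : ι → Type v)
    [∀ i, AddCommGroup (Q i)] [∀ i, Module R (Q i)] :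
    Function.Surjective (TensorProduct.piRightHom R R M Q) := by
  obtain ⟨n, π, hπ⟩ := Module.Finite.exists_fin' R M
  intro y
  have h1 : ∀ i, ∃ z : (Fin n → R) ⊗[R] Q i, π.rTensor (Q i) z = y i := fun i =>
    LinearMap.rTensor_surjective (Q i) hπ (y i)
  choose z hz using h1
  obtain ⟨x, hx⟩ := (piRightHom_bijective_fin n Q).2 z
  refine ⟨π.rTensor _ x, ?_⟩
  rw [piRightHom_rTensor, hx]
  funext i
  exact hz i

theorem piRightHom_bijective_of_finitePresentation (M : Type v) [AddCommGroup M] [Module R M]
    [Module.FinitePresentation R M] {ι : Type w} (Q : ι → Type v)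
    [∀ i, AddCommGroup (Q i)] [∀ i, Module R (Q i)] :
    Function.Bijective (TensorProduct.piRightHom R R M Q) := by
  refine ⟨?_, piRightHom_surjective_of_finite M Q⟩
  obtain ⟨n, m, π, ρ, hπ, hex⟩ := Module.FinitePresentation.exists_fin' R M
  rw [injective_iff_map_eq_zero]
  intro x hx
  obtain ⟨x₀, rfl⟩ := LinearMap.rTensor_surjective (∀ i, Q i) hπ x
  rw [piRightHom_rTensor] at hx
  have h1 : ∀ i, ∃ z : (Fin m → R) ⊗[R] Q i, ρ.rTensor (Q i) z =
      TensorProduct.piRightHom R R (Fin n → R) Q x₀ i := by
    intro i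
    have := congrFun hx i
    exact (rTensor_exact (Q i) hex hπ _).mp this
  choose z hz using h1
  obtain ⟨x₁, hx₁⟩ := (piRightHom_bijective_fin m Q).2 z
  have h2 : ρ.rTensor _ x₁ = x₀ := by
    apply (piRightHom_bijective_fin n Q).1
    rw [piRightHom_rTensor, hx₁]
    funext i
    exact hz i
  rw [← h2, ← LinearMap.comp_apply, ← LinearMap.rTensor_comp]
  have : π ∘ₗ ρ = 0 := by
    ext v
    exact hex.apply_apply_eq_zero _
  rw [this, LinearMap.rTensor_zero, LinearMap.zero_apply]

end Groth.Agent.Lib.helper3.ML
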