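import Mathlib
import Groth.Agent.Lib.helper3.PairHzn10

/-!
# Henselization of a pair, part 11: descending a finitely presented algebra over a henselization
-/

universe u

open TensorProduct

namespace Groth.Agent.Lib.helper3.PairHzn

theorem isPairHenselization_descend (C₀ : Type u) [CommRing C₀] (K₀ : Ideal C₀)
    (B : Type u) [CommRing B] [Algebra C₀ B] (hB : Hens2.IsPairHenselization C₀ K₀ B)
    (m : ℕ) (G' : Finset (MvPolynomial (Fin m) C₀))
    (S : Type u) [CommRing S] [Algebra B S] (πS : MvPolynomial (Fin m) B →ₐ[B] S)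
    (hπS : Function.Surjective πS)
    (hker : RingHom.ker πS.toRingHom =
      Ideal.span ((fun g => MvPolynomial.map (algebraMap C₀ B) g) '' (G' : Set (MvPolynomial (Fin m) C₀))))
    (C : Type u) [CommRing C] [Algebra S C] (KS : Ideal S)
    (hKS : KS = K₀.map ((algebraMap B S).comp (algebraMap C₀ B)))
    (hC : Hens2.IsPairHenselization S KS C) :
    ∃ τ : (MvPolynomial (Fin m) C₀ ⧸ Ideal.span (G' : Set (MvPolynomial (Fin m) C₀))) →+* S,
      (∀ p, τ (Ideal.Quotient.mk _ p) = πS (MvPolynomial.map (algebraMap C₀ B) p)) ∧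
      (letI : Algebra (MvPolynomial (Fin m) C₀ ⧸ Ideal.span (G' : Set (MvPolynomial (Fin m) C₀))) C :=
        ((algebraMap S C).comp τ).toAlgebra
       Hens2.IsPairHenselization
        (MvPolynomial (Fin m) C₀ ⧸ Ideal.span (G' : Set (MvPolynomial (Fin m) C₀)))
        (K₀.map (algebraMap C₀ (MvPolynomial (Fin m) C₀ ⧸ Ideal.span (G' : Set (MvPolynomial (Fin m) C₀))))) C) := by
  classical
  set 𝔤 : Ideal (MvPolynomial (Fin m) C₀) := Ideal.span (G' : Set (MvPolynomial (Fin m) C₀)) with h𝔤
  let ι : C₀ →+* B := algebraMap C₀ B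
  let φ₀ : MvPolynomial (Fin m) C₀ →+* S := πS.toRingHom.comp (MvPolynomial.map ι)
  have hφ₀ : ∀ g ∈ 𝔤, φ₀ g = 0 := by
    intro g hg
    have hle : 𝔤 ≤ RingHom.ker φ₀ := by
      rw [h𝔤, Ideal.span_le]
      intro g' hg'
      rw [SetLike.mem_coe, RingHom.mem_ker]
      have : MvPolynomial.map ι g' ∈ RingHom.ker πS.toRingHom := by
        rw [hker]
        exact Ideal.subset_span ⟨g', hg', rfl⟩
      exact this
    exact hle hg
  let τ : (MvPolynomial (Fin m) C₀ ⧸ 𝔤) →+* S := Ideal.Quotient.lift 𝔤 φ₀ hφ₀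
  have hτ : ∀ p, τ (Ideal.Quotient.mk _ p) = πS (MvPolynomial.map ι p) := fun p => rfl
  refine ⟨τ, hτ, ?_⟩
  letI algTC : Algebra (MvPolynomial (Fin m) C₀ ⧸ 𝔤) C := ((algebraMap S C).comp τ).toAlgebra
  have hTC : ∀ t, algebraMap (MvPolynomial (Fin m) C₀ ⧸ 𝔤) C t = algebraMap S C (τ t) := fun t => rfl
  have hτC₀ : ∀ c : C₀, τ (algebraMap C₀ (MvPolynomial (Fin m) C₀ ⧸ 𝔤) c) = algebraMap B S (ι c) := by
    intro c
    change τ (Ideal.Quotient.mk _ (MvPolynomial.C c)) = _
    rw [hτ, MvPolynomial.map_C, ← MvPolynomial.algebraMap_eq, πS.commutes]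
  have hcompC₀ : (algebraMap (MvPolynomial (Fin m) C₀ ⧸ 𝔤) C).comp
      (algebraMap C₀ (MvPolynomial (Fin m) C₀ ⧸ 𝔤)) =
      (algebraMap S C).comp ((algebraMap B S).comp ι) := by
    ext c
    change algebraMap S C (τ _) = _
    rw [hτC₀]
    rfl
  refine ⟨?_, ?_⟩
  · have := hC.1
    rw [hKS, Ideal.map_map] at this
    rw [Ideal.map_map, hcompC₀]
    exact this
  · intro U _ L h hU hhL
    -- the map `B → U`
    let h₀ : C₀ →+* U := h.comp (algebraMap C₀ (MvPolynomial (Fin m) C₀ ⧸ 𝔤))
    have hh₀L : K₀.map h₀ ≤ L := by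
      rw [← Ideal.map_map]; exact hhL
    obtain ⟨β, hβ, hβu⟩ := hB.2 U L h₀ hU hh₀L
    let y : Fin m → U := fun i => h (Ideal.Quotient.mk _ (MvPolynomial.X i))
    let σt : MvPolynomial (Fin m) B →+* U := MvPolynomial.eval₂Hom β y
    -- `σt ∘ map ι = h ∘ mk`
    have hσtmap : ∀ p : MvPolynomial (Fin m) C₀, σt (MvPolynomial.map ι p) =
        h (Ideal.Quotient.mk _ p) := by
      intro p
      rw [MvPolynomial.eval₂Hom_map_hom]
      have : MvPolynomial.eval₂Hom (β.comp ι) y = h.comp (Ideal.Quotient.mk 𝔤) := by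
        apply MvPolynomial.ringHom_ext
        · intro c
          rw [MvPolynomial.eval₂Hom_C]
          exact RingHom.congr_fun hβ c
        · intro i
          rw [MvPolynomial.eval₂Hom_X']
          rfl
      rw [this]
      rfl
    have hσtker : ∀ g ∈ RingHom.ker πS.toRingHom, σt g = 0 := by
      intro g hg
      have hle : RingHom.ker πS.toRingHom ≤ RingHom.ker σt := by
        rw [hker, Ideal.span_le]
        rintro _ ⟨g', hg', rfl⟩
        rw [SetLike.mem_coe, RingHom.mem_ker, hσtmap]
        have : Ideal.Quotient.mk 𝔤 g' = 0 :=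
          Ideal.Quotient.eq_zero_iff_mem.mpr (Ideal.subset_span hg')
        rw [this, map_zero]
      exact hle hg
    let e : (MvPolynomial (Fin m) B ⧸ RingHom.ker πS.toRingHom) ≃+* S :=
      RingHom.quotientKerEquivOfSurjective hπS
    let σ : S →+* U := (Ideal.Quotient.lift _ σt hσtker).comp (e.symm : S →+* _)
    have hσπ : ∀ p, σ (πS p) = σt p := by
      intro p
      change Ideal.Quotient.lift _ σt hσtker (e.symm (πS p)) = _
      have : e.symm (πS p) = Ideal.Quotient.mk _ p := by
        apply e.injective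
        rw [RingEquiv.apply_symm_apply]
        rfl
      rw [this, Ideal.Quotient.lift_mk]
    have hστ : ∀ t, σ (τ t) = h t := by
      intro t
      obtain ⟨p, rfl⟩ := Ideal.Quotient.mk_surjective t
      rw [hτ, hσπ, hσtmap]
    have hσL : KS.map σ ≤ L := by
      rw [hKS, Ideal.map_map]
      have : σ.comp ((algebraMap B S).comp ι) = h₀ := by
        ext c
        change σ (algebraMap B S (ι c)) = h (algebraMap C₀ _ c)
        rw [← hτC₀, hστ]
      rw [this]
      exact hh₀L
    obtain ⟨γ, hγ, hγu⟩ := hC.2 U L σ hU hσL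
    refine ⟨γ, ?_, ?_⟩
    · apply RingHom.ext
      intro t
      change γ (algebraMap S C (τ t)) = h t
      have := RingHom.congr_fun hγ (τ t)
      change γ (algebraMap S C (τ t)) = σ (τ t) at this
      rw [this, hστ]
    · intro γ' hγ'
      apply hγu
      -- `σ' = γ' ∘ algebraMap S C` agrees with `σ`
      have hσ'τ : ∀ t, γ' (algebraMap S C (τ t)) = h t := fun t => RingHom.congr_fun hγ' t
      have hβ' : (γ'.comp (algebraMap S C)).comp (algebraMap B S) = β := by
        apply hβu
        ext c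
        change γ' (algebraMap S C (algebraMap B S (ι c))) = h (algebraMap C₀ _ c)
        rw [← hτC₀, hσ'τ]
      have hcomp : ((γ'.comp (algebraMap S C)).comp πS.toRingHom) = σt := by
        apply MvPolynomial.ringHom_ext
        · intro b
          change γ' (algebraMap S C (πS (MvPolynomial.C b))) = σt (MvPolynomial.C b)
          rw [← MvPolynomial.algebraMap_eq, πS.commutes, MvPolynomial.algebraMap_eq,
            MvPolynomial.eval₂Hom_C]
          exact RingHom.congr_fun hβ' b
        · intro i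
          change γ' (algebraMap S C (πS (MvPolynomial.X i))) = σt (MvPolynomial.X i)
          rw [MvPolynomial.eval₂Hom_X']
          have h1 : πS (MvPolynomial.X i) = τ (Ideal.Quotient.mk _ (MvPolynomial.X i)) := by
            rw [hτ, MvPolynomial.map_X]
          rw [h1, hσ'τ]
      ext s
      obtain ⟨p, rfl⟩ := hπS s
      change γ' (algebraMap S C (πS p)) = σ (πS p)
      rw [hσπ]
      exact RingHom.congr_fun hcomp p

end Groth.Agent.Lib.helper3.PairHzn
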