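import Mathlib
import Groth.Agent.Lib.helper3.PairHzn11
import Groth.Agent.Lib.helper3.HSmooth2
import Groth.Agent.Lib.helper3.PairFin
import Groth.Agent.S19568

/-!
# Descent from the henselization of a pair to étale neighbourhoods

* `tensor_kill`: an element of `A' ⊗[A] M` (with `A'` an étale neighbourhood of `(A, I)`) dying in
  `H ⊗[A] M` (`H` the henselization) is killed by some `s ∈ A'` with augmentation `1`.
-/

universe u

open TensorProduct Polynomial

namespace Groth.Agent.Lib.helper3.NbhdDescent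

open Groth.Agent.Lib.helper3.PairHzn

section kill

variable (A : Type u) [CommRing A] (I : Ideal A) (H : Type u) [CommRing H] [Algebra A H]
  (hH : Hens2.IsPairHenselization A I H)
  (A' : Type u) [CommRing A'] [Algebra A A'] [Algebra.Etale A A'] (χ : A' →ₐ[A] A ⧸ I)
  (hχ : IsAug I χ) (ψ : A' →ₐ[A] H)

include hH hχ in
/-- elements of `A' ⊗ M` dying in `H ⊗ M` are killed by an element of augmentation `1` -/
theorem tensor_kill (M : Type u) [AddCommGroup M] [Module A M] (z : A' ⊗[A] M)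
    (hz : LinearMap.rTensor M ψ.toLinearMap z = 0) : ∃ s : A', χ s = 1 ∧ s • z = 0 := by
  classical
  letI algA'H : Algebra A' H := ψ.toRingHom.toAlgebra
  haveI : IsScalarTower A A' H := IsScalarTower.of_algebraMap_eq (fun a => (ψ.commutes a).symm)
  have hH' := Groth.Agent.S19568.isPairHenselization_of_nbhd A I H hH A' χ hχ
  haveI : Module.Flat A' H :=
    Groth.Agent.Lib.helper3.HSmooth.flat_of_isPairHenselization A' _ H hH'
  have h1 : ∀ w : A' ⊗[A] M,
      TensorProduct.AlgebraTensorModule.cancelBaseChange A A' A' H M ((1 : H) ⊗ₜ[A'] w) =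
        LinearMap.rTensor M ψ.toLinearMap w := by
    intro w
    induction w with
    | zero => simp
    | tmul a m =>
      rw [TensorProduct.AlgebraTensorModule.cancelBaseChange_tmul, LinearMap.rTensor_tmul]
      congr 1
      rw [Algebra.smul_def, mul_one]; rfl
    | add x y hx hy => rw [TensorProduct.tmul_add, map_add, map_add, hx, hy]
  have h2 : (1 : H) ⊗ₜ[A'] z = 0 := by
    apply (TensorProduct.AlgebraTensorModule.cancelBaseChange A A' A' H M).injective
    rw [h1, hz, map_zero]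
  have h3 : z ⊗ₜ[A'] (1 : H) = 0 := by
    have := congrArg (TensorProduct.comm A' H (A' ⊗[A] M)) h2
    simpa using this
  have hinj : Function.Injective (LinearMap.rTensor H
      (Submodule.span A' (Set.range (fun _ : Fin 1 => z))).subtype) :=
    Module.Flat.rTensor_preserves_injective_linearMap _ (Submodule.injective_subtype _)
  have h4 : ∑ i : Fin 1, (fun _ => z) i ⊗ₜ[A'] (fun _ => (1 : H)) i = 0 := by simpa using h3
  obtain ⟨k, a, y, hy1, hy2⟩ :=
    TensorProduct.vanishesTrivially_of_sum_tmul_eq_zero_of_rTensor_injective A' hinj h4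
  obtain ⟨π, hπ, -⟩ := Groth.Agent.Lib.helper3.HSmooth.exists_retraction A I H hH
  have hπψ : ∀ x : A', π (ψ x) = χ x := by
    let χ₂ : A' →ₐ[A] A ⧸ I :=
      { π.comp ψ.toRingHom with
        commutes' := fun r => by
          change π (ψ (algebraMap A A' r)) = _
          rw [ψ.commutes]
          exact RingHom.congr_fun hπ r }
    have := aug_unique I χ hχ χ₂
    intro x
    exact AlgHom.congr_fun this x
  have hsurj : ∀ q : A ⧸ I, ∃ c : A', χ c = q := by
    intro q
    obtain ⟨r, rfl⟩ := Ideal.Quotient.mk_surjective q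
    exact ⟨algebraMap A A' r, χ.commutes r⟩
  choose c hc using fun j => hsurj (π (y j))
  refine ⟨∑ j, a 0 j * c j, ?_, ?_⟩
  · have e1 := congrArg π (hy1 0)
    rw [map_one, map_sum] at e1
    rw [map_sum, e1]
    refine Finset.sum_congr rfl fun j _ => ?_
    rw [map_mul, hc, Algebra.smul_def, map_mul]
    congr 1
    exact (hπψ _).symm
  · rw [Finset.sum_smul]
    refine Finset.sum_eq_zero fun j _ => ?_
    have := hy2 j
    rw [Fin.sum_univ_one] at this
    rw [mul_comm, mul_smul, this, smul_zero]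

end kill

section ker

variable (A : Type u) [CommRing A] (I : Ideal A) (B : Type u) [CommRing B] [Algebra A B]

/-- the kernel of `A₁ ⊗ B → A₁ ⊗ B/IB` is `I (A₁ ⊗ B)` -/
theorem ker_map_mk (A₁ : Type u) [CommRing A₁] [Algebra A A₁] :
    RingHom.ker (Algebra.TensorProduct.map (AlgHom.id A A₁)
      (Ideal.Quotient.mkₐ A (I.map (algebraMap A B)))) = I.map (algebraMap A (A₁ ⊗[A] B)) := by
  have hk : RingHom.ker (Ideal.Quotient.mkₐ A (I.map (algebraMap A B))) =
      I.map (algebraMap A B) := by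
    ext x
    rw [RingHom.mem_ker, Ideal.Quotient.mkₐ_eq_mk, Ideal.Quotient.eq_zero_iff_mem]
  rw [Algebra.TensorProduct.lTensor_ker _ (Ideal.Quotient.mkₐ_surjective A _), hk]
  change ((I.map (algebraMap A B)).map
    (Algebra.TensorProduct.includeRight : B →ₐ[A] A₁ ⊗[A] B).toRingHom) = _
  rw [Ideal.map_map]
  congr 1
  ext a
  exact (Algebra.TensorProduct.includeRight : B →ₐ[A] A₁ ⊗[A] B).commutes a

end ker

section partI

variable (A : Type u) [CommRing A] (I : Ideal A) (B : Type u) [CommRing B] [Algebra A B]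
  (H : Type u) [CommRing H] [Algebra A H] (hH : Hens2.IsPairHenselization A I H)
  (A' : Type u) [CommRing A'] [Algebra A A'] [Algebra.Etale A A'] (χ : A' →ₐ[A] A ⧸ I)
  (hχ : IsAug I χ) (ψ : A' →ₐ[A] H)

theorem rTensor_eq (M : Type u) [CommRing M] [Algebra A M] (t : A' ⊗[A] M) :
    LinearMap.rTensor M ψ.toLinearMap t = Algebra.TensorProduct.map ψ (AlgHom.id A M) t := by
  induction t with
  | zero => simp
  | tmul a b => simp
  | add x y hx hy => rw [map_add, map_add, hx, hy]

include hH hχ in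
theorem kill_T (t : A' ⊗[A] B) (ht : Algebra.TensorProduct.map ψ (AlgHom.id A B) t = 0) :
    ∃ s : A', χ s = 1 ∧ algebraMap A' (A' ⊗[A] B) s * t = 0 := by
  obtain ⟨s, hs, hst⟩ := tensor_kill A I H hH A' χ hχ ψ B t (by rw [rTensor_eq, ht])
  exact ⟨s, hs, by rw [← Algebra.smul_def]; exact hst⟩

include hH hχ in
theorem kill_mod (g' : A' ⊗[A] B)
    (h : Algebra.TensorProduct.map ψ (AlgHom.id A B) g' - 1 ∈
      I.map (algebraMap A (H ⊗[A] B))) :
    ∃ s : A', χ s = 1 ∧
      algebraMap A' (A' ⊗[A] B) s * (g' - 1) ∈ I.map (algebraMap A (A' ⊗[A] B)) := by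
  set Q := B ⧸ I.map (algebraMap A B) with hQ
  let ρ' := Algebra.TensorProduct.map (AlgHom.id A A')
      (Ideal.Quotient.mkₐ A (I.map (algebraMap A B)))
  let ρ := Algebra.TensorProduct.map (AlgHom.id A H)
      (Ideal.Quotient.mkₐ A (I.map (algebraMap A B)))
  have hcomm : ∀ t : A' ⊗[A] B, Algebra.TensorProduct.map ψ (AlgHom.id A Q) (ρ' t) =
      ρ (Algebra.TensorProduct.map ψ (AlgHom.id A B) t) := by
    intro t
    induction t with
    | zero => simp
    | tmul a b => simp [ρ, ρ']
    | add x y hx hy => rw [map_add, map_add, map_add, map_add, hx, hy]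
  have h0 : ρ (Algebra.TensorProduct.map ψ (AlgHom.id A B) (g' - 1)) = 0 := by
    rw [map_sub, map_one, ← RingHom.mem_ker]
    change _ ∈ RingHom.ker ρ
    rw [ker_map_mk]
    exact h
  obtain ⟨s, hs, hst⟩ := tensor_kill A I H hH A' χ hχ ψ Q (ρ' (g' - 1))
    (by rw [rTensor_eq, hcomm, h0])
  refine ⟨s, hs, ?_⟩
  rw [← ker_map_mk, RingHom.mem_ker]
  change ρ' _ = 0
  have e1 : ρ' (algebraMap A' (A' ⊗[A] B) s) = algebraMap A' (A' ⊗[A] Q) s := by
    simp [ρ', Algebra.TensorProduct.algebraMap_apply]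
    rfl
  have e2 : algebraMap A' (A' ⊗[A] Q) s * ρ' (g' - 1) = s • ρ' (g' - 1) :=
    (Algebra.smul_def s _).symm
  rw [map_mul, e1, e2, hst]

include hH hχ in
theorem kill_away (g' : A' ⊗[A] B) (L : Type u) [CommRing L] [Algebra (H ⊗[A] B) L]
    (g₀ : H ⊗[A] B) [IsLocalization.Away g₀ L]
    (hg : Algebra.TensorProduct.map ψ (AlgHom.id A B) g' = g₀)
    (Λ : Localization.Away g' →+* L)
    (hΛ : ∀ t : A' ⊗[A] B, Λ (algebraMap (A' ⊗[A] B) (Localization.Away g') t) =
      algebraMap (H ⊗[A] B) L (Algebra.TensorProduct.map ψ (AlgHom.id A B) t))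
    (w : Localization.Away g') (hw : Λ w = 0) :
    ∃ s : A', χ s = 1 ∧ algebraMap A' (Localization.Away g') s * w = 0 := by
  obtain ⟨n, t, ht⟩ := IsLocalization.Away.surj g' w
  have h1 : algebraMap (H ⊗[A] B) L (Algebra.TensorProduct.map ψ (AlgHom.id A B) t) = 0 := by
    rw [← hΛ, ← ht, map_mul, hw, zero_mul]
  rw [IsLocalization.map_eq_zero_iff (Submonoid.powers g₀)] at h1
  obtain ⟨⟨_, m, rfl⟩, hm⟩ := h1
  have h2 : Algebra.TensorProduct.map ψ (AlgHom.id A B) (g' ^ m * t) = 0 := by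
    rw [map_mul, map_pow, hg]; exact hm
  obtain ⟨s, hs, hst⟩ := kill_T A I B H hH A' χ hχ ψ (g' ^ m * t) h2
  refine ⟨s, hs, ?_⟩
  have hu : IsUnit (algebraMap (A' ⊗[A] B) (Localization.Away g') g') :=
    IsLocalization.Away.algebraMap_isUnit g'
  have h3 := congrArg (algebraMap (A' ⊗[A] B) (Localization.Away g')) hst
  rw [map_mul, map_mul, map_pow, map_zero, ← ht,
    ← IsScalarTower.algebraMap_apply A' (A' ⊗[A] B) (Localization.Away g')] at h3
  have h4 : algebraMap A' (Localization.Away g') s * w *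
      (algebraMap (A' ⊗[A] B) (Localization.Away g') g') ^ (m + n) = 0 := by
    rw [pow_add]; linear_combination h3
  exact (hu.pow (m + n)).mul_left_eq_zero.mp h4

include hH hχ in
theorem kill_aeval (g' : A' ⊗[A] B) (L : Type u) [CommRing L] [Algebra (H ⊗[A] B) L]
    [Algebra H L] [IsScalarTower H (H ⊗[A] B) L]
    (g₀ : H ⊗[A] B) [IsLocalization.Away g₀ L]
    (hg : Algebra.TensorProduct.map ψ (AlgHom.id A B) g' = g₀)
    (Λ : Localization.Away g' →+* L)
    (hΛ : ∀ t : A' ⊗[A] B, Λ (algebraMap (A' ⊗[A] B) (Localization.Away g') t) =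
      algebraMap (H ⊗[A] B) L (Algebra.TensorProduct.map ψ (AlgHom.id A B) t))
    (w : Localization.Away g') (P' : A'[X])
    (h : Polynomial.aeval (Λ w) (P'.map ψ.toRingHom) = 0) :
    ∃ s : A', χ s = 1 ∧
      algebraMap A' (Localization.Away g') s * Polynomial.aeval w P' = 0 := by
  apply kill_away A I B H hH A' χ hχ ψ g' L g₀ hg Λ hΛ
  have hc : Λ.comp (algebraMap A' (Localization.Away g')) =
      (algebraMap H L).comp ψ.toRingHom := by
    ext a
    rw [RingHom.comp_apply, RingHom.comp_apply,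
      IsScalarTower.algebraMap_apply A' (A' ⊗[A] B) (Localization.Away g'), hΛ,
      IsScalarTower.algebraMap_apply H (H ⊗[A] B) L,
      Algebra.TensorProduct.algebraMap_apply, Algebra.TensorProduct.algebraMap_apply,
      Algebra.TensorProduct.map_tmul]
    simp
  rw [Polynomial.aeval_def, Polynomial.hom_eval₂, hc, ← Polynomial.eval₂_map,
    ← Polynomial.aeval_def]
  exact h

end partI

section descend

variable (A : Type u) [CommRing A] (I : Ideal A) (B : Type u) [CommRing B] [Algebra A B]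
  (H : Type u) [CommRing H] [Algebra A H] (hH : Hens2.IsPairHenselization A I H)

include hH in
/-- descent of the finite-part data from the henselization to an étale neighbourhood -/
theorem descend (S : Finset B) (g₀ : H ⊗[A] B)
    (hg1 : g₀ - 1 ∈ I.map (algebraMap A (H ⊗[A] B)))
    (hfin : Module.Finite H (Localization.Away g₀)) :
    ∃ (A' : Type u) (_ : CommRing A') (_ : Algebra A A') (_ : Algebra.Etale A A')
      (χ : A' →ₐ[A] A ⧸ I) (_ : IsAug I χ) (g' : A' ⊗[A] B) (s : A'),
      χ s = 1 ∧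
      algebraMap A' (A' ⊗[A] B) s * (g' - 1) ∈ I.map (algebraMap A (A' ⊗[A] B)) ∧
      (∀ x ∈ S, ∃ P' : A'[X], P'.Monic ∧ algebraMap A' (Localization.Away g') s *
         Polynomial.aeval (algebraMap (A' ⊗[A] B) (Localization.Away g') (1 ⊗ₜ x)) P' = 0) ∧
      (∃ P' : A'[X], P'.Monic ∧ algebraMap A' (Localization.Away g') s *
         Polynomial.aeval (IsLocalization.Away.invSelf (S := Localization.Away g') g') P' = 0) := by
  classical
  haveI : Algebra.IsIntegral H (Localization.Away g₀) :=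
    Algebra.IsIntegral.of_finite H (Localization.Away g₀)
  have hint : ∀ l : Localization.Away g₀, ∃ p : H[X], p.Monic ∧ Polynomial.aeval l p = 0 := fun l =>
    Algebra.IsIntegral.isIntegral (R := H) l
  choose P hPm hP0 using hint
  obtain ⟨K, hK⟩ := TensorProduct.exists_finset g₀
  let l : B → Localization.Away g₀ := fun x =>
    algebraMap (H ⊗[A] B) (Localization.Away g₀) (1 ⊗ₜ x)
  let l₀ : Localization.Away g₀ := IsLocalization.Away.invSelf (S := Localization.Away g₀) g₀
  let F : Finset H := K.image Prod.fst ∪ (P l₀).coeffs ∪ S.biUnion (fun x => (P (l x)).coeffs)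
  obtain ⟨A', _, _, _, χ, hχ, ψ, hψ⟩ := exists_common_nbhd A I H hH F
  refine ⟨A', inferInstance, inferInstance, inferInstance, χ, hχ, ?_⟩
  have hlift : ∀ p : H[X], (p.coeffs ⊆ F) → p.Monic →
      ∃ q : A'[X], q.map ψ.toRingHom = p ∧ q.Monic := by
    intro p hp hpm
    have : p ∈ Polynomial.lifts ψ.toRingHom := by
      rw [Polynomial.lifts_iff_coeff_lifts]
      intro n
      by_cases h0 : p.coeff n = 0
      · exact ⟨0, by rw [h0, map_zero]⟩
      · obtain ⟨c, hc⟩ := hψ _ (hp (Polynomial.coeff_mem_coeffs h0))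
        exact ⟨c, hc⟩
    obtain ⟨q, hq, -, hqm⟩ := Polynomial.lifts_and_natDegree_eq_and_monic this hpm
    exact ⟨q, hq, hqm⟩
  obtain ⟨P₀', hP₀', hP₀'m⟩ := hlift (P l₀) (fun c hc => by
    simp only [F, Finset.mem_union]; exact Or.inl (Or.inr hc)) (hPm l₀)
  have hSx : ∀ x : B, x ∈ S → ∃ q : A'[X], q.map ψ.toRingHom = P (l x) ∧ q.Monic := by
    intro x hx
    refine hlift (P (l x)) (fun c hc => ?_) (hPm (l x))
    simp only [F, Finset.mem_union]
    exact Or.inr (Finset.mem_biUnion.mpr ⟨x, hx, hc⟩)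
  -- the element `g'`
  let cfun : H → A' := fun h => if hh : ∃ c, ψ c = h then hh.choose else 0
  have hcfun : ∀ p ∈ K, ψ (cfun p.1) = p.1 := by
    intro p hp
    have hh : ∃ c, ψ c = p.1 := hψ _ (by
      simp only [F, Finset.mem_union]
      exact Or.inl (Or.inl (Finset.mem_image_of_mem _ hp)))
    simp only [cfun, dif_pos hh]
    exact hh.choose_spec
  let g' : A' ⊗[A] B := ∑ p ∈ K, cfun p.1 ⊗ₜ p.2
  have hg : Algebra.TensorProduct.map ψ (AlgHom.id A B) g' = g₀ := by
    rw [hK, map_sum]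
    refine Finset.sum_congr rfl fun p hp => ?_
    rw [Algebra.TensorProduct.map_tmul, hcfun p hp]
    rfl
  refine ⟨g', ?_⟩
  have hu : IsUnit (((algebraMap (H ⊗[A] B) (Localization.Away g₀)).comp
      (Algebra.TensorProduct.map ψ (AlgHom.id A B)).toRingHom) g') := by
    change IsUnit (algebraMap (H ⊗[A] B) (Localization.Away g₀)
      (Algebra.TensorProduct.map ψ (AlgHom.id A B) g'))
    rw [hg]
    exact IsLocalization.Away.algebraMap_isUnit g₀
  let Λ : Localization.Away g' →+* Localization.Away g₀ := IsLocalization.Away.lift g' hu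
  have hΛ : ∀ t : A' ⊗[A] B, Λ (algebraMap (A' ⊗[A] B) (Localization.Away g') t) =
      algebraMap (H ⊗[A] B) (Localization.Away g₀)
        (Algebra.TensorProduct.map ψ (AlgHom.id A B) t) := fun t =>
    IsLocalization.Away.lift_eq g' hu t
  -- the killing elements
  obtain ⟨s₀, hs₀, hs₀g⟩ := kill_mod A I B H hH A' χ hχ ψ g' (by rw [hg]; exact hg1)
  have hkx : ∀ x : B, x ∈ S → ∃ P' : A'[X], P'.Monic ∧ ∃ sx : A', χ sx = 1 ∧
      algebraMap A' (Localization.Away g') sx *
        Polynomial.aeval (algebraMap (A' ⊗[A] B) (Localization.Away g') (1 ⊗ₜ x)) P' = 0 := by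
    intro x hx
    obtain ⟨q, hq, hqm⟩ := hSx x hx
    refine ⟨q, hqm, ?_⟩
    apply kill_aeval A I B H hH A' χ hχ ψ g' (Localization.Away g₀) g₀ hg Λ hΛ
    rw [hq, hΛ, Algebra.TensorProduct.map_tmul, map_one]
    exact hP0 (l x)
  obtain ⟨sγ, hsγ, hsγ0⟩ : ∃ sγ : A', χ sγ = 1 ∧
      algebraMap A' (Localization.Away g') sγ *
        Polynomial.aeval (IsLocalization.Away.invSelf (S := Localization.Away g') g') P₀' = 0 := by
    apply kill_aeval A I B H hH A' χ hχ ψ g' (Localization.Away g₀) g₀ hg Λ hΛ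
    have e1 : Λ (IsLocalization.Away.invSelf (S := Localization.Away g') g') = l₀ := by
      have h1 : algebraMap (H ⊗[A] B) (Localization.Away g₀)
          (Algebra.TensorProduct.map ψ (AlgHom.id A B) g') *
          Λ (IsLocalization.Away.invSelf (S := Localization.Away g') g') = 1 := by
        rw [← hΛ, ← map_mul, IsLocalization.Away.mul_invSelf, map_one]
      rw [hg] at h1
      have h2 : algebraMap (H ⊗[A] B) (Localization.Away g₀) g₀ * l₀ = 1 :=
        IsLocalization.Away.mul_invSelf g₀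
      exact (IsLocalization.Away.algebraMap_isUnit (S := Localization.Away g₀) g₀).mul_left_cancel
        (h1.trans h2.symm)
    rw [hP₀', e1]
    exact hP0 l₀
  choose! Px hPxm sx hsx hsx0 using hkx
  refine ⟨s₀ * sγ * ∏ x ∈ S, sx x, ?_, ?_, ?_, ?_⟩
  · rw [map_mul, map_mul, hs₀, hsγ, map_prod, Finset.prod_eq_one (fun x hx => hsx x hx)]
    simp
  · have : algebraMap A' (A' ⊗[A] B) (s₀ * sγ * ∏ x ∈ S, sx x) * (g' - 1) =
        algebraMap A' (A' ⊗[A] B) (sγ * ∏ x ∈ S, sx x) *
          (algebraMap A' (A' ⊗[A] B) s₀ * (g' - 1)) := by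
      simp only [map_mul]; ring
    rw [this]
    exact Ideal.mul_mem_left _ _ hs₀g
  · intro x hx
    refine ⟨Px x, hPxm x hx, ?_⟩
    have h1 : s₀ * sγ * ∏ y ∈ S, sx y = (s₀ * sγ * ∏ y ∈ S.erase x, sx y) * sx x := by
      rw [← Finset.mul_prod_erase S sx hx]; ring
    rw [h1, map_mul, mul_assoc, hsx0 x hx, mul_zero]
  · refine ⟨P₀', hP₀'m, ?_⟩
    have h1 : s₀ * sγ * ∏ y ∈ S, sx y = (s₀ * ∏ y ∈ S, sx y) * sγ := by ring
    rw [h1, map_mul, mul_assoc, hsγ0, mul_zero]

end descend

end Groth.Agent.Lib.helper3.NbhdDescent
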