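import Mathlib
import Groth.Agent.Lib.helper3.NbhdDescent

/-!
# From descended data to a finite étale neighbourhood (algebra part of S17976)
-/

universe u

open TensorProduct Polynomial

namespace Groth.Agent.Lib.helper3.NbhdFinite

open Groth.Agent.Lib.helper3.PairHzn

attribute [local instance] Algebra.TensorProduct.rightAlgebra

section aug

variable {A : Type u} [CommRing A] (I : Ideal A) {A₁ : Type u} [CommRing A₁] [Algebra A A₁]
  (χ : A₁ →ₐ[A] A ⧸ I) (hχ : IsAug I χ)

include hχ in
theorem surj_ker_of_aug :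
    Function.Surjective ((Ideal.Quotient.mk (Ideal.map (algebraMap A A₁) I)).comp
      (algebraMap A A₁)) ∧
    RingHom.ker ((Ideal.Quotient.mk (Ideal.map (algebraMap A A₁) I)).comp (algebraMap A A₁)) = I := by
  have hb := bijective_of_aug I χ hχ
  constructor
  · intro y
    obtain ⟨x, hx⟩ := hb.2 y
    obtain ⟨a, rfl⟩ := Ideal.Quotient.mk_surjective x
    exact ⟨a, by rw [← hx, Ideal.quotientMap_mk]; rfl⟩
  · ext a
    rw [RingHom.mem_ker, RingHom.comp_apply]
    constructor
    · intro h
      have h1 : Ideal.quotientMap (I.map (algebraMap A A₁)) (algebraMap A A₁) Ideal.le_comap_map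
          (Ideal.Quotient.mk I a) = 0 := by rw [Ideal.quotientMap_mk]; exact h
      have h2 := hb.1 (h1.trans (map_zero _).symm)
      exact Ideal.Quotient.eq_zero_iff_mem.mp h2
    · intro h
      exact Ideal.Quotient.eq_zero_iff_mem.mpr (Ideal.mem_map_of_mem _ h)

end aug

section gen

variable (A : Type u) [CommRing A] (B : Type u) [CommRing B] [Algebra A B]
  (A' : Type u) [CommRing A'] [Algebra A A']
  (g' : A' ⊗[A] B) (s : A')
  (C : Type u) [CommRing C] [Algebra (A' ⊗[A] B) C]
  [Algebra A' C] [IsScalarTower A' (A' ⊗[A] B) C] [Algebra B C] [IsScalarTower B (A' ⊗[A] B) C]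
  [IsLocalization.Away (g' * algebraMap A' (A' ⊗[A] B) s) C]

theorem gen_lemma (𝒮 : Subring C)
    (h1 : ∀ a' : A', algebraMap A' C a' ∈ 𝒮)
    (h2 : ∀ b : B, algebraMap B C b ∈ 𝒮)
    (ug us : C)
    (hug : ug * algebraMap (A' ⊗[A] B) C g' = 1)
    (hus : us * algebraMap A' C s = 1) (hug' : ug ∈ 𝒮) (hus' : us ∈ 𝒮) :
    ∀ c : C, c ∈ 𝒮 := by
  intro c
  have hT : ∀ t : A' ⊗[A] B, algebraMap (A' ⊗[A] B) C t ∈ 𝒮 := by
    intro t
    induction t with
    | zero => rw [map_zero]; exact 𝒮.zero_mem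
    | tmul a b =>
      have : a ⊗ₜ[A] b = algebraMap A' (A' ⊗[A] B) a * algebraMap B (A' ⊗[A] B) b := by
        rw [Algebra.TensorProduct.algebraMap_apply,
          Algebra.TensorProduct.algebraMap_eq_includeRight]
        simp
      rw [this, map_mul, ← IsScalarTower.algebraMap_apply, ← IsScalarTower.algebraMap_apply]
      exact 𝒮.mul_mem (h1 a) (h2 b)
    | add x y hx hy => rw [map_add]; exact 𝒮.add_mem hx hy
  obtain ⟨n, t, ht⟩ := IsLocalization.Away.surj (S := C)
    (g' * algebraMap A' (A' ⊗[A] B) s) c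
  have h3 : algebraMap (A' ⊗[A] B) C (g' * algebraMap A' (A' ⊗[A] B) s) *
      (ug * us) = 1 := by
    rw [map_mul, ← IsScalarTower.algebraMap_apply]
    linear_combination (us * algebraMap A' C s) * hug + hus
  have h4 : c = algebraMap (A' ⊗[A] B) C t * (ug * us) ^ n := by
    rw [← ht, mul_assoc, ← mul_pow, h3, one_pow, mul_one]
  rw [h4]
  exact 𝒮.mul_mem (hT t) (𝒮.pow_mem (𝒮.mul_mem hug' hus') n)

omit [Algebra B C] [IsScalarTower B (A' ⊗[A] B) C]
  [IsLocalization.Away (g' * algebraMap A' (A' ⊗[A] B) s) C] in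
theorem isUnit_s (_h : IsLocalization.Away (g' * algebraMap A' (A' ⊗[A] B) s) C) :
    IsUnit (algebraMap A' C s) := by
  have h := IsLocalization.Away.algebraMap_isUnit (S := C) (g' * algebraMap A' (A' ⊗[A] B) s)
  rw [map_mul, ← IsScalarTower.algebraMap_apply] at h
  exact isUnit_of_mul_isUnit_right h

omit [Algebra B C] [IsScalarTower B (A' ⊗[A] B) C]
  [IsLocalization.Away (g' * algebraMap A' (A' ⊗[A] B) s) C] [Algebra A' C]
  [IsScalarTower A' (A' ⊗[A] B) C] in
theorem isUnit_g (_h : IsLocalization.Away (g' * algebraMap A' (A' ⊗[A] B) s) C) :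
    IsUnit (algebraMap (A' ⊗[A] B) C g') := by
  have h := IsLocalization.Away.algebraMap_isUnit (S := C) (g' * algebraMap A' (A' ⊗[A] B) s)
  rw [map_mul] at h
  exact isUnit_of_mul_isUnit_left h

end gen

section fin

variable (A : Type u) [CommRing A] (I : Ideal A) (B : Type u) [CommRing B] [Algebra A B]
  (A' : Type u) [CommRing A'] [Algebra A A'] (χ : A' →ₐ[A] A ⧸ I) (hχ : IsAug I χ)
  (g' : A' ⊗[A] B) (s : A') (hs : χ s = 1)
  (C : Type u) [CommRing C] [Algebra (A' ⊗[A] B) C]
  [Algebra A' C] [IsScalarTower A' (A' ⊗[A] B) C] [Algebra B C] [IsScalarTower B (A' ⊗[A] B) C]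
  [IsLocalization.Away (g' * algebraMap A' (A' ⊗[A] B) s) C]
  [Algebra (Localization.Away g') C] [IsScalarTower (A' ⊗[A] B) (Localization.Away g') C]
  [IsScalarTower A' (Localization.Away g') C]
  [Algebra A C] [IsScalarTower A A' C] [IsScalarTower A B C] [IsScalarTower A (A' ⊗[A] B) C]
  (A'' : Type u) [CommRing A''] [Algebra A' A''] [IsLocalization.Away s A''] [Algebra A'' C]
  [IsScalarTower A' A'' C]

theorem finite_CC [Algebra.FiniteType A B] (S : Finset B)
    (hS : Algebra.adjoin A (S : Set B) = ⊤)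
    (hβ : ∀ x ∈ S, ∃ P' : A'[X], P'.Monic ∧ algebraMap A' (Localization.Away g') s *
      Polynomial.aeval (algebraMap (A' ⊗[A] B) (Localization.Away g') (1 ⊗ₜ x)) P' = 0)
    (hγ : ∃ P' : A'[X], P'.Monic ∧ algebraMap A' (Localization.Away g') s *
      Polynomial.aeval (IsLocalization.Away.invSelf (S := Localization.Away g') g') P' = 0) :
    Module.Finite A'' C := by
  have hus := isUnit_s A B A' g' s C inferInstance
  have key : ∀ (w : Localization.Away g') (P' : A'[X]), P'.Monic →
      algebraMap A' (Localization.Away g') s * Polynomial.aeval w P' = 0 →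
      IsIntegral A'' (algebraMap (Localization.Away g') C w) := by
    intro w P' hP' h0
    have h1 := congrArg (algebraMap (Localization.Away g') C) h0
    rw [map_mul, map_zero, ← IsScalarTower.algebraMap_apply A' (Localization.Away g') C] at h1
    have h2 : algebraMap (Localization.Away g') C (Polynomial.aeval w P') = 0 :=
      hus.mul_right_eq_zero.mp h1
    rw [← Polynomial.aeval_algebraMap_apply] at h2
    have h3 : IsIntegral A' (algebraMap (Localization.Away g') C w) := ⟨P', hP', h2⟩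
    exact h3.tower_top
  have h1 : ∀ a' : A', IsIntegral A'' (algebraMap A' C a') := by
    intro a'
    rw [IsScalarTower.algebraMap_apply A' A'' C]
    exact isIntegral_algebraMap
  have h2 : ∀ b : B, IsIntegral A'' (algebraMap B C b) := by
    intro b
    have hb : b ∈ Algebra.adjoin A (S : Set B) := by rw [hS]; exact Algebra.mem_top
    induction hb using Algebra.adjoin_induction with
    | mem x hx =>
      obtain ⟨P', hP', h0⟩ := hβ x hx
      have := key _ P' hP' h0
      rw [← IsScalarTower.algebraMap_apply (A' ⊗[A] B) (Localization.Away g') C] at this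
      have e : algebraMap B C x = algebraMap (A' ⊗[A] B) C (1 ⊗ₜ x) := by
        rw [IsScalarTower.algebraMap_apply B (A' ⊗[A] B) C,
          Algebra.TensorProduct.algebraMap_eq_includeRight]
        rfl
      rw [e]; exact this
    | algebraMap a =>
      rw [← IsScalarTower.algebraMap_apply A B C, IsScalarTower.algebraMap_apply A A' C]
      exact h1 _
    | add x y _ _ hx hy => rw [map_add]; exact hx.add hy
    | mul x y _ _ hx hy => rw [map_mul]; exact hx.mul hy
  obtain ⟨P₀, hP₀, h0⟩ := hγ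
  have hug := key _ P₀ hP₀ h0
  have hug1 : algebraMap (Localization.Away g') C
      (IsLocalization.Away.invSelf (S := Localization.Away g') g') *
        algebraMap (A' ⊗[A] B) C g' = 1 := by
    rw [IsScalarTower.algebraMap_apply (A' ⊗[A] B) (Localization.Away g') C, ← map_mul,
      mul_comm, IsLocalization.Away.mul_invSelf, map_one]
  have hus1 : algebraMap A'' C (IsLocalization.Away.invSelf (S := A'') s) *
      algebraMap A' C s = 1 := by
    rw [IsScalarTower.algebraMap_apply A' A'' C, ← map_mul, mul_comm,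
      IsLocalization.Away.mul_invSelf, map_one]
  haveI : Algebra.IsIntegral A'' C := ⟨fun c =>
    gen_lemma A B A' g' s C (integralClosure A'' C).toSubring h1 h2 _ _ hug1 hus1 hug
      isIntegral_algebraMap c⟩
  haveI : Algebra.FiniteType A' (A' ⊗[A] B) := inferInstance
  haveI : Algebra.FiniteType (A' ⊗[A] B) C :=
    IsLocalization.finiteType_of_monoid_fg
      (Submonoid.powers (g' * algebraMap A' (A' ⊗[A] B) s)) C
  haveI : Algebra.FiniteType A' C :=
    Algebra.FiniteType.trans ‹Algebra.FiniteType A' (A' ⊗[A] B)› ‹_›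
  haveI : Algebra.FiniteType A'' C := Algebra.FiniteType.of_restrictScalars_finiteType A' A'' C
  exact Algebra.IsIntegral.finite

include hχ hs in
theorem mem_IC (hα : algebraMap A' (A' ⊗[A] B) s * (g' - 1) ∈ I.map (algebraMap A (A' ⊗[A] B))) :
    algebraMap A' C s - 1 ∈ I.map (algebraMap A C) ∧
      algebraMap (A' ⊗[A] B) C g' - 1 ∈ I.map (algebraMap A C) := by
  have hus := isUnit_s A B A' g' s C inferInstance
  have e_s : algebraMap A' C s - 1 ∈ I.map (algebraMap A C) := by
    have h1 : s - 1 ∈ RingHom.ker χ := by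
      rw [RingHom.mem_ker, map_sub, hs, map_one, sub_self]
    have h2 := algebraMap_mem_of_mem (D := C) I (hχ h1)
    rwa [map_sub, map_one] at h2
  refine ⟨e_s, ?_⟩
  have h3 := algebraMap_mem_of_mem (D := C) I hα
  rw [map_mul, map_sub, map_one, ← IsScalarTower.algebraMap_apply] at h3
  obtain ⟨us, hus1⟩ := hus.exists_left_inv
  have h4 : algebraMap (A' ⊗[A] B) C g' - 1 =
      us * (algebraMap A' C s * (algebraMap (A' ⊗[A] B) C g' - 1)) := by
    rw [← mul_assoc, hus1, one_mul]
  rw [h4]
  exact Ideal.mul_mem_left _ _ h3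

include hχ hs in
theorem surj_CC
    (hα : algebraMap A' (A' ⊗[A] B) s * (g' - 1) ∈ I.map (algebraMap A (A' ⊗[A] B))) :
    Function.Surjective ((Ideal.Quotient.mk (Ideal.map (algebraMap A C) I)).comp
      (algebraMap B C)) := by
  obtain ⟨e_s, e_g⟩ := mem_IC A I B A' χ hχ g' s hs C hα
  obtain ⟨us, hus1⟩ := (isUnit_s A B A' g' s C inferInstance).exists_left_inv
  obtain ⟨ug, hug1⟩ := (isUnit_g A B A' g' s C inferInstance).exists_left_inv
  set IC := I.map (algebraMap A C) with hIC
  let 𝒮 : Subring C := Subring.comap (Ideal.Quotient.mk IC)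
    (RingHom.range ((Ideal.Quotient.mk IC).comp (algebraMap B C)))
  have hmem : ∀ c : C, c ∈ 𝒮 ↔ ∃ b : B, c - algebraMap B C b ∈ IC := by
    intro c
    change (∃ b, ((Ideal.Quotient.mk IC).comp (algebraMap B C)) b = Ideal.Quotient.mk IC c) ↔ _
    refine exists_congr fun b => ?_
    rw [RingHom.comp_apply, eq_comm, Ideal.Quotient.eq]
  have h1 : ∀ a' : A', algebraMap A' C a' ∈ 𝒮 := by
    intro a'
    rw [hmem]
    obtain ⟨a, ha⟩ := surj_of_isAug I χ hχ a'
    refine ⟨algebraMap A B a, ?_⟩
    have := algebraMap_mem_of_mem (D := C) I ha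
    rwa [map_sub, ← IsScalarTower.algebraMap_apply A A' C,
      IsScalarTower.algebraMap_apply A B C] at this
  have h2 : ∀ b : B, algebraMap B C b ∈ 𝒮 := fun b => (hmem _).mpr ⟨b, by simp⟩
  have hug' : ug ∈ 𝒮 := by
    rw [hmem]
    refine ⟨1, ?_⟩
    have : ug - algebraMap B C 1 = -ug * (algebraMap (A' ⊗[A] B) C g' - 1) := by
      rw [map_one]; linear_combination hug1
    rw [this]
    exact Ideal.mul_mem_left _ _ e_g
  have hus' : us ∈ 𝒮 := by
    rw [hmem]
    refine ⟨1, ?_⟩
    have : us - algebraMap B C 1 = -us * (algebraMap A' C s - 1) := by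
      rw [map_one]; linear_combination hus1
    rw [this]
    exact Ideal.mul_mem_left _ _ e_s
  intro y
  obtain ⟨c, rfl⟩ := Ideal.Quotient.mk_surjective y
  have hc := gen_lemma A B A' g' s C 𝒮 h1 h2 ug us hug1 hus1 hug' hus' c
  exact hc

include hχ hs in
theorem ker_CC
    (hα : algebraMap A' (A' ⊗[A] B) s * (g' - 1) ∈ I.map (algebraMap A (A' ⊗[A] B))) :
    RingHom.ker ((Ideal.Quotient.mk (Ideal.map (algebraMap A C) I)).comp (algebraMap B C)) =
      Ideal.map (algebraMap A B) I := by
  set IC := I.map (algebraMap A C) with hIC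
  set IB := I.map (algebraMap A B) with hIB
  have hQ0 : ∀ a ∈ I, algebraMap A (B ⧸ IB) a = 0 := by
    intro a ha
    rw [IsScalarTower.algebraMap_apply A B (B ⧸ IB), Ideal.Quotient.algebraMap_eq,
      Ideal.Quotient.eq_zero_iff_mem]
    exact Ideal.mem_map_of_mem _ ha
  let qA : A ⧸ I →ₐ[A] B ⧸ IB := Ideal.Quotient.liftₐ I (Algebra.ofId A (B ⧸ IB)) hQ0
  let εT : A' ⊗[A] B →ₐ[A] B ⧸ IB :=
    Algebra.TensorProduct.lift (qA.comp χ) (Ideal.Quotient.mkₐ A IB) (fun _ _ => Commute.all _ _)
  have hεT : ∀ a' b, εT (a' ⊗ₜ b) = qA (χ a') * Ideal.Quotient.mk IB b := fun a' b =>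
    Algebra.TensorProduct.lift_tmul _ _ _ a' b
  have hkill : ∀ y ∈ I.map (algebraMap A (A' ⊗[A] B)), εT y = 0 := by
    intro y hy
    have h1 := map_mem_of_mem I εT hy
    have h2 : I.map (algebraMap A (B ⧸ IB)) = ⊥ := by
      rw [eq_bot_iff, Ideal.map_le_iff_le_comap]
      intro a ha
      rw [Ideal.mem_comap, Ideal.mem_bot]
      exact hQ0 a ha
    rw [h2, Ideal.mem_bot] at h1
    exact h1
  have hεs : εT (algebraMap A' (A' ⊗[A] B) s) = 1 := by
    rw [Algebra.TensorProduct.algebraMap_apply, hεT]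
    simp [hs]
  have hεg : εT g' = 1 := by
    have := hkill _ hα
    rw [map_mul, hεs, one_mul, map_sub, map_one, sub_eq_zero] at this
    exact this
  have hu : IsUnit (εT.toRingHom (g' * algebraMap A' (A' ⊗[A] B) s)) := by
    change IsUnit (εT (g' * algebraMap A' (A' ⊗[A] B) s))
    rw [map_mul, hεs, hεg, mul_one]
    exact isUnit_one
  let ε : C →+* B ⧸ IB :=
    IsLocalization.Away.lift (g' * algebraMap A' (A' ⊗[A] B) s) hu
  have hε : ∀ t, ε (algebraMap (A' ⊗[A] B) C t) = εT t := fun t =>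
    IsLocalization.Away.lift_eq _ hu t
  have hεIC : IC ≤ RingHom.ker ε := by
    rw [hIC, Ideal.map_le_iff_le_comap]
    intro a ha
    rw [Ideal.mem_comap, RingHom.mem_ker, IsScalarTower.algebraMap_apply A (A' ⊗[A] B) C, hε,
      AlgHom.commutes]
    exact hQ0 a ha
  apply le_antisymm
  · intro b hb
    rw [RingHom.mem_ker, RingHom.comp_apply, Ideal.Quotient.eq_zero_iff_mem] at hb
    have h1 := hεIC hb
    rw [RingHom.mem_ker, IsScalarTower.algebraMap_apply B (A' ⊗[A] B) C, hε,
      Algebra.TensorProduct.algebraMap_eq_includeRight] at h1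
    have h2 : εT (1 ⊗ₜ b) = Ideal.Quotient.mk IB b := by
      rw [hεT, map_one, map_one, one_mul]
    have h3 : Ideal.Quotient.mk IB b = 0 := h2.symm.trans h1
    exact Ideal.Quotient.eq_zero_iff_mem.mp h3
  · intro b hb
    rw [RingHom.mem_ker, RingHom.comp_apply, Ideal.Quotient.eq_zero_iff_mem]
    exact algebraMap_mem_of_mem (D := C) I hb

end fin

end Groth.Agent.Lib.helper3.NbhdFinite
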