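import Mathlib
import Groth.Agent.Lib.helper3.NbhdFinite

/-!
# Étale neighbourhoods making the finite part finite (S17976)
-/

universe u

open TensorProduct Polynomial

namespace Groth.Agent.Lib.helper3.NbhdMain

open Groth.Agent.Lib.helper3.PairHzn Groth.Agent.Lib.helper3.NbhdDescent
  Groth.Agent.Lib.helper3.NbhdFinite

attribute [local instance] Algebra.TensorProduct.rightAlgebra

section hens

variable (A : Type u) [CommRing A] (I : Ideal A) (B : Type u) [CommRing B] [Algebra A B]
  (H : Type u) [CommRing H] [Algebra A H]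

/-- the generation hypothesis over the henselization -/
theorem hX_of_finite (hfin : Module.Finite A (B ⧸ Ideal.map (algebraMap A B) I)) :
    ∃ (n : ℕ) (v : Fin n → H ⊗[A] B), ∀ r : H ⊗[A] B, ∃ a : Fin n → H,
      r - ∑ x ∈ Finset.univ, a x • v x ∈
        (I.map (algebraMap A H)).map (algebraMap H (H ⊗[A] B)) := by
  classical
  obtain ⟨n, sgen, hsgen⟩ := Module.Finite.exists_fin (R := A)
    (M := B ⧸ Ideal.map (algebraMap A B) I)
  have hl : ∀ i, ∃ b : B, Ideal.Quotient.mk _ b = sgen i := fun i =>
    Ideal.Quotient.mk_surjective _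
  choose bx hbx using hl
  refine ⟨n, fun i => 1 ⊗ₜ bx i, ?_⟩
  have hJ : (I.map (algebraMap A H)).map (algebraMap H (H ⊗[A] B)) =
      I.map (algebraMap A (H ⊗[A] B)) := by
    rw [Ideal.map_map, ← IsScalarTower.algebraMap_eq]
  rw [hJ, ← ker_map_mk]
  intro r
  induction r with
  | zero => exact ⟨0, by simp⟩
  | tmul h b =>
    have hb : Ideal.Quotient.mk (Ideal.map (algebraMap A B) I) b ∈
        Submodule.span A (Set.range sgen) := by rw [hsgen]; exact Submodule.mem_top
    obtain ⟨c, hc⟩ := (Submodule.mem_span_range_iff_exists_fun A).mp hb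
    refine ⟨fun i => c i • h, ?_⟩
    have e1 : h ⊗ₜ[A] b - ∑ x, (c x • h) • ((1 : H) ⊗ₜ[A] bx x) =
        h ⊗ₜ[A] (b - ∑ x, c x • bx x) := by
      rw [TensorProduct.tmul_sub, TensorProduct.tmul_sum]
      congr 1
      refine Finset.sum_congr rfl fun x _ => ?_
      rw [TensorProduct.smul_tmul', smul_eq_mul, mul_one, TensorProduct.smul_tmul]
    rw [e1, RingHom.mem_ker, Algebra.TensorProduct.map_tmul]
    have e2 : Ideal.Quotient.mkₐ A (Ideal.map (algebraMap A B) I) (b - ∑ x, c x • bx x) = 0 := by
      rw [map_sub, map_sum, sub_eq_zero]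
      have : (Ideal.Quotient.mkₐ A (Ideal.map (algebraMap A B) I)) b =
          Ideal.Quotient.mk (Ideal.map (algebraMap A B) I) b := rfl
      rw [this, ← hc]
      refine Finset.sum_congr rfl fun x _ => ?_
      rw [map_smul, Ideal.Quotient.mkₐ_eq_mk, hbx]
    rw [e2, TensorProduct.tmul_zero]
  | add x y hx hy =>
    obtain ⟨a₁, h₁⟩ := hx
    obtain ⟨a₂, h₂⟩ := hy
    refine ⟨a₁ + a₂, ?_⟩
    have : x + y - ∑ i, (a₁ + a₂) i • ((1 : H) ⊗ₜ[A] bx i) =
        (x - ∑ i, a₁ i • ((1 : H) ⊗ₜ[A] bx i)) + (y - ∑ i, a₂ i • ((1 : H) ⊗ₜ[A] bx i)) := by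
      simp only [Pi.add_apply, add_smul, Finset.sum_add_distrib]; ring
    rw [this]
    exact Ideal.add_mem _ h₁ h₂

end hens

section main

/-- **Étale neighbourhoods of the finite part** (S17976). -/
theorem main (A : Type u) [CommRing A] (I : Ideal A) (B : Type u) [CommRing B] [Algebra A B]
    [Algebra.FiniteType A B]
    (hfin : Module.Finite A (B ⧸ Ideal.map (algebraMap A B) I)) :
    ∃ (A' : Type u) (_ : CommRing A') (_ : Algebra A A') (_ : Algebra.Etale A A')
      (C : Type u) (_ : CommRing C) (_ : Algebra A C) (_ : Algebra A' C) (_ : Algebra B C)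
      (_ : IsScalarTower A A' C) (_ : IsScalarTower A B C),
      Function.Surjective ((Ideal.Quotient.mk (Ideal.map (algebraMap A A') I)).comp
        (algebraMap A A')) ∧
      RingHom.ker ((Ideal.Quotient.mk (Ideal.map (algebraMap A A') I)).comp (algebraMap A A')) = I ∧
      Algebra.Etale B C ∧ Module.Finite A' C ∧
      Function.Surjective ((Ideal.Quotient.mk (Ideal.map (algebraMap A C) I)).comp
        (algebraMap B C)) ∧
      RingHom.ker ((Ideal.Quotient.mk (Ideal.map (algebraMap A C) I)).comp (algebraMap B C)) =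
        Ideal.map (algebraMap A B) I := by
  classical
  have hH := isPairHenselization (A := A) (I := I)
  haveI : HenselianRing (Hzn A I) (I.map (algebraMap A (Hzn A I))) := hH.1
  obtain ⟨n, v, hX⟩ := hX_of_finite A I B (Hzn A I) hfin
  obtain ⟨g₀, hg1, hfin'⟩ :=
    Groth.Agent.Lib.helper3.PairFin.exists_away_finite_of_finite_quotient (Hzn A I)
      (I.map (algebraMap A (Hzn A I))) (Hzn A I ⊗[A] B) Finset.univ v hX
  have hg1' : g₀ - 1 ∈ I.map (algebraMap A (Hzn A I ⊗[A] B)) := by
    rwa [Ideal.map_map, ← IsScalarTower.algebraMap_eq] at hg1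
  obtain ⟨S, hS⟩ := (inferInstance : Algebra.FiniteType A B).out
  obtain ⟨A', _, _, _, χ, hχ, g', s, hs, hα, hβ, hγ⟩ :=
    descend A I B (Hzn A I) hH S g₀ hg1' hfin'
  -- the rings
  let C := Localization.Away (algebraMap (A' ⊗[A] B) (Localization.Away g')
    (algebraMap A' (A' ⊗[A] B) s))
  have hus : IsUnit (algebraMap A' C s) := isUnit_s A B A' g' s C inferInstance
  letI algA''C : Algebra (Localization.Away s) C :=
    (IsLocalization.Away.lift (S := Localization.Away s) s (g := algebraMap A' C) hus).toAlgebra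
  haveI tw1 : IsScalarTower A' (Localization.Away s) C :=
    IsScalarTower.of_algebraMap_eq (fun a =>
      (IsLocalization.Away.lift_eq (S := Localization.Away s) s hus a).symm)
  haveI tw2 : IsScalarTower A (Localization.Away s) C :=
    IsScalarTower.of_algebraMap_eq (fun a => by
      rw [IsScalarTower.algebraMap_apply A A' (Localization.Away s),
        ← IsScalarTower.algebraMap_apply A' (Localization.Away s) C,
        ← IsScalarTower.algebraMap_apply A A' C])
  haveI : Algebra.Etale B (A' ⊗[A] B) :=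
    Algebra.Etale.of_equiv (Algebra.TensorProduct.commRight A B A')
  obtain ⟨h1, h2⟩ := surj_ker_of_aug I (χAway I χ s hs) (isAug_χAway I χ s hs hχ)
  refine ⟨Localization.Away s, inferInstance, inferInstance, inferInstance, C, inferInstance,
    inferInstance, algA''C, inferInstance, tw2, inferInstance, h1, h2, inferInstance, ?_, ?_, ?_⟩
  · exact finite_CC A B A' g' s C (Localization.Away s) S hS hβ hγ
  · exact surj_CC A I B A' χ hχ g' s hs C hα
  · exact ker_CC A I B A' χ hχ g' s hs C hα

end main

end Groth.Agent.Lib.helper3.NbhdMain
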