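import Mathlib
import Groth.Agent.Lib.helper3.PairIdem

/-!
# Finite part over a henselian pair: the topological core

`(A, I)` henselian pair, `B` integral over `A`, `O ⊆ Spec B` open with `O ∩ V(IB)` closed. Then there
is an idempotent `e` of `B` with `D(e) ⊆ O` and `O ∩ V(IB) ⊆ D(e)`.
-/

open PrimeSpectrum

namespace Groth.Agent.Lib.helper3.PairFinPart

universe u

theorem core (A : Type u) [CommRing A] (I : Ideal A) [HenselianRing A I]
    (B : Type u) [CommRing B] [Algebra A B] [Algebra.IsIntegral A B]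
    (O : Set (PrimeSpectrum B)) (hO : IsOpen O)
    (hT : IsClosed (O ∩ zeroLocus (I.map (algebraMap A B) : Set B))) :
    ∃ e : B, IsIdempotentElem e ∧ (basicOpen e : Set (PrimeSpectrum B)) ⊆ O ∧
      O ∩ zeroLocus (I.map (algebraMap A B) : Set B) ⊆ (basicOpen e : Set (PrimeSpectrum B)) := by
  set IB := I.map (algebraMap A B) with hIB
  let q : B →+* B ⧸ IB := Ideal.Quotient.mk IB
  have hq : Function.Surjective q := Ideal.Quotient.mk_surjective
  have hrange : Set.range (comap q) = zeroLocus (IB : Set B) := by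
    rw [range_comap_of_surjective _ _ hq, Ideal.mk_ker]
  -- the clopen subset of Spec (B/IB)
  have hclopen : IsClopen (comap q ⁻¹' O) := by
    refine ⟨?_, hO.preimage (continuous_comap q)⟩
    have : comap q ⁻¹' O = comap q ⁻¹' (O ∩ zeroLocus (IB : Set B)) := by
      ext x
      simp only [Set.mem_preimage, Set.mem_inter_iff, iff_self_and]
      intro _
      rw [← hrange]
      exact ⟨x, rfl⟩
    rw [this]
    exact hT.preimage (continuous_comap q)
  obtain ⟨eb, heb, hs⟩ := PrimeSpectrum.isClopen_iff.mp hclopen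
  obtain ⟨e, he, hee⟩ := (PairIdem.bijOn_of_henselian A I B).surjOn heb
  have he' : IsIdempotentElem e := he
  have hee' : q e = eb := hee
  -- on `V(IB)`, `D(e)` agrees with `O`
  have key : ∀ p : PrimeSpectrum B, p ∈ zeroLocus (IB : Set B) →
      (p ∈ O ↔ p ∈ (basicOpen e : Set (PrimeSpectrum B))) := by
    intro p hp
    rw [← hrange] at hp
    obtain ⟨x, rfl⟩ := hp
    have h1 : comap q x ∈ O ↔ x ∈ comap q ⁻¹' O := Iff.rfl
    rw [h1, hs]
    simp only [SetLike.mem_coe, mem_basicOpen, comap_asIdeal, Ideal.mem_comap, hee']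
  have hIBjac : IB ≤ Ideal.jacobson ⊥ :=
    PairIdem.map_le_jacobson_of_isIntegral I HenselianRing.jac
  refine ⟨e, he', ?_, ?_⟩
  · intro p hp
    by_contra hpO
    obtain ⟨m, hm, hpm⟩ := Ideal.exists_le_maximal p.asIdeal p.2.ne_top
    let M : PrimeSpectrum B := ⟨m, hm.isPrime⟩
    have hspec : p ⤳ M := (le_iff_specializes p M).mp hpm
    have hMO : M ∉ O := fun h => hpO (hspec.mem_open hO h)
    have hcl : IsClosed (basicOpen e : Set (PrimeSpectrum B)) := (PrimeSpectrum.isClopen_iff.mpr ⟨e, he', rfl⟩).1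
    have hMe : M ∈ (basicOpen e : Set (PrimeSpectrum B)) := hspec.mem_closed hcl hp
    have hMI : M ∈ zeroLocus (IB : Set B) := by
      rw [mem_zeroLocus]
      intro x hx
      have : x ∈ Ideal.jacobson (⊥ : Ideal B) := hIBjac hx
      rw [Ideal.jacobson, Ideal.mem_sInf] at this
      exact this ⟨bot_le, hm⟩
    exact hMO ((key M hMI).mpr hMe)
  · rintro p ⟨hpO, hpI⟩
    exact (key p hpI).mp hpO

end Groth.Agent.Lib.helper3.PairFinPart
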