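import Mathlib
import Groth.Agent.Lib.helper3.PairFinPart

/-!
# Finite part over a henselian pair: scheme wrapper
-/

open CategoryTheory CategoryTheory.Limits AlgebraicGeometry PrimeSpectrum

namespace Groth.Agent.Lib.helper3.PairFinPart2

universe u

theorem range_SpecMap_mk (A : Type u) [CommRing A] (I : Ideal A) :
    Set.range (Spec.map (CommRingCat.ofHom (Ideal.Quotient.mk I))) =
      (zeroLocus (I : Set A) : Set (PrimeSpectrum A)) := by
  have h := _root_.range_comap_of_surjective _ (Ideal.Quotient.mk I)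
    Ideal.Quotient.mk_surjective
  rw [Ideal.mk_ker] at h
  rw [← h]
  rfl

theorem main_of_factor (A : Type u) [CommRing A] (I : Ideal A) [HenselianRing A I]
    {U : Scheme.{u}} (g : U ⟶ Spec (CommRingCat.of A)) [LocallyOfFiniteType g]
    (B : CommRingCat.{u}) (φ : CommRingCat.of A ⟶ B) (hφ : φ.hom.IsIntegral)
    (j : U ⟶ Spec B) [IsOpenImmersion j] (hj : j ≫ Spec.map φ = g)
    (hfin : IsFinite (pullback.snd g (Spec.map (CommRingCat.ofHom (Ideal.Quotient.mk I))))) :
    ∃ W : U.Opens, IsClosed (W : Set U) ∧ IsFinite (W.ι ≫ g) ∧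
      ∀ u : U, u ∉ W → ¬ I ≤ (g.base u : PrimeSpectrum A).asIdeal := by
  letI : Algebra A B := φ.hom.toAlgebra
  haveI : Algebra.IsIntegral A B := ⟨hφ⟩
  set ι₀ := Spec.map (CommRingCat.ofHom (Ideal.Quotient.mk I)) with hι₀
  have hrι : Set.range ι₀ = (zeroLocus (I : Set A) : Set (PrimeSpectrum A)) :=
    range_SpecMap_mk A I
  let O : Set (PrimeSpectrum B) := Set.range j
  have hO : IsOpen O := j.isOpenEmbedding.isOpen_range
  have hmem : ∀ u : U, (j u : PrimeSpectrum B) ∈ zeroLocus (I.map (algebraMap A B) : Set B) ↔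
      I ≤ (g.base u : PrimeSpectrum A).asIdeal := by
    intro u
    have h1 : g u = Spec.map φ (j u) := by rw [← hj]; rfl
    change ((I.map (algebraMap A B) : Set B) ⊆ ((j u : PrimeSpectrum B).asIdeal : Set B)) ↔
      I ≤ (g u : PrimeSpectrum A).asIdeal
    rw [SetLike.coe_subset_coe, Ideal.map_le_iff_le_comap, h1]
    rfl
  let h := pullback.fst g ι₀ ≫ j
  have hfin' : IsFinite (h ≫ Spec.map φ) := by
    have : h ≫ Spec.map φ = pullback.snd g ι₀ ≫ ι₀ := by
      simp only [h, Category.assoc, hj, pullback.condition]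
    rw [this]
    have : IsClosedImmersion ι₀ :=
      IsClosedImmersion.spec_of_surjective _ Ideal.Quotient.mk_surjective
    infer_instance
  have huc : UniversallyClosed h := .of_comp_of_isSeparated h (Spec.map φ)
  have hcl : IsClosed (Set.range h) := h.isClosedMap.isClosed_range
  have hrange : Set.range h = O ∩ zeroLocus (I.map (algebraMap A B) : Set B) := by
    have : Set.range h = j '' Set.range (pullback.fst g ι₀) := by
      rw [← Set.range_comp]
      rfl
    rw [this, Scheme.Pullback.range_fst, hrι]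
    ext x
    constructor
    · rintro ⟨u, hu, rfl⟩
      refine ⟨⟨u, rfl⟩, (hmem u).mpr ?_⟩
      have : (I : Set A) ⊆ ((g u : PrimeSpectrum A).asIdeal : Set A) := hu
      rwa [SetLike.coe_subset_coe] at this
    · rintro ⟨⟨u, rfl⟩, hx⟩
      refine ⟨u, ?_, rfl⟩
      have := (hmem u).mp hx
      change (I : Set A) ⊆ ((g u : PrimeSpectrum A).asIdeal : Set A)
      rwa [SetLike.coe_subset_coe]
  obtain ⟨e, he, heO, hOe⟩ := PairFinPart.core A I B O hO (hrange ▸ hcl)
  have hDcl : IsClosed (basicOpen e : Set (PrimeSpectrum B)) :=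
    (PrimeSpectrum.isClopen_iff.mpr ⟨e, he, rfl⟩).1
  let D : (Spec B).Opens := basicOpen e
  let W : U.Opens := j ⁻¹ᵁ D
  refine ⟨W, ?_, ?_, ?_⟩
  · exact hDcl.preimage j.continuous
  · have hW : W.ι ≫ g = (W.ι ≫ j) ≫ Spec.map φ := by rw [Category.assoc, hj]
    have hrg : Set.range (W.ι ≫ j) = (basicOpen e : Set (PrimeSpectrum B)) := by
      have : Set.range (W.ι ≫ j) = j '' Set.range W.ι := by
        rw [← Set.range_comp]
        rfl
      rw [this, Scheme.Opens.range_ι]
      ext x
      constructor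
      · rintro ⟨u, hu, rfl⟩
        exact hu
      · intro hx
        obtain ⟨u, rfl⟩ := heO hx
        exact ⟨u, hx, rfl⟩
    have hci : IsClosedImmersion (W.ι ≫ j) := .of_isPreimmersion _ (by rw [hrg]; exact hDcl)
    have hint : IsIntegralHom (Spec.map φ) := IsIntegralHom.SpecMap_iff.mpr hφ
    rw [IsFinite.iff_isIntegralHom_and_locallyOfFiniteType]
    refine ⟨?_, inferInstance⟩
    rw [hW]
    infer_instance
  · intro u hu hI
    apply hu
    have h1 : (j u : PrimeSpectrum B) ∈ O ∩ zeroLocus (I.map (algebraMap A B) : Set B) :=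
      ⟨⟨u, rfl⟩, (hmem u).mpr hI⟩
    exact hOe h1

end Groth.Agent.Lib.helper3.PairFinPart2
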