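import Mathlib
import Groth.Agent.Lib.helper3.PairFactor

open Polynomial

namespace Groth.Agent.Lib.helper3.PairProj

universe u

/-- idempotent lifting in a (possibly noncommutative) algebra over a Henselian pair, from an
annihilating polynomial reducing to `X^d (X-1)^d`. -/
theorem exists_idem_of_factor {R : Type u} [CommRing R] (I : Ideal R) [HenselianRing R I]
    {E Eb : Type*} [Ring E] [Algebra R E] [Ring Eb] [Algebra R Eb] [Algebra (R ⧸ I) Eb]
    [IsScalarTower R (R ⧸ I) Eb] (Φ : E →ₐ[R] Eb)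
    (hunit : ∀ w : E, Φ w = 1 → IsUnit w)
    (b : E) (hb : IsIdempotentElem (Φ b)) (d : ℕ) (hd : d ≠ 0) (f : R[X]) (hfm : f.Monic)
    (hfb : aeval b f = 0) (hfmap : f.map (Ideal.Quotient.mk I) = X ^ d * (X - C 1) ^ d) :
    ∃ e : E, IsIdempotentElem e ∧ Φ e = Φ b := by
  have hcop : IsCoprime (X ^ d : (R ⧸ I)[X]) ((X - C 1) ^ d) := by
    refine IsCoprime.pow ⟨1, -1, ?_⟩
    rw [C_1]; ring
  obtain ⟨g, h, hgm, hhm, hfgh, hg, hh⟩ := Groth.Agent.Lib.helper3.PairFactor.exists_factor_lift R I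
    f hfm (X ^ d) ((X - C 1) ^ d) (monic_X_pow d) ((monic_X_sub_C 1).pow d) hcop hfmap
  have hev : ∀ P : R[X], Φ (aeval b P) = aeval (Φ b) (P.map (Ideal.Quotient.mk I)) := by
    intro P
    rw [← aeval_algHom_apply, aeval_def, aeval_def, eval₂_map]
    congr 1
    exact IsScalarTower.algebraMap_eq R (R ⧸ I) Eb
  set eb := Φ b with heb
  set G := aeval b g with hG
  set H := aeval b h with hH
  have hGH : G * H = 0 := by rw [hG, hH, ← map_mul, ← hfgh, hfb]
  obtain ⟨k, hk⟩ := Nat.exists_eq_succ_of_ne_zero hd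
  have hGb : Φ G = eb := by
    rw [hG, hev, hg, map_pow, aeval_X, hk]
    exact IsIdempotentElem.pow_succ_eq k hb
  have hHb : Φ H = (eb - 1) ^ d := by
    rw [hH, hev, hh, map_pow, map_sub, aeval_X, aeval_C, map_one]
  set w := G + (-1) ^ d * H with hw
  have hwb : Φ w = 1 := by
    rw [hw, map_add, map_mul, map_pow, map_neg, map_one, hGb, hHb]
    have h1 : (-1 : Eb) ^ d * (eb - 1) ^ d = (1 - eb) ^ d := by
      rw [← (Commute.neg_one_left (eb - 1)).mul_pow]
      congr 1
      noncomm_ring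
    rw [h1, hk, IsIdempotentElem.pow_succ_eq k (IsIdempotentElem.one_sub hb)]
    abel
  obtain ⟨wu, hwu⟩ := hunit w hwb
  have hww' : w * (↑wu⁻¹ : E) = 1 := by rw [← hwu]; exact wu.mul_inv
  have hw'w : (↑wu⁻¹ : E) * w = 1 := by rw [← hwu]; exact wu.inv_mul
  set w' : E := ↑wu⁻¹ with hw'
  have hw'b : Φ w' = 1 := by
    have := congrArg Φ hww'
    rwa [map_mul, hwb, one_mul, map_one] at this
  -- commutation
  have hcomm : G * w = w * G := by
    have h1 : w = aeval b (g + C ((-1) ^ d) * h) := by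
      rw [map_add, map_mul, aeval_C, map_pow, map_neg, map_one]
    rw [h1, hG, ← map_mul, ← map_mul, mul_comm]
  have hcomm' : w' * G = G * w' := by
    calc w' * G = w' * G * (w * w') := by rw [hww', mul_one]
      _ = w' * (G * w) * w' := by noncomm_ring
      _ = w' * (w * G) * w' := by rw [hcomm]
      _ = (w' * w) * G * w' := by noncomm_ring
      _ = G * w' := by rw [hw'w, one_mul]
  have hGG : G * G = G * w := by
    rw [hw, mul_add, ← mul_assoc, ((Commute.neg_one_left G).pow_left d).eq.symm, mul_assoc, hGH,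
      mul_zero, add_zero]
  refine ⟨G * w', ?_, ?_⟩
  · change G * w' * (G * w') = G * w'
    calc G * w' * (G * w') = G * (w' * G) * w' := by noncomm_ring
      _ = G * (G * w') * w' := by rw [hcomm']
      _ = (G * G) * w' * w' := by noncomm_ring
      _ = G * (w * w') * w' := by rw [hGG]; noncomm_ring
      _ = G * w' := by rw [hww', mul_one]
  · rw [map_mul, hGb, hw'b, mul_one]

end Groth.Agent.Lib.helper3.PairProj
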