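import Mathlib

set_option autoImplicit false
universe u

open TensorProduct

namespace Groth.Agent.Lib.helper3.QFSplit

/-- The set of isolated points of a topological space. -/
def isoPts (X : Type*) [TopologicalSpace X] : Set X := {x | IsOpen ({x} : Set X)}

theorem isoPts_finite (X : Type*) [TopologicalSpace X] [TopologicalSpace.NoetherianSpace X] :
    (isoPts X).Finite := by
  apply IsCompact.finite (TopologicalSpace.NoetherianSpace.isCompact _)
  rw [isDiscrete_iff_forall_mem_exists_isOpen]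
  intro y hy
  exact ⟨{y}, hy, by
    ext z
    constructor
    · rintro ⟨h1, _⟩; exact h1
    · rintro rfl; exact ⟨rfl, hy⟩⟩

theorem isoPts_image_of_isOpenEmbedding {X Y : Type*} [TopologicalSpace X] [TopologicalSpace Y]
    (j : X → Y) (hj : Topology.IsOpenEmbedding j) {x : X} (hx : x ∈ isoPts X) : j x ∈ isoPts Y := by
  show IsOpen ({j x} : Set Y)
  rw [← Set.image_singleton]
  exact hj.isOpenMap _ hx

theorem isoPts_of_isOpenEmbedding {X Y : Type*} [TopologicalSpace X] [TopologicalSpace Y]
    (j : X → Y) (hj : Topology.IsOpenEmbedding j) {x : X} (hx : j x ∈ isoPts Y) : x ∈ isoPts X := by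
  show IsOpen ({x} : Set X)
  have : ({x} : Set X) = j ⁻¹' {j x} := by
    ext z
    simp only [Set.mem_singleton_iff, Set.mem_preimage]
    exact ⟨fun h => by rw [h], fun h => hj.injective h⟩
  rw [this]
  exact hj.continuous.isOpen_preimage _ hx

/-- Isolated points of `Spec (A × B)`: strictly more than those of `Spec B` if `Spec A` has an isolated
point. -/
theorem ncard_isoPts_lt {F A B : Type*} [CommRing F] [CommRing A] [CommRing B] (φ : F ≃+* A × B)
    (hfin : (isoPts (PrimeSpectrum F)).Finite) (hA : (isoPts (PrimeSpectrum A)).Nonempty) :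
    (isoPts (PrimeSpectrum B)).ncard < (isoPts (PrimeSpectrum F)).ncard := by
  let h1 : PrimeSpectrum F ≃ₜ PrimeSpectrum (A × B) := PrimeSpectrum.homeomorphOfRingEquiv φ
  let h2 : PrimeSpectrum (A × B) ≃ₜ PrimeSpectrum A ⊕ PrimeSpectrum B :=
    PrimeSpectrum.primeSpectrumProdHomeo
  let h : PrimeSpectrum A ⊕ PrimeSpectrum B ≃ₜ PrimeSpectrum F := (h1.trans h2).symm
  let jA : PrimeSpectrum A → PrimeSpectrum F := fun x => h (Sum.inl x)
  let jB : PrimeSpectrum B → PrimeSpectrum F := fun x => h (Sum.inr x)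
  have hjA : Topology.IsOpenEmbedding jA := h.isOpenEmbedding.comp Topology.IsOpenEmbedding.inl
  have hjB : Topology.IsOpenEmbedding jB := h.isOpenEmbedding.comp Topology.IsOpenEmbedding.inr
  obtain ⟨a, ha⟩ := hA
  have hsub : jB '' (isoPts (PrimeSpectrum B)) ⊂ isoPts (PrimeSpectrum F) := by
    refine ⟨?_, ?_⟩
    · rintro _ ⟨x, hx, rfl⟩
      exact isoPts_image_of_isOpenEmbedding jB hjB hx
    · intro hle
      obtain ⟨x, _, hx⟩ := hle (isoPts_image_of_isOpenEmbedding jA hjA ha)
      have := h.injective hx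
      exact Sum.inr_ne_inl this
  have := Set.ncard_lt_ncard hsub hfin
  rwa [Set.ncard_image_of_injective _ hjB.injective] at this

/-- The measure: number of isolated points of the fibre over `p`. -/
noncomputable def mu (R S : Type u) [CommRing R] [CommRing S] [Algebra R S] (p : Ideal R)
    [p.IsPrime] : ℕ := (isoPts (PrimeSpectrum (p.Fiber S))).ncard

theorem fiber_isoPts_finite (R S : Type u) [CommRing R] [CommRing S] [Algebra R S]
    [Algebra.FiniteType R S] (p : Ideal R) [p.IsPrime] :
    (isoPts (PrimeSpectrum (p.Fiber S))).Finite := by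
  haveI : Algebra.FiniteType p.ResidueField (p.Fiber S) := inferInstance
  haveI : IsNoetherianRing (p.Fiber S) := Algebra.FiniteType.isNoetherianRing p.ResidueField _
  exact isoPts_finite _

/-- A quasi-finite prime over `p` gives an isolated point of the fibre. -/
theorem isoPts_nonempty_of_quasiFiniteAt (R S : Type u) [CommRing R] [CommRing S] [Algebra R S]
    [Algebra.FiniteType R S] (p : Ideal R) [p.IsPrime] (q : Ideal S) [q.IsPrime]
    (hq : q.comap (algebraMap R S) = p) [Algebra.QuasiFiniteAt R q] :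
    (isoPts (PrimeSpectrum (p.Fiber S))).Nonempty := by
  haveI : q.LiesOver p := ⟨hq.symm⟩
  let x : PrimeSpectrum (p.Fiber S) :=
    PrimeSpectrum.primesOverOrderIsoFiber R S p ⟨q, inferInstance, inferInstance⟩
  have hx : x.asIdeal.comap (Algebra.TensorProduct.includeRight :
      S →ₐ[R] p.ResidueField ⊗[R] S).toRingHom = q := by
    have := (PrimeSpectrum.primesOverOrderIsoFiber R S p).symm_apply_apply
      ⟨q, inferInstance, inferInstance⟩
    exact congrArg Subtype.val this
  haveI : Algebra.QuasiFiniteAt p.ResidueField x.asIdeal :=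
    Algebra.QuasiFiniteAt.baseChange q (A := p.ResidueField) x.asIdeal hx.symm
  haveI : Algebra.FiniteType p.ResidueField (p.Fiber S) := inferInstance
  exact ⟨x, (Algebra.QuasiFiniteAt.isClopen_singleton (R := p.ResidueField) x).isOpen⟩

/-- An isolated point of the fibre gives a quasi-finite prime over `p`. -/
theorem exists_quasiFiniteAt_of_isoPts (R S : Type u) [CommRing R] [CommRing S] [Algebra R S]
    [Algebra.FiniteType R S] (p : Ideal R) [p.IsPrime]
    (h : (isoPts (PrimeSpectrum (p.Fiber S))).Nonempty) :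
    ∃ (q : Ideal S) (_ : q.IsPrime) (_ : q.LiesOver p), Algebra.QuasiFiniteAt R q := by
  obtain ⟨x, hx⟩ := h
  haveI : Algebra.FiniteType p.ResidueField (p.Fiber S) := inferInstance
  haveI : Algebra.QuasiFiniteAt p.ResidueField x.asIdeal :=
    Algebra.QuasiFiniteAt.of_isOpen_singleton (R := p.ResidueField) x hx
  let q0 := (PrimeSpectrum.primesOverOrderIsoFiber R S p).symm x
  haveI : q0.1.IsPrime := q0.2.1
  haveI : q0.1.LiesOver p := q0.2.2
  exact ⟨q0.1, inferInstance, inferInstance,
    Algebra.QuasiFiniteAt.of_quasiFiniteAt_residueField p q0.1 x.asIdeal rfl⟩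

/-- The fibre of a base change along a residually trivial extension. -/
noncomputable def fiberEquiv {R S R₁ : Type u} [CommRing R] [CommRing S] [Algebra R S] [CommRing R₁]
    [Algebra R R₁] (p : Ideal R) [p.IsPrime] (p₁ : Ideal R₁) [p₁.IsPrime] [p₁.LiesOver p]
    (H : Function.Bijective (Ideal.ResidueField.mapₐ p p₁ (Algebra.ofId _ _) (p₁.over_def p))) :
    p₁.Fiber (R₁ ⊗[R] S) ≃+* p.Fiber S :=
  letI := Localization.AtPrime.algebraOfLiesOver p p₁
  let e : p₁.Fiber (R₁ ⊗[R] S) ≃ₐ[p.ResidueField] p.Fiber S :=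
    ((Algebra.TensorProduct.cancelBaseChange _ _ p₁.ResidueField _ _).restrictScalars _).trans
      (Algebra.TensorProduct.congr (.symm <| .ofBijective (Algebra.ofId _ _) H) .refl)
  e.toRingEquiv

theorem mu_lt {R S : Type u} [CommRing R] [CommRing S] [Algebra R S] [Algebra.FiniteType R S]
    (p : Ideal R) [p.IsPrime]
    (R₁ : Type u) [CommRing R₁] [Algebra R R₁] (p₁ : Ideal R₁) [p₁.IsPrime] [p₁.LiesOver p]
    (H : Function.Bijective (Ideal.ResidueField.mapₐ p p₁ (Algebra.ofId _ _) (p₁.over_def p)))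
    (A B : Type u) [CommRing A] [CommRing B] [Algebra R₁ A] [Algebra R₁ B] [Module.Finite R₁ A]
    (e : (R₁ ⊗[R] S) ≃ₐ[R₁] A × B) (r : Ideal A) [r.IsPrime]
    (hr : r.comap (algebraMap R₁ A) = p₁) :
    mu R₁ B p₁ < mu R S p := by
  let ψ : p₁.ResidueField ⊗[R₁] (R₁ ⊗[R] S) ≃ₐ[p₁.ResidueField]
      (p₁.ResidueField ⊗[R₁] A) × (p₁.ResidueField ⊗[R₁] B) :=
    (Algebra.TensorProduct.congr AlgEquiv.refl e).trans
      (Algebra.TensorProduct.prodRight R₁ p₁.ResidueField p₁.ResidueField A B)
  let φ : p.Fiber S ≃+* p₁.Fiber A × p₁.Fiber B :=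
    (fiberEquiv (S := S) p p₁ H).symm.trans ψ.toRingEquiv
  apply ncard_isoPts_lt φ (fiber_isoPts_finite R S p)
  haveI : Module.Finite p₁.ResidueField (p₁.Fiber A) := inferInstance
  haveI : IsArtinianRing (p₁.Fiber A) := IsArtinianRing.of_finite p₁.ResidueField _
  haveI : r.LiesOver p₁ := ⟨hr.symm⟩
  refine ⟨PrimeSpectrum.primesOverOrderIsoFiber R₁ A p₁ ⟨r, inferInstance, inferInstance⟩, ?_⟩
  exact isOpen_discrete (α := PrimeSpectrum (p₁.Fiber A)) _

theorem closure_eq_top_of_surjective {R R' : Type u} [CommRing R] [CommRing R'] [Algebra R R']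
    (p : Ideal R) [p.IsPrime] (p' : Ideal R') [p'.IsPrime] [p'.LiesOver p]
    (h : Function.Surjective (Ideal.ResidueField.mapₐ p p' (Algebra.ofId _ _) (p'.over_def p))) :
    Subfield.closure (Set.range (algebraMap R p'.ResidueField)) = ⊤ := by
  rw [eq_top_iff]
  intro y _
  obtain ⟨c, rfl⟩ := h y
  have hR : ∀ r : R, algebraMap R p'.ResidueField r ∈
      Subfield.closure (Set.range (algebraMap R p'.ResidueField)) :=
    fun r => Subfield.subset_closure ⟨r, rfl⟩
  obtain ⟨x, y, hy, hxy⟩ := IsFractionRing.div_surjective (A := R ⧸ p) c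
  obtain ⟨a, rfl⟩ := Ideal.Quotient.mk_surjective x
  obtain ⟨t, rfl⟩ := Ideal.Quotient.mk_surjective y
  rw [Ideal.algebraMap_quotient_residueField_mk, Ideal.algebraMap_quotient_residueField_mk] at hxy
  rw [← hxy, map_div₀, AlgHom.commutes, AlgHom.commutes]
  exact div_mem (hR a) (hR t)

end Groth.Agent.Lib.helper3.QFSplit
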