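import Mathlib
import Groth.Agent.Lib.helper3.QFSplit

set_option autoImplicit false
universe u

open TensorProduct

namespace Groth.Agent.Lib.helper3.QFSplit

/-- Inductive form of the conclusion. -/
def Conc (R S : Type u) [CommRing R] [CommRing S] [Algebra R S] (p : Ideal R) [p.IsPrime] : Prop :=
  ∃ (R' : Type u) (_ : CommRing R') (_ : Algebra R R') (_ : Algebra.Etale R R') (p' : Ideal R')
    (_ : p'.IsPrime) (_ : p'.LiesOver p) (ι : Type) (_ : Fintype ι) (A : ι → Type u)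
    (_ : ∀ i, CommRing (A i)) (_ : ∀ i, Algebra R' (A i)) (B : Type u) (_ : CommRing B)
    (_ : Algebra R' B),
    Function.Bijective (Ideal.ResidueField.mapₐ p p' (Algebra.ofId _ _) (p'.over_def p)) ∧
    Nonempty ((R' ⊗[R] S) ≃ₐ[R'] ((∀ i, A i) × B)) ∧
    (∀ i, Module.Finite R' (A i) ∧
      ∃! r : Ideal (A i), r.IsPrime ∧ r.comap (algebraMap R' (A i)) = p') ∧
    ∀ (q : Ideal B) [q.IsPrime], q.comap (algebraMap R' B) = p' → ¬ Algebra.QuasiFiniteAt R' q

theorem Conc.empty {R S : Type u} [CommRing R] [CommRing S] [Algebra R S] (p : Ideal R) [p.IsPrime]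
    (h : ∀ (q : Ideal S) [q.IsPrime], q.comap (algebraMap R S) = p → ¬ Algebra.QuasiFiniteAt R q) :
    Conc R S p := by
  let f : S →ₐ[R] ((∀ _ : PEmpty, R) × S) :=
    AlgHom.prod (Pi.algHom R _ (fun i => PEmpty.elim i)) (AlgHom.id R S)
  have hf : Function.Bijective f := by
    constructor
    · intro x y hxy
      exact congrArg Prod.snd hxy
    · rintro ⟨x, s⟩
      refine ⟨s, Prod.ext ?_ rfl⟩
      funext i
      exact PEmpty.elim i
  haveI : p.LiesOver p := ⟨by simp [Ideal.under]⟩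
  refine ⟨R, inferInstance, inferInstance, inferInstance, p, inferInstance, inferInstance,
    PEmpty, inferInstance, fun _ => R, fun _ => inferInstance, fun _ => inferInstance, S,
    inferInstance, inferInstance, ?_,
    ⟨(Algebra.TensorProduct.lid R S).trans (AlgEquiv.ofBijective f hf)⟩, fun i => PEmpty.elim i,
    fun q hq => h q⟩
  rw! [Algebra.ofId_self, Ideal.ResidueField.mapₐ_id]
  exact Function.bijective_id

theorem split_of_idem {R₁ T : Type u} [CommRing R₁] [CommRing T] [Algebra R₁ T] (p₁ : Ideal R₁)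
    (e : T) (he : IsIdempotentElem e) [Module.Finite R₁ (Localization.Away e)]
    (P' : Ideal T) [P'.IsPrime] (hP' : P'.comap (algebraMap R₁ T) = p₁) (heP' : e ∉ P')
    (H : ∀ P'' : Ideal T, P''.IsPrime → P''.comap (algebraMap R₁ T) = p₁ → e ∉ P'' → P'' = P') :
    Module.Finite R₁ (T ⧸ Ideal.span {1 - e}) ∧
    ∃! r : Ideal (T ⧸ Ideal.span {1 - e}),
      r.IsPrime ∧ r.comap (algebraMap R₁ (T ⧸ Ideal.span {1 - e})) = p₁ := by
  constructor
  · haveI := IsLocalization.Away.quotient_of_isIdempotentElem he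
    let f : Localization.Away e ≃ₐ[T] T ⧸ Ideal.span {1 - e} :=
      IsLocalization.algEquiv (.powers e) _ _
    exact Module.Finite.equiv (f.restrictScalars R₁).toLinearEquiv
  · have h1e : (1 - e) ∈ P' := by
      have : e * (1 - e) ∈ P' := by
        rw [mul_sub, mul_one, he.eq, sub_self]; exact P'.zero_mem
      exact (‹P'.IsPrime›.mem_or_mem this).resolve_left heP'
    have hker : RingHom.ker (Ideal.Quotient.mk (Ideal.span {1 - e})) ≤ P' := by
      rw [Ideal.mk_ker, Ideal.span_le]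
      rintro _ rfl
      exact h1e
    have hcm : (P'.map (Ideal.Quotient.mk (Ideal.span {1 - e}))).comap
        (Ideal.Quotient.mk (Ideal.span {1 - e})) = P' := by
      rw [Ideal.comap_map_of_surjective _ Ideal.Quotient.mk_surjective, ← RingHom.ker_eq_comap_bot]
      exact sup_eq_left.mpr hker
    have halg : algebraMap R₁ (T ⧸ Ideal.span {1 - e}) =
        (Ideal.Quotient.mk (Ideal.span {1 - e})).comp (algebraMap R₁ T) := rfl
    refine ⟨P'.map (Ideal.Quotient.mk (Ideal.span {1 - e})),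
      ⟨Ideal.map_isPrime_of_surjective Ideal.Quotient.mk_surjective hker, ?_⟩, ?_⟩
    · rw [halg, ← Ideal.comap_comap, hcm, hP']
    · rintro r ⟨hr1, hr2⟩
      have hP'' : (r.comap (Ideal.Quotient.mk (Ideal.span {1 - e}))).IsPrime := inferInstance
      have h2 : (r.comap (Ideal.Quotient.mk (Ideal.span {1 - e}))).comap (algebraMap R₁ T) = p₁ := by
        rw [Ideal.comap_comap, ← halg, hr2]
      have h3 : e ∉ r.comap (Ideal.Quotient.mk (Ideal.span {1 - e})) := by
        intro hmem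
        have h1 : (1 - e) ∈ r.comap (Ideal.Quotient.mk (Ideal.span {1 - e})) := by
          rw [Ideal.mem_comap]
          have : Ideal.Quotient.mk (Ideal.span {1 - e}) (1 - e) = 0 :=
            Ideal.Quotient.eq_zero_iff_mem.mpr (Ideal.mem_span_singleton_self _)
          rw [this]
          exact r.zero_mem
        have : (1 : T) ∈ r.comap (Ideal.Quotient.mk (Ideal.span {1 - e})) := by
          have := add_mem hmem h1
          rwa [add_sub_cancel] at this
        exact hP''.ne_top ((Ideal.eq_top_iff_one _).mpr this)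
      have := H _ hP'' h2 h3
      rw [← this, Ideal.map_comap_of_surjective _ Ideal.Quotient.mk_surjective]

theorem Conc.step {R S : Type u} [CommRing R] [CommRing S] [Algebra R S] (p : Ideal R) [p.IsPrime]
    (R₁ : Type u) [CommRing R₁] [Algebra R R₁] [Algebra.Etale R R₁] (p₁ : Ideal R₁) [p₁.IsPrime]
    [p₁.LiesOver p]
    (H₁ : Function.Bijective (Ideal.ResidueField.mapₐ p p₁ (Algebra.ofId _ _) (p₁.over_def p)))
    (A B₁ : Type u) [CommRing A] [CommRing B₁] [Algebra R₁ A] [Algebra R₁ B₁]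
    (e₁ : (R₁ ⊗[R] S) ≃ₐ[R₁] A × B₁) [Module.Finite R₁ A]
    (hA : ∃! r : Ideal A, r.IsPrime ∧ r.comap (algebraMap R₁ A) = p₁)
    (h : Conc R₁ B₁ p₁) : Conc R S p := by
  obtain ⟨R₂, _, _, _, p₂, _, hp₂, ι, _, A₂, _, _, B₂, _, _, H₂, ⟨e₂⟩, hA₂, hB₂⟩ := h
  letI : Algebra R R₂ := ((algebraMap R₁ R₂).comp (algebraMap R R₁)).toAlgebra
  haveI : IsScalarTower R R₁ R₂ := .of_algebraMap_eq' rfl
  haveI : Algebra.Etale R R₂ := Algebra.Etale.comp R R₁ R₂
  haveI : p₂.LiesOver p := .trans p₂ p₁ p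
  have H : Function.Bijective (Ideal.ResidueField.mapₐ p p₂ (Algebra.ofId _ _) (p₂.over_def p)) := by
    convert H₂.comp H₁
    rw [← @AlgHom.coe_restrictScalars' R R₁, ← AlgHom.coe_comp]; congr 1; ext
  let A' : Option ι → Type u := fun o => o.elim (R₂ ⊗[R₁] A) A₂
  letI iA' : ∀ o, CommRing (A' o) := fun o =>
    Option.rec (motive := fun o => CommRing (A' o)) (show CommRing (R₂ ⊗[R₁] A) from inferInstance)
      (fun i => show CommRing (A₂ i) from inferInstance) o
  letI jA' : ∀ o, Algebra R₂ (A' o) := fun o =>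
    Option.rec (motive := fun o => Algebra R₂ (A' o))
      (show Algebra R₂ (R₂ ⊗[R₁] A) from inferInstance)
      (fun i => show Algebra R₂ (A₂ i) from inferInstance) o
  let E1 : R₂ ⊗[R] S ≃ₐ[R₂] R₂ ⊗[R₁] (R₁ ⊗[R] S) :=
    (Algebra.TensorProduct.cancelBaseChange R R₁ R₂ R₂ S).symm
  let E2 : R₂ ⊗[R₁] (R₁ ⊗[R] S) ≃ₐ[R₂] R₂ ⊗[R₁] (A × B₁) :=
    Algebra.TensorProduct.congr AlgEquiv.refl e₁
  let E3 : R₂ ⊗[R₁] (A × B₁) ≃ₐ[R₂] (R₂ ⊗[R₁] A) × (R₂ ⊗[R₁] B₁) :=
    Algebra.TensorProduct.prodRight R₁ R₂ R₂ A B₁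
  let E4 : ((R₂ ⊗[R₁] A) × (R₂ ⊗[R₁] B₁)) ≃ₐ[R₂]
      ((R₂ ⊗[R₁] A) × ((∀ i, A₂ i) × B₂)) := AlgEquiv.prodCongr AlgEquiv.refl e₂
  let E5 : ((R₂ ⊗[R₁] A) × ((∀ i, A₂ i) × B₂)) ≃ₐ[R₂] ((∀ o, A' o) × B₂) :=
    { toFun := fun x => (fun o => Option.rec (motive := fun o => A' o) x.1
        (fun i => x.2.1 i) o, x.2.2)
      invFun := fun y => (y.1 none, (fun i => y.1 (some i), y.2))
      left_inv := fun x => rfl
      right_inv := fun y => by
        refine Prod.ext ?_ rfl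
        funext o
        cases o <;> rfl
      map_mul' := fun x y => by
        refine Prod.ext ?_ rfl
        funext o
        cases o <;> rfl
      map_add' := fun x y => by
        refine Prod.ext ?_ rfl
        funext o
        cases o <;> rfl
      commutes' := fun r => by
        refine Prod.ext ?_ rfl
        funext o
        cases o <;> rfl }
  refine ⟨R₂, inferInstance, inferInstance, inferInstance, p₂, inferInstance, inferInstance,
    Option ι, inferInstance, A', iA', jA', B₂, inferInstance, inferInstance, H,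
    ⟨E1.trans (E2.trans (E3.trans (E4.trans E5)))⟩, ?_, fun q hq => hB₂ q⟩
  intro o
  cases o with
  | none =>
    refine ⟨show Module.Finite R₂ (R₂ ⊗[R₁] A) from inferInstance, ?_⟩
    show ∃! r : Ideal (R₂ ⊗[R₁] A), r.IsPrime ∧ r.comap (algebraMap R₂ (R₂ ⊗[R₁] A)) = p₂
    let F := Ideal.fiberIsoOfBijectiveResidueField (S := A) H₂
    obtain ⟨r, ⟨hr1, hr2⟩, hr3⟩ := hA
    let r' := F.symm ⟨r, hr1, ⟨hr2.symm⟩⟩
    refine ⟨r'.1, ⟨r'.2.1, (r'.2.2.over).symm⟩, ?_⟩
    rintro y ⟨hy1, hy2⟩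
    have hFy := (F ⟨y, hy1, ⟨hy2.symm⟩⟩).2
    have := hr3 (F ⟨y, hy1, ⟨hy2.symm⟩⟩).1 ⟨hFy.1, (hFy.2.over).symm⟩
    have h2 : F ⟨y, hy1, ⟨hy2.symm⟩⟩ = ⟨r, hr1, ⟨hr2.symm⟩⟩ := Subtype.ext this
    have h3 : (⟨y, hy1, ⟨hy2.symm⟩⟩ : p₂.primesOver (R₂ ⊗[R₁] A)) = r' :=
      (F.symm_apply_apply _).symm.trans (congrArg F.symm h2)
    exact congrArg Subtype.val h3
  | some i => exact hA₂ i

theorem conc_main : ∀ (d : ℕ) (R S : Type u) [CommRing R] [CommRing S] [Algebra R S]
    [Algebra.FiniteType R S] (p : Ideal R) [p.IsPrime], mu R S p = d → Conc R S p := by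
  intro d
  induction d using Nat.strong_induction_on with
  | _ d ih =>
    intro R S _ _ _ _ p _ hd
    by_cases hne : (isoPts (PrimeSpectrum (p.Fiber S))).Nonempty
    · obtain ⟨q, hq1, hq2, hq3⟩ := exists_quasiFiniteAt_of_isoPts R S p hne
      obtain ⟨R₁, _, _, _, p₁, _, _, e, he, P', _, _, hP'q, heP', hpP, hfin, H⟩ :=
        Algebra.exists_etale_isIdempotentElem_forall_liesOver_eq p q
      let e₁ : (R₁ ⊗[R] S) ≃ₐ[R₁] ((R₁ ⊗[R] S) ⧸ Ideal.span {1 - e}) ×
          ((R₁ ⊗[R] S) ⧸ Ideal.span {e}) :=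
        AlgEquiv.prodQuotientOfIsIdempotentElem R₁ he.one_sub he (by ring)
          (by rw [sub_mul, one_mul, he.eq, sub_self])
      obtain ⟨hAfin, hAuniq⟩ := split_of_idem p₁ e he P' (P'.over_def p₁).symm heP'
        (fun P'' h1 h2 h3 => H P'' h1 ⟨h2.symm⟩ h3)
      obtain ⟨r, ⟨hr1, hr2⟩, _⟩ := id hAuniq
      have hlt := mu_lt p R₁ p₁ hpP _ _ e₁ r hr2
      rw [hd] at hlt
      exact Conc.step p R₁ p₁ hpP _ _ e₁ hAuniq (ih _ hlt R₁ _ p₁ rfl)
    · refine Conc.empty p (fun q _ hq hqf => hne ?_)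
      exact isoPts_nonempty_of_quasiFiniteAt R S p q hq

end Groth.Agent.Lib.helper3.QFSplit
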