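import Mathlib

set_option autoImplicit false
universe u

open Polynomial IsLocalRing

namespace Groth.Agent.Lib.helper3.SecHens

/-- If every étale algebra over the local ring `A` with a prime over the maximal ideal has a
retraction, then the residue field of `A` is separably closed. -/
theorem sepClosed_of_sections (A : Type u) [CommRing A] [IsLocalRing A]
    (h : ∀ (S : Type u) [CommRing S] [Algebra A S] [Algebra.Etale A S] (q : Ideal S) [q.IsPrime],
      q.LiesOver (IsLocalRing.maximalIdeal A) → Nonempty (S →ₐ[A] A)) :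
    IsSepClosed (IsLocalRing.ResidueField A) := by
  refine IsSepClosed.of_exists_root _ fun p hpm hirr hsep => ?_
  have hlift : p ∈ Polynomial.lifts (residue A) := by
    rw [Polynomial.mem_lifts]
    exact Polynomial.map_surjective _ residue_surjective p
  obtain ⟨P, hPmap, -, hPmonic⟩ := Polynomial.lifts_and_degree_eq_and_monic hlift hpm
  let pair : StandardEtalePair A := ⟨P, hPmonic, derivative P, ⟨1, 0, 1, by simp⟩⟩
  haveI : Fact (Irreducible p) := ⟨hirr⟩
  let L := AdjoinRoot p
  let x₀ : L := AdjoinRoot.root p
  have hPmap' : P.map (algebraMap A (ResidueField A)) = p := hPmap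
  have h1 : aeval x₀ P = 0 := by
    rw [← Polynomial.aeval_map_algebraMap (ResidueField A), hPmap', AdjoinRoot.aeval_eq,
      AdjoinRoot.mk_self]
  have h2 : IsUnit (aeval x₀ (derivative P)) := by
    rw [← Polynomial.aeval_map_algebraMap (ResidueField A), ← Polynomial.derivative_map, hPmap',
      AdjoinRoot.aeval_eq]
    apply IsUnit.mk0
    intro h0
    rw [AdjoinRoot.mk_eq_zero] at h0
    have hc : IsCoprime p (derivative p) := hsep
    exact hirr.not_isUnit (hc.isUnit_of_dvd' dvd_rfl h0)
  have hmap : pair.HasMap x₀ := ⟨h1, h2⟩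
  let φ : pair.Ring →ₐ[A] L := pair.lift x₀ hmap
  let q : Ideal pair.Ring := RingHom.ker φ.toRingHom
  haveI : q.IsPrime := RingHom.ker_isPrime φ.toRingHom
  have hq : q.LiesOver (maximalIdeal A) := by
    refine ⟨?_⟩
    ext a
    rw [Ideal.under_def, Ideal.mem_comap]
    show a ∈ maximalIdeal A ↔ φ (algebraMap A pair.Ring a) = 0
    rw [φ.commutes, IsScalarTower.algebraMap_apply A (ResidueField A) L,
      map_eq_zero_iff _ (algebraMap (ResidueField A) L).injective]
    exact (residue_eq_zero_iff a).symm
  obtain ⟨σ⟩ := h pair.Ring q hq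
  refine ⟨residue A (σ pair.X), ?_⟩
  have h3 : aeval (σ pair.X) P = 0 := by
    rw [Polynomial.aeval_algHom_apply, (StandardEtalePair.hasMap_X (P := pair)).1, map_zero]
  have h4 : P.eval (σ pair.X) = 0 := by
    have := h3
    rwa [Polynomial.aeval_def, Algebra.algebraMap_self, Polynomial.eval₂_id] at this
  rw [← hPmap, Polynomial.eval_map, Polynomial.eval₂_at_apply, h4, map_zero]

end Groth.Agent.Lib.helper3.SecHens
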