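import Mathlib
import Groth.Agent.Lib.lead.EtHens2
import Groth.Agent.Lib.helper3.SecHens

set_option autoImplicit false
universe u

open CategoryTheory CategoryTheory.Limits AlgebraicGeometry IsLocalRing

namespace Groth.Agent.Lib.helper3.SecHens

theorem hyp_of_scheme (A : Type u) [CommRing A] [IsLocalRing A]
    (H : ∀ (X : Scheme.{u}) (f : X ⟶ Spec (CommRingCat.of A)), Etale f →
        ∀ x : X, f.base x = IsLocalRing.closedPoint A →
          ∃ u : Spec (CommRingCat.of A) ⟶ X, u ≫ f = 𝟙 _ ∧ u.base (IsLocalRing.closedPoint A) = x)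
    (S : Type u) [CommRing S] [Algebra A S] [Algebra.Etale A S] (q : Ideal S) [q.IsPrime]
    (hq : q.LiesOver (IsLocalRing.maximalIdeal A)) : Nonempty (S →ₐ[A] A) := by
  let φ : CommRingCat.of A ⟶ CommRingCat.of S := CommRingCat.ofHom (algebraMap A S)
  have hφ : φ.hom.Etale := RingHom.etale_algebraMap.mpr inferInstance
  have het : Etale (Spec.map φ) := HasRingHomProperty.Spec_iff.mpr hφ
  let x : Spec (CommRingCat.of S) := ⟨q, inferInstance⟩
  have hx : (Spec.map φ).base x = IsLocalRing.closedPoint A := by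
    apply PrimeSpectrum.ext
    show Ideal.comap (algebraMap A S) q = maximalIdeal A
    exact hq.over.symm
  obtain ⟨u, hu, -⟩ := H _ (Spec.map φ) het x hx
  let σ : CommRingCat.of S ⟶ CommRingCat.of A := Spec.preimage u
  have hσ : φ ≫ σ = 𝟙 _ := by
    apply Spec.map_injective
    rw [Spec.map_comp, Spec.map_preimage, hu, Spec.map_id]
  exact ⟨{ toRingHom := σ.hom
           commutes' := fun r => by
             have := congrArg (fun g => g.hom r) hσ
             exact this }⟩

theorem section_through (A : Type u) [CommRing A] [HenselianLocalRing A]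
    [IsSepClosed (ResidueField A)]
    {X : Scheme.{u}} (f : X ⟶ Spec (CommRingCat.of A)) [Etale f] (x : X)
    (hx : f.base x = closedPoint A) :
    ∃ u : Spec (CommRingCat.of A) ⟶ X, u ≫ f = 𝟙 _ ∧ u.base (closedPoint A) = x := by
  obtain ⟨y', hy'⟩ := X.affineOpenCover.covers x
  obtain ⟨φ, hφ⟩ : ∃ φ : CommRingCat.of A ⟶ X.affineOpenCover.X (X.affineOpenCover.idx x),
      Spec.map φ = X.affineOpenCover.f (X.affineOpenCover.idx x) ≫ f :=
    ⟨Spec.preimage _, Spec.map_preimage _⟩
  have het : Etale (Spec.map φ) := by rw [hφ]; infer_instance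
  have het' : φ.hom.Etale := (HasRingHomProperty.Spec_iff (P := @Etale)).mp het
  letI := φ.hom.toAlgebra
  haveI : Algebra.Etale A (X.affineOpenCover.X (X.affineOpenCover.idx x)) := het'
  have hP : (PrimeSpectrum.asIdeal y').comap
      (algebraMap A (X.affineOpenCover.X (X.affineOpenCover.idx x))) = maximalIdeal A := by
    have h1 : (Spec.map φ).base y' = IsLocalRing.closedPoint A := by
      rw [hφ, Scheme.Hom.comp_apply, hy']; exact hx
    exact congrArg PrimeSpectrum.asIdeal h1
  obtain ⟨σ, hσP⟩ := Groth.Agent.Lib.lead.EtHens.exists_section_of_prime A _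
    (PrimeSpectrum.asIdeal y') hP
  refine ⟨Spec.map (CommRingCat.ofHom σ.toRingHom) ≫
    X.affineOpenCover.f (X.affineOpenCover.idx x), ?_, ?_⟩
  · rw [Category.assoc, ← hφ, ← Spec.map_comp]
    have h2 : φ ≫ CommRingCat.ofHom σ.toRingHom = 𝟙 _ := by
      ext r
      exact σ.commutes r
    exact (congrArg Spec.map h2).trans (Spec.map_id _)
  · rw [Scheme.Hom.comp_apply]
    have h3 : (Spec.map (CommRingCat.ofHom σ.toRingHom)).base (closedPoint A) = y' := by
      apply PrimeSpectrum.ext
      ext b
      show σ b ∈ maximalIdeal A ↔ b ∈ y'.asIdeal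
      exact hσP b
    rw [h3]
    exact hy'

end Groth.Agent.Lib.helper3.SecHens
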