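import Mathlib
import Groth.Agent.Lib.helper3.SmoothLift2

/-!
# Smooth lifting over henselian pairs, part 3: the slice is étale near the section
-/

universe u

namespace Groth.Agent.Lib.helper3.SmoothLift

open KaehlerDifferential TensorProduct

set_option maxHeartbeats 1600000 in
theorem exists_etale_slice (A S : Type u) [CommRing A] [CommRing S] [Algebra A S]
    [Algebra.Smooth A S] (I : Ideal A) (σ : S →ₐ[A] A ⧸ I) :
    ∃ (𝔍 : Ideal S) (h𝔍 : ∀ x ∈ 𝔍, σ x = 0) (h : S ⧸ 𝔍),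
      Ideal.Quotient.liftₐ 𝔍 σ h𝔍 h = 1 ∧ Algebra.Etale A (Localization.Away h) := by
  classical
  let 𝔮 : Ideal S := RingHom.ker σ.toRingHom
  have h𝔮 : ∀ s : S, ∃ a : A, s - algebraMap A S a ∈ 𝔮 := by
    intro s
    obtain ⟨a, ha⟩ := Ideal.Quotient.mk_surjective (σ s)
    refine ⟨a, ?_⟩
    change σ (s - algebraMap A S a) = 0
    rw [map_sub, σ.commutes, ← ha]
    exact sub_self _
  obtain ⟨w, hw𝔮, hw⟩ := exists_w (A := A) 𝔮 h𝔮
  let 𝔍 : Ideal S := LinearMap.range w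
  have h𝔍𝔮 : 𝔍 ≤ 𝔮 := by
    rintro _ ⟨ω, rfl⟩
    exact hw𝔮 ω
  have h𝔍 : ∀ x ∈ 𝔍, σ x = 0 := fun x hx => h𝔍𝔮 hx
  have h𝔍fg : 𝔍.FG := by
    have h1 : (⊤ : Submodule S Ω[S⁄A]).FG := Module.Finite.fg_top
    have h2 := h1.map w
    rwa [Submodule.map_top] at h2
  let χ : S ⧸ 𝔍 →ₐ[A] A ⧸ I := Ideal.Quotient.liftₐ 𝔍 σ h𝔍
  haveI : Algebra.FinitePresentation A (S ⧸ 𝔍) := Algebra.FinitePresentation.quotient h𝔍fg
  let P' : Algebra.Extension A (S ⧸ 𝔍) :=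
    ⟨S, Function.surjInv (Ideal.Quotient.mk_surjective (I := 𝔍)),
      Function.surjInv_eq (Ideal.Quotient.mk_surjective (I := 𝔍))⟩
  haveI : Algebra.FormallySmooth A P'.Ring := inferInstanceAs (Algebra.FormallySmooth A S)
  have hker : ∀ ω, w ω ∈ P'.ker := by
    intro ω
    change algebraMap S (S ⧸ 𝔍) (w ω) = 0
    rw [Ideal.Quotient.algebraMap_eq, Ideal.Quotient.eq_zero_iff_mem]
    exact ⟨ω, rfl⟩
  have hker' : ∀ x : P'.ker, ∃ ω, w ω = x.1 := by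
    intro x
    have : algebraMap S (S ⧸ 𝔍) x.1 = 0 := x.2
    rw [Ideal.Quotient.algebraMap_eq, Ideal.Quotient.eq_zero_iff_mem] at this
    exact this
  let ψ₀ : Ω[S⁄A] →ₗ[S] P'.Cotangent :=
    (Algebra.Extension.Cotangent.mk (P := P')) ∘ₗ (w.codRestrict P'.ker hker)
  let ψ : (S ⧸ 𝔍) ⊗[S] Ω[S⁄A] →ₗ[S ⧸ 𝔍] P'.Cotangent := ψ₀.liftBaseChange (S ⧸ 𝔍)
  have hψsurj : Function.Surjective ψ := by
    intro x
    obtain ⟨y, rfl⟩ := Algebra.Extension.Cotangent.mk_surjective x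
    obtain ⟨ω, hω⟩ := hker' y
    refine ⟨1 ⊗ₜ ω, ?_⟩
    change ψ₀.liftBaseChange (S ⧸ 𝔍) (1 ⊗ₜ ω) = _
    rw [LinearMap.liftBaseChange_tmul, one_smul]
    change Algebra.Extension.Cotangent.mk (w.codRestrict P'.ker hker ω) = _
    congr 1
    exact Subtype.ext hω
  let κ : P'.Cotangent →ₗ[S ⧸ 𝔍] (S ⧸ 𝔍) ⊗[S] Ω[S⁄A] := P'.cotangentComplex
  let φ₀ : Module.End (S ⧸ 𝔍) ((S ⧸ 𝔍) ⊗[S] Ω[S⁄A]) := κ ∘ₗ ψ
  have hφ₀ : ∀ (e : S ⧸ 𝔍) (ω : Ω[S⁄A]), φ₀ (e ⊗ₜ ω) = e ⊗ₜ D A S (w ω) := by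
    intro e ω
    change κ (ψ₀.liftBaseChange (S ⧸ 𝔍) (e ⊗ₜ ω)) = _
    rw [LinearMap.liftBaseChange_tmul, map_smul]
    change e • P'.cotangentComplex (Algebra.Extension.Cotangent.mk (w.codRestrict P'.ker hker ω)) = _
    rw [Algebra.Extension.cotangentComplex_mk]
    change e • ((1 : S ⧸ 𝔍) ⊗ₜ[S] D A S (w ω)) = _
    rw [TensorProduct.smul_tmul', smul_eq_mul, mul_one]
  let J : Ideal (S ⧸ 𝔍) := RingHom.ker χ.toRingHom
  have hJ : ∀ q ∈ 𝔮, algebraMap S (S ⧸ 𝔍) q ∈ J := by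
    intro q hq
    change χ (Ideal.Quotient.mk 𝔍 q) = 0
    exact hq
  have htmul : ∀ ν ∈ 𝔮 • (⊤ : Submodule S Ω[S⁄A]), ∀ e : S ⧸ 𝔍,
      e ⊗ₜ[S] ν ∈ J • (⊤ : Submodule (S ⧸ 𝔍) ((S ⧸ 𝔍) ⊗[S] Ω[S⁄A])) := by
    intro ν hν e
    refine Submodule.smul_induction_on hν ?_ ?_
    · intro q hq ν' _
      have h1 : e ⊗ₜ[S] (q • ν') = algebraMap S (S ⧸ 𝔍) q • (e ⊗ₜ[S] ν') := by
        rw [← TensorProduct.smul_tmul, TensorProduct.smul_tmul', Algebra.smul_def, smul_eq_mul]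
      rw [h1]
      exact Submodule.smul_mem_smul (hJ q hq) trivial
    · intro x y hx hy
      rw [TensorProduct.tmul_add]
      exact Submodule.add_mem _ hx hy
  have hβ : LinearMap.range (1 - φ₀) ≤ J • ⊤ := by
    rintro _ ⟨m, rfl⟩
    induction m using TensorProduct.induction_on with
    | zero => rw [map_zero]; exact Submodule.zero_mem _
    | add x y hx hy => rw [map_add]; exact Submodule.add_mem _ hx hy
    | tmul e ω =>
      have h1 : (1 - φ₀) (e ⊗ₜ[S] ω) = -(e ⊗ₜ[S] (D A S (w ω) - ω)) := by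
        change e ⊗ₜ[S] ω - φ₀ (e ⊗ₜ[S] ω) = _
        rw [hφ₀, TensorProduct.tmul_sub, neg_sub]
      rw [h1]
      exact Submodule.neg_mem _ (htmul _ (hw ω) e)
  haveI : Module.Finite (S ⧸ 𝔍) ((S ⧸ 𝔍) ⊗[S] Ω[S⁄A]) := inferInstance
  obtain ⟨h, r, hh1, hφr, hrφ⟩ := exists_quasi_inverse φ₀ J hβ
  have hχh : χ h = 1 := by
    have : χ (h - 1) = 0 := hh1
    rw [map_sub, map_one, sub_eq_zero] at this
    exact this
  -- (i) `h` kills the Kähler differentials of the slice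
  have hΩ : ∀ y : Ω[(S ⧸ 𝔍)⁄A], h • y = 0 := by
    intro y
    obtain ⟨m, rfl⟩ := P'.toKaehler_surjective y
    rw [← map_smul]
    have h1 : h • m = φ₀ (r m) := by
      have := LinearMap.congr_fun hφr m
      simpa using this.symm
    rw [h1]
    exact P'.exact_cotangentComplex_toKaehler.apply_apply_eq_zero (ψ (r m))
  -- (ii) `h` kills `H¹`
  have hH1' : ∀ x : P'.H1Cotangent, h • x = 0 := by
    intro x
    obtain ⟨m, hm⟩ := hψsurj x.1
    have hx0 : κ x.1 = 0 := x.2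
    have h1 : φ₀ m = 0 := by
      change κ (ψ m) = 0
      rw [hm, hx0]
    have h2 : h • m = 0 := by
      have := LinearMap.congr_fun hrφ m
      simp only [Module.End.mul_apply, LinearMap.smul_apply, Module.End.one_apply] at this
      rw [← this, h1, map_zero]
    apply Algebra.Extension.h1Cotangentι_ext
    rw [Algebra.Extension.H1Cotangent.val_smul, ← hm, ← map_smul, h2, map_zero]
    rfl
  have hH1 : ∀ x : Algebra.H1Cotangent A (S ⧸ 𝔍), h • x = 0 := by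
    intro x
    obtain ⟨x', rfl⟩ := P'.equivH1CotangentOfFormallySmooth.surjective x
    rw [← map_smul, hH1', map_zero]
  refine ⟨𝔍, h𝔍, h, hχh, ?_⟩
  rw [← Algebra.basicOpen_subset_etaleLocus_iff_etale, Algebra.etaleLocus_eq_compl_support]
  intro p hp
  have hhp : h ∉ p.asIdeal := hp
  constructor
  · intro hmem
    rw [Module.mem_support_iff_exists_annihilator] at hmem
    obtain ⟨m, hm⟩ := hmem
    apply hhp
    apply hm
    rw [Submodule.mem_annihilator_span_singleton]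
    exact hΩ m
  · intro hmem
    rw [Module.mem_support_iff_exists_annihilator] at hmem
    obtain ⟨m, hm⟩ := hmem
    apply hhp
    apply hm
    rw [Submodule.mem_annihilator_span_singleton]
    exact hH1 m

end Groth.Agent.Lib.helper3.SmoothLift
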