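import Mathlib
import Groth.Agent.Lib.helper3.SmoothLift3
import Groth.Agent.Lib.helper3.PairEtale

/-!
# Smooth lifting over henselian pairs
-/

universe u

namespace Groth.Agent.Lib.helper3.SmoothLift

open TensorProduct

/-- **Smooth lifting over a henselian pair**: for a smooth `A`-algebra `S`, every `A`-algebra map
`S → A/I` lifts to `S → A`. -/
theorem smooth_lift (A : Type u) [CommRing A] (I : Ideal A) [HenselianRing A I]
    (S : Type u) [CommRing S] [Algebra A S] [Algebra.Smooth A S] (σ : S →ₐ[A] A ⧸ I) :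
    ∃ τ : S →ₐ[A] A, (Ideal.Quotient.mkₐ A I).comp τ = σ := by
  obtain ⟨𝔍, h𝔍, h, hχh, hét⟩ := exists_etale_slice A S I σ
  let χ : S ⧸ 𝔍 →ₐ[A] A ⧸ I := Ideal.Quotient.liftₐ 𝔍 σ h𝔍
  have hunit : ∀ y : Submonoid.powers h, IsUnit (χ y) := by
    rintro ⟨_, n, rfl⟩
    change IsUnit (χ (h ^ n))
    rw [map_pow, hχh, one_pow]
    exact isUnit_one
  let χ' : Localization.Away h →ₐ[A] A ⧸ I := IsLocalization.liftAlgHom (M := Submonoid.powers h)
    (f := χ) hunit
  obtain ⟨τE, hτE⟩ := PairEtale.exists_lift A I (Localization.Away h) χ'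
  refine ⟨τE.comp ((IsScalarTower.toAlgHom A (S ⧸ 𝔍) (Localization.Away h)).comp
    (Ideal.Quotient.mkₐ A 𝔍)), ?_⟩
  ext s
  have h1 := AlgHom.congr_fun hτE (algebraMap (S ⧸ 𝔍) (Localization.Away h) (Ideal.Quotient.mk 𝔍 s))
  have h2 : χ' (algebraMap (S ⧸ 𝔍) (Localization.Away h) (Ideal.Quotient.mk 𝔍 s)) = σ s := by
    change IsLocalization.lift hunit _ = _
    rw [IsLocalization.lift_eq]
    rfl
  rw [h2] at h1
  exact h1

/-- the version with a base ring `R` -/
theorem smooth_lift_base (R : Type u) [CommRing R] (S : Type u) [CommRing S]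
    [Algebra R S] [Algebra.Smooth R S] (A : Type u) [CommRing A] [Algebra R A] (I : Ideal A)
    [HenselianRing A I] (σ : S →ₐ[R] A ⧸ I) :
    ∃ τ : S →ₐ[R] A, (Ideal.Quotient.mkₐ R I).comp τ = σ := by
  let σA : A ⊗[R] S →ₐ[A] A ⧸ I :=
    Algebra.TensorProduct.lift (Algebra.ofId A (A ⧸ I)) σ (fun _ _ => Commute.all _ _)
  obtain ⟨τ, hτ⟩ := smooth_lift A I (A ⊗[R] S) σA
  refine ⟨(τ.restrictScalars R).comp Algebra.TensorProduct.includeRight, ?_⟩
  ext s
  have := AlgHom.congr_fun hτ (1 ⊗ₜ s)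
  simpa [σA] using this

end Groth.Agent.Lib.helper3.SmoothLift
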