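import Mathlib
import Groth.Agent.Lib.helper3.SmoothLift4
import Groth.Agent.Lib.helper3.EtaleLift

/-!
# Smooth algebras with a section modulo `I` map to étale neighbourhoods
-/

universe u

namespace Groth.Agent.Lib.helper3.SmoothLift

theorem exists_etale_nbhd {A B : Type u} [CommRing A] [CommRing B] [Algebra A B]
    [Algebra.Smooth A B] (I : Ideal A) (σ : B →ₐ[A] A ⧸ I) :
    ∃ (A' : Type u) (_ : CommRing A') (_ : Algebra A A'), Algebra.Etale A A' ∧
      Function.Bijective (algebraMap (A ⧸ I) (A' ⧸ I.map (algebraMap A A'))) ∧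
      ∃ τ : B →ₐ[A] A', ∀ b : B,
        Ideal.Quotient.mk (I.map (algebraMap A A')) (τ b) =
          algebraMap (A ⧸ I) (A' ⧸ I.map (algebraMap A A')) (σ b) := by
  obtain ⟨𝔍, h𝔍, h, hχh, hét⟩ := exists_etale_slice A B I σ
  let χ : B ⧸ 𝔍 →ₐ[A] A ⧸ I := Ideal.Quotient.liftₐ 𝔍 σ h𝔍
  have hunit : ∀ y : Submonoid.powers h, IsUnit (χ y) := by
    rintro ⟨_, n, rfl⟩
    change IsUnit (χ (h ^ n))
    rw [map_pow, hχh, one_pow]
    exact isUnit_one
  let χ' : Localization.Away h →ₐ[A] A ⧸ I := IsLocalization.liftAlgHom (M := Submonoid.powers h)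
    (f := χ) hunit
  obtain ⟨A', _, _, hE, ψ, φ', hcomp, hker⟩ :=
    EtaleLift.exists_etale_section I (Localization.Away h) χ'
  obtain ⟨hbij, hmk⟩ := EtaleLift.bijective_of_ker_eq I A' φ' hker
  let ι : B →ₐ[A] Localization.Away h :=
    (IsScalarTower.toAlgHom A (B ⧸ 𝔍) (Localization.Away h)).comp (Ideal.Quotient.mkₐ A 𝔍)
  refine ⟨A', inferInstance, inferInstance, hE, hbij, ψ.comp ι, fun b => ?_⟩
  rw [← hmk]
  congr 1
  have h1 := AlgHom.congr_fun hcomp (ι b)
  have h2 : χ' (ι b) = σ b := by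
    change IsLocalization.lift hunit (algebraMap (B ⧸ 𝔍) (Localization.Away h)
      (Ideal.Quotient.mk 𝔍 b)) = _
    rw [IsLocalization.lift_eq]
    rfl
  rw [← h2, ← h1]
  rfl

end Groth.Agent.Lib.helper3.SmoothLift
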