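import Mathlib

set_option autoImplicit false
universe u
open IsLocalization

namespace Groth.Agent.Lib.helper3.SpreadOut

section E
variable {R S T TW : Type u} [CommRing R] [CommRing S] [CommRing T] [CommRing TW]
  [Algebra R S] [Algebra R T] [Algebra T TW] [Algebra R TW] [IsScalarTower R T TW]

/-- the values `a_i / s` in a `T`-algebra where `s` is a unit. -/
noncomputable def val {n : ℕ} (s : T) (a : Fin n → T) (B : Type u) [CommRing B] [Algebra T B]
    (hs : IsUnit (algebraMap T B s)) (i : Fin n) : B :=
  ↑(hs.unit⁻¹) * algebraMap T B (a i)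

theorem val_spec {n : ℕ} (s : T) (a : Fin n → T) (B : Type u) [CommRing B] [Algebra T B]
    (hs : IsUnit (algebraMap T B s)) (i : Fin n) :
    algebraMap T B s * val s a B hs i = algebraMap T B (a i) := by
  rw [val, ← mul_assoc, IsUnit.mul_val_inv, one_mul]

theorem val_unique {n : ℕ} (s : T) (a : Fin n → T) (B : Type u) [CommRing B] [Algebra T B]
    (hs : IsUnit (algebraMap T B s)) (i : Fin n) (y : B)
    (hy : algebraMap T B s * y = algebraMap T B (a i)) : y = val s a B hs i := by
  apply hs.mul_left_cancel
  rw [hy, val_spec]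

theorem map_val {n : ℕ} (s : T) (a : Fin n → T) (B B' : Type u) [CommRing B] [Algebra T B]
    [CommRing B'] [Algebra T B']
    (hs : IsUnit (algebraMap T B s)) (hs' : IsUnit (algebraMap T B' s)) (ι : B →ₐ[T] B')
    (i : Fin n) : ι (val s a B hs i) = val s a B' hs' i := by
  apply val_unique
  rw [← ι.commutes s, ← map_mul, val_spec, ι.commutes]

/-- the algebra map `R[X] → B` sending `X_i` to `a_i / s`. -/
noncomputable def beta {n : ℕ} (s : T) (a : Fin n → T) (B : Type u) [CommRing B] [Algebra T B]
    [Algebra R B] [IsScalarTower R T B]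
    (hs : IsUnit (algebraMap T B s)) : MvPolynomial (Fin n) R →ₐ[R] B :=
  MvPolynomial.aeval (val s a B hs)

theorem map_beta {n : ℕ} (s : T) (a : Fin n → T) (B B' : Type u) [CommRing B] [Algebra T B]
    [Algebra R B] [IsScalarTower R T B] [CommRing B'] [Algebra T B'] [Algebra R B']
    [IsScalarTower R T B']
    (hs : IsUnit (algebraMap T B s)) (hs' : IsUnit (algebraMap T B' s)) (ι : B →ₐ[T] B')
    (p : MvPolynomial (Fin n) R) : ι (beta (R := R) s a B hs p) = beta (R := R) s a B' hs' p := by
  have h : (ι.restrictScalars R).comp (beta (R := R) s a B hs) = beta (R := R) s a B' hs' := by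
    apply MvPolynomial.algHom_ext
    intro i
    simp only [AlgHom.comp_apply, beta, MvPolynomial.aeval_X, AlgHom.restrictScalars_apply]
    exact map_val s a B B' hs hs' ι i
  exact AlgHom.congr_fun h p

/-- the canonical `T`-algebra map `T_w → TW` for `w ∈ W`. -/
noncomputable def awayTo (W : Submonoid T) [IsLocalization W TW] (w : T) (hw : w ∈ W) :
    Localization.Away w →ₐ[T] TW :=
  IsLocalization.Away.liftAlgHom (A := T) (R := T) w (f := Algebra.ofId T TW)
    (IsLocalization.map_units TW ⟨w, hw⟩)

/-- the canonical `T`-algebra map `T_s → T_w` for `s ∣ w`. -/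
noncomputable def awayToAway (s w : T) (h : s ∣ w) : Localization.Away s →ₐ[T] Localization.Away w :=
  IsLocalization.Away.liftAlgHom (A := T) (R := T) s (f := Algebra.ofId T (Localization.Away w))
    (IsLocalization.Away.isUnit_of_dvd w h)

/-- **Lemma E**: a map from a finitely presented algebra to a localization factors through a
localization at one element. -/
theorem exists_lift (W : Submonoid T) [IsLocalization W TW] [Algebra.FinitePresentation R S]
    (α : S →ₐ[R] TW) :
    ∃ (w : T) (hw : w ∈ W) (β : S →ₐ[R] Localization.Away w),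
      ∀ x, awayTo W w hw (β x) = α x := by
  classical
  obtain ⟨n, π, hπ, ⟨F, hF⟩⟩ := Algebra.FinitePresentation.out (R := R) (A := S)
  obtain ⟨s, hs⟩ := IsLocalization.exist_integer_multiples_of_finite W
    (fun i : Fin n => α (π (MvPolynomial.X i)))
  choose a ha using hs
  have hsTW : IsUnit (algebraMap T TW (s : T)) := IsLocalization.map_units TW s
  -- the map to `TW` is `α ∘ π`
  have hTW : ∀ p, beta (R := R) (s : T) a TW hsTW p = α (π p) := by
    intro p
    have h : beta (R := R) (s : T) a TW hsTW = α.comp π := by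
      apply MvPolynomial.algHom_ext
      intro i
      simp only [AlgHom.comp_apply, beta, MvPolynomial.aeval_X]
      symm
      apply val_unique
      rw [ha i, Algebra.smul_def]
    exact AlgHom.congr_fun h p
  -- stage 1
  have hs1 : IsUnit (algebraMap T (Localization.Away (s : T)) (s : T)) :=
    IsLocalization.Away.algebraMap_isUnit (s : T)
  have hb : ∀ f ∈ F, ∃ c : T, c ∈ W ∧ ∃ (b : T) (k : ℕ), c * b = 0 ∧
      algebraMap T (Localization.Away (s : T)) b =
        beta (R := R) (s : T) a (Localization.Away (s : T)) hs1 f *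
          algebraMap T (Localization.Away (s : T)) ((s : T) ^ k) := by
    intro f hf
    obtain ⟨b, ⟨_, k, rfl⟩, hbk⟩ := IsLocalization.exists_mk'_eq (Submonoid.powers (s : T))
      (beta (R := R) (s : T) a (Localization.Away (s : T)) hs1 f)
    have h1 : algebraMap T (Localization.Away (s : T)) b =
        beta (R := R) (s : T) a (Localization.Away (s : T)) hs1 f *
          algebraMap T (Localization.Away (s : T)) ((s : T) ^ k) := by
      rw [← hbk, IsLocalization.mk'_spec]
    have h2 : algebraMap T TW b = 0 := by
      have := congrArg (awayTo (TW := TW) W (s : T) s.2) h1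
      rw [AlgHom.commutes, map_mul, map_beta (R := R) (s : T) a _ TW hs1 hsTW, hTW] at this
      rw [this]
      have hf0 : π f = 0 := by
        have : f ∈ RingHom.ker π.toRingHom := by rw [← hF]; exact Ideal.subset_span hf
        exact this
      rw [hf0, map_zero, zero_mul]
    obtain ⟨c, hc⟩ := (IsLocalization.map_eq_zero_iff W TW b).mp h2
    exact ⟨c, c.2, b, k, hc, h1⟩
  choose! c hcW b k hcb hbk using hb
  -- stage 2
  let w : T := (s : T) * ∏ f ∈ F, c f
  have hw : w ∈ W := W.mul_mem s.2 (W.prod_mem (fun f hf => hcW f hf))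
  have hsw : (s : T) ∣ w := Dvd.intro _ rfl
  have hs2 : IsUnit (algebraMap T (Localization.Away w) (s : T)) :=
    IsLocalization.Away.isUnit_of_dvd w hsw
  have hkill : ∀ f ∈ F, beta (R := R) (s : T) a (Localization.Away w) hs2 f = 0 := by
    intro f hf
    have h1 := congrArg (awayToAway (s : T) w hsw) (hbk f hf)
    rw [AlgHom.commutes, map_mul, map_beta (R := R) (s : T) a _ (Localization.Away w) hs1 hs2,
      AlgHom.commutes] at h1
    have hcu : IsUnit (algebraMap T (Localization.Away w) (c f)) :=
      IsLocalization.Away.isUnit_of_dvd w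
        (Dvd.dvd.mul_left (Finset.dvd_prod_of_mem c hf) _)
    have h2 : algebraMap T (Localization.Away w) (b f) = 0 := by
      apply hcu.mul_left_cancel
      rw [← map_mul, hcb f hf, map_zero, mul_zero]
    rw [h2] at h1
    have hsk : IsUnit (algebraMap T (Localization.Away w) ((s : T) ^ k f)) := by
      rw [map_pow]; exact hs2.pow _
    exact (hsk.mul_left_eq_zero).mp h1.symm
  have hker : ∀ p : MvPolynomial (Fin n) R, p ∈ RingHom.ker π.toRingHom →
      beta (R := R) (s : T) a (Localization.Away w) hs2 p = 0 := by
    intro p hp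
    rw [← hF] at hp
    refine Submodule.span_induction ?_ ?_ ?_ ?_ hp
    · intro f hf; exact hkill f hf
    · exact map_zero _
    · intro x y _ _ hx hy; rw [map_add, hx, hy, add_zero]
    · intro r x _ hx; rw [smul_eq_mul, map_mul, hx, mul_zero]
  let β : S →ₐ[R] Localization.Away w :=
    (Ideal.Quotient.liftₐ (RingHom.ker π.toRingHom)
      (beta (R := R) (s : T) a (Localization.Away w) hs2) hker).comp
      (Ideal.quotientKerAlgEquivOfSurjective hπ).symm.toAlgHom
  refine ⟨w, hw, β, ?_⟩
  intro x
  obtain ⟨p, rfl⟩ := hπ x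
  have h1 : β (π p) = beta (R := R) (s : T) a (Localization.Away w) hs2 p := by
    have hx : (Ideal.quotientKerAlgEquivOfSurjective hπ).symm (π p) =
        Ideal.Quotient.mk _ p := by
      apply (Ideal.quotientKerAlgEquivOfSurjective hπ).injective
      simp
    show (Ideal.Quotient.liftₐ (RingHom.ker π.toRingHom)
      (beta (R := R) (s : T) a (Localization.Away w) hs2) hker)
      ((Ideal.quotientKerAlgEquivOfSurjective hπ).symm (π p)) = _
    rw [hx]
    rfl
  rw [h1, map_beta (R := R) (s : T) a _ TW hs2 hsTW, hTW]

end E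

end Groth.Agent.Lib.helper3.SpreadOut
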