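import Mathlib

/-!
# Clopen subsets of a flat base change of a morphism with `O_Y ≅ f_* O_X`
-/

set_option autoImplicit false
universe u

open CategoryTheory CategoryTheory.Limits AlgebraicGeometry TopologicalSpace Opposite

namespace Groth.Agent.Lib.helper3.Stein

variable {X Y Y' : Scheme.{u}}

/-- a section which is `1` on a clopen and `0` on its complement -/
theorem exists_indicator (P : Scheme.{u}) (W : P.Opens) (A : Set P) (hA : IsClopen A) :
    ∃ e : Γ(P, W), (∀ x ∈ W, x ∉ A → x ∉ P.basicOpen e) ∧
      (∀ x ∈ W, x ∈ A → x ∉ P.basicOpen (1 - e)) := by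
  let A₁ : P.Opens := ⟨A, hA.isOpen⟩
  let A₀ : P.Opens := ⟨Aᶜ, hA.isClosed.isOpen_compl⟩
  let U : Bool → P.Opens := fun b => if b then W ⊓ A₁ else W ⊓ A₀
  have hUle : ∀ b, U b ≤ W := by
    intro b
    cases b
    · exact inf_le_left
    · exact inf_le_left
  let sf : ∀ b, ToType (P.sheaf.1.obj (op (U b))) := fun b => if b then 1 else 0
  have hbot : U true ⊓ U false = ⊥ := by
    ext x
    simp only [U, Opens.coe_inf, Set.mem_inter_iff, SetLike.mem_coe, Opens.coe_bot,
      Set.mem_empty_iff_false, iff_false]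
    rintro ⟨⟨-, h1⟩, -, h0⟩
    exact h0 h1
  have hbot' : U false ⊓ U true = ⊥ := by rw [inf_comm]; exact hbot
  have hcompat : TopCat.Presheaf.IsCompatible P.sheaf.1 U sf := by
    intro b b'
    cases b <;> cases b'
    · show (P.presheaf.map _) (0 : Γ(P, U false)) = (P.presheaf.map _) (0 : Γ(P, U false))
      rw [map_zero, map_zero]
    · have hsub : Subsingleton Γ(P, U false ⊓ U true) := by rw [hbot']; infer_instance
      exact @Subsingleton.elim Γ(P, U false ⊓ U true) hsub _ _
    · have hsub : Subsingleton Γ(P, U true ⊓ U false) := by rw [hbot]; infer_instance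
      exact @Subsingleton.elim Γ(P, U true ⊓ U false) hsub _ _
    · show (P.presheaf.map _) (1 : Γ(P, U true)) = (P.presheaf.map _) (1 : Γ(P, U true))
      rw [map_one, map_one]
  have hcover : W ≤ iSup U := by
    intro x hx
    rw [Opens.mem_iSup]
    by_cases hxA : x ∈ A
    · exact ⟨true, ⟨hx, hxA⟩⟩
    · exact ⟨false, ⟨hx, hxA⟩⟩
  obtain ⟨e, he, -⟩ : ∃! s : Γ(P, W), ∀ b, P.presheaf.map (homOfLE (hUle b)).op s = sf b :=
    P.sheaf.existsUnique_gluing' U W (fun b => homOfLE (hUle b)) hcover sf hcompat
  have he1 : P.presheaf.map (homOfLE (hUle true)).op e = (1 : Γ(P, U true)) := he true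
  have he0 : P.presheaf.map (homOfLE (hUle false)).op e = (0 : Γ(P, U false)) := he false
  refine ⟨e, ?_, ?_⟩
  · intro x hxW hxA hmem
    rw [Scheme.mem_basicOpen _ _ _ hxW] at hmem
    have hx0 : x ∈ U false := ⟨hxW, hxA⟩
    have : P.presheaf.germ W x hxW e = P.presheaf.germ (U false) x hx0
        (P.presheaf.map (homOfLE (hUle false)).op e) :=
      (TopCat.Presheaf.germ_res_apply P.presheaf (homOfLE (hUle false)) x hx0 e).symm
    rw [this, he0, map_zero] at hmem
    exact not_isUnit_zero hmem
  · intro x hxW hxA hmem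
    rw [Scheme.mem_basicOpen _ _ _ hxW] at hmem
    have hx1 : x ∈ U true := ⟨hxW, hxA⟩
    have : P.presheaf.germ W x hxW (1 - e) = P.presheaf.germ (U true) x hx1
        (P.presheaf.map (homOfLE (hUle true)).op (1 - e)) :=
      (TopCat.Presheaf.germ_res_apply P.presheaf (homOfLE (hUle true)) x hx1 (1 - e)).symm
    rw [this, map_sub, he1, map_one, sub_self, map_zero] at hmem
    exact not_isUnit_zero hmem

theorem fibre_subset (f : X ⟶ Y) [IsNoetherian X]
    (hf : ∀ U : Y.Opens, Function.Bijective (f.app U)) (g : Y' ⟶ Y) [Flat g]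
    (A : Set ↑(pullback f g)) (hA : IsClopen A) (y' : Y') :
    (∀ x, pullback.snd f g x = y' → x ∈ A) ∨ (∀ x, pullback.snd f g x = y' → x ∉ A) := by
  obtain ⟨_, ⟨US, hUS, rfl⟩, hyUS, -⟩ := Y.isBasis_affineOpens.exists_subset_of_mem_open
    (Set.mem_univ (g y')) isOpen_univ
  obtain ⟨_, ⟨UT, hUT, rfl⟩, hyUT, hUST : UT ≤ g ⁻¹ᵁ US⟩ :=
    Y'.isBasis_affineOpens.exists_subset_of_mem_open hyUS (g ⁻¹ᵁ US).2
  have H : IsPullback (pullback.fst f g) (pullback.snd f g) f g := IsPullback.of_hasPullback f g
  let UX : X.Opens := f ⁻¹ᵁ US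
  have hUSX : UX ≤ f ⁻¹ᵁ US := le_rfl
  let UY : (pullback f g).Opens := pullback.fst f g ⁻¹ᵁ UX ⊓ pullback.snd f g ⁻¹ᵁ UT
  have hUXc : IsCompact (X := X) UX := NoetherianSpace.isCompact _
  have hUXq : IsQuasiSeparated (α := X) UX := fun U V _ _ _ _ _ _ => NoetherianSpace.isCompact _
  have hiso : IsIso (pushoutSection H hUST hUSX (rfl : UY = _)) :=
    isIso_pushoutSection_of_isQuasiSeparated_of_flat_right H hUST hUSX rfl hUS hUT hUXc hUXq
  have hpo := (isIso_pushoutSection_iff H hUST hUSX (rfl : UY = _)).mp hiso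
  haveI : IsIso (f.appLE US UX hUSX) := by
    have : f.appLE US UX hUSX = f.app US := (Scheme.Hom.app_eq_appLE f).symm
    rw [this]
    exact (ConcreteCategory.isIso_iff_bijective _).mpr (hf US)
  have hinr := hpo.isIso_inr_of_isIso
  have hsurj : Function.Surjective
      ((pullback.snd f g).appLE UT UY (by simp [UY])) :=
    (ConcreteCategory.bijective_of_isIso _).surjective
  obtain ⟨e, he1, he2⟩ := exists_indicator (pullback f g) UY A hA
  obtain ⟨e', rfl⟩ := hsurj e
  have hor : y' ∈ Y'.basicOpen e' ∨ y' ∈ Y'.basicOpen (1 - e') := by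
    have h1 : Y'.basicOpen (e' + (1 - e')) ≤ Y'.basicOpen e' ⊔ Y'.basicOpen (1 - e') :=
      Scheme.basicOpen_add_le _ _ _
    have h2 : y' ∈ Y'.basicOpen (e' + (1 - e')) := by
      rw [add_sub_cancel, Scheme.basicOpen_one]
      exact hyUT
    exact h1 h2
  have hmemUY : ∀ x, pullback.snd f g x = y' → x ∈ UY := by
    intro x hx
    refine ⟨?_, ?_⟩
    · show f (pullback.fst f g x) ∈ US
      have := congr($(pullback.condition (f := f) (g := g)) x)
      rw [Scheme.Hom.comp_apply, Scheme.Hom.comp_apply] at this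
      rw [this, hx]
      exact hyUS
    · show pullback.snd f g x ∈ UT
      rw [hx]; exact hyUT
  rcases hor with h | h
  · left
    intro x hx
    by_contra hxA
    apply he1 x (hmemUY x hx) hxA
    rw [Scheme.basicOpen_appLE]
    exact ⟨hmemUY x hx, by show pullback.snd f g x ∈ Y'.basicOpen e'; rw [hx]; exact h⟩
  · right
    intro x hx hxA
    apply he2 x (hmemUY x hx) hxA
    rw [← map_one ((pullback.snd f g).appLE UT UY (by simp [UY])).hom, ← map_sub]
    erw [Scheme.basicOpen_appLE]
    exact ⟨hmemUY x hx, by show pullback.snd f g x ∈ Y'.basicOpen (1 - e'); rw [hx]; exact h⟩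

theorem surjective_of_bijective_app (f : X ⟶ Y) [IsProper f]
    (hf : ∀ U : Y.Opens, Function.Bijective (f.app U)) : Surjective f := by
  refine ⟨fun y => ?_⟩
  by_contra hy
  have hcl : IsClosed (Set.range f) := f.isClosedMap.isClosed_range
  let O : Y.Opens := ⟨(Set.range f)ᶜ, hcl.isOpen_compl⟩
  have hyO : y ∈ O := hy
  have hpre : f ⁻¹ᵁ O = ⊥ := by
    ext x
    simp only [Opens.coe_bot, Set.mem_empty_iff_false, iff_false]
    intro hx
    exact hx ⟨x, rfl⟩
  have hsubX : Subsingleton Γ(X, f ⁻¹ᵁ O) := by rw [hpre]; infer_instance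
  have hsubY : Subsingleton Γ(Y, O) := (hf O).injective.subsingleton
  have h01 : (0 : Γ(Y, O)) = 1 := Subsingleton.elim _ _
  have : Y.basicOpen (0 : Γ(Y, O)) = O := by rw [h01]; exact Scheme.basicOpen_one _
  rw [Scheme.basicOpen_zero] at this
  rw [← this] at hyO
  exact hyO

theorem connectedSpace_pullback (f : X ⟶ Y) [IsProper f] [IsNoetherian X]
    (hf : ∀ U : Y.Opens, Function.Bijective (f.app U)) (g : Y' ⟶ Y) [Flat g]
    [ConnectedSpace Y'] : ConnectedSpace ↥(pullback f g) := by
  haveI : Surjective f := surjective_of_bijective_app f hf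
  haveI : Surjective (pullback.snd f g) := inferInstance
  have hsurj : Function.Surjective (pullback.snd f g) := (pullback.snd f g).surjective
  haveI : Nonempty ↥(pullback f g) := by
    obtain ⟨y'⟩ := (inferInstance : Nonempty Y')
    obtain ⟨x, -⟩ := hsurj y'
    exact ⟨x⟩
  have hcm : IsClosedMap (pullback.snd f g) := (pullback.snd f g).isClosedMap
  haveI : PreconnectedSpace ↥(pullback f g) := by
    rw [preconnectedSpace_iff_clopen]
    intro A hA
    let SA : Set Y' := {y' | ∀ x, pullback.snd f g x = y' → x ∈ A}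
    let SB : Set Y' := {y' | ∀ x, pullback.snd f g x = y' → x ∉ A}
    have hSA : SA = (pullback.snd f g '' Aᶜ)ᶜ := by
      ext y'
      simp only [SA, Set.mem_setOf_eq, Set.mem_compl_iff, Set.mem_image, not_exists, not_and]
      constructor
      · intro h x hx hx'
        exact hx (h x hx')
      · intro h x hx
        by_contra hxA
        exact h x hxA hx
    have hSB : SB = (pullback.snd f g '' A)ᶜ := by
      ext y'
      simp only [SB, Set.mem_setOf_eq, Set.mem_compl_iff, Set.mem_image, not_exists, not_and]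
      constructor
      · intro h x hx hx'
        exact h x hx' hx
      · intro h x hx hxA
        exact h x hxA hx
    have hSAo : IsOpen SA := by rw [hSA]; exact (hcm _ hA.isOpen.isClosed_compl).isOpen_compl
    have hSBo : IsOpen SB := by rw [hSB]; exact (hcm _ hA.isClosed).isOpen_compl
    have hcompl : SA = SBᶜ := by
      ext y'
      constructor
      · intro h1 h2
        obtain ⟨x, hx⟩ := hsurj y'
        exact h2 x hx (h1 x hx)
      · intro h
        rcases fibre_subset f hf g A hA y' with h' | h'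
        · exact h'
        · exact (h h').elim
    have hSAc : IsClopen SA := ⟨by rw [hcompl]; exact hSBo.isClosed_compl, hSAo⟩
    rcases isClopen_iff.mp hSAc with h | h
    · left
      ext x
      simp only [Set.mem_empty_iff_false, iff_false]
      intro hxA
      have : pullback.snd f g x ∈ SB := by
        have : pullback.snd f g x ∉ SA := by rw [h]; exact Set.notMem_empty _
        rw [hcompl] at this
        exact not_not.mp this
      exact this x rfl hxA
    · right
      ext x
      simp only [Set.mem_univ, iff_true]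
      have : pullback.snd f g x ∈ SA := by rw [h]; trivial
      exact this x rfl
  exact ConnectedSpace.mk inferInstance

end Groth.Agent.Lib.helper3.Stein
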