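import Mathlib
import Groth.Prelude.Def_RegImm

/-!
# Transport of the complete-intersection / syntomic predicates along algebra isomorphisms
-/

universe u

namespace Groth.Agent.Lib.helper3.SyntTransport

open TensorProduct

theorem isGlobalCI_of_algEquiv {k S S' : Type u} [Field k] [CommRing S] [CommRing S']
    [Algebra k S] [Algebra k S'] (e : S ≃ₐ[k] S') (h : Synt.IsGlobalCI k S) :
    Synt.IsGlobalCI k S' := by
  rcases h with h | ⟨n, c, hle, φ, r, hsurj, hker, hdim⟩
  · left
    exact e.symm.injective.subsingleton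
  · right
    refine ⟨n, c, hle, e.toAlgHom.comp φ, r, e.surjective.comp hsurj, ?_, ?_⟩
    · rw [← hker]
      ext x
      rw [RingHom.mem_ker, RingHom.mem_ker]
      change e (φ x) = 0 ↔ φ x = 0
      rw [map_eq_zero_iff _ e.injective]
    · rw [← hdim]
      exact (ringKrullDim_eq_of_ringEquiv e.toRingEquiv).symm

theorem isLCIOver_of_algEquiv {k S S' : Type u} [Field k] [CommRing S] [CommRing S']
    [Algebra k S] [Algebra k S'] (e : S ≃ₐ[k] S') (h : Synt.IsLCIOver k S) :
    Synt.IsLCIOver k S' := by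
  obtain ⟨hft, hloc⟩ := h
  refine ⟨Algebra.FiniteType.equiv hft e, fun p' => ?_⟩
  let p : PrimeSpectrum S := ⟨p'.asIdeal.comap e.toRingEquiv.toRingHom, inferInstance⟩
  obtain ⟨g, hg, hG⟩ := hloc p
  refine ⟨e g, fun hmem => hg hmem, ?_⟩
  have H : Submonoid.map e.toAlgHom (Submonoid.powers g) = Submonoid.powers (e g) := by
    rw [Submonoid.map_powers]
    rfl
  exact isGlobalCI_of_algEquiv
    (IsLocalization.algEquivOfAlgEquiv (Localization.Away g) (Localization.Away (e g)) e H) hG

theorem isSyntomic_of_algEquiv {R S S' : Type u} [CommRing R] [CommRing S] [CommRing S']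
    [Algebra R S] [Algebra R S'] (e : S ≃ₐ[R] S') (h : Synt.IsSyntomic R S) :
    Synt.IsSyntomic R S' := by
  obtain ⟨hflat, hfp, hfib⟩ := h
  refine ⟨Module.Flat.of_linearEquiv e.symm.toLinearEquiv, Algebra.FinitePresentation.equiv e,
    fun p => ?_⟩
  exact isLCIOver_of_algEquiv
    (Algebra.TensorProduct.congr (AlgEquiv.refl (R := p.asIdeal.ResidueField)
      (A₁ := p.asIdeal.ResidueField)) e) (hfib p)

end Groth.Agent.Lib.helper3.SyntTransport
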