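import Mathlib
import Groth.Agent.Lib.helper3.SpreadOut

set_option autoImplicit false
universe u

open IsLocalRing

namespace Groth.Agent.Lib.helper3.ZarSec

theorem alg (A B : Type u) [CommRing A] [CommRing B] [Algebra A B] [Algebra.Etale A B]
    (p : Ideal A) [p.IsPrime] (hF : IsField (Localization.AtPrime p))
    [IsSepClosed p.ResidueField] (q : Ideal B) [q.IsPrime] [q.LiesOver p] :
    ∃ (g : A) (β : B →ₐ[A] Localization.Away g) (P : Ideal (Localization.Away g)) (_ : P.IsPrime),
      P.comap β.toRingHom = q := by
  haveI : Algebra.FormallyUnramified A B := inferInstance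
  haveI : Algebra.IsUnramifiedAt A q := by
    show Algebra.FormallyUnramified A (Localization.AtPrime q)
    infer_instance
  haveI : Algebra.EssFiniteType A B := inferInstance
  letI := Localization.AtPrime.algebraOfLiesOver p q
  haveI : Algebra.IsSeparable p.ResidueField q.ResidueField := inferInstance
  have hs : Function.Bijective (algebraMap p.ResidueField q.ResidueField) :=
    IsSepClosed.algebraMap_bijective _ _
  have hmax : maximalIdeal (Localization.AtPrime p) = ⊥ :=
    (IsLocalRing.isField_iff_maximalIdeal_eq).mp hF
  have hr : Function.Bijective (algebraMap (Localization.AtPrime p) p.ResidueField) := by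
    refine ⟨?_, IsLocalRing.residue_surjective⟩
    rw [injective_iff_map_eq_zero]
    intro x hx
    have : x ∈ maximalIdeal (Localization.AtPrime p) := (residue_eq_zero_iff x).mp hx
    rw [hmax] at this
    exact this
  let e : Localization.AtPrime p ≃+* q.ResidueField :=
    RingEquiv.ofBijective ((algebraMap p.ResidueField q.ResidueField).comp
      (algebraMap (Localization.AtPrime p) p.ResidueField)) (hs.comp hr)
  let α : B →ₐ[A] Localization.AtPrime p :=
    { toRingHom := (e.symm : q.ResidueField →+* Localization.AtPrime p).comp
        (algebraMap B q.ResidueField)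
      commutes' := fun a => by
        show e.symm (algebraMap B q.ResidueField (algebraMap A B a)) = algebraMap A _ a
        rw [RingEquiv.symm_apply_eq]
        show _ = algebraMap p.ResidueField q.ResidueField
          (algebraMap (Localization.AtPrime p) p.ResidueField (algebraMap A _ a))
        rw [← IsScalarTower.algebraMap_apply A (Localization.AtPrime p) p.ResidueField,
          ← IsScalarTower.algebraMap_apply A p.ResidueField q.ResidueField,
          ← IsScalarTower.algebraMap_apply A B q.ResidueField] }
  obtain ⟨g, hg, β, hβ⟩ := Groth.Agent.Lib.helper3.SpreadOut.exists_lift (R := A) (S := B)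
    (T := A) (TW := Localization.AtPrime p) p.primeCompl α
  let P : Ideal (Localization.Away g) :=
    (maximalIdeal (Localization.AtPrime p)).comap
      (Groth.Agent.Lib.helper3.SpreadOut.awayTo (TW := Localization.AtPrime p) p.primeCompl g hg).toRingHom
  refine ⟨g, β, P, Ideal.comap_isPrime _ _, ?_⟩
  ext b
  show Groth.Agent.Lib.helper3.SpreadOut.awayTo (TW := Localization.AtPrime p) p.primeCompl g hg (β b)
    ∈ maximalIdeal (Localization.AtPrime p) ↔ b ∈ q
  rw [hβ b, hmax, Ideal.mem_bot]
  show e.symm (algebraMap B q.ResidueField b) = 0 ↔ b ∈ q
  rw [map_eq_zero_iff _ e.symm.injective]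
  exact Ideal.algebraMap_residueField_eq_zero
end Groth.Agent.Lib.helper3.ZarSec
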