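import Mathlib
import Groth.Agent.Lib.helper3.ZarSec

set_option autoImplicit false
universe u

open CategoryTheory CategoryTheory.Limits AlgebraicGeometry IsLocalRing

namespace Groth.Agent.Lib.helper3.ZarSec

theorem main (X Y : Scheme.{u}) (hX : ∀ x : X, IsField (X.presheaf.stalk x))
    (hX' : ∀ x : X, IsAlgClosed (X.residueField x))
    (f : Y ⟶ X) [Etale f] (y : Y) :
    ∃ (V : X.Opens) (s : (V : Scheme.{u}) ⟶ Y), f.base y ∈ V ∧ s ≫ f = V.ι ∧
      y ∈ Set.range s.base := by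
  obtain ⟨_, ⟨U, hU, rfl⟩, hxU, -⟩ := X.isBasis_affineOpens.exists_subset_of_mem_open
    (Set.mem_univ (f.base y)) isOpen_univ
  obtain ⟨_, ⟨V, hV, rfl⟩, hyV, hVU : V ≤ f ⁻¹ᵁ U⟩ :=
    Y.isBasis_affineOpens.exists_subset_of_mem_open hxU (f ⁻¹ᵁ U).2
  have hφ : (f.appLE U V hVU).hom.Etale :=
    HasRingHomProperty.appLE (P := @Etale) f inferInstance ⟨U, hU⟩ ⟨V, hV⟩ hVU
  letI : Algebra Γ(X, U) Γ(Y, V) := (f.appLE U V hVU).hom.toAlgebra
  haveI : Algebra.Etale Γ(X, U) Γ(Y, V) := hφ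
  let p := hU.primeIdealOf ⟨f.base y, hxU⟩
  let q := hV.primeIdealOf ⟨y, hyV⟩
  haveI : p.asIdeal.IsPrime := p.isPrime
  haveI : q.asIdeal.IsPrime := q.isPrime
  have hqp : q.asIdeal.LiesOver p.asIdeal :=
    ⟨congrArg PrimeSpectrum.asIdeal
      (IsAffineOpen.comap_primeIdealOf_appLE U hU V hV hVU hyV).symm⟩
  letI := X.presheaf.algebra_section_stalk ⟨f.base y, hxU⟩
  haveI := hU.isLocalization_stalk ⟨f.base y, hxU⟩
  let eK : X.presheaf.stalk (f.base y) ≃ₐ[Γ(X, U)] Localization.AtPrime p.asIdeal :=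
    IsLocalization.algEquiv p.asIdeal.primeCompl _ _
  have hF : IsField (Localization.AtPrime p.asIdeal) :=
    MulEquiv.isField (hX _) eK.symm.toMulEquiv
  haveI : IsAlgClosed (ResidueField (X.presheaf.stalk (f.base y))) := hX' _
  let eκ : ResidueField (X.presheaf.stalk (f.base y)) ≃+* p.asIdeal.ResidueField :=
    IsLocalRing.ResidueField.mapEquiv eK.toRingEquiv
  haveI : IsAlgClosed p.asIdeal.ResidueField := IsAlgClosed.of_ringEquiv _ _ eκ
  obtain ⟨g, β, P, hP, hPq⟩ := alg Γ(X, U) Γ(Y, V) p.asIdeal hF q.asIdeal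
  let β' : Γ(Y, V) ⟶ CommRingCat.of (Localization.Away g) := CommRingCat.ofHom β.toRingHom
  let a : Γ(X, U) ⟶ CommRingCat.of (Localization.Away g) :=
    CommRingCat.ofHom (algebraMap Γ(X, U) (Localization.Away g))
  have hβ : f.appLE U V hVU ≫ β' = a := by
    ext r
    exact β.commutes r
  haveI : IsOpenImmersion (Spec.map a) := IsOpenImmersion.of_isLocalization g
  let ι₀ : Spec (CommRingCat.of (Localization.Away g)) ⟶ X := Spec.map a ≫ hU.fromSpec
  haveI : IsOpenImmersion ι₀ := inferInstance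
  let s₀ : Spec (CommRingCat.of (Localization.Away g)) ⟶ Y := Spec.map β' ≫ hV.fromSpec
  have hs₀ : s₀ ≫ f = ι₀ := by
    show (Spec.map β' ≫ hV.fromSpec) ≫ f = Spec.map a ≫ hU.fromSpec
    rw [Category.assoc, ← IsAffineOpen.SpecMap_appLE_fromSpec f hU hV hVU, ← Category.assoc,
      ← Spec.map_comp, hβ]
  let s : (ι₀.opensRange : Scheme.{u}) ⟶ Y := ι₀.isoOpensRange.inv ≫ s₀
  have hs : s ≫ f = ι₀.opensRange.ι := by
    show (ι₀.isoOpensRange.inv ≫ s₀) ≫ f = _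
    rw [Category.assoc, hs₀, ι₀.isoOpensRange_inv_comp]
  let z : ι₀.opensRange := ι₀.isoOpensRange.hom.base ⟨P, hP⟩
  have hz : s.base z = y := by
    show (ι₀.isoOpensRange.inv ≫ s₀).base (ι₀.isoOpensRange.hom.base ⟨P, hP⟩) = y
    rw [← Scheme.Hom.comp_apply, Iso.hom_inv_id_assoc]
    show hV.fromSpec.base ((Spec.map β').base ⟨P, hP⟩) = y
    have h1 : (Spec.map β').base ⟨P, hP⟩ = q := PrimeSpectrum.ext hPq
    rw [h1]
    exact hV.fromSpec_primeIdealOf ⟨y, hyV⟩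
  refine ⟨ι₀.opensRange, s, ?_, hs, ⟨z, hz⟩⟩
  rw [← hz, ← Scheme.Hom.comp_apply, hs]
  exact z.2

end Groth.Agent.Lib.helper3.ZarSec
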